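import Mathlib
import Cfsg.Prelude.Def_LieTypeDatum

/-!
Helper14: transport of centralisers and of `splitClassCount` along conjugation; congruence of
`PGL_n` along ring isomorphisms.
-/

set_option autoImplicit false

namespace Cfsg.Agent.Helper14.AutPSL

section group
variable {X : Type*} [Group X]

theorem map_conj_inf_centralizer (H : Subgroup X) [hH : H.Normal] (α x : X) :
    (H ⊓ Subgroup.centralizer {x}).map (MulAut.conj α).toMonoidHom =
      H ⊓ Subgroup.centralizer {α * x * α⁻¹} := by
  ext y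
  constructor
  · rintro ⟨z, ⟨hzH, hzC⟩, rfl⟩
    refine ⟨hH.conj_mem z hzH α, ?_⟩
    have hzC := Subgroup.mem_centralizer_iff.mp (show z ∈ Subgroup.centralizer {x} from hzC)
    show _ ∈ Subgroup.centralizer _
    rw [Subgroup.mem_centralizer_iff]
    intro w hw
    rw [Set.mem_singleton_iff] at hw
    have h1 := hzC x (Set.mem_singleton x)
    show w * (α * z * α⁻¹) = α * z * α⁻¹ * w
    rw [hw]
    calc α * x * α⁻¹ * (α * z * α⁻¹) = α * (x * z) * α⁻¹ := by group
      _ = α * (z * x) * α⁻¹ := by rw [h1]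
      _ = α * z * α⁻¹ * (α * x * α⁻¹) := by group
  · rintro ⟨hyH, hyC⟩
    refine ⟨α⁻¹ * y * α, ⟨?_, ?_⟩, ?_⟩
    · have := hH.conj_mem y hyH α⁻¹
      rwa [inv_inv] at this
    · have hyC := Subgroup.mem_centralizer_iff.mp
        (show y ∈ Subgroup.centralizer {α * x * α⁻¹} from hyC)
      show _ ∈ Subgroup.centralizer _
      rw [Subgroup.mem_centralizer_iff]
      intro w hw
      rw [Set.mem_singleton_iff] at hw
      have h1 := hyC (α * x * α⁻¹) (Set.mem_singleton _)
      rw [hw]
      calc x * (α⁻¹ * y * α) = α⁻¹ * (α * x * α⁻¹ * y) * α := by group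
        _ = α⁻¹ * (y * (α * x * α⁻¹)) * α := by rw [h1]
        _ = α⁻¹ * y * α * x := by group
    · show α * (α⁻¹ * y * α) * α⁻¹ = y
      group

/-- conjugation by `α` carries `C_H(x)` to `C_H(α x α⁻¹)` -/
noncomputable def centralizerConjEquiv (H : Subgroup X) [hH : H.Normal] (α x : X) :
    ↥(H ⊓ Subgroup.centralizer {x}) ≃* ↥(H ⊓ Subgroup.centralizer {α * x * α⁻¹}) :=
  ((H ⊓ Subgroup.centralizer {x}).equivMapOfInjective (MulAut.conj α).toMonoidHom
    (MulAut.conj α).injective).trans (MulEquiv.subgroupCongr (map_conj_inf_centralizer H α x))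

theorem isConjUnder_conj {H : Subgroup X} [hH : H.Normal] (α : X) {x y : X} :
    Cfsg.IsConjUnder H x y ↔ Cfsg.IsConjUnder H (α * x * α⁻¹) (α * y * α⁻¹) := by
  constructor
  · rintro ⟨h, hh, rfl⟩
    refine ⟨α * h * α⁻¹, hH.conj_mem h hh α, ?_⟩
    group
  · rintro ⟨h, hh, he⟩
    refine ⟨α⁻¹ * h * α, ?_, ?_⟩
    · have := hH.conj_mem h hh α⁻¹
      rwa [inv_inv] at this
    · have : y = α⁻¹ * (α * y * α⁻¹) * α := by group
      rw [this, he]
      group

theorem splitClassCount_conj (H K : Subgroup X) [hH : H.Normal] [hK : K.Normal] (α x : X) :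
    Cfsg.splitClassCount H K (α * x * α⁻¹) = Cfsg.splitClassCount H K x := by
  unfold Cfsg.splitClassCount
  symm
  let e : {y : X // Cfsg.IsConjUnder H x y} ≃ {y : X // Cfsg.IsConjUnder H (α * x * α⁻¹) y} :=
    { toFun := fun y => ⟨α * y.1 * α⁻¹, (isConjUnder_conj α).mp y.2⟩
      invFun := fun y => ⟨α⁻¹ * y.1 * α, by
        apply (isConjUnder_conj (H := H) α).mpr
        have : α * (α⁻¹ * y.1 * α) * α⁻¹ = y.1 := by group
        rw [this]
        exact y.2⟩
      left_inv := fun y => by
        apply Subtype.ext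
        show α⁻¹ * (α * y.1 * α⁻¹) * α = y.1
        group
      right_inv := fun y => by
        apply Subtype.ext
        show α * (α⁻¹ * y.1 * α) * α⁻¹ = y.1
        group }
  apply Nat.card_congr
  apply Quot.congr e
  intro y z
  exact isConjUnder_conj α

end group

section pgl
variable {ι : Type*} [Fintype ι] [DecidableEq ι] {R S : Type*} [CommRing R] [CommRing S]

/-- `GL_n` along a ring isomorphism -/
def glCongr (e : R ≃+* S) : GL ι R ≃* GL ι S := Units.mapEquiv (RingEquiv.mapMatrix e).toMulEquiv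

theorem map_center_of_mulEquiv {G G' : Type*} [Group G] [Group G'] (E : G ≃* G') :
    (Subgroup.center G).map E.toMonoidHom = Subgroup.center G' := by
  ext y
  constructor
  · rintro ⟨z, hz, rfl⟩
    have hz := Subgroup.mem_center_iff.mp (show z ∈ Subgroup.center G from hz)
    rw [Subgroup.mem_center_iff]
    intro w
    obtain ⟨w', rfl⟩ := E.surjective w
    show E w' * E z = E z * E w'
    rw [← map_mul, ← map_mul, hz w']
  · intro hy
    refine ⟨E.symm y, ?_, E.apply_symm_apply y⟩
    rw [Subgroup.mem_center_iff] at hy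
    show _ ∈ Subgroup.center G
    rw [Subgroup.mem_center_iff]
    intro w
    apply E.injective
    rw [map_mul, map_mul, E.apply_symm_apply]
    exact hy (E w)

/-- `PGL_n` along a ring isomorphism -/
noncomputable def pglCongr (e : R ≃+* S) :
    Matrix.ProjGenLinGroup ι R ≃* Matrix.ProjGenLinGroup ι S :=
  QuotientGroup.congr (Subgroup.center (GL ι R)) (Subgroup.center (GL ι S)) (glCongr e)
    (map_center_of_mulEquiv (glCongr e))

end pgl

end Cfsg.Agent.Helper14.AutPSL
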