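import Mathlib
import Cfsg.Agent.Helper16.ModDefs

/-!
# Counting pairwise non-isomorphic simple modules by `p`-regular classes

(M-C) of the defect-one engine (helper16): a finite family of pairwise non-isomorphic
irreducible representations over a field of characteristic `p`, on which the group algebra acts
densely, has at most as many members as there are `p`-regular conjugacy classes.
-/

set_option autoImplicit false

namespace Cfsg.Agent.Helper14.RepCount

open Cfsg.Agent.Helper16

universe u v

section Trace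

variable {k : Type v} [Field k] {G : Type u} [Group G]
variable {V : Type*} [AddCommGroup V] [Module k V]

/-- the trace of a representation is a class function -/
theorem trace_conj_eq (ρ : Representation k G V) (h g : G) :
    LinearMap.trace k V (ρ (h * g * h⁻¹)) = LinearMap.trace k V (ρ g) := by
  rw [show ρ (h * g * h⁻¹) = ρ h * (ρ g * ρ h⁻¹) by rw [map_mul, map_mul, mul_assoc],
    LinearMap.trace_mul_comm, mul_assoc, ← map_mul, inv_mul_cancel, map_one, mul_one]

/-- the `p`-regular part of an element of a finite group: a `p`-regular power `s` of `g`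
with `g = s * u`, `u` a power of `g` of `p`-power order. -/
theorem exists_regular_part [Finite G] (p : ℕ) [hp : Fact p.Prime] (g : G) :
    ∃ (s u : G) (a : ℕ), g = s * u ∧ Commute s u ∧ u ^ (p ^ a) = 1 ∧ ¬ p ∣ orderOf s := by
  have hn : orderOf g ≠ 0 := (orderOf_pos g).ne'
  obtain ⟨a, m, hm, hnm⟩ := Nat.exists_eq_pow_mul_and_not_dvd hn p hp.out.ne_one
  have hcop : Nat.Coprime (p ^ a) m := Nat.Coprime.pow_left a ((Nat.Prime.coprime_iff_not_dvd hp.out).mpr hm)
  -- Bezout
  have hb : ((p ^ a : ℕ) : ℤ) * Int.gcdA (p ^ a) m + (m : ℤ) * Int.gcdB (p ^ a) m = 1 := by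
    have := Int.gcd_eq_gcd_ab ((p ^ a : ℕ) : ℤ) (m : ℤ)
    rw [Int.gcd_natCast_natCast, hcop] at this
    exact_mod_cast this.symm
  set x : ℤ := Int.gcdA (p ^ a) m
  set y : ℤ := Int.gcdB (p ^ a) m
  refine ⟨g ^ (((p ^ a : ℕ) : ℤ) * x), g ^ ((m : ℤ) * y), a, ?_, ?_, ?_, ?_⟩
  · rw [← zpow_add, hb, zpow_one]
  · exact (Commute.refl g).zpow_zpow _ _
  · rw [← zpow_natCast, ← zpow_mul]
    have : (m : ℤ) * y * ((p ^ a : ℕ) : ℤ) = ((orderOf g : ℕ) : ℤ) * y := by
      rw [hnm]; push_cast; ring
    rw [this, zpow_mul, zpow_natCast, pow_orderOf_eq_one, one_zpow]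
  · intro hdvd
    have h1 : (g ^ (((p ^ a : ℕ) : ℤ) * x)) ^ m = 1 := by
      rw [← zpow_natCast, ← zpow_mul]
      have : ((p ^ a : ℕ) : ℤ) * x * (m : ℤ) = ((orderOf g : ℕ) : ℤ) * x := by
        rw [hnm]; push_cast; ring
      rw [this, zpow_mul, zpow_natCast, pow_orderOf_eq_one, one_zpow]
    exact hm (hdvd.trans (orderOf_dvd_of_pow_eq_one h1))

end Trace

section Main

variable {k : Type v} [Field k] {G : Type u} [Group G]

/-- in characteristic `p`, the trace at `s * u` (`u` of `p`-power order commuting with `s`) is the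
trace at `s`. -/
theorem trace_mul_of_pow_eq_one (p : ℕ) [Fact p.Prime] [CharP k p]
    {V : Type*} [AddCommGroup V] [Module k V] [Nontrivial V]
    (ρ : Representation k G V) (s u : G) (a : ℕ) (hc : Commute s u) (hu : u ^ (p ^ a) = 1) :
    LinearMap.trace k V (ρ (s * u)) = LinearMap.trace k V (ρ s) := by
  have : CharP (Module.End k V) p :=
    charP_of_injective_algebraMap (algebraMap k (Module.End k V)).injective p
  have h1 : (ρ u - 1) ^ (p ^ a) = 0 := by
    rw [sub_pow_char_pow_of_commute p a (Commute.one_right _), ← map_pow, hu, map_one, one_pow,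
      sub_self]
  have hc' : Commute (ρ s) (ρ u - 1) := by
    refine Commute.sub_right ?_ (Commute.one_right _)
    show ρ s * ρ u = ρ u * ρ s
    rw [← map_mul, ← map_mul, hc.eq]
  have h2 : IsNilpotent (ρ s * (ρ u - 1)) := ⟨p ^ a, by rw [hc'.mul_pow, h1, mul_zero]⟩
  have h3 : LinearMap.trace k V (ρ s * (ρ u - 1)) = 0 :=
    (LinearMap.isNilpotent_trace_of_isNilpotent h2).eq_zero
  have h4 : ρ (s * u) = ρ s + ρ s * (ρ u - 1) := by
    rw [map_mul, mul_sub, mul_one]; abel
  rw [h4, map_add, h3, add_zero]

/-- an irreducible representation lives on a nontrivial space -/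
theorem nontrivial_of_isIrreducible {V : Type*} [AddCommGroup V] [Module k V]
    (ρ : Representation k G V) (h : ρ.IsIrreducible) : Nontrivial V := by
  by_contra hV
  rw [not_nontrivial_iff_subsingleton] at hV
  have : Nontrivial (Subrepresentation ρ) := h.toNontrivial
  obtain ⟨A, B, hAB⟩ := exists_pair_ne (Subrepresentation ρ)
  apply hAB
  apply Subrepresentation.toSubmodule_injective
  ext x
  rw [Subsingleton.elim x 0]
  simp

/-- an endomorphism of trace one -/
theorem exists_trace_eq_one (V : Type*) [AddCommGroup V] [Module k V] [FiniteDimensional k V]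
    [Nontrivial V] : ∃ f : V →ₗ[k] V, LinearMap.trace k V f = 1 := by
  classical
  have hpos : 0 < Module.finrank k V := Module.finrank_pos
  let b := Module.finBasis k V
  let i₀ : Fin (Module.finrank k V) := ⟨0, hpos⟩
  refine ⟨Matrix.toLin b b (Matrix.single i₀ i₀ 1), ?_⟩
  rw [LinearMap.trace_eq_matrix_trace k b, LinearMap.toMatrix_toLin, Matrix.trace_single_eq_same]

theorem SimpleRepFamily.card_le_of_density [Fintype G] (p : ℕ) [Fact p.Prime]
    [CharP k p] {ι : Type*} [Fintype ι] (F : Cfsg.Agent.Helper16.SimpleRepFamily k G ι)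
    (hdens : ∀ f : (∀ i, F.V i →ₗ[k] F.V i), ∃ a : G → k, ∀ i, ∑ g : G, a g • F.ρ i g = f i) :
    Fintype.card ι ≤
      Nat.card {c : ConjClasses G // ∃ g : G, ConjClasses.mk g = c ∧ ¬ p ∣ orderOf g} := by
  classical
  have hnt : ∀ i, Nontrivial (F.V i) := fun i => nontrivial_of_isIrreducible (F.ρ i) (F.irr i)
  -- the p-regular classes
  set C := {c : ConjClasses G // ∃ g : G, ConjClasses.mk g = c ∧ ¬ p ∣ orderOf g} with hC
  have : Finite C := Subtype.finite
  letI : Fintype C := Fintype.ofFinite C
  -- the trace functions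
  let φ : ι → G → k := fun i g => LinearMap.trace k (F.V i) (F.ρ i g)
  have hφconj : ∀ i (h g : G), φ i (h * g * h⁻¹) = φ i g := fun i h g => trace_conj_eq (F.ρ i) h g
  -- representatives
  let rep : C → G := fun c => Classical.choose c.2
  have hrep : ∀ c : C, ConjClasses.mk (rep c) = c.1 ∧ ¬ p ∣ orderOf (rep c) :=
    fun c => Classical.choose_spec c.2
  let Φ : ι → C → k := fun i c => φ i (rep c)
  have hli : LinearIndependent k Φ := by
    rw [Fintype.linearIndependent_iff]
    intro c hc j
    -- the combination vanishes on p-regular elements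
    have hreg : ∀ g : G, ¬ p ∣ orderOf g → ∑ i, c i * φ i g = 0 := by
      intro g hg
      obtain ⟨x, hx⟩ : ∃ x : C, x.1 = ConjClasses.mk g := ⟨⟨_, g, rfl, hg⟩, rfl⟩
      have h1 : (∑ i, c i • Φ i) x = 0 := by rw [hc]; rfl
      obtain ⟨hm, -⟩ := hrep x
      rw [hx, ConjClasses.mk_eq_mk_iff_isConj, isConj_iff] at hm
      obtain ⟨t, ht⟩ := hm
      rw [Finset.sum_apply] at h1
      rw [← h1]
      refine Finset.sum_congr rfl (fun i _ => ?_)
      show c i * φ i g = (c i • Φ i) x
      rw [Pi.smul_apply, smul_eq_mul]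
      show c i * φ i g = c i * φ i (rep x)
      rw [← ht, hφconj]
    -- hence everywhere
    have hall : ∀ g : G, ∑ i, c i * φ i g = 0 := by
      intro g
      obtain ⟨s, u, a, hg, hcomm, hu, hs⟩ := exists_regular_part p g
      rw [← hreg s hs]
      refine Finset.sum_congr rfl (fun i _ => ?_)
      show c i * LinearMap.trace k (F.V i) (F.ρ i g) = c i * LinearMap.trace k (F.V i) (F.ρ i s)
      rw [hg, trace_mul_of_pow_eq_one p (F.ρ i) s u a hcomm hu]
    -- density
    obtain ⟨f₀, hf₀⟩ := exists_trace_eq_one (k := k) (F.V j)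
    let f : ∀ i, F.V i →ₗ[k] F.V i := fun i => if h : i = j then h ▸ f₀ else 0
    have hfj : f j = f₀ := by simp [f]
    have hfi : ∀ i, i ≠ j → f i = 0 := fun i hi => by simp [f, hi]
    obtain ⟨a, ha⟩ := hdens f
    have key : ∑ g : G, a g * ∑ i, c i * φ i g = c j := by
      have e1 : ∑ g : G, a g * ∑ i, c i * φ i g =
          ∑ i, c i * LinearMap.trace k (F.V i) (∑ g : G, a g • F.ρ i g) := by
        simp_rw [Finset.mul_sum, map_sum, map_smul, smul_eq_mul, Finset.mul_sum]
        rw [Finset.sum_comm]
        refine Finset.sum_congr rfl (fun i _ => Finset.sum_congr rfl (fun g _ => ?_))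
        show a g * (c i * φ i g) = c i * (a g * φ i g)
        ring
      rw [e1]
      rw [Finset.sum_eq_single j]
      · rw [ha j, hfj, hf₀, mul_one]
      · intro i _ hi
        rw [ha i, hfi i hi, map_zero, mul_zero]
      · intro h; exact absurd (Finset.mem_univ j) h
    rw [← key]
    simp [hall]
  have h1 := hli.fintype_card_le_finrank
  rw [Module.finrank_fintype_fun_eq_card] at h1
  rw [Nat.card_eq_fintype_card]
  exact h1

end Main

end Cfsg.Agent.Helper14.RepCount
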