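import Mathlib

/-!
Helper14: small linear algebra facts in coordinates (`ι → F`, dot products) used for the
automorphisms of `PSL_n`.
-/

set_option autoImplicit false
set_option linter.unusedSectionVars false

namespace Cfsg.Agent.Helper14.AutPSL

open Matrix

variable {ι : Type*} [Fintype ι] [DecidableEq ι] {F : Type*} [Field F]

/-- a linear functional on `ι → F` is a dot product -/
theorem dual_eq_dot (f : Module.Dual F (ι → F)) (y : ι → F) :
    f y = (fun i => f (Pi.single i 1)) ⬝ᵥ y := by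
  rw [LinearMap.pi_apply_eq_sum_univ f y, dotProduct]
  apply Finset.sum_congr rfl
  intro i _
  rw [smul_eq_mul, mul_comm]
  congr 2
  ext j
  rw [Pi.single_apply]
  simp only [eq_comm]

theorem exists_dot_of_notMem {p : Submodule F (ι → F)} {x : ι → F} (hx : x ∉ p) :
    ∃ l : ι → F, l ⬝ᵥ x = 1 ∧ ∀ y ∈ p, l ⬝ᵥ y = 0 := by
  obtain ⟨f, hf, hp⟩ := Submodule.exists_dual_map_eq_bot_of_notMem hx inferInstance
  refine ⟨(f x)⁻¹ • (fun i => f (Pi.single i 1)), ?_, ?_⟩
  · rw [smul_dotProduct, ← dual_eq_dot, smul_eq_mul, inv_mul_cancel₀ hf]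
  · intro y hy
    rw [smul_dotProduct, ← dual_eq_dot]
    have : f y ∈ p.map f := Submodule.mem_map_of_mem hy
    rw [hp, Submodule.mem_bot] at this
    rw [this, smul_zero]

/-- for two non-proportional vectors there is a dot-product functional separating them -/
theorem exists_dot_pair {a b : ι → F} (hab : ∀ c : F, b ≠ c • a) :
    ∃ l : ι → F, l ⬝ᵥ b = 1 ∧ l ⬝ᵥ a = 0 := by
  have hx : b ∉ Submodule.span F {a} := by
    intro h
    obtain ⟨c, hc⟩ := Submodule.mem_span_singleton.mp h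
    exact hab c hc.symm
  obtain ⟨l, h1, h2⟩ := exists_dot_of_notMem hx
  exact ⟨l, h1, h2 a (Submodule.mem_span_singleton_self a)⟩

theorem not_smul_symm {a b : ι → F} (ha : a ≠ 0) (hab : ∀ c : F, b ≠ c • a) :
    ∀ c : F, a ≠ c • b := by
  intro c hc
  by_cases h0 : c = 0
  · rw [h0, zero_smul] at hc; exact ha hc
  · apply hab c⁻¹
    rw [hc, smul_smul, inv_mul_cancel₀ h0, one_smul]

/-- in dimension at least 3 two functionals have a common nonzero kernel vector -/
theorem exists_common_ker (h3 : 3 ≤ Fintype.card ι) (φ ψ : ι → F) :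
    ∃ v : ι → F, v ≠ 0 ∧ φ ⬝ᵥ v = 0 ∧ ψ ⬝ᵥ v = 0 := by
  let f : (ι → F) →ₗ[F] (Fin 2 → F) :=
    { toFun := fun v => ![φ ⬝ᵥ v, ψ ⬝ᵥ v]
      map_add' := fun v w => by
        ext i; fin_cases i <;> simp [dotProduct_add]
      map_smul' := fun c v => by
        ext i; fin_cases i <;> simp [dotProduct_smul] }
  have hk : LinearMap.ker f ≠ ⊥ := by
    apply LinearMap.ker_ne_bot_of_finrank_lt
    rw [Module.finrank_fintype_fun_eq_card, Module.finrank_fintype_fun_eq_card, Fintype.card_fin]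
    omega
  obtain ⟨v, hv, hv0⟩ := Submodule.exists_mem_ne_zero_of_ne_bot hk
  refine ⟨v, hv0, ?_, ?_⟩
  · have := congrFun (LinearMap.mem_ker.mp hv) 0
    simpa [f] using this
  · have := congrFun (LinearMap.mem_ker.mp hv) 1
    simpa [f] using this

/-- in dimension at least 2 a functional has a nonzero kernel vector -/
theorem exists_ker (h2 : 2 ≤ Fintype.card ι) (φ : ι → F) :
    ∃ v : ι → F, v ≠ 0 ∧ φ ⬝ᵥ v = 0 := by
  let f : (ι → F) →ₗ[F] F :=
    { toFun := fun v => φ ⬝ᵥ v
      map_add' := fun v w => dotProduct_add _ _ _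
      map_smul' := fun c v => by simp [dotProduct_smul] }
  have hk : LinearMap.ker f ≠ ⊥ := by
    apply LinearMap.ker_ne_bot_of_finrank_lt
    rw [Module.finrank_fintype_fun_eq_card, Module.finrank_self]
    omega
  obtain ⟨v, hv, hv0⟩ := Submodule.exists_mem_ne_zero_of_ne_bot hk
  exact ⟨v, hv0, LinearMap.mem_ker.mp hv⟩

/-- in dimension at least 3, the kernel of `a` is not contained in a line -/
theorem exists_ker_not_smul (h3 : 3 ≤ Fintype.card ι) (a φ : ι → F) :
    ∃ ψ : ι → F, ψ ⬝ᵥ a = 0 ∧ ∀ c : F, ψ ≠ c • φ := by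
  by_cases hφ : φ = 0
  · obtain ⟨v, hv0, hv⟩ := exists_ker (by omega) a
    refine ⟨v, by rw [dotProduct_comm]; exact hv, ?_⟩
    intro c hc
    rw [hφ, smul_zero] at hc
    exact hv0 hc
  -- choose `w` with `φ ⬝ᵥ w ≠ 0`
  obtain ⟨j, hj⟩ := Function.ne_iff.mp hφ
  rw [Pi.zero_apply] at hj
  obtain ⟨v, hv0, hv1, hv2⟩ := exists_common_ker h3 a (Pi.single j 1)
  refine ⟨v, by rw [dotProduct_comm]; exact hv1, ?_⟩
  intro c hc
  rw [single_dotProduct, one_mul] at hv2
  have h1 : c * φ j = 0 := by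
    have := congrFun hc j
    rw [Pi.smul_apply, smul_eq_mul, hv2] at this
    exact this.symm
  rcases mul_eq_zero.mp h1 with h2 | h2
  · rw [h2, zero_smul] at hc; exact hv0 hc
  · exact hj h2

end Cfsg.Agent.Helper14.AutPSL
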