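import Mathlib

/-!
Helper14: transvections `1 + a φᵀ` in `SL(ι, F)`, the subgroups `Qc a` (centre `a`) and
`Qa φ` (axis `φ`), uniqueness of unipotent lifts modulo the centre.
-/

set_option autoImplicit false

namespace Cfsg.Agent.Helper14.AutPSL

open Matrix

variable {ι : Type*} [Fintype ι] [DecidableEq ι] {F : Type*} [Field F]

/-- the transvection `1 + a φᵀ` (`φ ⬝ᵥ a = 0`) -/
def tv (a φ : ι → F) (h : φ ⬝ᵥ a = 0) : Matrix.SpecialLinearGroup ι F :=
  ⟨1 + vecMulVec a φ, by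
    rw [vecMulVec_eq (ι := Fin 1), det_one_add_replicateCol_mul_replicateRow, h, add_zero]⟩

theorem tv_coe (a φ : ι → F) (h : φ ⬝ᵥ a = 0) : (tv a φ h).1 = 1 + vecMulVec a φ := rfl

theorem tv_congr {a a' φ φ' : ι → F} (h : φ ⬝ᵥ a = 0) (ha : a = a') (hφ : φ = φ') :
    tv a φ h = tv a' φ' (by rw [← ha, ← hφ]; exact h) := by
  subst ha; subst hφ; rfl

theorem tv_eq_of_vecMulVec_eq {a φ b ψ : ι → F} (h : φ ⬝ᵥ a = 0) (h' : ψ ⬝ᵥ b = 0)
    (he : vecMulVec a φ = vecMulVec b ψ) : tv a φ h = tv b ψ h' := by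
  apply Subtype.ext
  rw [tv_coe, tv_coe, he]

theorem tv_zero_left (φ : ι → F) : tv (0 : ι → F) φ (dotProduct_zero φ) = 1 := by
  apply Subtype.ext
  rw [tv_coe, zero_vecMulVec, add_zero]; rfl

theorem tv_zero_right (a : ι → F) : tv a (0 : ι → F) (zero_dotProduct a) = 1 := by
  apply Subtype.ext
  rw [tv_coe, vecMulVec_zero, add_zero]; rfl

theorem tv_mulVec (a φ : ι → F) (h : φ ⬝ᵥ a = 0) (v : ι → F) :
    (tv a φ h).1 *ᵥ v = v + (φ ⬝ᵥ v) • a := by
  rw [tv_coe, add_mulVec, one_mulVec, vecMulVec_mulVec, op_smul_eq_smul]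

theorem vecMul_tv (a φ : ι → F) (h : φ ⬝ᵥ a = 0) (ψ : ι → F) :
    ψ ᵥ* (tv a φ h).1 = ψ + (ψ ⬝ᵥ a) • φ := by
  rw [tv_coe, vecMul_add, vecMul_one, vecMul_vecMulVec]

theorem tv_mul_center (a φ ψ : ι → F) (h : φ ⬝ᵥ a = 0) (h' : ψ ⬝ᵥ a = 0) :
    tv a φ h * tv a ψ h' = tv a (φ + ψ) (by rw [add_dotProduct, h, h', add_zero]) := by
  apply Subtype.ext
  rw [Matrix.SpecialLinearGroup.coe_mul, tv_coe, tv_coe, tv_coe, Matrix.add_mul, Matrix.one_mul,
    Matrix.mul_add, Matrix.mul_one, vecMulVec_mul_vecMulVec, h,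
    zero_smul, vecMulVec_zero, add_zero, vecMulVec_add]
  abel

theorem tv_mul_axis (a b φ : ι → F) (h : φ ⬝ᵥ a = 0) (h' : φ ⬝ᵥ b = 0) :
    tv a φ h * tv b φ h' = tv (a + b) φ (by rw [dotProduct_add, h, h', add_zero]) := by
  apply Subtype.ext
  rw [Matrix.SpecialLinearGroup.coe_mul, tv_coe, tv_coe, tv_coe, Matrix.add_mul, Matrix.one_mul,
    Matrix.mul_add, Matrix.mul_one, vecMulVec_mul_vecMulVec, h',
    zero_smul, vecMulVec_zero, add_zero, add_vecMulVec]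
  abel

theorem tv_inv (a φ : ι → F) (h : φ ⬝ᵥ a = 0) :
    (tv a φ h)⁻¹ = tv a (-φ) (by rw [neg_dotProduct, h, neg_zero]) := by
  rw [inv_eq_iff_mul_eq_one, tv_mul_center]
  rw [tv_congr _ rfl (add_neg_cancel φ)]
  exact tv_zero_right a

theorem tv_smul_left (c : F) (a φ : ι → F) (h : φ ⬝ᵥ a = 0) :
    tv (c • a) φ (by rw [dotProduct_smul, h, smul_zero]) =
      tv a (c • φ) (by rw [smul_dotProduct, h, smul_zero]) := by
  apply Subtype.ext
  rw [tv_coe, tv_coe, smul_vecMulVec, vecMulVec_smul]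

/-- conjugation of a transvection by matrices `g`, `g'` with `g' * g = 1` -/
theorem conj_tv_mat (g g' : Matrix ι ι F) (a φ : ι → F) :
    g * (1 + vecMulVec a φ) * g' = g * g' + vecMulVec (g *ᵥ a) (φ ᵥ* g') := by
  rw [Matrix.mul_add, Matrix.mul_one, Matrix.add_mul, mul_vecMulVec, vecMulVec_mul]

theorem conj_tv (g : Matrix.SpecialLinearGroup ι F) (a φ : ι → F) (h : φ ⬝ᵥ a = 0) :
    g * tv a φ h * g⁻¹ = tv (g.1 *ᵥ a) (φ ᵥ* (g⁻¹).1) (by
      rw [← dotProduct_mulVec, mulVec_mulVec, ← Matrix.SpecialLinearGroup.coe_mul, inv_mul_cancel,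
        Matrix.SpecialLinearGroup.coe_one, one_mulVec, h]) := by
  apply Subtype.ext
  rw [Matrix.SpecialLinearGroup.coe_mul, Matrix.SpecialLinearGroup.coe_mul, tv_coe, tv_coe, conj_tv_mat,
    ← Matrix.SpecialLinearGroup.coe_mul, mul_inv_cancel, Matrix.SpecialLinearGroup.coe_one]

theorem tv_eq_one_iff (a φ : ι → F) (h : φ ⬝ᵥ a = 0) : tv a φ h = 1 ↔ a = 0 ∨ φ = 0 := by
  constructor
  · intro h1
    have h2 : (tv a φ h).1 = 1 := by rw [h1]; rfl
    rw [tv_coe, add_eq_left] at h2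
    exact vecMulVec_eq_zero.mp h2
  · rintro (rfl | rfl)
    · exact tv_zero_left φ
    · exact tv_zero_right a

theorem tv_eq_tv {a φ b ψ : ι → F} (h : φ ⬝ᵥ a = 0) (h' : ψ ⬝ᵥ b = 0) (ha : a ≠ 0) (hφ : φ ≠ 0)
    (he : tv a φ h = tv b ψ h') : ∃ c : F, c ≠ 0 ∧ b = c • a ∧ φ = c • ψ := by
  have h1 : vecMulVec a φ = vecMulVec b ψ := by
    have := congrArg Subtype.val he
    rw [tv_coe, tv_coe] at this
    exact add_left_cancel this
  have h2 : ∀ i j, a i * φ j = b i * ψ j := fun i j => by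
    have := congrFun (congrFun h1 i) j
    rwa [vecMulVec_apply, vecMulVec_apply] at this
  obtain ⟨i0, hi0⟩ := Function.ne_iff.mp ha
  obtain ⟨j0, hj0⟩ := Function.ne_iff.mp hφ
  rw [Pi.zero_apply] at hi0 hj0
  have h3 : b i0 * ψ j0 ≠ 0 := by rw [← h2]; exact mul_ne_zero hi0 hj0
  have hb0 : b i0 ≠ 0 := left_ne_zero_of_mul h3
  have hψ0 : ψ j0 ≠ 0 := right_ne_zero_of_mul h3
  refine ⟨φ j0 / ψ j0, div_ne_zero hj0 hψ0, ?_, ?_⟩
  · ext i
    rw [Pi.smul_apply, smul_eq_mul]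
    have := h2 i j0
    field_simp
    linear_combination -this
  · ext j
    rw [Pi.smul_apply, smul_eq_mul]
    have e1 := h2 i0 j
    have e2 := h2 i0 j0
    have : a i0 * (φ j * ψ j0 - φ j0 * ψ j) = 0 := by linear_combination ψ j0 * e1 - ψ j * e2
    have h4 := (mul_eq_zero.mp this).resolve_left hi0
    field_simp
    linear_combination h4

/-- an element of `SL` of the form `1 + a φᵀ` (possibly trivial) -/
def IsTq (g : Matrix.SpecialLinearGroup ι F) : Prop := ∃ (a φ : ι → F) (h : φ ⬝ᵥ a = 0), g = tv a φ h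

/-- a (nontrivial) transvection -/
def IsTv (g : Matrix.SpecialLinearGroup ι F) : Prop :=
  ∃ (a φ : ι → F) (h : φ ⬝ᵥ a = 0), a ≠ 0 ∧ φ ≠ 0 ∧ g = tv a φ h

theorem IsTv.isTq {g : Matrix.SpecialLinearGroup ι F} (h : IsTv g) : IsTq g := by
  obtain ⟨a, φ, h, -, -, rfl⟩ := h
  exact ⟨a, φ, h, rfl⟩

theorem IsTv.ne_one {g : Matrix.SpecialLinearGroup ι F} (h : IsTv g) : g ≠ 1 := by
  obtain ⟨a, φ, h, ha, hφ, rfl⟩ := h
  intro h1
  rcases (tv_eq_one_iff a φ h).mp h1 with h2 | h2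
  · exact ha h2
  · exact hφ h2

theorem isTq_one : IsTq (1 : Matrix.SpecialLinearGroup ι F) := ⟨0, 0, dotProduct_zero 0, (tv_zero_left 0).symm⟩

theorem IsTq.eq_one_or {g : Matrix.SpecialLinearGroup ι F} (h : IsTq g) : g = 1 ∨ IsTv g := by
  obtain ⟨a, φ, h, rfl⟩ := h
  by_cases ha : a = 0
  · left; exact (tv_eq_one_iff a φ h).mpr (Or.inl ha)
  by_cases hφ : φ = 0
  · left; exact (tv_eq_one_iff a φ h).mpr (Or.inr hφ)
  · right; exact ⟨a, φ, h, ha, hφ, rfl⟩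

theorem IsTq.inv {g : Matrix.SpecialLinearGroup ι F} (h : IsTq g) : IsTq g⁻¹ := by
  obtain ⟨a, φ, h, rfl⟩ := h
  exact ⟨a, -φ, _, tv_inv a φ h⟩

theorem IsTq.conj {g : Matrix.SpecialLinearGroup ι F} (h : IsTq g) (s : Matrix.SpecialLinearGroup ι F) :
    IsTq (s * g * s⁻¹) := by
  obtain ⟨a, φ, h, rfl⟩ := h
  exact ⟨_, _, _, conj_tv s a φ h⟩

theorem IsTv.conj {g : Matrix.SpecialLinearGroup ι F} (h : IsTv g) (s : Matrix.SpecialLinearGroup ι F) :
    IsTv (s * g * s⁻¹) := by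
  rcases (h.isTq.conj s).eq_one_or with h1 | h1
  · exfalso
    apply h.ne_one
    have : g = s⁻¹ * (s * g * s⁻¹) * s := by group
    rw [this, h1]; group
  · exact h1

theorem sq_sub_one_eq_zero {g : Matrix.SpecialLinearGroup ι F} (h : IsTq g) :
    (g.1 - 1) * (g.1 - 1) = 0 := by
  obtain ⟨a, φ, h, rfl⟩ := h
  rw [tv_coe, add_sub_cancel_left, vecMulVec_mul_vecMulVec, h, zero_smul, vecMulVec_zero]

/-- two elements of the form `1 + a φᵀ` which agree modulo the centre are equal -/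
theorem IsTq.eq_of_mk_eq [Nonempty ι] {g g' : Matrix.SpecialLinearGroup ι F} (hg : IsTq g) (hg' : IsTq g')
    (h : (QuotientGroup.mk g : Matrix.SpecialLinearGroup ι F ⧸ Subgroup.center (Matrix.SpecialLinearGroup ι F)) =
      QuotientGroup.mk g') : g = g' := by
  rw [QuotientGroup.eq] at h
  obtain ⟨r, -, hr⟩ := Matrix.SpecialLinearGroup.mem_center_iff.mp h
  have h1 : g'.1 = g.1 * scalar ι r := by
    rw [hr, ← Matrix.SpecialLinearGroup.coe_mul, mul_inv_cancel_left]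
  have hN := sq_sub_one_eq_zero hg
  have hN' := sq_sub_one_eq_zero hg'
  set N := g.1 - 1 with hNdef
  have h2 : g'.1 - 1 = (r - 1) • (1 : Matrix ι ι F) + r • N := by
    rw [h1, hNdef, scalar_apply, ← smul_one_eq_diagonal, Matrix.mul_smul, Matrix.mul_one, smul_sub,
      sub_smul, one_smul]
    abel
  rw [h2] at hN'
  have h3 : ((r - 1) • (1 : Matrix ι ι F) + r • N) * ((r - 1) • (1 : Matrix ι ι F) + r • N) =
      ((r - 1) ^ 2) • (1 : Matrix ι ι F) + (2 * r * (r - 1)) • N + (r ^ 2) • (N * N) := by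
    simp only [Matrix.add_mul, Matrix.mul_add, Matrix.smul_mul, Matrix.mul_smul, Matrix.one_mul,
      Matrix.mul_one, smul_smul, smul_add]
    module
  rw [h3, hN, smul_zero, add_zero] at hN'
  have h4 : ((r - 1) ^ 2) • N = 0 := by
    have := congrArg (fun M => M * N) hN'
    simp only [Matrix.add_mul, Matrix.smul_mul, Matrix.one_mul, hN, smul_zero, add_zero,
      Matrix.zero_mul] at this
    exact this
  have hr1 : r = 1 := by
    rcases smul_eq_zero.mp h4 with h5 | h5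
    · have := pow_eq_zero_iff (two_ne_zero) |>.mp h5
      exact sub_eq_zero.mp this
    · rw [h5, smul_zero, add_zero] at hN'
      rcases smul_eq_zero.mp hN' with h6 | h6
      · exact sub_eq_zero.mp (pow_eq_zero_iff (two_ne_zero) |>.mp h6)
      · exact absurd h6 one_ne_zero
  apply Subtype.ext
  rw [h1, hr1, map_one, Matrix.mul_one]

end Cfsg.Agent.Helper14.AutPSL
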