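import Mathlib
import Cfsg.Agent.Helper14.AutTv
import Cfsg.Agent.Helper14.AutLin

/-!
Helper14: the subgroups `Qc a`, `Qa φ` of transvections with a given centre / axis; subgroups of
`SL` consisting of transvections; their images in `PSL`.
-/

set_option autoImplicit false
set_option linter.unusedSectionVars false

namespace Cfsg.Agent.Helper14.AutPSL

open Matrix

variable {ι : Type*} [Fintype ι] [DecidableEq ι] {F : Type*} [Field F]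

/-- transvections (and `1`) with centre `a` -/
def Qc (a : ι → F) : Subgroup (Matrix.SpecialLinearGroup ι F) where
  carrier := {g | ∃ (φ : ι → F) (h : φ ⬝ᵥ a = 0), g = tv a φ h}
  mul_mem' := by
    rintro _ _ ⟨φ, h, rfl⟩ ⟨ψ, h', rfl⟩
    exact ⟨φ + ψ, _, tv_mul_center a φ ψ h h'⟩
  one_mem' := ⟨0, zero_dotProduct a, (tv_zero_right a).symm⟩
  inv_mem' := by
    rintro _ ⟨φ, h, rfl⟩
    exact ⟨-φ, _, tv_inv a φ h⟩

/-- transvections (and `1`) with axis `φ` -/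
def Qa (φ : ι → F) : Subgroup (Matrix.SpecialLinearGroup ι F) where
  carrier := {g | ∃ (a : ι → F) (h : φ ⬝ᵥ a = 0), g = tv a φ h}
  mul_mem' := by
    rintro _ _ ⟨a, h, rfl⟩ ⟨b, h', rfl⟩
    exact ⟨a + b, _, tv_mul_axis a b φ h h'⟩
  one_mem' := ⟨0, dotProduct_zero φ, (tv_zero_left φ).symm⟩
  inv_mem' := by
    rintro _ ⟨a, h, rfl⟩
    refine ⟨-a, by rw [dotProduct_neg, h, neg_zero], ?_⟩
    rw [tv_inv]
    apply Subtype.ext
    rw [tv_coe, tv_coe, vecMulVec_neg, neg_vecMulVec]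

theorem mem_Qc {a : ι → F} {g : Matrix.SpecialLinearGroup ι F} :
    g ∈ Qc a ↔ ∃ (φ : ι → F) (h : φ ⬝ᵥ a = 0), g = tv a φ h := Iff.rfl

theorem mem_Qa {φ : ι → F} {g : Matrix.SpecialLinearGroup ι F} :
    g ∈ Qa φ ↔ ∃ (a : ι → F) (h : φ ⬝ᵥ a = 0), g = tv a φ h := Iff.rfl

theorem tv_mem_Qc (a φ : ι → F) (h : φ ⬝ᵥ a = 0) : tv a φ h ∈ Qc a := ⟨φ, h, rfl⟩

theorem tv_mem_Qa (a φ : ι → F) (h : φ ⬝ᵥ a = 0) : tv a φ h ∈ Qa φ := ⟨a, h, rfl⟩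

theorem isTq_of_mem_Qc {a : ι → F} {g : Matrix.SpecialLinearGroup ι F} (h : g ∈ Qc a) : IsTq g := by
  obtain ⟨φ, h, rfl⟩ := h
  exact ⟨a, φ, h, rfl⟩

theorem isTq_of_mem_Qa {φ : ι → F} {g : Matrix.SpecialLinearGroup ι F} (h : g ∈ Qa φ) : IsTq g := by
  obtain ⟨a, h, rfl⟩ := h
  exact ⟨a, φ, h, rfl⟩

theorem tv_smul_mem_Qc (c : F) (a φ : ι → F) (h : φ ⬝ᵥ (c • a) = 0) : tv (c • a) φ h ∈ Qc a := by
  by_cases hc : c = 0
  · subst hc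
    have : tv ((0 : F) • a) φ h = 1 := (tv_eq_one_iff _ _ _).mpr (Or.inl (zero_smul F a))
    rw [this]; exact one_mem _
  · have h' : φ ⬝ᵥ a = 0 := by
      rw [dotProduct_smul, smul_eq_mul] at h
      exact (mul_eq_zero.mp h).resolve_left hc
    have := tv_smul_left c a φ h'
    rw [this]
    exact tv_mem_Qc _ _ _

theorem tv_smul_mem_Qa (c : F) (a φ : ι → F) (h : (c • φ) ⬝ᵥ a = 0) : tv a (c • φ) h ∈ Qa φ := by
  by_cases hc : c = 0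
  · subst hc
    have : tv a ((0 : F) • φ) h = 1 := (tv_eq_one_iff _ _ _).mpr (Or.inr (zero_smul F φ))
    rw [this]; exact one_mem _
  · have h' : φ ⬝ᵥ a = 0 := by
      rw [smul_dotProduct, smul_eq_mul] at h
      exact (mul_eq_zero.mp h).resolve_left hc
    have := tv_smul_left c a φ h'
    rw [← this]
    exact tv_mem_Qa _ _ _

theorem Qc_smul {c : F} (hc : c ≠ 0) (a : ι → F) : Qc (c • a) = Qc a := by
  apply le_antisymm
  · rintro _ ⟨φ, h, rfl⟩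
    exact tv_smul_mem_Qc c a φ h
  · rintro _ ⟨φ, h, rfl⟩
    have h1 : φ ⬝ᵥ (c⁻¹ • (c • a)) = 0 := by rw [smul_smul, inv_mul_cancel₀ hc, one_smul]; exact h
    have h2 := tv_smul_mem_Qc c⁻¹ (c • a) φ h1
    have h3 : tv a φ h = tv (c⁻¹ • (c • a)) φ h1 :=
      tv_congr h (by rw [smul_smul, inv_mul_cancel₀ hc, one_smul]) rfl
    rw [h3]; exact h2

theorem Qa_smul {c : F} (hc : c ≠ 0) (φ : ι → F) : Qa (c • φ) = Qa φ := by
  apply le_antisymm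
  · rintro _ ⟨a, h, rfl⟩
    exact tv_smul_mem_Qa c a φ h
  · rintro _ ⟨a, h, rfl⟩
    have h1 : (c⁻¹ • (c • φ)) ⬝ᵥ a = 0 := by rw [smul_smul, inv_mul_cancel₀ hc, one_smul]; exact h
    have h2 := tv_smul_mem_Qa c⁻¹ a (c • φ) h1
    have h3 : tv a φ h = tv a (c⁻¹ • (c • φ)) h1 :=
      tv_congr h rfl (by rw [smul_smul, inv_mul_cancel₀ hc, one_smul])
    rw [h3]; exact h2

/-- conjugation moves the centre -/
theorem conj_mem_Qc {a : ι → F} {g : Matrix.SpecialLinearGroup ι F} (hg : g ∈ Qc a)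
    (s : Matrix.SpecialLinearGroup ι F) : s * g * s⁻¹ ∈ Qc (s.1 *ᵥ a) := by
  obtain ⟨φ, h, rfl⟩ := hg
  rw [conj_tv]
  exact tv_mem_Qc _ _ _

theorem conj_mem_Qa {φ : ι → F} {g : Matrix.SpecialLinearGroup ι F} (hg : g ∈ Qa φ)
    (s : Matrix.SpecialLinearGroup ι F) : s * g * s⁻¹ ∈ Qa (φ ᵥ* (s⁻¹).1) := by
  obtain ⟨a, h, rfl⟩ := hg
  rw [conj_tv]
  exact tv_mem_Qa _ _ _

/-- a nontrivial transvection lying in `Qc a` has centre proportional to `a` -/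
theorem smul_of_tv_mem_Qc {a b ψ : ι → F} (h' : ψ ⬝ᵥ b = 0) (hb : b ≠ 0) (hψ : ψ ≠ 0)
    (hm : tv b ψ h' ∈ Qc a) : ∃ c : F, c ≠ 0 ∧ a = c • b := by
  obtain ⟨φ, h, he⟩ := hm
  exact ⟨_, (tv_eq_tv h' h hb hψ he).choose_spec.1, (tv_eq_tv h' h hb hψ he).choose_spec.2.1⟩

theorem smul_of_tv_mem_Qa {φ b ψ : ι → F} (h' : ψ ⬝ᵥ b = 0) (hb : b ≠ 0) (hψ : ψ ≠ 0)
    (hm : tv b ψ h' ∈ Qa φ) : ∃ c : F, c ≠ 0 ∧ ψ = c • φ := by
  obtain ⟨a, h, he⟩ := hm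
  exact ⟨_, (tv_eq_tv h' h hb hψ he).choose_spec.1, (tv_eq_tv h' h hb hψ he).choose_spec.2.2⟩

/-- if the product of two transvections is again of the form `1 + c χᵀ` then they share the
centre or the axis -/
theorem pair_lemma {a φ b ψ : ι → F} (h : φ ⬝ᵥ a = 0) (h' : ψ ⬝ᵥ b = 0) (ha : a ≠ 0)
    (hφ : φ ≠ 0) (hb : b ≠ 0) (hψ : ψ ≠ 0) (hq : IsTq (tv a φ h * tv b ψ h')) :
    (∃ c : F, b = c • a) ∨ (∃ c : F, ψ = c • φ) := by
  by_contra hcon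
  push Not at hcon
  obtain ⟨hab, hφψ⟩ := hcon
  obtain ⟨c, χ, hc, he⟩ := hq
  have hM : vecMulVec b ψ + vecMulVec a φ + (φ ⬝ᵥ b) • vecMulVec a ψ = vecMulVec c χ := by
    have := congrArg Subtype.val he
    rw [Matrix.SpecialLinearGroup.coe_mul, tv_coe, tv_coe, tv_coe, Matrix.add_mul, Matrix.one_mul,
      Matrix.mul_add, Matrix.mul_one, vecMulVec_mul_vecMulVec, vecMulVec_smul, add_assoc] at this
    have h2 := add_left_cancel this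
    rw [← h2, add_assoc]
  obtain ⟨l, hl1, hl2⟩ := exists_dot_pair (not_smul_symm ha hab)
  obtain ⟨m, hm1, hm2⟩ := exists_dot_pair hab
  have e1 : φ + (φ ⬝ᵥ b) • ψ = (l ⬝ᵥ c) • χ := by
    have := congrArg (fun M => l ᵥ* M) hM
    simp only [vecMul_add, vecMul_smul, vecMul_vecMulVec, hl1, hl2, zero_smul, zero_add,
      one_smul] at this
    exact this
  have e2 : ψ = (m ⬝ᵥ c) • χ := by
    have := congrArg (fun M => m ᵥ* M) hM
    simp only [vecMul_add, vecMul_smul, vecMul_vecMulVec, hm1, hm2, zero_smul, add_zero,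
      one_smul, smul_zero] at this
    exact this
  have hmc : m ⬝ᵥ c ≠ 0 := by
    intro h0
    rw [h0, zero_smul] at e2
    exact hψ e2
  have e3 : χ = (m ⬝ᵥ c)⁻¹ • ψ := by
    rw [e2, smul_smul, inv_mul_cancel₀ hmc, one_smul]
  have e4 : φ = ((l ⬝ᵥ c) * (m ⬝ᵥ c)⁻¹ - φ ⬝ᵥ b) • ψ := by
    rw [sub_smul, ← smul_smul, ← e3, ← e1]
    abel
  have hk : (l ⬝ᵥ c) * (m ⬝ᵥ c)⁻¹ - φ ⬝ᵥ b ≠ 0 := by
    intro h0
    rw [h0, zero_smul] at e4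
    exact hφ e4
  obtain ⟨k, hk'⟩ : ∃ k : F, k = (l ⬝ᵥ c) * (m ⬝ᵥ c)⁻¹ - φ ⬝ᵥ b := ⟨_, rfl⟩
  rw [← hk'] at e4 hk
  apply hφψ k⁻¹
  rw [e4, smul_smul, inv_mul_cancel₀ hk, one_smul]

/-- a subgroup of `SL` consisting of elements `1 + a φᵀ` lies in some `Qc a` or some `Qa φ` -/
theorem tq_subgroup_classify [Nonempty ι] (E : Subgroup (Matrix.SpecialLinearGroup ι F))
    (hE : ∀ g ∈ E, IsTq g) :
    (∃ a : ι → F, a ≠ 0 ∧ E ≤ Qc a) ∨ (∃ φ : ι → F, φ ≠ 0 ∧ E ≤ Qa φ) := by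
  by_cases htriv : ∀ g ∈ E, g = 1
  · left
    obtain ⟨i⟩ := ‹Nonempty ι›
    refine ⟨Pi.single i 1, ?_, ?_⟩
    · intro h0
      have := congrFun h0 i
      simp at this
    · intro g hg
      rw [htriv g hg]; exact one_mem _
  push Not at htriv
  obtain ⟨g₁, hg₁, hg₁1⟩ := htriv
  obtain ⟨a₁, φ₁, h₁, rfl⟩ := hE g₁ hg₁
  have ha₁ : a₁ ≠ 0 := fun h0 => hg₁1 ((tv_eq_one_iff _ _ _).mpr (Or.inl h0))
  have hφ₁ : φ₁ ≠ 0 := fun h0 => hg₁1 ((tv_eq_one_iff _ _ _).mpr (Or.inr h0))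
  by_cases hall : ∀ g ∈ E, g ∈ Qc a₁
  · left; exact ⟨a₁, ha₁, hall⟩
  right
  push Not at hall
  obtain ⟨g₂, hg₂, hg₂n⟩ := hall
  obtain ⟨a₂, φ₂, h₂, rfl⟩ := hE g₂ hg₂
  have hg₂1 : tv a₂ φ₂ h₂ ≠ 1 := fun h1 => hg₂n (h1 ▸ one_mem _)
  have ha₂ : a₂ ≠ 0 := fun h0 => hg₂1 ((tv_eq_one_iff _ _ _).mpr (Or.inl h0))
  have hφ₂ : φ₂ ≠ 0 := fun h0 => hg₂1 ((tv_eq_one_iff _ _ _).mpr (Or.inr h0))
  have hna : ∀ c : F, a₂ ≠ c • a₁ := by
    intro c hc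
    apply hg₂n
    have h' : φ₂ ⬝ᵥ (c • a₁) = 0 := hc ▸ h₂
    rw [tv_congr h₂ hc rfl]
    exact tv_smul_mem_Qc c a₁ φ₂ h'
  have hφ21 : ∃ c : F, φ₂ = c • φ₁ := by
    rcases pair_lemma h₁ h₂ ha₁ hφ₁ ha₂ hφ₂ (hE _ (E.mul_mem hg₁ hg₂)) with ⟨c, hc⟩ | hc
    · exact absurd hc (hna c)
    · exact hc
  refine ⟨φ₁, hφ₁, ?_⟩
  intro g₃ hg₃
  obtain ⟨a₃, φ₃, h₃, rfl⟩ := hE g₃ hg₃
  by_cases hg₃1 : tv a₃ φ₃ h₃ = 1
  · rw [hg₃1]; exact one_mem _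
  have ha₃ : a₃ ≠ 0 := fun h0 => hg₃1 ((tv_eq_one_iff _ _ _).mpr (Or.inl h0))
  have hφ₃ : φ₃ ≠ 0 := fun h0 => hg₃1 ((tv_eq_one_iff _ _ _).mpr (Or.inr h0))
  have key : ∃ c : F, φ₃ = c • φ₁ := by
    rcases pair_lemma h₁ h₃ ha₁ hφ₁ ha₃ hφ₃ (hE _ (E.mul_mem hg₁ hg₃)) with ⟨c, hc⟩ | hc
    · rcases pair_lemma h₂ h₃ ha₂ hφ₂ ha₃ hφ₃ (hE _ (E.mul_mem hg₂ hg₃)) with ⟨c', hc'⟩ | ⟨c', hc'⟩
      · exfalso
        have hc0 : c' ≠ 0 := by
          rintro rfl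
          rw [zero_smul] at hc'
          exact ha₃ hc'
        apply hna (c'⁻¹ * c)
        rw [← smul_smul, ← hc, hc', smul_smul, inv_mul_cancel₀ hc0, one_smul]
      · obtain ⟨d, hd⟩ := hφ21
        exact ⟨c' * d, by rw [hc', hd, smul_smul]⟩
    · exact hc
  obtain ⟨c, hc⟩ := key
  have h' : (c • φ₁) ⬝ᵥ a₃ = 0 := hc ▸ h₃
  rw [tv_congr h₃ rfl hc]
  exact tv_smul_mem_Qa c a₃ φ₁ h'

/-! ### the quotient by the centre -/

/-- the projection `SL → PSL` -/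
abbrev prj : Matrix.SpecialLinearGroup ι F →*
    Matrix.SpecialLinearGroup ι F ⧸ Subgroup.center (Matrix.SpecialLinearGroup ι F) :=
  QuotientGroup.mk' _

theorem prj_surjective : Function.Surjective (prj : Matrix.SpecialLinearGroup ι F →* _) :=
  QuotientGroup.mk'_surjective _

/-- in dimension at least 3 the product of two elements `1 + a φᵀ` is determined by its class -/
theorem IsTq.mul_eq_of_mk_eq (h3 : 3 ≤ Fintype.card ι) {g g' g'' : Matrix.SpecialLinearGroup ι F}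
    (hg : IsTq g) (hg' : IsTq g') (hg'' : IsTq g'') (h : prj (g * g') = prj g'') :
    g * g' = g'' := by
  have hne : Nonempty ι := by
    rw [← Fintype.card_pos_iff]; omega
  have h1 : (g * g')⁻¹ * g'' ∈ Subgroup.center (Matrix.SpecialLinearGroup ι F) :=
    QuotientGroup.eq.mp h
  obtain ⟨r, -, hr⟩ := Matrix.SpecialLinearGroup.mem_center_iff.mp h1
  have h2 : g''.1 = (g * g').1 * scalar ι r := by
    rw [hr, ← Matrix.SpecialLinearGroup.coe_mul, mul_inv_cancel_left]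
  obtain ⟨a, φ, ha, rfl⟩ := hg
  obtain ⟨b, ψ, hb, rfl⟩ := hg'
  obtain ⟨c, χ, hc, rfl⟩ := hg''
  obtain ⟨v, hv0, hv1, hv2⟩ := exists_common_ker h3 φ ψ
  have hbv : (tv b ψ hb).1 *ᵥ v = v := by rw [tv_mulVec, hv2, zero_smul, add_zero]
  have hav : (tv a φ ha).1 *ᵥ v = v := by rw [tv_mulVec, hv1, zero_smul, add_zero]
  have h3' : (tv c χ hc).1 *ᵥ v = r • v := by
    rw [h2, Matrix.SpecialLinearGroup.coe_mul, ← mulVec_mulVec, ← mulVec_mulVec, scalar_apply,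
      ← smul_one_eq_diagonal, smul_mulVec, one_mulVec, mulVec_smul, mulVec_smul, hbv, hav]
  rw [tv_mulVec] at h3'
  have h4 : (χ ⬝ᵥ v) • c = (r - 1) • v := by
    rw [sub_smul, one_smul, ← h3']; abel
  have h5 : (r - 1) * (χ ⬝ᵥ v) = 0 := by
    have := congrArg (fun w => χ ⬝ᵥ w) h4
    simp only [dotProduct_smul, hc, smul_eq_mul, mul_zero] at this
    exact this.symm
  have hr1 : r = 1 := by
    rcases mul_eq_zero.mp h5 with h6 | h6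
    · exact sub_eq_zero.mp h6
    · rw [h6, zero_smul] at h4
      rcases smul_eq_zero.mp h4.symm with h7 | h7
      · exact sub_eq_zero.mp h7
      · exact absurd h7 hv0
  apply Subtype.ext
  rw [h2, hr1, map_one, Matrix.mul_one]

/-- a subgroup of `PSL` (dimension at least 3) consisting of classes of elements `1 + a φᵀ` lies
in the image of some `Qc a` or `Qa φ` -/
theorem psl_tq_subgroup (h3 : 3 ≤ Fintype.card ι)
    (E : Subgroup (Matrix.SpecialLinearGroup ι F ⧸ Subgroup.center (Matrix.SpecialLinearGroup ι F)))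
    (hE : ∀ t ∈ E, ∃ g : Matrix.SpecialLinearGroup ι F, IsTq g ∧ prj g = t) :
    (∃ a : ι → F, a ≠ 0 ∧ E ≤ (Qc a).map prj) ∨ (∃ φ : ι → F, φ ≠ 0 ∧ E ≤ (Qa φ).map prj) := by
  have hne : Nonempty ι := by
    rw [← Fintype.card_pos_iff]; omega
  let E' : Subgroup (Matrix.SpecialLinearGroup ι F) :=
    { carrier := {g | IsTq g ∧ prj g ∈ E}
      mul_mem' := by
        rintro g g' ⟨hg, hgE⟩ ⟨hg', hgE'⟩
        have hm : prj (g * g') ∈ E := by rw [map_mul]; exact E.mul_mem hgE hgE'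
        obtain ⟨g'', hg'', he⟩ := hE _ hm
        have := IsTq.mul_eq_of_mk_eq h3 hg hg' hg'' he.symm
        exact ⟨this ▸ hg'', hm⟩
      one_mem' := ⟨isTq_one, by rw [map_one]; exact E.one_mem⟩
      inv_mem' := by
        rintro g ⟨hg, hgE⟩
        exact ⟨hg.inv, by rw [map_inv]; exact E.inv_mem hgE⟩ }
  have hE' : ∀ g ∈ E', IsTq g := fun g hg => hg.1
  have hmap : ∀ t ∈ E, ∃ g ∈ E', prj g = t := by
    intro t ht
    obtain ⟨g, hg, he⟩ := hE t ht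
    exact ⟨g, ⟨hg, he ▸ ht⟩, he⟩
  rcases tq_subgroup_classify E' hE' with ⟨a, ha, hle⟩ | ⟨φ, hφ, hle⟩
  · left
    refine ⟨a, ha, ?_⟩
    intro t ht
    obtain ⟨g, hg, he⟩ := hmap t ht
    exact ⟨g, hle hg, he⟩
  · right
    refine ⟨φ, hφ, ?_⟩
    intro t ht
    obtain ⟨g, hg, he⟩ := hmap t ht
    exact ⟨g, hle hg, he⟩

end Cfsg.Agent.Helper14.AutPSL
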