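import Mathlib
import Cfsg.Agent.Helper1.MinDeg.Defs

/-!
# Piece (C2) of #7349 (helper1, S2140): conjugating `Qc2`
-/

set_option autoImplicit false
set_option linter.unusedSectionVars false

namespace Cfsg.Agent.Helper14.MinDeg

open Matrix Cfsg.Agent.Helper14.AutPSL Cfsg.Agent.Helper1.MinDeg

variable {F : Type*} [Field F] {n : ℕ}

theorem inv_mulVec_mulVec (g : SpecialLinearGroup (Fin n) F) (v : Fin n → F) :
    (g⁻¹).1 *ᵥ (g.1 *ᵥ v) = v := by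
  rw [mulVec_mulVec, ← Matrix.SpecialLinearGroup.coe_mul, inv_mul_cancel,
    Matrix.SpecialLinearGroup.coe_one, one_mulVec]

theorem conj_mem_Qc2 {x y : Fin n → F} {u : SpecialLinearGroup (Fin n) F} (hu : u ∈ Qc2 x y)
    (g : SpecialLinearGroup (Fin n) F) : g * u * g⁻¹ ∈ Qc2 (g.1 *ᵥ x) (g.1 *ᵥ y) := by
  obtain ⟨φ, h, hy, rfl⟩ := hu
  refine ⟨φ ᵥ* (g⁻¹).1, ?_, ?_, conj_tv g x φ h⟩
  · rw [← dotProduct_mulVec, inv_mulVec_mulVec, h]
  · rw [← dotProduct_mulVec, inv_mulVec_mulVec, hy]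

/-- (C2) conjugating `Qc2`. -/
theorem map_conj_Qc2 (g : SpecialLinearGroup (Fin n) F) (x y : Fin n → F) :
    (Qc2 x y).map (MulAut.conj g).toMonoidHom = Qc2 (g.1 *ᵥ x) (g.1 *ᵥ y) := by
  ext h
  rw [Subgroup.mem_map]
  constructor
  · rintro ⟨u, hu, rfl⟩
    rw [MulEquiv.coe_toMonoidHom, MulAut.conj_apply]
    exact conj_mem_Qc2 hu g
  · intro hh
    refine ⟨g⁻¹ * h * g, ?_, ?_⟩
    · have h1 := conj_mem_Qc2 hh g⁻¹
      rw [inv_mulVec_mulVec, inv_mulVec_mulVec, inv_inv] at h1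
      exact h1
    · rw [MulEquiv.coe_toMonoidHom, MulAut.conj_apply]
      group

end Cfsg.Agent.Helper14.MinDeg
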