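import Mathlib
import Cfsg.Agent.Helper1.MinDeg.Defs
import Cfsg.Agent.Helper14.AutLin

/-!
# Piece (M1) of #7349 (helper1, S2140): `Lx x` is transitive on the nontrivial elements of `Qc x`
-/

set_option autoImplicit false
set_option linter.unusedSectionVars false
set_option linter.unusedVariables false

namespace Cfsg.Agent.Helper14.MinDeg

open Matrix Cfsg.Agent.Helper14.AutPSL Cfsg.Agent.Helper1.MinDeg

variable {F : Type*} [Field F] {n : ℕ}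

/-- conjugating `tv x φ` by the generator `tv y χ` of `Lx x` -/
theorem conj_tv_gen {x y χ φ : Fin n → F} (hχy : χ ⬝ᵥ y = 0) (hχx : χ ⬝ᵥ x = 0)
    (h : φ ⬝ᵥ x = 0) :
    tv y χ hχy * tv x φ h * (tv y χ hχy)⁻¹ =
      tv x (φ - (φ ⬝ᵥ y) • χ) (by
        rw [sub_dotProduct, smul_dotProduct, h, hχx, smul_zero, sub_zero]) := by
  rw [conj_tv]
  apply tv_congr
  · rw [tv_mulVec, hχx, zero_smul, add_zero]
  · rw [tv_inv, vecMul_tv, smul_neg, sub_eq_add_neg]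

/-- the case of independent functionals: one generator suffices -/
theorem exists_Lx_conj_indep {x : Fin n → F} {φ ψ : Fin n → F} (hφ : φ ≠ 0)
    (hind : ∀ c : F, ψ ≠ c • φ) (h : φ ⬝ᵥ x = 0) (h' : ψ ⬝ᵥ x = 0) :
    ∃ g ∈ Lx x, g * tv x φ h * g⁻¹ = tv x ψ h' := by
  obtain ⟨l1, h11, h12⟩ := exists_dot_pair hind
  obtain ⟨l2, h21, h22⟩ := exists_dot_pair (not_smul_symm hφ hind)
  -- `l1 ⬝ ψ = 1`, `l1 ⬝ φ = 0`, `l2 ⬝ φ = 1`, `l2 ⬝ ψ = 0`
  have hφy : φ ⬝ᵥ (l1 + l2) = 1 := by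
    rw [dotProduct_add, dotProduct_comm φ l1, dotProduct_comm φ l2, h12, h21, zero_add]
  have hψy : ψ ⬝ᵥ (l1 + l2) = 1 := by
    rw [dotProduct_add, dotProduct_comm ψ l1, dotProduct_comm ψ l2, h11, h22, add_zero]
  have hχy : (φ - ψ) ⬝ᵥ (l1 + l2) = 0 := by rw [sub_dotProduct, hφy, hψy, sub_self]
  have hχx : (φ - ψ) ⬝ᵥ x = 0 := by rw [sub_dotProduct, h, h', sub_self]
  refine ⟨tv (l1 + l2) (φ - ψ) hχy, tv_mem_Lx hχy hχx, ?_⟩
  rw [conj_tv_gen hχy hχx h]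
  apply tv_congr _ rfl
  rw [hφy, one_smul, sub_sub_cancel]

/-- (M1) `Lx x` is transitive (by conjugation) on the nontrivial elements of `Qc x`. -/
theorem exists_Lx_conj (hn : 3 ≤ n) {x : Fin n → F} (hx : x ≠ 0) {φ ψ : Fin n → F} (hφ : φ ≠ 0)
    (hψ : ψ ≠ 0) (h : φ ⬝ᵥ x = 0) (h' : ψ ⬝ᵥ x = 0) :
    ∃ g ∈ Lx x, g * tv x φ h * g⁻¹ = tv x ψ h' := by
  by_cases hind : ∀ c : F, ψ ≠ c • φ
  · exact exists_Lx_conj_indep hφ hind h h'
  · push Not at hind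
    obtain ⟨c, hc⟩ := hind
    have hc0 : c ≠ 0 := by
      intro h0
      rw [h0, zero_smul] at hc
      exact hψ hc
    have h3 : 3 ≤ Fintype.card (Fin n) := by rw [Fintype.card_fin]; exact hn
    obtain ⟨ρ, hρx, hρ⟩ := exists_ker_not_smul h3 x φ
    have hρ0 : ρ ≠ 0 := by
      intro h0
      apply hρ 0
      rw [h0, zero_smul]
    have hρψ : ∀ c' : F, ψ ≠ c' • ρ := by
      intro c' hc'
      have hc'0 : c' ≠ 0 := by
        intro h0
        rw [h0, zero_smul] at hc'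
        exact hψ hc'
      apply hρ (c'⁻¹ * c)
      rw [← smul_smul, ← hc, hc', smul_smul, inv_mul_cancel₀ hc'0, one_smul]
    obtain ⟨g1, hg1, e1⟩ := exists_Lx_conj_indep hφ hρ h hρx
    obtain ⟨g2, hg2, e2⟩ := exists_Lx_conj_indep hρ0 hρψ hρx h'
    refine ⟨g2 * g1, Subgroup.mul_mem _ hg2 hg1, ?_⟩
    have e : g2 * g1 * tv x φ h * (g2 * g1)⁻¹ = g2 * (g1 * tv x φ h * g1⁻¹) * g2⁻¹ := by group
    rw [e, e1, e2]

end Cfsg.Agent.Helper14.MinDeg
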