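import Mathlib
import Cfsg.Agent.Helper1.MinDeg.Defs

/-!
# Piece (M2) of #7349 (helper1, S2140): `|Qc x| = q^(n-1)`
-/

set_option autoImplicit false
set_option linter.unusedSectionVars false
set_option linter.unusedVariables false

namespace Cfsg.Agent.Helper14.MinDeg

open Matrix Cfsg.Agent.Helper14.AutPSL Cfsg.Agent.Helper1.MinDeg

variable {F : Type*} [Field F] {n : ℕ}

/-- the functional `φ ↦ φ ⬝ᵥ x` -/
def dotL (x : Fin n → F) : (Fin n → F) →ₗ[F] F where
  toFun φ := φ ⬝ᵥ x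
  map_add' φ ψ := add_dotProduct φ ψ x
  map_smul' c φ := by simp [smul_dotProduct]

theorem dotL_apply (x φ : Fin n → F) : dotL x φ = φ ⬝ᵥ x := rfl

theorem mem_ker_dotL {x φ : Fin n → F} : φ ∈ LinearMap.ker (dotL x) ↔ φ ⬝ᵥ x = 0 := by
  rw [LinearMap.mem_ker, dotL_apply]

theorem dotL_surjective {x : Fin n → F} (hx : x ≠ 0) : Function.Surjective (dotL x) := by
  obtain ⟨i, hi⟩ := Function.ne_iff.mp hx
  rw [Pi.zero_apply] at hi
  intro c
  refine ⟨Pi.single i (c * (x i)⁻¹), ?_⟩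
  rw [dotL_apply, single_dotProduct, mul_assoc, inv_mul_cancel₀ hi, mul_one]

theorem finrank_ker_dotL {x : Fin n → F} (hx : x ≠ 0) :
    Module.finrank F (LinearMap.ker (dotL x)) = n - 1 := by
  have h1 := LinearMap.finrank_range_add_finrank_ker (dotL x)
  rw [LinearMap.range_eq_top.mpr (dotL_surjective hx), finrank_top, Module.finrank_self,
    Module.finrank_fintype_fun_eq_card, Fintype.card_fin] at h1
  omega

/-- the parametrisation of `Qc x` by the functionals vanishing on `x` -/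
noncomputable def kerToQc (x : Fin n → F) : LinearMap.ker (dotL x) → Qc x :=
  fun φ => ⟨tv x φ.1 (mem_ker_dotL.mp φ.2), tv_mem_Qc x φ.1 _⟩

theorem kerToQc_bijective {x : Fin n → F} (hx : x ≠ 0) : Function.Bijective (kerToQc x) := by
  constructor
  · rintro ⟨φ, hφ⟩ ⟨ψ, hψ⟩ he
    have h1 : tv x φ (mem_ker_dotL.mp hφ) = tv x ψ (mem_ker_dotL.mp hψ) := congrArg Subtype.val he
    have h2 : vecMulVec x φ = vecMulVec x ψ := by
      have := congrArg Subtype.val h1
      rw [tv_coe, tv_coe] at this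
      exact add_left_cancel this
    obtain ⟨i, hi⟩ := Function.ne_iff.mp hx
    rw [Pi.zero_apply] at hi
    apply Subtype.ext
    funext j
    have h3 := congrFun (congrFun h2 i) j
    rw [vecMulVec_apply, vecMulVec_apply] at h3
    exact mul_left_cancel₀ hi h3
  · rintro ⟨g, φ, h, rfl⟩
    exact ⟨⟨φ, mem_ker_dotL.mpr h⟩, rfl⟩

/-- (M2) `|Qc x| = q^(n-1)`. -/
theorem card_Qc [Fintype F] (hn : 1 ≤ n) {x : Fin n → F} (hx : x ≠ 0) :
    Nat.card (Qc x) = Fintype.card F ^ (n - 1) := by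
  rw [← Nat.card_congr (Equiv.ofBijective _ (kerToQc_bijective hx)),
    Module.natCard_eq_pow_finrank (K := F), finrank_ker_dotL hx, Nat.card_eq_fintype_card]

end Cfsg.Agent.Helper14.MinDeg
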