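import Mathlib
import Cfsg.Agent.Helper14.AutTvGroups

/-!
Helper14: cardinalities of `Qc a`, `Qa φ` and of their images in `PSL`.
-/

set_option autoImplicit false
set_option linter.unusedSectionVars false

namespace Cfsg.Agent.Helper14.AutPSL

open Matrix

variable {ι : Type*} [Fintype ι] [DecidableEq ι] {F : Type*} [Field F]

/-- `φ ↦ φ ⬝ᵥ a` -/
def dotL (a : ι → F) : (ι → F) →ₗ[F] F where
  toFun φ := φ ⬝ᵥ a
  map_add' φ ψ := add_dotProduct φ ψ a
  map_smul' c φ := by simp [smul_dotProduct]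

theorem dotL_apply (a φ : ι → F) : dotL a φ = φ ⬝ᵥ a := rfl

theorem mem_ker_dotL {a φ : ι → F} : φ ∈ LinearMap.ker (dotL a) ↔ φ ⬝ᵥ a = 0 := LinearMap.mem_ker

theorem dotL_surjective {a : ι → F} (ha : a ≠ 0) : Function.Surjective (dotL a) := by
  obtain ⟨i, hi⟩ := Function.ne_iff.mp ha
  rw [Pi.zero_apply] at hi
  intro c
  refine ⟨(c / a i) • Pi.single i 1, ?_⟩
  rw [dotL_apply, smul_dotProduct, single_dotProduct, one_mul, smul_eq_mul, div_mul_cancel₀ c hi]

theorem finrank_ker_dotL {a : ι → F} (ha : a ≠ 0) :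
    Module.finrank F (LinearMap.ker (dotL a)) = Fintype.card ι - 1 := by
  have h1 := LinearMap.finrank_range_add_finrank_ker (dotL a)
  rw [LinearMap.range_eq_top.mpr (dotL_surjective ha), finrank_top, Module.finrank_self,
    Module.finrank_fintype_fun_eq_card] at h1
  omega

theorem card_ker_dotL [Finite F] {a : ι → F} (ha : a ≠ 0) :
    Nat.card (LinearMap.ker (dotL a)) = Nat.card F ^ (Fintype.card ι - 1) := by
  rw [Module.natCard_eq_pow_finrank (K := F), finrank_ker_dotL ha]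

/-- the parametrisation of `Qc a` -/
noncomputable def kerEquivQc {a : ι → F} (ha : a ≠ 0) : LinearMap.ker (dotL a) ≃ Qc a :=
  Equiv.ofBijective (fun φ => ⟨tv a φ.1 (mem_ker_dotL.mp φ.2), tv_mem_Qc _ _ _⟩) (by
    constructor
    · intro φ ψ h
      have h1 : tv a φ.1 (mem_ker_dotL.mp φ.2) = tv a ψ.1 (mem_ker_dotL.mp ψ.2) :=
        congrArg Subtype.val h
      have h2 := congrArg Subtype.val h1
      rw [tv_coe, tv_coe] at h2
      have h3 : vecMulVec a (φ.1 - ψ.1) = 0 := by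
        rw [sub_eq_add_neg, vecMulVec_add, vecMulVec_neg, add_left_cancel h2, add_neg_cancel]
      apply Subtype.ext
      rcases vecMulVec_eq_zero.mp h3 with h4 | h4
      · exact absurd h4 ha
      · exact sub_eq_zero.mp h4
    · rintro ⟨g, φ, h, rfl⟩
      exact ⟨⟨φ, mem_ker_dotL.mpr h⟩, rfl⟩)

/-- the parametrisation of `Qa φ` -/
noncomputable def kerEquivQa {φ : ι → F} (hφ : φ ≠ 0) : LinearMap.ker (dotL φ) ≃ Qa φ :=
  Equiv.ofBijective (fun a => ⟨tv a.1 φ (by rw [dotProduct_comm]; exact mem_ker_dotL.mp a.2),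
      tv_mem_Qa _ _ _⟩) (by
    constructor
    · intro a b h
      have h1 : tv a.1 φ (by rw [dotProduct_comm]; exact mem_ker_dotL.mp a.2) =
          tv b.1 φ (by rw [dotProduct_comm]; exact mem_ker_dotL.mp b.2) :=
        congrArg Subtype.val h
      have h2 := congrArg Subtype.val h1
      rw [tv_coe, tv_coe] at h2
      have h3 : vecMulVec (a.1 - b.1) φ = 0 := by
        rw [sub_eq_add_neg, add_vecMulVec, neg_vecMulVec, add_left_cancel h2, add_neg_cancel]
      apply Subtype.ext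
      rcases vecMulVec_eq_zero.mp h3 with h4 | h4
      · exact sub_eq_zero.mp h4
      · exact absurd h4 hφ
    · rintro ⟨g, a, h, rfl⟩
      exact ⟨⟨a, mem_ker_dotL.mpr (by rw [dotProduct_comm]; exact h)⟩, rfl⟩)

theorem card_Qc [Finite F] {a : ι → F} (ha : a ≠ 0) :
    Nat.card (Qc a) = Nat.card F ^ (Fintype.card ι - 1) := by
  rw [← Nat.card_congr (kerEquivQc ha), card_ker_dotL ha]

theorem card_Qa [Finite F] {φ : ι → F} (hφ : φ ≠ 0) :
    Nat.card (Qa φ) = Nat.card F ^ (Fintype.card ι - 1) := by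
  rw [← Nat.card_congr (kerEquivQa hφ), card_ker_dotL hφ]

/-- `prj` is injective on elements of the form `1 + a φᵀ` -/
theorem card_map_prj_of_isTq [Nonempty ι] (H : Subgroup (Matrix.SpecialLinearGroup ι F))
    (hH : ∀ g ∈ H, IsTq g) : Nat.card (H.map prj) = Nat.card H := by
  symm
  apply Nat.card_congr
  refine Equiv.ofBijective (fun g => ⟨prj g.1, Subgroup.mem_map_of_mem _ g.2⟩) ⟨?_, ?_⟩
  · intro g g' h
    have h1 : prj g.1 = prj g'.1 := congrArg Subtype.val h
    exact Subtype.ext ((hH _ g.2).eq_of_mk_eq (hH _ g'.2) h1)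
  · rintro ⟨t, g, hg, rfl⟩
    exact ⟨⟨g, hg⟩, rfl⟩

theorem card_map_Qc [Nonempty ι] [Finite F] {a : ι → F} (ha : a ≠ 0) :
    Nat.card ((Qc a).map prj) = Nat.card F ^ (Fintype.card ι - 1) := by
  rw [card_map_prj_of_isTq _ (fun g hg => isTq_of_mem_Qc hg), card_Qc ha]

theorem card_map_Qa [Nonempty ι] [Finite F] {φ : ι → F} (hφ : φ ≠ 0) :
    Nat.card ((Qa φ).map prj) = Nat.card F ^ (Fintype.card ι - 1) := by
  rw [card_map_prj_of_isTq _ (fun g hg => isTq_of_mem_Qa hg), card_Qa hφ]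

end Cfsg.Agent.Helper14.AutPSL
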