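import Mathlib
import Cfsg.Agent.Helper14.AutTvGroups

/-!
Helper14: the standard automorphisms of `SL(ι, F)` (conjugation by `GL`, field automorphisms,
inverse transpose), the induced automorphisms of `PSL`, and their effect on transvections.
-/

set_option autoImplicit false
set_option linter.unusedSectionVars false

namespace Cfsg.Agent.Helper14.AutPSL

open Matrix

variable {ι : Type*} [Fintype ι] [DecidableEq ι] {F : Type*} [Field F]

theorem gl_mul_inv (g : GL ι F) : (g : Matrix ι ι F) * ((g⁻¹ : GL ι F) : Matrix ι ι F) = 1 := by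
  rw [← Units.val_mul, mul_inv_cancel]; rfl

theorem gl_inv_mul (g : GL ι F) : ((g⁻¹ : GL ι F) : Matrix ι ι F) * (g : Matrix ι ι F) = 1 := by
  rw [← Units.val_mul, inv_mul_cancel]; rfl

theorem det_conj (g : GL ι F) (s : Matrix.SpecialLinearGroup ι F) :
    ((g : Matrix ι ι F) * s.1 * ((g⁻¹ : GL ι F) : Matrix ι ι F)).det = 1 := by
  rw [det_mul, det_mul, s.2, mul_one, ← det_mul, gl_mul_inv, det_one]

/-- conjugation by an invertible matrix -/
def slConj (g : GL ι F) : Matrix.SpecialLinearGroup ι F ≃* Matrix.SpecialLinearGroup ι F where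
  toFun s := ⟨(g : Matrix ι ι F) * s.1 * ((g⁻¹ : GL ι F) : Matrix ι ι F), det_conj g s⟩
  invFun s := ⟨((g⁻¹ : GL ι F) : Matrix ι ι F) * s.1 * (g : Matrix ι ι F), by
    have := det_conj g⁻¹ s
    rwa [inv_inv] at this⟩
  left_inv s := by
    apply Subtype.ext
    show ((g⁻¹ : GL ι F) : Matrix ι ι F) * ((g : Matrix ι ι F) * s.1 * ((g⁻¹ : GL ι F) : Matrix ι ι F)) *
      (g : Matrix ι ι F) = s.1
    rw [← Matrix.mul_assoc, ← Matrix.mul_assoc, gl_inv_mul, Matrix.one_mul, Matrix.mul_assoc,
      gl_inv_mul, Matrix.mul_one]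
  right_inv s := by
    apply Subtype.ext
    show (g : Matrix ι ι F) * (((g⁻¹ : GL ι F) : Matrix ι ι F) * s.1 * (g : Matrix ι ι F)) *
      ((g⁻¹ : GL ι F) : Matrix ι ι F) = s.1
    rw [← Matrix.mul_assoc, ← Matrix.mul_assoc, gl_mul_inv, Matrix.one_mul, Matrix.mul_assoc,
      gl_mul_inv, Matrix.mul_one]
  map_mul' s t := by
    apply Subtype.ext
    show (g : Matrix ι ι F) * (s * t).1 * ((g⁻¹ : GL ι F) : Matrix ι ι F) =
      ((g : Matrix ι ι F) * s.1 * ((g⁻¹ : GL ι F) : Matrix ι ι F)) *
      ((g : Matrix ι ι F) * t.1 * ((g⁻¹ : GL ι F) : Matrix ι ι F))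
    rw [Matrix.SpecialLinearGroup.coe_mul]
    have h := gl_inv_mul g
    calc (g : Matrix ι ι F) * (s.1 * t.1) * ((g⁻¹ : GL ι F) : Matrix ι ι F)
        = (g : Matrix ι ι F) * s.1 * 1 * t.1 * ((g⁻¹ : GL ι F) : Matrix ι ι F) := by
          rw [Matrix.mul_one]; simp only [Matrix.mul_assoc]
      _ = _ := by rw [← h]; simp only [Matrix.mul_assoc]

theorem slConj_coe (g : GL ι F) (s : Matrix.SpecialLinearGroup ι F) :
    (slConj g s).1 = (g : Matrix ι ι F) * s.1 * ((g⁻¹ : GL ι F) : Matrix ι ι F) := rfl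

/-- entrywise field automorphism -/
def slField (σ : F ≃+* F) : Matrix.SpecialLinearGroup ι F ≃* Matrix.SpecialLinearGroup ι F where
  toFun := Matrix.SpecialLinearGroup.map (σ : F →+* F)
  invFun := Matrix.SpecialLinearGroup.map (σ.symm : F →+* F)
  left_inv s := by
    apply Subtype.ext
    ext i j
    show σ.symm (σ (s.1 i j)) = s.1 i j
    exact σ.symm_apply_apply _
  right_inv s := by
    apply Subtype.ext
    ext i j
    show σ (σ.symm (s.1 i j)) = s.1 i j
    exact σ.apply_symm_apply _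
  map_mul' := map_mul _

theorem slField_coe (σ : F ≃+* F) (s : Matrix.SpecialLinearGroup ι F) :
    (slField σ s).1 = s.1.map σ := rfl

/-- inverse transpose -/
def slInvT : Matrix.SpecialLinearGroup ι F ≃* Matrix.SpecialLinearGroup ι F where
  toFun s := (s⁻¹).transpose
  invFun s := (s⁻¹).transpose
  left_inv s := by
    apply Subtype.ext
    rw [Matrix.SpecialLinearGroup.coe_transpose]
    have h1 : ((s⁻¹).transpose)⁻¹ = s.transpose := by
      rw [inv_eq_iff_mul_eq_one]
      apply Subtype.ext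
      rw [Matrix.SpecialLinearGroup.coe_mul, Matrix.SpecialLinearGroup.coe_transpose,
        Matrix.SpecialLinearGroup.coe_transpose, ← Matrix.transpose_mul,
        ← Matrix.SpecialLinearGroup.coe_mul, mul_inv_cancel, Matrix.SpecialLinearGroup.coe_one,
        Matrix.transpose_one]
    rw [h1, Matrix.SpecialLinearGroup.coe_transpose, Matrix.transpose_transpose]
  right_inv s := by
    apply Subtype.ext
    rw [Matrix.SpecialLinearGroup.coe_transpose]
    have h1 : ((s⁻¹).transpose)⁻¹ = s.transpose := by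
      rw [inv_eq_iff_mul_eq_one]
      apply Subtype.ext
      rw [Matrix.SpecialLinearGroup.coe_mul, Matrix.SpecialLinearGroup.coe_transpose,
        Matrix.SpecialLinearGroup.coe_transpose, ← Matrix.transpose_mul,
        ← Matrix.SpecialLinearGroup.coe_mul, mul_inv_cancel, Matrix.SpecialLinearGroup.coe_one,
        Matrix.transpose_one]
    rw [h1, Matrix.SpecialLinearGroup.coe_transpose, Matrix.transpose_transpose]
  map_mul' s t := by
    apply Subtype.ext
    rw [Matrix.SpecialLinearGroup.coe_mul, Matrix.SpecialLinearGroup.coe_transpose,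
      Matrix.SpecialLinearGroup.coe_transpose, Matrix.SpecialLinearGroup.coe_transpose,
      ← Matrix.transpose_mul, ← Matrix.SpecialLinearGroup.coe_mul, _root_.mul_inv_rev]

theorem slInvT_coe (s : Matrix.SpecialLinearGroup ι F) : (slInvT s).1 = ((s⁻¹).1)ᵀ := rfl

/-! ### effect on transvections -/

theorem slConj_tv (g : GL ι F) (a φ : ι → F) (h : φ ⬝ᵥ a = 0) :
    slConj g (tv a φ h) = tv ((g : Matrix ι ι F) *ᵥ a) (φ ᵥ* ((g⁻¹ : GL ι F) : Matrix ι ι F)) (by
      rw [← dotProduct_mulVec, mulVec_mulVec, gl_inv_mul, one_mulVec, h]) := by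
  apply Subtype.ext
  rw [slConj_coe, tv_coe, tv_coe, conj_tv_mat, gl_mul_inv]

theorem map_dotProduct (σ : F ≃+* F) (φ a : ι → F) :
    (fun i => σ (φ i)) ⬝ᵥ (fun i => σ (a i)) = σ (φ ⬝ᵥ a) := by
  unfold dotProduct
  rw [map_sum]
  apply Finset.sum_congr rfl
  intro i _
  rw [map_mul]

theorem slField_tv (σ : F ≃+* F) (a φ : ι → F) (h : φ ⬝ᵥ a = 0) :
    slField σ (tv a φ h) = tv (fun i => σ (a i)) (fun i => σ (φ i)) (by
      rw [map_dotProduct, h, map_zero]) := by
  apply Subtype.ext
  rw [slField_coe, tv_coe, tv_coe]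
  ext i j
  rw [Matrix.map_apply, Matrix.add_apply, Matrix.add_apply, vecMulVec_apply, vecMulVec_apply,
    map_add, map_mul, Matrix.one_apply]
  congr 1
  split_ifs <;> simp

theorem slInvT_tv (a φ : ι → F) (h : φ ⬝ᵥ a = 0) :
    slInvT (tv a φ h) = tv φ (-a) (by rw [neg_dotProduct, dotProduct_comm, h, neg_zero]) := by
  apply Subtype.ext
  rw [slInvT_coe, tv_inv, tv_coe, tv_coe, Matrix.transpose_add, Matrix.transpose_one,
    transpose_vecMulVec, vecMulVec_neg, neg_vecMulVec]

/-! ### induced automorphisms of `PSL` -/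

theorem map_center (e : Matrix.SpecialLinearGroup ι F ≃* Matrix.SpecialLinearGroup ι F) :
    (Subgroup.center (Matrix.SpecialLinearGroup ι F)).map e.toMonoidHom =
      Subgroup.center (Matrix.SpecialLinearGroup ι F) :=
  Subgroup.characteristic_iff_map_eq.mp inferInstance e

/-- the automorphism of `PSL` induced by an automorphism of `SL` -/
def pslOf : MulAut (Matrix.SpecialLinearGroup ι F) →*
    MulAut (Matrix.SpecialLinearGroup ι F ⧸ Subgroup.center (Matrix.SpecialLinearGroup ι F)) where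
  toFun e := QuotientGroup.congr _ _ e (map_center e)
  map_one' := by
    ext x
    obtain ⟨s, rfl⟩ := prj_surjective x
    rfl
  map_mul' e e' := by
    ext x
    obtain ⟨s, rfl⟩ := prj_surjective x
    rfl

theorem pslOf_prj (e : MulAut (Matrix.SpecialLinearGroup ι F)) (s : Matrix.SpecialLinearGroup ι F) :
    pslOf e (prj s) = prj (e s) := rfl

end Cfsg.Agent.Helper14.AutPSL
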