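import Mathlib
import Cfsg.Agent.Helper40.UniTri
import Cfsg.Agent.Helper5.Card
import Cfsg.Agent.Helper14.AutTvGroups

/-!
Helper14: the unitriangular subgroup of `SL_n(F)` is a Sylow `p`-subgroup; its centre.
-/

set_option autoImplicit false
set_option linter.unusedSectionVars false

namespace Cfsg.Agent.Helper14.AutPSL

open Matrix

variable {n : ℕ} {F : Type*} [Field F]

/-- the level function for upper triangular matrices -/
def lvl (n : ℕ) : Fin n → ℤ := fun i => -(i : ℤ)

/-- the upper unitriangular subgroup of `SL_n(F)` -/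
def UT (n : ℕ) (F : Type*) [Field F] : Subgroup (Matrix.SpecialLinearGroup (Fin n) F) :=
  (Cfsg.Agent.Helper40.UT.utSub (lvl n) F 0).comap Matrix.SpecialLinearGroup.toGL

theorem mem_UT {g : Matrix.SpecialLinearGroup (Fin n) F} :
    g ∈ UT n F ↔ ∀ i j : Fin n, j ≤ i → g.1 i j = if i = j then 1 else 0 := by
  unfold UT
  rw [Subgroup.mem_comap, Cfsg.Agent.Helper40.UT.mem_utSub_zero]
  unfold Cfsg.Agent.Helper40.UT.IsUT Cfsg.Agent.Helper40.UT.RaisesBy lvl
  constructor
  · intro h i j hji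
    by_contra hne
    have h1 : ((Matrix.SpecialLinearGroup.toGL g : GL (Fin n) F) : Matrix (Fin n) (Fin n) F) i j
        - (1 : Matrix (Fin n) (Fin n) F) i j ≠ 0 := by
      rw [Matrix.one_apply]
      intro h0
      exact hne (sub_eq_zero.mp h0)
    have := h i j h1
    have hji' : (j : ℕ) ≤ i := hji
    omega
  · intro h i j hne
    by_contra hlt
    have hji : j ≤ i := by
      rw [Fin.le_def]
      push Not at hlt
      omega
    apply hne
    show g.1 i j - (1 : Matrix (Fin n) (Fin n) F) i j = 0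
    rw [h i j hji, Matrix.one_apply, sub_self]

/-- the pairs `i < j` -/
abbrev UPairs (n : ℕ) := {p : Fin n × Fin n // p.1 < p.2}

/-- the unitriangular matrix with given entries above the diagonal -/
def utMat (f : UPairs n → F) : Matrix (Fin n) (Fin n) F :=
  fun i j => if h : i < j then f ⟨(i, j), h⟩ else if i = j then 1 else 0

theorem utMat_of_le (f : UPairs n → F) {i j : Fin n} (h : j ≤ i) :
    utMat f i j = if i = j then 1 else 0 := by
  unfold utMat
  rw [dif_neg (not_lt.mpr h)]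

theorem det_utMat (f : UPairs n → F) : (utMat f).det = 1 := by
  have hup : (utMat f).IsUpperTriangular := by
    intro i j hji
    have hji' : j < i := hji
    rw [utMat_of_le f (le_of_lt hji'), if_neg (ne_of_gt hji')]
  rw [det_of_isUpperTriangular hup]
  apply Finset.prod_eq_one
  intro i _
  rw [utMat_of_le f le_rfl, if_pos rfl]

/-- the parametrisation of the unitriangular group -/
def utEquiv (n : ℕ) (F : Type*) [Field F] : (UPairs n → F) ≃ UT n F where
  toFun f := ⟨⟨utMat f, det_utMat f⟩, mem_UT.mpr fun i j h => utMat_of_le f h⟩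
  invFun g := fun p => g.1.1 p.1.1 p.1.2
  left_inv f := by
    funext p
    show utMat f p.1.1 p.1.2 = f p
    unfold utMat
    rw [dif_pos p.2]
  right_inv g := by
    apply Subtype.ext
    apply Subtype.ext
    ext i j
    show utMat (fun p : UPairs n => g.1.1 p.1.1 p.1.2) i j = g.1.1 i j
    by_cases h : i < j
    · unfold utMat
      rw [dif_pos h]
    · rw [utMat_of_le _ (not_lt.mp h), (mem_UT.mp g.2) i j (not_lt.mp h)]

theorem card_UPairs (n : ℕ) : Fintype.card (UPairs n) = ∑ i : Fin n, (i : ℕ) := by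
  rw [Fintype.card_subtype]
  rw [Finset.card_eq_sum_card_fiberwise (f := fun p : Fin n × Fin n => p.2) (t := Finset.univ)
    (fun _ _ => Finset.mem_univ _)]
  apply Finset.sum_congr rfl
  intro j _
  rw [← Fin.card_Iio j]
  apply Finset.card_bij (fun p _ => p.1)
  · intro p hp
    simp only [Finset.mem_filter, Finset.mem_univ, true_and] at hp
    rw [Finset.mem_Iio, ← hp.2]
    exact hp.1
  · intro p hp p' hp' h
    simp only [Finset.mem_filter, Finset.mem_univ, true_and] at hp hp'
    exact Prod.ext h (hp.2.trans hp'.2.symm)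
  · intro i hi
    rw [Finset.mem_Iio] at hi
    refine ⟨(i, j), ?_, rfl⟩
    simp only [Finset.mem_filter, Finset.mem_univ, true_and]
    exact ⟨hi, trivial⟩

theorem card_UT [Fintype F] (n : ℕ) :
    Nat.card (UT n F) = Fintype.card F ^ (∑ i : Fin n, (i : ℕ)) := by
  rw [← Nat.card_congr (utEquiv n F), Nat.card_eq_fintype_card, Fintype.card_fun, card_UPairs]

/-- the order of `GL_n(q)` with the power of `q` split off -/
theorem card_GL_split [Fintype F] (n : ℕ) :
    Nat.card (GL (Fin n) F) = Fintype.card F ^ (∑ i : Fin n, (i : ℕ)) *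
      ∏ i : Fin n, (Fintype.card F ^ (n - (i : ℕ)) - 1) := by
  rw [Matrix.card_GL_field, ← Finset.prod_pow_eq_pow_sum, ← Finset.prod_mul_distrib]
  apply Finset.prod_congr rfl
  intro i _
  have hi : (i : ℕ) < n := i.2
  have : Fintype.card F ^ n = Fintype.card F ^ (i : ℕ) * Fintype.card F ^ (n - (i : ℕ)) := by
    rw [← pow_add]; congr 1; omega
  rw [this, Nat.mul_sub, mul_one]

theorem not_dvd_prod_sub_one {p q : ℕ} (hp : p.Prime) (hpq : p ∣ q) (hq0 : 0 < q) (n : ℕ) :
    ¬ p ∣ ∏ i : Fin n, (q ^ (n - (i : ℕ)) - 1) := by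
  intro h
  obtain ⟨i, -, hi⟩ := (Prime.dvd_finset_prod_iff hp.prime _).mp h
  have hi' : (i : ℕ) < n := i.2
  have hk : n - (i : ℕ) ≠ 0 := by omega
  have h1 : p ∣ q ^ (n - (i : ℕ)) := dvd_trans hpq (dvd_pow_self q hk)
  have h2 : 1 ≤ q ^ (n - (i : ℕ)) := Nat.one_le_pow _ _ hq0
  have h3 : p ∣ q ^ (n - (i : ℕ)) - (q ^ (n - (i : ℕ)) - 1) := Nat.dvd_sub h1 hi
  have h4 : q ^ (n - (i : ℕ)) - (q ^ (n - (i : ℕ)) - 1) = 1 := by omega
  rw [h4] at h3
  exact hp.one_lt.ne' (Nat.dvd_one.mp h3)

/-- the `p`-part of the order of `SL_n(q)` -/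
theorem factorization_card_SL [Fintype F] {p f : ℕ} [hp : Fact p.Prime] (hF : Fintype.card F = p ^ f)
    (hf : 1 ≤ f) (n : ℕ) (hn : 1 ≤ n) :
    (Nat.card (Matrix.SpecialLinearGroup (Fin n) F)).factorization p =
      f * ∑ i : Fin n, (i : ℕ) := by
  have hne : Nonempty (Fin n) := ⟨⟨0, hn⟩⟩
  have h1 := Cfsg.Agent.Helper5.card_GL_eq_card_SL_mul (n := Fin n) (F := F)
  rw [card_GL_split] at h1
  have hpq : p ∣ Fintype.card F := by rw [hF]; exact dvd_pow_self p (by omega)
  have hq1 : 1 < Fintype.card F := Fintype.one_lt_card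
  have hA : ¬ p ∣ ∏ i : Fin n, (Fintype.card F ^ (n - (i : ℕ)) - 1) :=
    not_dvd_prod_sub_one hp.out hpq (by omega) n
  have hB : ¬ p ∣ Fintype.card F - 1 := by
    intro h
    have h3 : p ∣ Fintype.card F - (Fintype.card F - 1) := Nat.dvd_sub hpq h
    have h4 : Fintype.card F - (Fintype.card F - 1) = 1 := by omega
    rw [h4] at h3
    exact hp.out.one_lt.ne' (Nat.dvd_one.mp h3)
  have hS0 : Nat.card (Matrix.SpecialLinearGroup (Fin n) F) ≠ 0 := Nat.card_pos.ne'
  have e1 := congrArg (fun m : ℕ => m.factorization p) h1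
  beta_reduce at e1
  have hA0 : ∏ i : Fin n, (Fintype.card F ^ (n - (i : ℕ)) - 1) ≠ 0 := fun h0 => hA (h0 ▸ dvd_zero p)
  rw [Nat.factorization_mul (pow_ne_zero _ (by omega)) hA0,
    Nat.factorization_mul hS0 (by omega),
    Finsupp.add_apply, Finsupp.add_apply,
    Nat.factorization_eq_zero_of_not_dvd hA, Nat.factorization_eq_zero_of_not_dvd hB,
    add_zero, add_zero] at e1
  rw [← e1, hF, ← pow_mul, hp.out.factorization_pow, Finsupp.single_eq_same]

/-- the unitriangular subgroup as a Sylow subgroup of `SL_n(q)` -/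
theorem card_UT_eq [Fintype F] {p f : ℕ} [hp : Fact p.Prime] (hF : Fintype.card F = p ^ f)
    (hf : 1 ≤ f) (n : ℕ) (hn : 1 ≤ n) :
    Nat.card (UT n F) = p ^ (Nat.card (Matrix.SpecialLinearGroup (Fin n) F)).factorization p := by
  rw [card_UT, factorization_card_SL hF hf n hn, hF, ← pow_mul]

end Cfsg.Agent.Helper14.AutPSL
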