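import Mathlib
import Cfsg.Agent.Helper14.AutTvGroups

/-!
Helper14: transitivity of `SL(ι, F)` on pairs of independent vectors (up to scalars) and on
incident point-hyperplane pairs.
-/

set_option autoImplicit false
set_option linter.unusedSectionVars false

namespace Cfsg.Agent.Helper14.AutPSL

open Matrix
open scoped LinearAlgebra.Projectivization

variable {ι : Type*} [Fintype ι] [DecidableEq ι] {F : Type*} [Field F]

theorem single_ne_zero' (i : ι) : (Pi.single i 1 : ι → F) ≠ 0 := by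
  intro h
  have := congrFun h i
  simp at this

theorem single_not_smul {i0 i1 : ι} (h01 : i0 ≠ i1) (c : F) :
    (Pi.single i1 1 : ι → F) ≠ c • Pi.single i0 1 := by
  intro h
  have := congrFun h i1
  rw [Pi.smul_apply, Pi.single_eq_same, Pi.single_eq_of_ne (Ne.symm h01), smul_zero] at this
  exact one_ne_zero this

/-- `SL` maps any independent pair to multiples of two given basis vectors -/
theorem exists_two_trans {a b : ι → F} (ha : a ≠ 0) (hab : ∀ c : F, b ≠ c • a) {i0 i1 : ι}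
    (h01 : i0 ≠ i1) :
    ∃ (s : Matrix.SpecialLinearGroup ι F) (l m : F), l ≠ 0 ∧ m ≠ 0 ∧
      s.1 *ᵥ a = l • Pi.single i0 1 ∧ s.1 *ᵥ b = m • Pi.single i1 1 := by
  have hb : b ≠ 0 := by
    intro h0
    apply hab 0
    rw [h0, zero_smul]
  have h2 : MulAction.IsMultiplyPretransitive (Matrix.SpecialLinearGroup ι F) (ℙ F (ι → F)) 2 :=
    inferInstance
  rw [MulAction.is_two_pretransitive_iff] at h2
  have hne : Projectivization.mk F a ha ≠ Projectivization.mk F b hb := by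
    intro h
    rw [Projectivization.mk_eq_mk_iff'] at h
    obtain ⟨c, hc⟩ := h
    have hc0 : c ≠ 0 := by
      rintro rfl
      rw [zero_smul] at hc
      exact ha hc.symm
    apply hab c⁻¹
    rw [← hc, smul_smul, inv_mul_cancel₀ hc0, one_smul]
  have hne' : Projectivization.mk F (Pi.single i0 1 : ι → F) (single_ne_zero' i0) ≠
      Projectivization.mk F (Pi.single i1 1 : ι → F) (single_ne_zero' i1) := by
    intro h
    rw [Projectivization.mk_eq_mk_iff'] at h
    obtain ⟨c, hc⟩ := h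
    have := congrFun hc i0
    rw [Pi.smul_apply, Pi.single_eq_same, Pi.single_eq_of_ne h01, smul_zero] at this
    exact one_ne_zero this.symm
  obtain ⟨s, hs0, hs1⟩ := h2 hne hne'
  rw [Projectivization.smul_mk, Projectivization.mk_eq_mk_iff'] at hs0 hs1
  obtain ⟨l, hl⟩ := hs0
  obtain ⟨m, hm⟩ := hs1
  have hl0 : l ≠ 0 := by
    rintro rfl
    rw [zero_smul] at hl
    exact (smul_ne_zero_iff_ne s).mpr ha hl.symm
  have hm0 : m ≠ 0 := by
    rintro rfl
    rw [zero_smul] at hm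
    exact (smul_ne_zero_iff_ne s).mpr hb hm.symm
  exact ⟨s, l, m, hl0, hm0, hl.symm, hm.symm⟩

/-- `SL` is transitive on nonzero vectors up to scalars -/
theorem exists_trans [Nontrivial ι] {a : ι → F} (ha : a ≠ 0) (i0 : ι) :
    ∃ (s : Matrix.SpecialLinearGroup ι F) (l : F), l ≠ 0 ∧ s.1 *ᵥ a = l • Pi.single i0 1 := by
  have h2 : MulAction.IsMultiplyPretransitive (Matrix.SpecialLinearGroup ι F) (ℙ F (ι → F)) 2 :=
    inferInstance
  have htr : MulAction.IsPretransitive (Matrix.SpecialLinearGroup ι F) (ℙ F (ι → F)) :=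
    MulAction.isPretransitive_of_is_two_pretransitive
  obtain ⟨s, hs⟩ := MulAction.exists_smul_eq (Matrix.SpecialLinearGroup ι F)
    (Projectivization.mk F a ha) (Projectivization.mk F (Pi.single i0 1 : ι → F) (single_ne_zero' i0))
  rw [Projectivization.smul_mk, Projectivization.mk_eq_mk_iff'] at hs
  obtain ⟨l, hl⟩ := hs
  have hl0 : l ≠ 0 := by
    rintro rfl
    rw [zero_smul] at hl
    exact (smul_ne_zero_iff_ne s).mpr ha hl.symm
  exact ⟨s, l, hl0, hl.symm⟩

theorem single_dot_single {i j : ι} (hij : i ≠ j) :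
    (Pi.single j (1 : F) : ι → F) ⬝ᵥ (Pi.single i 1) = 0 := by
  rw [single_dotProduct, one_mul, Pi.single_eq_of_ne (Ne.symm hij)]

theorem single_dot_smul_single {i j : ι} (hij : i ≠ j) (r : F) :
    (Pi.single j (1 : F) : ι → F) ⬝ᵥ (r • Pi.single i 1) = 0 := by
  rw [dotProduct_smul, single_dot_single hij, smul_zero]

/-- every transvection is conjugate in `SL` to a standard one `1 + r E_{i0 i1}` -/
theorem exists_conj_tv_std {i0 i1 : ι} (h01 : i0 ≠ i1) {a φ : ι → F} (h : φ ⬝ᵥ a = 0)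
    (ha : a ≠ 0) (hφ : φ ≠ 0) :
    ∃ (s : Matrix.SpecialLinearGroup ι F) (r : F), r ≠ 0 ∧
      s * tv a φ h * s⁻¹ = tv (r • Pi.single i0 1) (Pi.single i1 1) (single_dot_smul_single h01 r) := by
  -- a vector `b` with `φ ⬝ᵥ b = 1`
  obtain ⟨j, hj⟩ := Function.ne_iff.mp hφ
  rw [Pi.zero_apply] at hj
  obtain ⟨b, hb⟩ : ∃ b : ι → F, φ ⬝ᵥ b = 1 :=
    ⟨(φ j)⁻¹ • Pi.single j 1, by rw [dotProduct_smul, dotProduct_single, mul_one, smul_eq_mul,
      inv_mul_cancel₀ hj]⟩
  have hab : ∀ c : F, b ≠ c • a := by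
    intro c hc
    rw [hc, dotProduct_smul, h, smul_zero] at hb
    exact zero_ne_one hb
  obtain ⟨s, l, m, hl0, hm0, hsa, hsb⟩ := exists_two_trans ha hab h01
  set φ' := φ ᵥ* (s⁻¹).1 with hφ'
  have hss : (s⁻¹).1 * s.1 = 1 := by
    rw [← Matrix.SpecialLinearGroup.coe_mul, inv_mul_cancel, Matrix.SpecialLinearGroup.coe_one]
  have e0 : φ' ⬝ᵥ (Pi.single i0 1) = 0 := by
    have : φ' ⬝ᵥ (l • Pi.single i0 1) = 0 := by
      rw [← hsa, hφ', ← dotProduct_mulVec, mulVec_mulVec, hss, one_mulVec, h]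
    rw [dotProduct_smul, smul_eq_mul] at this
    exact (mul_eq_zero.mp this).resolve_left hl0
  have e1 : φ' ⬝ᵥ (Pi.single i1 1) = m⁻¹ := by
    have : φ' ⬝ᵥ (m • Pi.single i1 1) = 1 := by
      rw [← hsb, hφ', ← dotProduct_mulVec, mulVec_mulVec, hss, one_mulVec, hb]
    rw [dotProduct_smul, smul_eq_mul] at this
    exact eq_inv_of_mul_eq_one_right this
  rw [dotProduct_single, mul_one] at e0 e1
  -- second step: a transvection with centre `e_{i1}`
  set ψ : ι → F := m • φ' - Pi.single i1 1 with hψ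
  have hψ1 : ψ ⬝ᵥ (Pi.single i1 1) = 0 := by
    rw [hψ, sub_dotProduct, smul_dotProduct, dotProduct_single, dotProduct_single, mul_one, mul_one,
      e1, Pi.single_eq_same, smul_eq_mul, mul_inv_cancel₀ hm0, sub_self]
  have hψ0 : ψ ⬝ᵥ (Pi.single i0 1) = 0 := by
    rw [hψ, sub_dotProduct, smul_dotProduct, dotProduct_single, dotProduct_single, mul_one, mul_one,
      e0, Pi.single_eq_of_ne h01, smul_zero, sub_self]
  refine ⟨tv (Pi.single i1 1) ψ hψ1 * s, l * m⁻¹, mul_ne_zero hl0 (inv_ne_zero hm0), ?_⟩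
  have hconj : tv (Pi.single i1 1) ψ hψ1 * s * tv a φ h * (tv (Pi.single i1 1) ψ hψ1 * s)⁻¹ =
      tv (Pi.single i1 1) ψ hψ1 * (s * tv a φ h * s⁻¹) * (tv (Pi.single i1 1) ψ hψ1)⁻¹ := by group
  rw [hconj, conj_tv, conj_tv]
  apply tv_eq_of_vecMulVec_eq
  have k1 : (tv (Pi.single i1 1) ψ hψ1).1 *ᵥ (s.1 *ᵥ a) = l • Pi.single i0 1 := by
    rw [hsa, tv_mulVec, dotProduct_smul, hψ0, smul_zero, zero_smul, add_zero]
  have k2 : φ ᵥ* (s⁻¹).1 ᵥ* ((tv (Pi.single i1 1) ψ hψ1)⁻¹).1 = m⁻¹ • Pi.single i1 1 := by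
    rw [tv_inv, vecMul_tv, ← hφ', dotProduct_single, mul_one, e1, hψ]
    ext k
    simp only [Pi.add_apply, Pi.smul_apply, Pi.neg_apply, Pi.sub_apply, smul_eq_mul]
    field_simp
    ring
  rw [k1, k2, smul_vecMulVec, vecMulVec_smul, smul_vecMulVec, smul_smul]

end Cfsg.Agent.Helper14.AutPSL
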