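import Mathlib
import Cfsg.Agent.Helper14.AutSylow
import Cfsg.Agent.Helper14.AutTrans

/-!
Helper14: centre of the unitriangular group; the image of the unitriangular group in `PSL_n(q)`
is a Sylow `p`-subgroup; the classes of transvections are the nontrivial elements of the centres of
the Sylow `p`-subgroups.
-/

set_option autoImplicit false
set_option linter.unusedSectionVars false

namespace Cfsg.Agent.Helper14.AutPSL

open Matrix

variable {n : ℕ} {F : Type*} [Field F]

/-- the first index -/
def fst (hn : 2 ≤ n) : Fin n := ⟨0, by omega⟩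

/-- the last index -/
def lst (hn : 2 ≤ n) : Fin n := ⟨n - 1, by omega⟩

theorem fst_ne_lst (hn : 2 ≤ n) : fst hn ≠ lst hn := by
  intro h
  have := congrArg Fin.val h
  simp only [fst, lst] at this
  omega

theorem fst_le (hn : 2 ≤ n) (i : Fin n) : fst hn ≤ i := by
  rw [Fin.le_def]; simp [fst]

theorem le_lst (hn : 2 ≤ n) (i : Fin n) : i ≤ lst hn := by
  rw [Fin.le_def]; simp only [lst]; have := i.2; omega

/-- the elementary unitriangular matrices -/
theorem tv_single_mem_UT {i j : Fin n} (hij : i < j) (r : F) :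
    tv (r • Pi.single i 1) (Pi.single j 1) (single_dot_smul_single (ne_of_lt hij) r) ∈ UT n F := by
  rw [mem_UT]
  intro k l hlk
  rw [tv_coe, Matrix.add_apply, Matrix.one_apply, vecMulVec_apply, Pi.smul_apply, Pi.single_apply,
    Pi.single_apply]
  by_cases hki : k = i
  · by_cases hlj : l = j
    · exfalso
      subst hki; subst hlj
      exact absurd hij (not_lt.mpr hlk)
    · rw [if_neg hlj, mul_zero, add_zero]
  · rw [if_neg hki, smul_zero, zero_mul, add_zero]

/-- an element of the unitriangular group commuting with all elementary unitriangular matrices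
is of the form `1 + r E_{first,last}` -/
theorem UT_central (hn : 2 ≤ n) {x : Matrix.SpecialLinearGroup (Fin n) F} (hx : x ∈ UT n F)
    (hc : ∀ i j : Fin n, ∀ hij : i < j,
      x * tv ((1 : F) • Pi.single i 1) (Pi.single j 1) (single_dot_smul_single (ne_of_lt hij) 1) =
      tv ((1 : F) • Pi.single i 1) (Pi.single j 1) (single_dot_smul_single (ne_of_lt hij) 1) * x) :
    x = tv ((x.1 (fst hn) (lst hn)) • Pi.single (fst hn) 1) (Pi.single (lst hn) 1)
      (single_dot_smul_single (fst_ne_lst hn) _) := by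
  have key : ∀ i j : Fin n, i < j → ∀ k l : Fin n,
      x.1 k i * (if l = j then 1 else 0) = (if k = i then 1 else 0) * x.1 j l := by
    intro i j hij k l
    have h1 := congrArg Subtype.val (hc i j hij)
    rw [Matrix.SpecialLinearGroup.coe_mul, Matrix.SpecialLinearGroup.coe_mul, tv_coe, Matrix.mul_add,
      Matrix.add_mul, Matrix.mul_one, Matrix.one_mul, one_smul] at h1
    have h2 := add_left_cancel h1
    rw [mul_vecMulVec, vecMulVec_mul] at h2
    have h3 := congrFun (congrFun h2 k) l
    rw [vecMulVec_apply, vecMulVec_apply, mulVec_single_one, single_one_vecMul, Pi.single_apply,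
      Pi.single_apply] at h3
    exact h3
  have hA : ∀ k i : Fin n, i ≠ lst hn → k ≠ i → x.1 k i = 0 := by
    intro k i hi hki
    have hij : i < lst hn := lt_of_le_of_ne (le_lst hn i) hi
    have := key i (lst hn) hij k (lst hn)
    rw [if_pos rfl, if_neg hki, mul_one, zero_mul] at this
    exact this
  have hB : ∀ j l : Fin n, j ≠ fst hn → l ≠ j → x.1 j l = 0 := by
    intro j l hj hlj
    have hij : fst hn < j := lt_of_le_of_ne (fst_le hn j) (Ne.symm hj)
    have := key (fst hn) j hij (fst hn) l
    rw [if_neg hlj, if_pos rfl, mul_zero, one_mul] at this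
    exact this.symm
  apply Subtype.ext
  rw [tv_coe]
  ext k l
  rw [Matrix.add_apply, Matrix.one_apply, vecMulVec_apply, Pi.smul_apply, Pi.single_apply,
    Pi.single_apply, smul_eq_mul]
  by_cases hkl : k = l
  · subst hkl
    rw [if_pos rfl, (mem_UT.mp hx) k k le_rfl, if_pos rfl]
    by_cases hk : k = fst hn
    · rw [if_pos hk, if_neg (by rw [hk]; exact fst_ne_lst hn), mul_zero, add_zero]
    · rw [if_neg hk, mul_zero, zero_mul, add_zero]
  · rw [if_neg hkl, zero_add]
    by_cases hl : l = lst hn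
    · by_cases hk : k = fst hn
      · rw [if_pos hk, if_pos hl, mul_one, mul_one, hk, hl]
      · rw [if_neg hk, mul_zero, zero_mul]
        exact hB k l hk (Ne.symm hkl)
    · rw [if_neg hl, mul_zero]
      exact hA k l hl hkl

/-- the elements `1 + r E_{first,last}` are central in the unitriangular group -/
theorem tv_fst_lst_central (hn : 2 ≤ n) (r : F) {y : Matrix.SpecialLinearGroup (Fin n) F}
    (hy : y ∈ UT n F) :
    y * tv (r • Pi.single (fst hn) 1) (Pi.single (lst hn) 1)
        (single_dot_smul_single (fst_ne_lst hn) r) =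
      tv (r • Pi.single (fst hn) 1) (Pi.single (lst hn) 1)
        (single_dot_smul_single (fst_ne_lst hn) r) * y := by
  apply Subtype.ext
  rw [Matrix.SpecialLinearGroup.coe_mul, Matrix.SpecialLinearGroup.coe_mul, tv_coe, Matrix.mul_add,
    Matrix.add_mul, Matrix.mul_one, Matrix.one_mul, mul_vecMulVec, vecMulVec_mul]
  congr 1
  have h1 : y.1 *ᵥ (r • Pi.single (fst hn) 1) = r • Pi.single (fst hn) 1 := by
    rw [mulVec_smul, mulVec_single_one]
    congr 1
    ext k
    rw [Matrix.col_apply, (mem_UT.mp hy) k (fst hn) (fst_le hn k), Pi.single_apply]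
  have h2 : (Pi.single (lst hn) 1 : Fin n → F) ᵥ* y.1 = Pi.single (lst hn) 1 := by
    rw [single_one_vecMul]
    ext l
    rw [Matrix.row_apply, (mem_UT.mp hy) (lst hn) l (le_lst hn l), Pi.single_apply]
    simp only [eq_comm]
  rw [h1, h2]

/-- the unitriangular group meets the centre trivially -/
theorem eq_one_of_mem_UT_of_mem_center (hn : 1 ≤ n) {x : Matrix.SpecialLinearGroup (Fin n) F}
    (hx : x ∈ UT n F) (hc : x ∈ Subgroup.center (Matrix.SpecialLinearGroup (Fin n) F)) : x = 1 := by
  obtain ⟨r, -, hr⟩ := Matrix.SpecialLinearGroup.mem_center_iff.mp hc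
  have h0 := (mem_UT.mp hx) ⟨0, hn⟩ ⟨0, hn⟩ le_rfl
  rw [if_pos rfl, ← hr, scalar_apply, diagonal_apply_eq] at h0
  apply Subtype.ext
  rw [← hr, h0, map_one]; rfl

theorem eq_of_prj_eq_of_mem_UT (hn : 1 ≤ n) {x y : Matrix.SpecialLinearGroup (Fin n) F}
    (hx : x ∈ UT n F) (hy : y ∈ UT n F) (h : prj x = prj y) : x = y := by
  have h1 : x⁻¹ * y ∈ Subgroup.center (Matrix.SpecialLinearGroup (Fin n) F) := QuotientGroup.eq.mp h
  have h2 := eq_one_of_mem_UT_of_mem_center hn ((UT n F).mul_mem ((UT n F).inv_mem hx) hy) h1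
  exact inv_mul_eq_one.mp h2

theorem card_map_UT (hn : 1 ≤ n) :
    Nat.card ((UT n F).map prj) = Nat.card (UT n F) := by
  symm
  apply Nat.card_congr
  refine Equiv.ofBijective (fun g => ⟨prj g.1, Subgroup.mem_map_of_mem _ g.2⟩) ⟨?_, ?_⟩
  · intro g g' h
    have h1 : prj g.1 = prj g'.1 := congrArg Subtype.val h
    exact Subtype.ext (eq_of_prj_eq_of_mem_UT hn g.2 g'.2 h1)
  · rintro ⟨t, g, hg, rfl⟩
    exact ⟨⟨g, hg⟩, rfl⟩

theorem card_map_UT_eq [Fintype F] {p f : ℕ} [hp : Fact p.Prime] (hF : Fintype.card F = p ^ f)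
    (hf : 1 ≤ f) (n : ℕ) (hn : 1 ≤ n) :
    Nat.card ((UT n F).map prj) =
      p ^ (Nat.card (Matrix.SpecialLinearGroup (Fin n) F ⧸
        Subgroup.center (Matrix.SpecialLinearGroup (Fin n) F))).factorization p := by
  classical
  rw [card_map_UT hn, card_UT_eq hF hf n hn]
  congr 1
  set S := Matrix.SpecialLinearGroup (Fin n) F
  set G := S ⧸ Subgroup.center S
  have hS0 : Nat.card S ≠ 0 := Nat.card_pos.ne'
  have hG0 : Nat.card G ≠ 0 := Nat.card_pos.ne'
  have h1 : Nat.card G ∣ Nat.card S := Subgroup.card_quotient_dvd_card _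
  have h2 : Nat.card ((UT n F).map prj) ∣ Nat.card G := Subgroup.card_subgroup_dvd_card _
  rw [card_map_UT hn, card_UT_eq hF hf n hn] at h2
  apply le_antisymm
  · have := (Nat.factorization_le_iff_dvd (pow_ne_zero _ hp.out.ne_zero) hG0).mpr h2 p
    rwa [hp.out.factorization_pow, Finsupp.single_eq_same] at this
  · exact (Nat.factorization_le_iff_dvd hG0 hS0).mpr h1 p

end Cfsg.Agent.Helper14.AutPSL
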