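import Mathlib
import Cfsg.Agent.Helper14.AutSylow2

/-!
Helper14: in `PSL_n(q)` the classes of transvections are exactly the nontrivial elements of
the centres of the Sylow `p`-subgroups; hence they are permuted by every automorphism.
-/

set_option autoImplicit false
set_option linter.unusedSectionVars false

namespace Cfsg.Agent.Helper14.AutPSL

open Matrix
open scoped Pointwise

/-- `t` lies in the centre of some Sylow `p`-subgroup -/
def IsSylCentral {G : Type*} [Group G] (p : ℕ) (t : G) : Prop :=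
  ∃ P : Sylow p G, t ∈ (P : Subgroup G) ∧ ∀ x ∈ (P : Subgroup G), x * t = t * x

theorem IsSylCentral.map {G : Type*} [Group G] {p : ℕ} {t : G} (h : IsSylCentral p t)
    (α : G ≃* G) : IsSylCentral p (α t) := by
  obtain ⟨P, htP, hc⟩ := h
  have hϕ : Function.Injective (α.symm.toMonoidHom : G →* G) := α.symm.injective
  have hr : (P : Subgroup G) ≤ (α.symm.toMonoidHom : G →* G).range := by
    intro x _
    exact ⟨α x, α.symm_apply_apply x⟩
  refine ⟨P.comapOfInjective α.symm.toMonoidHom hϕ hr, ?_, ?_⟩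
  · rw [Sylow.coe_comapOfInjective, Subgroup.mem_comap]
    show α.symm (α t) ∈ (P : Subgroup G)
    rw [α.symm_apply_apply]; exact htP
  · intro x hx
    rw [Sylow.coe_comapOfInjective, Subgroup.mem_comap] at hx
    have h1 := hc (α.symm x) hx
    have h2 := congrArg α h1
    rwa [map_mul, map_mul, α.apply_symm_apply] at h2

variable {n : ℕ} {F : Type*} [Field F]

/-- the image of the unitriangular group as a Sylow subgroup of `PSL_n(q)` -/
noncomputable def sylUT [Fintype F] {p f : ℕ} [hp : Fact p.Prime] (hF : Fintype.card F = p ^ f)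
    (hf : 1 ≤ f) (n : ℕ) (hn : 1 ≤ n) :
    Sylow p (Matrix.SpecialLinearGroup (Fin n) F ⧸
      Subgroup.center (Matrix.SpecialLinearGroup (Fin n) F)) :=
  Sylow.ofCard ((UT n F).map prj) (card_map_UT_eq hF hf n hn)

theorem coe_sylUT [Fintype F] {p f : ℕ} [hp : Fact p.Prime] (hF : Fintype.card F = p ^ f)
    (hf : 1 ≤ f) (n : ℕ) (hn : 1 ≤ n) :
    ((sylUT hF hf n hn : Sylow p _) : Subgroup (Matrix.SpecialLinearGroup (Fin n) F ⧸
      Subgroup.center (Matrix.SpecialLinearGroup (Fin n) F))) = (UT n F).map prj :=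
  Sylow.coe_ofCard _ _

/-- classes of transvections are central in some Sylow subgroup -/
theorem isSylCentral_of_isTv [Fintype F] {p f : ℕ} [hp : Fact p.Prime]
    (hF : Fintype.card F = p ^ f) (hf : 1 ≤ f) (hn : 2 ≤ n)
    {g : Matrix.SpecialLinearGroup (Fin n) F} (hg : IsTv g) : IsSylCentral p (prj g) := by
  obtain ⟨a, φ, h, ha, hφ, rfl⟩ := hg
  obtain ⟨s, r, -, hs⟩ := exists_conj_tv_std (fst_ne_lst hn) h ha hφ
  have h1 : IsSylCentral p (prj (s * tv a φ h * s⁻¹)) := by
    rw [hs]
    refine ⟨sylUT hF hf n (by omega), ?_, ?_⟩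
    · rw [coe_sylUT]
      exact Subgroup.mem_map_of_mem _ (tv_single_mem_UT
        (lt_of_le_of_ne (fst_le hn _) (fst_ne_lst hn)) r)
    · intro x hx
      rw [coe_sylUT] at hx
      obtain ⟨y, hy, rfl⟩ := hx
      rw [← map_mul, ← map_mul, tv_fst_lst_central hn r hy]
  have h2 := h1.map (MulAut.conj (prj s⁻¹))
  have h3 : (MulAut.conj (prj s⁻¹)) (prj (s * tv a φ h * s⁻¹)) = prj (tv a φ h) := by
    rw [MulAut.conj_apply, ← map_inv, ← map_mul, ← map_mul]
    congr 1
    group
  rwa [h3] at h2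

/-- nontrivial central elements of Sylow subgroups are classes of transvections -/
theorem exists_isTv_of_isSylCentral [Fintype F] {p f : ℕ} [hp : Fact p.Prime]
    (hF : Fintype.card F = p ^ f) (hf : 1 ≤ f) (hn : 2 ≤ n)
    {t : Matrix.SpecialLinearGroup (Fin n) F ⧸ Subgroup.center (Matrix.SpecialLinearGroup (Fin n) F)}
    (ht : IsSylCentral p t) (ht1 : t ≠ 1) :
    ∃ g : Matrix.SpecialLinearGroup (Fin n) F, IsTv g ∧ prj g = t := by
  classical
  obtain ⟨P, htP, hc⟩ := ht
  obtain ⟨c, hcP⟩ := MulAction.exists_smul_eq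
    (Matrix.SpecialLinearGroup (Fin n) F ⧸ Subgroup.center (Matrix.SpecialLinearGroup (Fin n) F))
    (sylUT hF hf n (by omega)) P
  obtain ⟨s, rfl⟩ := prj_surjective c
  have hP : (P : Subgroup _) = MulAut.conj (prj s) • ((UT n F).map prj) := by
    rw [← hcP, Sylow.coe_subgroup_smul, coe_sylUT]
  rw [hP] at htP hc
  obtain ⟨u, hu, hut⟩ := (Subgroup.mem_smul_pointwise_iff_exists _ _ _).mp htP
  obtain ⟨x, hx, rfl⟩ := hu
  rw [MulAut.smul_def, MulAut.conj_apply] at hut
  -- `x` commutes with the unitriangular group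
  have hxc : ∀ y ∈ UT n F, y * x = x * y := by
    intro y hy
    have h1 : MulAut.conj (prj s) • (prj y) ∈ MulAut.conj (prj s) • ((UT n F).map prj) :=
      Subgroup.smul_mem_pointwise_smul _ _ _ (Subgroup.mem_map_of_mem _ hy)
    have h2 := hc _ h1
    rw [MulAut.smul_def, MulAut.conj_apply, ← hut] at h2
    have h3 : prj (y * x) = prj (x * y) := by
      have : prj s * prj y * (prj s)⁻¹ * (prj s * prj x * (prj s)⁻¹) =
          prj s * (prj y * prj x) * (prj s)⁻¹ := by group
      rw [this] at h2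
      have this' : prj s * prj x * (prj s)⁻¹ * (prj s * prj y * (prj s)⁻¹) =
          prj s * (prj x * prj y) * (prj s)⁻¹ := by group
      rw [this'] at h2
      rw [map_mul, map_mul]
      exact mul_left_cancel (mul_right_cancel h2)
    exact eq_of_prj_eq_of_mem_UT (by omega) ((UT n F).mul_mem hy hx) ((UT n F).mul_mem hx hy) h3
  have hx' := UT_central hn hx (fun i j hij => (hxc _ (tv_single_mem_UT hij 1)).symm)
  refine ⟨s * x * s⁻¹, ?_, ?_⟩
  · apply IsTv.conj
    rcases (IsTq.eq_one_or ⟨_, _, _, hx'⟩) with h1 | h1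
    · exfalso
      apply ht1
      rw [← hut, h1, map_one, mul_one, mul_inv_cancel]
    · exact h1
  · rw [← hut, map_mul, map_mul, map_inv]

end Cfsg.Agent.Helper14.AutPSL
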