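import Mathlib
import Cfsg.Agent.Helper14.AutSylow3
import Cfsg.Agent.Helper14.AutCardQ
import Cfsg.Agent.Helper14.AutStd

/-!
Helper14: the family of subgroups `PQc a`, `PQa φ` of `PSL_n(q)` is permuted by every
automorphism.
-/

set_option autoImplicit false
set_option linter.unusedSectionVars false

namespace Cfsg.Agent.Helper14.AutPSL

open Matrix
open scoped Pointwise

section general

variable {ι : Type*} [Fintype ι] [DecidableEq ι] {F : Type*} [Field F]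

/-- image of `Qc a` in `PSL` -/
abbrev PQc (a : ι → F) :
    Subgroup (Matrix.SpecialLinearGroup ι F ⧸ Subgroup.center (Matrix.SpecialLinearGroup ι F)) :=
  (Qc a).map prj

/-- image of `Qa φ` in `PSL` -/
abbrev PQa (φ : ι → F) :
    Subgroup (Matrix.SpecialLinearGroup ι F ⧸ Subgroup.center (Matrix.SpecialLinearGroup ι F)) :=
  (Qa φ).map prj

/-- the family of the `PQc a` and the `PQa φ` -/
def IsQ (X : Subgroup (Matrix.SpecialLinearGroup ι F ⧸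
    Subgroup.center (Matrix.SpecialLinearGroup ι F))) : Prop :=
  (∃ a : ι → F, a ≠ 0 ∧ X = PQc a) ∨ (∃ φ : ι → F, φ ≠ 0 ∧ X = PQa φ)

theorem isQ_PQc {a : ι → F} (ha : a ≠ 0) : IsQ (PQc a) := Or.inl ⟨a, ha, rfl⟩

theorem isQ_PQa {φ : ι → F} (hφ : φ ≠ 0) : IsQ (PQa φ) := Or.inr ⟨φ, hφ, rfl⟩

theorem IsQ.card [Nonempty ι] [Finite F] {X : Subgroup (Matrix.SpecialLinearGroup ι F ⧸
    Subgroup.center (Matrix.SpecialLinearGroup ι F))} (hX : IsQ X) :
    Nat.card X = Nat.card F ^ (Fintype.card ι - 1) := by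
  rcases hX with ⟨a, ha, rfl⟩ | ⟨φ, hφ, rfl⟩
  · exact card_map_Qc ha
  · exact card_map_Qa hφ

theorem IsQ.exists_lift {X : Subgroup (Matrix.SpecialLinearGroup ι F ⧸
    Subgroup.center (Matrix.SpecialLinearGroup ι F))} (hX : IsQ X) {x : _} (hx : x ∈ X) :
    ∃ g : Matrix.SpecialLinearGroup ι F, IsTq g ∧ prj g = x := by
  rcases hX with ⟨a, ha, rfl⟩ | ⟨φ, hφ, rfl⟩
  · obtain ⟨g, hg, rfl⟩ := hx
    exact ⟨g, isTq_of_mem_Qc hg, rfl⟩
  · obtain ⟨g, hg, rfl⟩ := hx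
    exact ⟨g, isTq_of_mem_Qa hg, rfl⟩

theorem IsQ.eq_of_le [Nonempty ι] [Finite F] {X Y : Subgroup (Matrix.SpecialLinearGroup ι F ⧸
    Subgroup.center (Matrix.SpecialLinearGroup ι F))} (hX : IsQ X) (hY : IsQ Y) (h : X ≤ Y) :
    X = Y := by
  have : Finite (Matrix.SpecialLinearGroup ι F) := by
    have : Finite (Matrix ι ι F) := inferInstance
    exact Subtype.finite
  exact Subgroup.eq_of_le_of_card_ge h (by rw [hX.card, hY.card])

theorem card_map_equiv {G : Type*} [Group G] (X : Subgroup G) (e : G ≃* G) :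
    Nat.card (X.map e.toMonoidHom) = Nat.card X :=
  Subgroup.card_map_of_injective e.injective

theorem IsQ.map_eq_of_le [Nonempty ι] [Finite F] {X Y : Subgroup (Matrix.SpecialLinearGroup ι F ⧸
    Subgroup.center (Matrix.SpecialLinearGroup ι F))} (hX : IsQ X) (hY : IsQ Y)
    (e : (Matrix.SpecialLinearGroup ι F ⧸ Subgroup.center (Matrix.SpecialLinearGroup ι F)) ≃*
      (Matrix.SpecialLinearGroup ι F ⧸ Subgroup.center (Matrix.SpecialLinearGroup ι F)))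
    (h : X.map e.toMonoidHom ≤ Y) : X.map e.toMonoidHom = Y := by
  have : Finite (Matrix.SpecialLinearGroup ι F) := by
    have : Finite (Matrix ι ι F) := inferInstance
    exact Subtype.finite
  exact Subgroup.eq_of_le_of_card_ge h (by rw [card_map_equiv, hX.card, hY.card])

/-- the lift of an element of `PQc a` of the form `1 + b ψᵀ` lies in `Qc a` -/
theorem mem_Qc_of_prj_mem [Nonempty ι] {a : ι → F} {g : Matrix.SpecialLinearGroup ι F}
    (hg : IsTq g) (h : prj g ∈ PQc a) : g ∈ Qc a := by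
  obtain ⟨g', hg', he⟩ := h
  rw [hg.eq_of_mk_eq (isTq_of_mem_Qc hg') he.symm]
  exact hg'

theorem mem_Qa_of_prj_mem [Nonempty ι] {φ : ι → F} {g : Matrix.SpecialLinearGroup ι F}
    (hg : IsTq g) (h : prj g ∈ PQa φ) : g ∈ Qa φ := by
  obtain ⟨g', hg', he⟩ := h
  rw [hg.eq_of_mk_eq (isTq_of_mem_Qa hg') he.symm]
  exact hg'

/-- images under the standard automorphisms -/
theorem map_pslOf_PQc_le (e : MulAut (Matrix.SpecialLinearGroup ι F)) {a b : ι → F}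
    (h : ∀ g ∈ Qc a, e g ∈ Qc b) : (PQc a).map (pslOf e).toMonoidHom ≤ PQc b := by
  rintro _ ⟨_, ⟨g, hg, rfl⟩, rfl⟩
  exact ⟨e g, h g hg, rfl⟩

theorem mulVec_ne_zero_of_gl (g : GL ι F) {a : ι → F} (ha : a ≠ 0) :
    (g : Matrix ι ι F) *ᵥ a ≠ 0 := by
  intro h
  apply ha
  have := congrArg (fun v => ((g⁻¹ : GL ι F) : Matrix ι ι F) *ᵥ v) h
  simpa [mulVec_mulVec, gl_inv_mul] using this

theorem vecMul_ne_zero_of_gl (g : GL ι F) {φ : ι → F} (hφ : φ ≠ 0) :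
    φ ᵥ* ((g⁻¹ : GL ι F) : Matrix ι ι F) ≠ 0 := by
  intro h
  apply hφ
  have := congrArg (fun v => v ᵥ* (g : Matrix ι ι F)) h
  simpa [vecMul_vecMul, gl_inv_mul] using this

theorem map_slConj_PQc [Nonempty ι] [Finite F] (g : GL ι F) {a : ι → F} (ha : a ≠ 0) :
    (PQc a).map (pslOf (slConj g)).toMonoidHom = PQc ((g : Matrix ι ι F) *ᵥ a) := by
  apply (isQ_PQc ha).map_eq_of_le (isQ_PQc (mulVec_ne_zero_of_gl g ha))
  apply map_pslOf_PQc_le
  rintro _ ⟨φ, h, rfl⟩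
  show slConj g (tv a φ h) ∈ _
  rw [slConj_tv]
  exact tv_mem_Qc _ _ _

theorem map_slConj_PQa [Nonempty ι] [Finite F] (g : GL ι F) {φ : ι → F} (hφ : φ ≠ 0) :
    (PQa φ).map (pslOf (slConj g)).toMonoidHom = PQa (φ ᵥ* ((g⁻¹ : GL ι F) : Matrix ι ι F)) := by
  apply (isQ_PQa hφ).map_eq_of_le (isQ_PQa (vecMul_ne_zero_of_gl g hφ))
  rintro _ ⟨_, ⟨_, ⟨a, h, rfl⟩, rfl⟩, rfl⟩
  refine ⟨slConj g (tv a φ h), ?_, rfl⟩
  rw [slConj_tv]
  exact tv_mem_Qa _ _ _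

theorem map_slInvT_PQc [Nonempty ι] [Finite F] {a : ι → F} (ha : a ≠ 0) :
    (PQc a).map (pslOf slInvT).toMonoidHom = PQa a := by
  apply (isQ_PQc ha).map_eq_of_le (isQ_PQa ha)
  rintro _ ⟨_, ⟨_, ⟨φ, h, rfl⟩, rfl⟩, rfl⟩
  refine ⟨slInvT (tv a φ h), ?_, rfl⟩
  rw [slInvT_tv]
  have : tv φ (-a) (by rw [neg_dotProduct, dotProduct_comm, h, neg_zero]) =
      tv (-φ) a (by rw [dotProduct_neg, dotProduct_comm, h, neg_zero]) := by
    apply tv_eq_of_vecMulVec_eq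
    rw [vecMulVec_neg, neg_vecMulVec]
  rw [this]
  exact tv_mem_Qa _ _ _

theorem map_slInvT_PQa [Nonempty ι] [Finite F] {φ : ι → F} (hφ : φ ≠ 0) :
    (PQa φ).map (pslOf slInvT).toMonoidHom = PQc φ := by
  apply (isQ_PQa hφ).map_eq_of_le (isQ_PQc hφ)
  rintro _ ⟨_, ⟨_, ⟨a, h, rfl⟩, rfl⟩, rfl⟩
  refine ⟨slInvT (tv a φ h), ?_, rfl⟩
  rw [slInvT_tv]
  exact tv_mem_Qc _ _ _

theorem map_slField_PQc [Nonempty ι] [Finite F] (σ : F ≃+* F) {a : ι → F} (ha : a ≠ 0) :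
    (PQc a).map (pslOf (slField σ)).toMonoidHom = PQc (fun i => σ (a i)) := by
  have ha' : (fun i => σ (a i)) ≠ 0 := by
    intro h
    apply ha
    ext i
    have := congrFun h i
    simpa using this
  apply (isQ_PQc ha).map_eq_of_le (isQ_PQc ha')
  rintro _ ⟨_, ⟨_, ⟨φ, h, rfl⟩, rfl⟩, rfl⟩
  refine ⟨slField σ (tv a φ h), ?_, rfl⟩
  rw [slField_tv]
  exact tv_mem_Qc _ _ _

theorem map_slField_PQa [Nonempty ι] [Finite F] (σ : F ≃+* F) {φ : ι → F} (hφ : φ ≠ 0) :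
    (PQa φ).map (pslOf (slField σ)).toMonoidHom = PQa (fun i => σ (φ i)) := by
  have hφ' : (fun i => σ (φ i)) ≠ 0 := by
    intro h
    apply hφ
    ext i
    have := congrFun h i
    simpa using this
  apply (isQ_PQa hφ).map_eq_of_le (isQ_PQa hφ')
  rintro _ ⟨_, ⟨_, ⟨a, h, rfl⟩, rfl⟩, rfl⟩
  refine ⟨slField σ (tv a φ h), ?_, rfl⟩
  rw [slField_tv]
  exact tv_mem_Qa _ _ _

end general

end Cfsg.Agent.Helper14.AutPSL
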