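import Mathlib
import Cfsg.Agent.Helper5.SLn
import Cfsg.Agent.Helper14.AutFamily

/-!
Helper14: `SL` is generated by `Qc e₀` and `Qa e₀`; pairs of members of the family which do
not generate.
-/

set_option autoImplicit false
set_option linter.unusedSectionVars false

namespace Cfsg.Agent.Helper14.AutPSL

open Matrix
open scoped commutatorElement

variable {ι : Type*} [Fintype ι] [DecidableEq ι] {F : Type*} [Field F]

theorem single_dot_smul_single' {i j : ι} (hij : i ≠ j) (r : F) :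
    (Pi.single j (1 : F) : ι → F) ⬝ᵥ (r • Pi.single i 1) = 0 := by
  rw [dotProduct_smul, single_dotProduct, one_mul, Pi.single_eq_of_ne (Ne.symm hij), smul_zero]

/-- the elementary transvections in terms of `tv` -/
theorem transvection_eq_tv {i j : ι} (hij : i ≠ j) (c : F) :
    Matrix.SpecialLinearGroup.transvection hij c =
      tv (c • Pi.single i 1) (Pi.single j 1) (single_dot_smul_single' hij c) := by
  apply Subtype.ext
  rw [Matrix.SpecialLinearGroup.transvection_coe, tv_coe]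
  show (1 + Matrix.single i j c : Matrix ι ι F) = _
  congr 1
  ext k l
  rw [Matrix.single_apply, vecMulVec_apply, Pi.smul_apply, Pi.single_apply, Pi.single_apply,
    smul_eq_mul]
  by_cases hk : i = k
  · by_cases hl : j = l
    · rw [if_pos ⟨hk, hl⟩, if_pos hk.symm, if_pos hl.symm, mul_one, mul_one]
    · rw [if_neg (fun h => hl h.2), if_neg (Ne.symm hl), mul_zero]
  · rw [if_neg (fun h => hk h.1), if_neg (Ne.symm hk), mul_zero, zero_mul]

/-- `SL` is generated by the transvections with centre `e₀` and those with axis `e₀` -/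
theorem Qc_sup_Qa_eq_top [Nontrivial ι] (i0 : ι) :
    Qc (Pi.single i0 (1 : F)) ⊔ Qa (Pi.single i0 (1 : F)) = ⊤ := by
  rw [eq_top_iff]
  intro M _
  have hrow : ∀ (j : ι) (hj : i0 ≠ j) (a : F), Matrix.SpecialLinearGroup.transvection hj a ∈
      Qc (Pi.single i0 (1 : F)) ⊔ Qa (Pi.single i0 (1 : F)) := by
    intro j hj a
    apply Subgroup.mem_sup_left
    rw [transvection_eq_tv]
    exact tv_smul_mem_Qc a _ _ _
  have hcol : ∀ (i : ι) (hi : i ≠ i0) (a : F), Matrix.SpecialLinearGroup.transvection hi a ∈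
      Qc (Pi.single i0 (1 : F)) ⊔ Qa (Pi.single i0 (1 : F)) := by
    intro i hi a
    apply Subgroup.mem_sup_right
    rw [transvection_eq_tv]
    exact tv_mem_Qa _ _ _
  refine Cfsg.Agent.Helper5.transvection_induction
    (fun M => M ∈ Qc (Pi.single i0 (1 : F)) ⊔ Qa (Pi.single i0 (1 : F))) ?_ ?_ M
  · intro i j hij a
    by_cases hi : i = i0
    · subst hi
      exact hrow j hij a
    by_cases hj : j = i0
    · subst hj
      exact hcol i hij a
    · have h1 := Cfsg.Agent.Helper5.commutator_transvection (F := F) hij hi (Ne.symm hj) a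
      show Matrix.SpecialLinearGroup.transvection hij a ∈ _
      rw [← h1, commutatorElement_def]
      exact mul_mem (mul_mem (mul_mem (hcol i hi a) (hrow j (Ne.symm hj) 1))
        (inv_mem (hcol i hi a))) (inv_mem (hrow j (Ne.symm hj) 1))
  · intro A B hA hB
    exact mul_mem hA hB

theorem PQc_sup_PQa_eq_top [Nontrivial ι] (i0 : ι) :
    PQc (Pi.single i0 (1 : F)) ⊔ PQa (Pi.single i0 (1 : F)) = ⊤ := by
  rw [← Subgroup.map_sup, Qc_sup_Qa_eq_top, ← MonoidHom.range_eq_map,
    MonoidHom.range_eq_top]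
  exact prj_surjective

/-- the stabiliser of a subspace -/
def stabL (L : Submodule F (ι → F)) : Subgroup (Matrix.SpecialLinearGroup ι F) where
  carrier := {s | ∀ v : ι → F, v ∈ L ↔ s.1 *ᵥ v ∈ L}
  mul_mem' := by
    intro s t hs ht v
    rw [Matrix.SpecialLinearGroup.coe_mul, ← mulVec_mulVec, ← hs, ← ht]
  one_mem' := by
    intro v
    rw [Matrix.SpecialLinearGroup.coe_one, one_mulVec]
  inv_mem' := by
    intro s hs v
    rw [hs ((s⁻¹).1 *ᵥ v), mulVec_mulVec, ← Matrix.SpecialLinearGroup.coe_mul, mul_inv_cancel,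
      Matrix.SpecialLinearGroup.coe_one, one_mulVec]

theorem center_le_stabL (L : Submodule F (ι → F)) :
    Subgroup.center (Matrix.SpecialLinearGroup ι F) ≤ stabL L := by
  intro z hz v
  obtain ⟨r, hr, hrz⟩ := Matrix.SpecialLinearGroup.mem_center_iff.mp hz
  rcases isEmpty_or_nonempty ι with he | hne
  · have : v = 0 := Subsingleton.elim _ _
    rw [this, mulVec_zero]
  have hr0 : r ≠ 0 := by
    rintro rfl
    rw [zero_pow Fintype.card_ne_zero] at hr
    exact zero_ne_one hr
  rw [← hrz, scalar_apply, ← smul_one_eq_diagonal, smul_mulVec, one_mulVec]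
  constructor
  · intro h; exact L.smul_mem r h
  · intro h
    have := L.smul_mem r⁻¹ h
    rwa [smul_smul, inv_mul_cancel₀ hr0, one_smul] at this

theorem Qc_le_stabL {L : Submodule F (ι → F)} {a : ι → F} (ha : a ∈ L) : Qc a ≤ stabL L := by
  rintro _ ⟨φ, h, rfl⟩ v
  rw [tv_mulVec]
  constructor
  · intro hv; exact L.add_mem hv (L.smul_mem _ ha)
  · intro hv
    have := L.sub_mem hv (L.smul_mem (φ ⬝ᵥ v) ha)
    rwa [add_sub_cancel_right] at this

/-- a proper nonzero subspace is not stabilised by all of `SL` -/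
theorem exists_not_mem_stabL {L : Submodule F (ι → F)} {a c : ι → F} (ha : a ∈ L) (ha0 : a ≠ 0)
    (hc : c ∉ L) : ∃ s : Matrix.SpecialLinearGroup ι F, s ∉ stabL L := by
  have hac : ∀ k : F, a ≠ k • c := by
    intro k hk
    by_cases hk0 : k = 0
    · rw [hk0, zero_smul] at hk; exact ha0 hk
    · apply hc
      have := L.smul_mem k⁻¹ ha
      rwa [hk, smul_smul, inv_mul_cancel₀ hk0, one_smul] at this
  obtain ⟨χ, hχ1, hχ0⟩ := exists_dot_pair hac
  refine ⟨tv c χ hχ0, fun hs => ?_⟩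
  have h1 := (hs a).mp ha
  rw [tv_mulVec, hχ1, one_smul] at h1
  apply hc
  have := L.sub_mem h1 ha
  rwa [add_sub_cancel_left] at this

theorem not_top_of_le_stabL {L : Submodule F (ι → F)} {a c : ι → F} (ha : a ∈ L) (ha0 : a ≠ 0)
    (hc : c ∉ L) {H : Subgroup (Matrix.SpecialLinearGroup ι F)} (hH : H ≤ stabL L) :
    H.map prj ≠ ⊤ := by
  intro htop
  obtain ⟨s, hs⟩ := exists_not_mem_stabL ha ha0 hc
  apply hs
  have h1 : prj s ∈ H.map prj := by rw [htop]; trivial
  obtain ⟨h, hh, he⟩ := h1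
  have h2 : h⁻¹ * s ∈ Subgroup.center (Matrix.SpecialLinearGroup ι F) := QuotientGroup.eq.mp he
  have h3 : s = h * (h⁻¹ * s) := by group
  rw [h3]
  exact (stabL L).mul_mem (hH hh) (center_le_stabL L h2)

/-- two groups `PQc` do not generate in dimension at least three -/
theorem PQc_sup_PQc_ne_top (h3 : 3 ≤ Fintype.card ι) {a : ι → F} (ha : a ≠ 0) (b : ι → F) :
    PQc a ⊔ PQc b ≠ ⊤ := by
  classical
  rw [← Subgroup.map_sup]
  set L : Submodule F (ι → F) := Submodule.span F (({a, b} : Finset (ι → F)) : Set (ι → F)) with hL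
  have haL : a ∈ L := Submodule.subset_span (by simp)
  have hbL : b ∈ L := Submodule.subset_span (by simp)
  have hne : L ≠ ⊤ := by
    intro htop
    have h1 := finrank_span_finset_le_card (R := F) ({a, b} : Finset (ι → F))
    unfold Set.finrank at h1
    rw [← hL, htop, finrank_top, Module.finrank_fintype_fun_eq_card] at h1
    have h2 : ({a, b} : Finset (ι → F)).card ≤ 2 := Finset.card_le_two
    omega
  obtain ⟨c, hc⟩ : ∃ c : ι → F, c ∉ L := by
    by_contra hcon
    push Not at hcon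
    exact hne (eq_top_iff.mpr fun x _ => hcon x)
  exact not_top_of_le_stabL haL ha hc (sup_le (Qc_le_stabL haL) (Qc_le_stabL hbL))

theorem Qa_le_stabL_ker {ψ : ι → F} : Qa ψ ≤ stabL (LinearMap.ker (dotL ψ)) := by
  rintro _ ⟨b, h, rfl⟩ v
  rw [tv_mulVec, LinearMap.mem_ker, LinearMap.mem_ker, dotL_apply, dotL_apply, add_dotProduct,
    smul_dotProduct, dotProduct_comm b ψ, h, smul_zero, add_zero]

/-- `PQc a` and `PQa ψ` with `a` on the axis do not generate -/
theorem PQc_sup_PQa_ne_top {a ψ : ι → F} (ha : a ≠ 0) (hψ : ψ ≠ 0) (h : ψ ⬝ᵥ a = 0) :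
    PQc a ⊔ PQa ψ ≠ ⊤ := by
  rw [← Subgroup.map_sup]
  have haL : a ∈ LinearMap.ker (dotL ψ) := by
    rw [LinearMap.mem_ker, dotL_apply, dotProduct_comm]; exact h
  obtain ⟨j, hj⟩ := Function.ne_iff.mp hψ
  rw [Pi.zero_apply] at hj
  have hc : (Pi.single j 1 : ι → F) ∉ LinearMap.ker (dotL ψ) := by
    rw [LinearMap.mem_ker, dotL_apply, single_dotProduct, one_mul]
    exact hj
  exact not_top_of_le_stabL haL ha hc (sup_le (Qc_le_stabL haL) Qa_le_stabL_ker)

/-- in dimension two centres and axes are the same thing -/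
theorem exists_PQc_eq_PQa [Finite F] (h2 : Fintype.card ι = 2) {b : ι → F} (hb : b ≠ 0) :
    ∃ ψ : ι → F, ψ ≠ 0 ∧ ψ ⬝ᵥ b = 0 ∧ PQc b = PQa ψ := by
  have hne : Nonempty ι := by rw [← Fintype.card_pos_iff]; omega
  obtain ⟨ψ, hψ0, hψ⟩ := exists_ker (F := F) (by omega : 2 ≤ Fintype.card ι) b
  rw [dotProduct_comm] at hψ
  refine ⟨ψ, hψ0, hψ, ?_⟩
  apply (isQ_PQc hb).eq_of_le (isQ_PQa hψ0)
  apply Subgroup.map_mono
  rintro _ ⟨φ, h, rfl⟩
  -- `φ` is a multiple of `ψ`
  have hfr := finrank_ker_dotL hb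
  rw [h2] at hfr
  have hψm : (⟨ψ, mem_ker_dotL.mpr hψ⟩ : LinearMap.ker (dotL b)) ≠ 0 := by
    intro h0
    exact hψ0 (congrArg Subtype.val h0)
  obtain ⟨c, hc⟩ := (finrank_eq_one_iff_of_nonzero' _ hψm).mp hfr ⟨φ, mem_ker_dotL.mpr h⟩
  have hc' : c • ψ = φ := congrArg Subtype.val hc
  have h' : (c • ψ) ⬝ᵥ b = 0 := hc' ▸ h
  rw [tv_congr h rfl hc'.symm]
  exact tv_smul_mem_Qa c b ψ h'

end Cfsg.Agent.Helper14.AutPSL
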