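import Mathlib
import Cfsg.Agent.Helper96.StC.Generic
import Cfsg.Agent.Helper96.StC.Basic
import Cfsg.Agent.Helper29.StCA1
import Cfsg.Agent.Helper86.StCA3

/-!
# Piece (A4) of #7222 (helper96, S2092): the rank one relations for long and short roots (type C)

`long_pair_rel'`, `short_pair_rel'` take the conjugation formulas (A1), (A2), (A3) of #7155, #7156,
#7157 as explicit hypotheses; `long_pair_rel`, `short_pair_rel` are the requested statements, using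
the landed (A1) of helper29 and (A2), (A3) of helper86.
-/

set_option autoImplicit false
set_option linter.unusedSectionVars false
set_option linter.unusedVariables false

namespace Cfsg.Agent.Helper14.StCA4

open Cfsg.Agent.Helper96.StN Cfsg.Agent.Helper96.StC Cfsg.Agent.Helper96

universe u v w

variable {K : Type u} [Field K] {D : Type v} [Group D] {ι : Type w} [DecidableEq ι]
  {X : ι ⊕ ι → ι ⊕ ι → K → D}

/-- the statement of (A1) -/
def HypA1 (X : ι ⊕ ι → ι ⊕ ι → K → D) : Prop :=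
  ∀ (p l : ι ⊕ ι), l ≠ p → l ≠ bar p → ∀ t : K, t ≠ 0 → ∀ u : K,
    W X p (bar p) t * X (bar p) l u * (W X p (bar p) t)⁻¹ = X p l (t * u)

/-- the statement of (A2) -/
def HypA2 (X : ι ⊕ ι → ι ⊕ ι → K → D) : Prop :=
  ∀ (p q : ι ⊕ ι), p ≠ q → q ≠ bar p → ∀ t : K, t ≠ 0 → ∀ u : K,
    W X p q t * X p (bar p) u * (W X p q t)⁻¹ = X q (bar q) (eps K p q * t⁻¹ ^ 2 * u)

/-- the statement of (A3) -/
def HypA3 (X : ι ⊕ ι → ι ⊕ ι → K → D) : Prop :=
  ∀ (p q : ι ⊕ ι), p ≠ q → q ≠ bar p → ∀ t : K, t ≠ 0 → ∀ u : K,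
    W X p q t * X p (bar q) u * (W X p q t)⁻¹ = X q (bar p) (-(eps K p q * u))

theorem ne_bar_symm {p q : ι ⊕ ι} (h : q ≠ bar p) : p ≠ bar q := fun e => h (by rw [e, bar_bar])

theorem bar_ne_bar {p q : ι ⊕ ι} (h : p ≠ q) : bar p ≠ bar q := fun e => h (bar_injective e)

theorem bar_ne_of {p q : ι ⊕ ι} (h : q ≠ bar p) : bar q ≠ p := fun e => h (by rw [← e, bar_bar])

/-! ## Long roots -/

section long

variable (hX : SpRel X) (A1 : HypA1 X)

include hX A1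

/-- (A1'): `w_{p p̄}(t) x_{p l}(v) w⁻¹ = x_{p̄ l}(-(t⁻¹ v))` -/
theorem W_long_conj_p {p l : ι ⊕ ι} (hlp : l ≠ p) (hlp' : l ≠ bar p) {t : K} (ht : t ≠ 0)
    (v : K) :
    W X p (bar p) t * X p l v * (W X p (bar p) t)⁻¹ = X (bar p) l (-(t⁻¹ * v)) := by
  have hpp : p ≠ bar p := (bar_ne p).symm
  have h := A1 p l hlp hlp' (-t) (neg_ne_zero.mpr ht) (-(t⁻¹ * v))
  rw [← W_inv hX hpp, inv_inv] at h
  have e : -t * -(t⁻¹ * v) = v := by field_simp
  rw [e] at h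
  rw [← h]
  group

/-- `w_{p p̄}(t) x_{l p̄}(v) w⁻¹ = x_{l p}(t⁻¹ v)` -/
theorem W_long_conj_lbar {p l : ι ⊕ ι} (hlp : l ≠ p) (hlp' : l ≠ bar p) {t : K} (ht : t ≠ 0)
    (v : K) :
    W X p (bar p) t * X l (bar p) v * (W X p (bar p) t)⁻¹ = X l p (t⁻¹ * v) := by
  have h1 : X l (bar p) v = X p (bar l) (eps K l p * v) := by
    rw [hX.sym l (bar p) hlp' (fun e => hlp (bar_injective e).symm) v, bar_bar, eps_bar_right]
    congr 1
    ring
  have hbl : bar l ≠ p := bar_ne_of hlp'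
  have hbl' : bar l ≠ bar p := bar_ne_bar hlp
  rw [h1, W_long_conj_p hX A1 hbl hbl' ht, sym' hX hlp (ne_bar_symm hlp')]
  · congr 1
    have := eps_mul_self (K := K) l p
    calc -(eps K l p * -(t⁻¹ * (eps K l p * v))) = (eps K l p * eps K l p) * (t⁻¹ * v) := by ring
      _ = t⁻¹ * v := by rw [this, one_mul]

/-- `w_{p p̄}(t)` commutes with `x_{r r̄}(a)` for `r ≠ p, p̄` -/
theorem W_long_conj_fix {p r : ι ⊕ ι} (hrp : r ≠ p) (hrp' : r ≠ bar p) (t a : K) :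
    W X p (bar p) t * X r (bar r) a * (W X p (bar p) t)⁻¹ = X r (bar r) a := by
  have hpp : p ≠ bar p := (bar_ne p).symm
  have hrr : r ≠ bar r := (bar_ne r).symm
  have c1 : ∀ s : K, X p (bar p) s * X r (bar r) a * (X p (bar p) s)⁻¹ = X r (bar r) a := by
    intro s
    refine comm_conj hX hpp hrr hrp'.symm ?_ (ne_bar_symm hrp') ?_ s a
    · rw [bar_bar]; exact hrp'.symm
    · exact ne_bar_symm hrp'
  have c2 : ∀ s : K, X (bar p) p s * X r (bar r) a * (X (bar p) p s)⁻¹ = X r (bar r) a := by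
    intro s
    refine comm_conj hX hpp.symm hrr hrp.symm ?_ ?_ ?_ s a
    · rw [bar_bar]; exact hrp.symm
    · exact bar_ne_bar hrp.symm
    · exact bar_ne_bar hrp.symm
  have e : W X p (bar p) t * X r (bar r) a * (W X p (bar p) t)⁻¹ =
      X p (bar p) t * (X (bar p) p (-t⁻¹) * (X p (bar p) t * X r (bar r) a * (X p (bar p) t)⁻¹) *
        (X (bar p) p (-t⁻¹))⁻¹) * (X p (bar p) t)⁻¹ := by
    unfold W; group
  rw [e, c1, c2, c1]

/-- same long root: `w_{p p̄}(t) x_{p p̄}(u) w⁻¹ = x_{p̄ p}(-(t⁻² u))` (needs a third index) -/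
theorem W_long_conj_self {p r : ι ⊕ ι} (hrp : r ≠ p) (hrp' : r ≠ bar p) {t : K} (ht : t ≠ 0)
    (u : K) :
    W X p (bar p) t * X p (bar p) u * (W X p (bar p) t)⁻¹ = X (bar p) p (-(t⁻¹ ^ 2 * u)) := by
  have hpp : p ≠ bar p := (bar_ne p).symm
  have hbr : bar r ≠ p := bar_ne_of hrp'
  have hbr' : bar r ≠ bar p := bar_ne_bar hrp
  set a : K := eps K r (bar p) * u with ha
  -- the relation (R6) for `(r, p̄)`
  have h6 := hX.r6 r (bar p) hrp' (by rw [bar_bar]; exact hrp) a 1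
  rw [bar_bar, mul_one, one_pow, mul_one] at h6
  have hau : eps K r (bar p) * a = u := by
    rw [ha, ← mul_assoc, eps_mul_self, one_mul]
  rw [hau] at h6
  have hu : X p (bar p) u = (X r (bar p) a)⁻¹ *
      (X r (bar r) a * X (bar r) (bar p) 1 * (X r (bar r) a)⁻¹ * (X (bar r) (bar p) 1)⁻¹) := by
    rw [h6]; group
  rw [hu]
  have e : ∀ (w g A B : D), w * (g⁻¹ * (A * B * A⁻¹ * B⁻¹)) * w⁻¹ =
      (w * g * w⁻¹)⁻¹ * ((w * A * w⁻¹) * (w * B * w⁻¹) * (w * A * w⁻¹)⁻¹ * (w * B * w⁻¹)⁻¹) := by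
    intro w g A B; group
  rw [e, W_long_conj_lbar hX A1 hrp hrp' ht, W_long_conj_fix hX A1 hrp hrp',
    W_long_conj_lbar hX A1 hbr hbr' ht, mul_one]
  -- the relation (R6) for `(r, p)`
  have h6' := hX.r6 r p hrp hrp' a t⁻¹
  rw [h6', mul_comm t⁻¹ a, ← mul_assoc, inv_mul_cancel, one_mul]
  congr 1
  have h1 := eps_mul_self (K := K) r p
  rw [ha, eps_bar_right]
  calc eps K r p * (-eps K r p * u) * t⁻¹ ^ 2 = -((eps K r p * eps K r p) * (t⁻¹ ^ 2 * u)) := by ring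
    _ = -(t⁻¹ ^ 2 * u) := by rw [h1, one_mul]

omit A1 in
/-- the additivity part of the rank one relations -/
theorem pair_add {p q : ι ⊕ ι} (hpq : p ≠ q) (b : Bool) (t u : K) :
    pair X p q b (t + u) = pair X p q b t * pair X p q b u := by
  cases b
  · exact hX.add q p hpq.symm t u
  · exact hX.add p q hpq t u

/-- (A4), long roots, with (A1) as a hypothesis -/
theorem long_pair_rel' (h2 : ∀ p : ι ⊕ ι, ∃ r, r ≠ p ∧ r ≠ bar p) (p : ι ⊕ ι) :
    StPres.Rel (pair X p (bar p)) where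
  add b t u := pair_add hX (bar_ne p).symm b t u
  conj b t u ht := by
    cases b
    · obtain ⟨r, hr1, hr2⟩ := h2 (bar p)
      rw [Wd_pair_false]
      have h := W_long_conj_self hX A1 hr1 hr2 ht u
      rw [bar_bar] at h
      exact h
    · obtain ⟨r, hr1, hr2⟩ := h2 p
      rw [Wd_pair_true]
      exact W_long_conj_self hX A1 hr1 hr2 ht u

end long

/-! ## Short roots -/

theorem eps_neg_neg (p q : ι ⊕ ι) (t : K) : -(eps K p q * -(eps K p q * t)) = t := by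
  have h := eps_mul_self (K := K) p q
  calc -(eps K p q * -(eps K p q * t)) = (eps K p q * eps K p q) * t := by ring
    _ = t := by rw [h, one_mul]

section short

variable (hX : SpRel X) (A2 : HypA2 X) (A3 : HypA3 X)

include hX

/-- `w_{pq}(t)` written as `w_{q̄ p̄}` -/
theorem W_eq_bar {p q : ι ⊕ ι} (hpq : p ≠ q) (hpq' : q ≠ bar p) {t : K} (ht : t ≠ 0) :
    W X (bar q) (bar p) (-(eps K p q * t)) = W X p q t := by
  rw [W_bar hX hpq hpq' (neg_ne_zero.mpr (mul_ne_zero (eps_ne_zero p q) ht)), eps_neg_neg]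

include A2 in
/-- `w_{pq}(t) x_{q̄ q}(v) w⁻¹ = x_{p̄ p}(e t⁻² v)` -/
theorem W_short_conj_long_bar {p q : ι ⊕ ι} (hpq : p ≠ q) (hpq' : q ≠ bar p) {t : K} (ht : t ≠ 0)
    (v : K) :
    W X p q t * X (bar q) q v * (W X p q t)⁻¹ = X (bar p) p (eps K p q * t⁻¹ ^ 2 * v) := by
  have h := A2 (bar q) (bar p) (bar_ne_bar hpq.symm) (by rw [bar_bar]; exact hpq'.symm)
    (-(eps K p q * t)) (neg_ne_zero.mpr (mul_ne_zero (eps_ne_zero p q) ht)) v
  rw [bar_bar, bar_bar, W_eq_bar hX hpq hpq' ht, eps_bar_bar, eps_comm q p] at h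
  rw [h]
  congr 1
  have h1 := eps_mul_self (K := K) p q
  have h2 : (-(eps K p q * t))⁻¹ ^ 2 = t⁻¹ ^ 2 := by
    rw [inv_pow, inv_pow, neg_sq, mul_pow, pow_two (eps K p q), h1, one_mul]
  rw [h2]

include A3 in
/-- `w_{pq}(t) x_{q̄ p}(v) w⁻¹ = x_{p̄ q}(-(e v))` -/
theorem W_short_conj_orth_bar {p q : ι ⊕ ι} (hpq : p ≠ q) (hpq' : q ≠ bar p) {t : K} (ht : t ≠ 0)
    (v : K) :
    W X p q t * X (bar q) p v * (W X p q t)⁻¹ = X (bar p) q (-(eps K p q * v)) := by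
  have h := A3 (bar q) (bar p) (bar_ne_bar hpq.symm) (by rw [bar_bar]; exact hpq'.symm)
    (-(eps K p q * t)) (neg_ne_zero.mpr (mul_ne_zero (eps_ne_zero p q) ht)) v
  rw [bar_bar, bar_bar, W_eq_bar hX hpq hpq' ht, eps_bar_bar, eps_comm q p] at h
  exact h

/-- the same root: `x_{p̄ q}(v) = x_{q̄ p}(e v)` -/
theorem X_bar_left {p q : ι ⊕ ι} (hpq : p ≠ q) (hpq' : q ≠ bar p) (v : K) :
    X (bar p) q v = X (bar q) p (eps K p q * v) := by
  rw [hX.sym (bar p) q hpq'.symm (by rw [bar_bar]; exact hpq.symm) v, bar_bar,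
    eps_bar_left]
  congr 1
  ring

include A3 in
/-- `w_{pq}(t) x_{p̄ q}(v) w⁻¹ = x_{q̄ p}(-(e v))` -/
theorem W_short_conj_orth_bar' {p q : ι ⊕ ι} (hpq : p ≠ q) (hpq' : q ≠ bar p) {t : K} (ht : t ≠ 0)
    (v : K) :
    W X p q t * X (bar p) q v * (W X p q t)⁻¹ = X (bar q) p (-(eps K p q * v)) := by
  rw [X_bar_left hX hpq hpq' v, W_short_conj_orth_bar hX A3 hpq hpq' ht,
    X_bar_left hX hpq hpq']
  congr 1
  have h1 := eps_mul_self (K := K) p q
  calc eps K p q * -(eps K p q * (eps K p q * v)) = -((eps K p q * eps K p q) * (eps K p q * v)) := by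
        ring
    _ = -(eps K p q * v) := by rw [h1, one_mul]

include A2 A3 in
/-- same short root: `w_{pq}(t) x_{pq}(u) w⁻¹ = x_{qp}(-(t⁻² u))` -/
theorem W_short_conj_self {p q : ι ⊕ ι} (hpq : p ≠ q) (hpq' : q ≠ bar p) {t : K} (ht : t ≠ 0)
    (u : K) :
    W X p q t * X p q u * (W X p q t)⁻¹ = X q p (-(t⁻¹ ^ 2 * u)) := by
  have h6 := hX.r6 p q hpq (ne_bar_symm hpq') u 1
  rw [mul_one, one_pow, mul_one] at h6
  have hu : X p q u = (X p (bar p) u * X (bar p) q 1 * (X p (bar p) u)⁻¹ * (X (bar p) q 1)⁻¹) *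
      (X (bar q) q (eps K p q * u))⁻¹ := by
    rw [h6]; group
  rw [hu]
  have e : ∀ (w g A B : D), w * ((A * B * A⁻¹ * B⁻¹) * g⁻¹) * w⁻¹ =
      ((w * A * w⁻¹) * (w * B * w⁻¹) * (w * A * w⁻¹)⁻¹ * (w * B * w⁻¹)⁻¹) * (w * g * w⁻¹)⁻¹ := by
    intro w g A B; group
  rw [e, A2 p q hpq hpq' t ht, W_short_conj_orth_bar' hX A3 hpq hpq' ht,
    W_short_conj_long_bar hX A2 hpq hpq' ht, mul_one]
  have h6' := hX.r6 q p hpq.symm hpq' (eps K p q * t⁻¹ ^ 2 * u) (-eps K p q)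
  rw [h6']
  have h1 := eps_mul_self (K := K) p q
  have e1 : eps K q p * (eps K p q * t⁻¹ ^ 2 * u) * (-eps K p q) ^ 2 =
      eps K p q * t⁻¹ ^ 2 * (eps K p q * u) := by
    rw [eps_comm q p, neg_sq, pow_two (eps K p q), h1, mul_one]
    ring
  rw [e1, mul_inv_cancel_right]
  congr 1
  calc eps K p q * t⁻¹ ^ 2 * u * -eps K p q = -((eps K p q * eps K p q) * (t⁻¹ ^ 2 * u)) := by ring
    _ = -(t⁻¹ ^ 2 * u) := by rw [h1, one_mul]

include A2 A3 in
/-- (A4), short roots, with (A2), (A3) as hypotheses -/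
theorem short_pair_rel' {p q : ι ⊕ ι} (hpq : p ≠ q) (hpq' : q ≠ bar p) :
    StPres.Rel (pair X p q) where
  add b t u := pair_add hX hpq b t u
  conj b t u ht := by
    cases b
    · rw [Wd_pair_false]
      exact W_short_conj_self hX A2 A3 hpq.symm (ne_bar_symm hpq') ht u
    · rw [Wd_pair_true]
      exact W_short_conj_self hX A2 A3 hpq hpq' ht u

end short

/-! ## The requested statements -/

theorem hypA1 (hX : SpRel X) : HypA1 X := fun _ _ h1 h2 _ ht u =>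
  Cfsg.Agent.Helper29.StCA1.W_long_conj_bar hX h1 h2 ht u

theorem hypA2 (hX : SpRel X) : HypA2 X := fun _ _ h1 h2 _ ht u =>
  Cfsg.Agent.Helper86.StCA2.W_short_conj_long hX h1 h2 ht u

theorem hypA3 (hX : SpRel X) : HypA3 X := fun _ _ h1 h2 _ ht u =>
  Cfsg.Agent.Helper86.StCA3.W_short_conj_orth hX h1 h2 ht u

/-- (A4) the rank one relations (A), (B') for a long root -/
theorem long_pair_rel (hX : SpRel X) (h2 : ∀ p : ι ⊕ ι, ∃ r, r ≠ p ∧ r ≠ bar p) (p : ι ⊕ ι) :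
    StPres.Rel (pair X p (bar p)) :=
  long_pair_rel' hX (hypA1 hX) h2 p

/-- (A4) the rank one relations (A), (B') for a short root -/
theorem short_pair_rel (hX : SpRel X) {p q : ι ⊕ ι} (hpq : p ≠ q) (hpq' : q ≠ bar p) :
    StPres.Rel (pair X p q) :=
  short_pair_rel' hX (hypA2 hX) (hypA3 hX) hpq hpq'

end Cfsg.Agent.Helper14.StCA4
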