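import Mathlib

/-!
# Generation of orthogonal groups by reflections in characteristic two

Abstract setting: `Q : QuadraticForm F V` with non-degenerate polar form over a field of
characteristic two.  Every isometry is a product of reflections (orthogonal transvections)
`x ↦ x - (polar Q w x / Q w) • w`, unless `|F| = 2` and `dim V = 4`.
-/

set_option autoImplicit false

namespace Cfsg.Agent.Helper14

open Module

section QRefl

variable {F V : Type*} [Field F] [AddCommGroup V] [Module F V]

/-- The reflection (orthogonal transvection) of a quadratic form in a vector `w`. -/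
noncomputable def qRefl (Q : QuadraticForm F V) (w : V) : V →ₗ[F] V :=
  LinearMap.id - ((Q w)⁻¹ • (QuadraticMap.polarBilin Q w)).smulRight w

theorem qRefl_apply (Q : QuadraticForm F V) (w x : V) :
    qRefl Q w x = x - ((Q w)⁻¹ * QuadraticMap.polarBilin Q w x) • w := by
  simp [qRefl]

theorem qr_quad_add (Q : QuadraticForm F V) (x y : V) :
    Q (x + y) = Q x + Q y + QuadraticMap.polarBilin Q x y := by
  rw [QuadraticMap.polarBilin_apply_apply, QuadraticMap.polar]
  ring

theorem qr_quad_add_smul (Q : QuadraticForm F V) (u w : V) (a : F) :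
    Q (u + a • w) = Q u + a * a * Q w + a * QuadraticMap.polarBilin Q u w := by
  rw [qr_quad_add, QuadraticMap.map_smul, map_smul]
  simp only [smul_eq_mul]

theorem qr_polar_comm (Q : QuadraticForm F V) (x y : V) :
    QuadraticMap.polarBilin Q x y = QuadraticMap.polarBilin Q y x := by
  rw [QuadraticMap.polarBilin_apply_apply, QuadraticMap.polarBilin_apply_apply,
    QuadraticMap.polar_comm]

theorem qr_polar_self (Q : QuadraticForm F V) (x : V) :
    QuadraticMap.polarBilin Q x x = 2 * Q x := by
  rw [QuadraticMap.polarBilin_apply_apply, QuadraticMap.polar_self]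
  simp

theorem qr_polar_isometry (Q : QuadraticForm F V) (g : V →ₗ[F] V) (hg : ∀ x, Q (g x) = Q x)
    (x y : V) : QuadraticMap.polarBilin Q (g x) (g y) = QuadraticMap.polarBilin Q x y := by
  rw [QuadraticMap.polarBilin_apply_apply, QuadraticMap.polarBilin_apply_apply,
    QuadraticMap.polar, QuadraticMap.polar, ← map_add, hg, hg, hg]

theorem quad_qRefl (Q : QuadraticForm F V) (w : V) (hw : Q w ≠ 0) (x : V) :
    Q (qRefl Q w x) = Q x := by
  rw [qRefl_apply, sub_eq_add_neg, ← neg_smul, qr_quad_add_smul, qr_polar_comm Q x w]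
  field_simp
  ring

theorem qRefl_qRefl (Q : QuadraticForm F V) (w : V) (hw : Q w ≠ 0) (x : V) :
    qRefl Q w (qRefl Q w x) = x := by
  rw [qRefl_apply Q w (qRefl Q w x), qRefl_apply, map_sub, map_smul, qr_polar_self]
  simp only [smul_eq_mul]
  have h : (Q w)⁻¹ * Q w = 1 := inv_mul_cancel₀ hw
  linear_combination (norm := module)
    (2 * (Q w)⁻¹ * QuadraticMap.polarBilin Q w x * h) • w

/-- If `g x - x` is non-singular, the reflection in it maps `g x` back to `x`. -/
theorem qRefl_sub_apply (Q : QuadraticForm F V) (g : V →ₗ[F] V) (hg : ∀ x, Q (g x) = Q x)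
    (x : V) (hx : Q (g x - x) ≠ 0) : qRefl Q (g x - x) (g x) = x := by
  have h1 : Q (g x - x) = 2 * Q x - QuadraticMap.polarBilin Q (g x) x := by
    rw [sub_eq_add_neg, ← neg_one_smul F x, qr_quad_add_smul, hg]
    ring
  have h2 : QuadraticMap.polarBilin Q (g x - x) (g x) = Q (g x - x) := by
    rw [h1, map_sub, LinearMap.sub_apply, qr_polar_self, hg, qr_polar_comm Q x (g x)]
  rw [qRefl_apply, h2, inv_mul_cancel₀ hx, one_smul]
  abel

/-- Fixed vectors of an isometry are orthogonal to its residual vectors. -/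
theorem qr_polar_sub_fixed (Q : QuadraticForm F V) (g : V →ₗ[F] V) (hg : ∀ x, Q (g x) = Q x)
    (x y : V) (hy : g y = y) : QuadraticMap.polarBilin Q (g x - x) y = 0 := by
  rw [map_sub, LinearMap.sub_apply]
  nth_rewrite 1 [← hy]
  rw [qr_polar_isometry Q g hg, sub_self]

theorem qRefl_of_ortho (Q : QuadraticForm F V) (w y : V)
    (h : QuadraticMap.polarBilin Q w y = 0) : qRefl Q w y = y := by
  rw [qRefl_apply, h, mul_zero, zero_smul, sub_zero]

end QRefl

section Eichler

variable {F V : Type*} [Field F] [AddCommGroup V] [Module F V]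

/-- The Eichler (Siegel) transformation `x ↦ x + f(z,x) u - f(u,x) z - Q(z) f(u,x) u`. -/
noncomputable def eichler (Q : QuadraticForm F V) (u z : V) : V →ₗ[F] V :=
  LinearMap.id + (QuadraticMap.polarBilin Q z).smulRight u
    - (QuadraticMap.polarBilin Q u).smulRight z
    - (Q z) • (QuadraticMap.polarBilin Q u).smulRight u

theorem eichler_apply (Q : QuadraticForm F V) (u z x : V) :
    eichler Q u z x = x + QuadraticMap.polarBilin Q z x • u - QuadraticMap.polarBilin Q u x • z
      - (Q z * QuadraticMap.polarBilin Q u x) • u := by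
  simp [eichler, mul_smul]

theorem eichler_zero (Q : QuadraticForm F V) (u x : V) : eichler Q u 0 x = x := by
  rw [eichler_apply]
  simp

theorem eichler_eichler (Q : QuadraticForm F V) (u z₁ z₂ : V) (hu : Q u = 0)
    (h₁ : QuadraticMap.polarBilin Q u z₁ = 0) (h₂ : QuadraticMap.polarBilin Q u z₂ = 0) (x : V) :
    eichler Q u z₁ (eichler Q u z₂ x) = eichler Q u (z₁ + z₂) x := by
  have huu : QuadraticMap.polarBilin Q u u = 0 := by rw [qr_polar_self, hu, mul_zero]
  have h₁' : QuadraticMap.polarBilin Q z₁ u = 0 := by rw [qr_polar_comm, h₁]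
  rw [eichler_apply Q u z₁, eichler_apply Q u z₂, eichler_apply Q u (z₁ + z₂), qr_quad_add]
  simp only [map_add, map_sub, map_smul, LinearMap.add_apply, smul_eq_mul, huu, h₂, h₁',
    mul_zero, add_zero, sub_zero]
  module

theorem quad_eichler (Q : QuadraticForm F V) (u z : V) (hu : Q u = 0)
    (huz : QuadraticMap.polarBilin Q u z = 0) (x : V) : Q (eichler Q u z x) = Q x := by
  have huu : QuadraticMap.polarBilin Q u u = 0 := by rw [qr_polar_self, hu, mul_zero]
  have e : eichler Q u z x = x + ((QuadraticMap.polarBilin Q z x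
      - Q z * QuadraticMap.polarBilin Q u x) • u
      + (-QuadraticMap.polarBilin Q u x) • z) := by
    rw [eichler_apply]
    module
  rw [e, qr_quad_add, add_comm (_ • u) (_ • z), qr_quad_add_smul, QuadraticMap.map_smul, hu]
  simp only [map_add, map_smul, LinearMap.smul_apply, smul_eq_mul,
    qr_polar_comm Q z u, huz, qr_polar_comm Q x u, qr_polar_comm Q x z]
  ring

/-- In characteristic two an Eichler transformation in a non-singular direction is a product of
two reflections. -/
theorem eichler_eq_qRefl_comp [CharP F 2] (Q : QuadraticForm F V) (u z : V) (hu : Q u = 0)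
    (huz : QuadraticMap.polarBilin Q u z = 0) (hz : Q z ≠ 0) (x : V) :
    eichler Q u z x = qRefl Q z (qRefl Q (z + Q z • u) x) := by
  have h2 : (2 : F) = 0 := CharTwo.two_eq_zero
  have h : (Q z)⁻¹ * Q z = 1 := inv_mul_cancel₀ hz
  have hzu : QuadraticMap.polarBilin Q z u = 0 := by rw [qr_polar_comm, huz]
  have hzz : QuadraticMap.polarBilin Q z z = 0 := by rw [qr_polar_self, h2, zero_mul]
  have hQ' : Q (z + Q z • u) = Q z := by
    rw [qr_quad_add_smul, hu, hzu]
    ring
  rw [qRefl_apply Q z, qRefl_apply Q (z + Q z • u), hQ', eichler_apply]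
  simp only [map_add, map_sub, map_smul, LinearMap.add_apply, LinearMap.smul_apply, smul_eq_mul,
    hzz, hzu, mul_zero, add_zero, sub_zero]
  linear_combination (norm := module)
    ((QuadraticMap.polarBilin Q z x + Q z * QuadraticMap.polarBilin Q u x) * h
      + QuadraticMap.polarBilin Q z x * h2) • u
    + (QuadraticMap.polarBilin Q u x * h + ((Q z)⁻¹ * QuadraticMap.polarBilin Q z x) * h2) • z

theorem quad_add_smul_singular (Q : QuadraticForm F V) (u z : V) (hu : Q u = 0)
    (huz : QuadraticMap.polarBilin Q u z = 0) (a : F) : Q (z + a • u) = Q z := by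
  rw [qr_quad_add_smul, hu, qr_polar_comm, huz]
  ring

end Eichler

section Decomp

variable {F V : Type*} [Field F] [AddCommGroup V] [Module F V]

theorem qr_isRefl (Q : QuadraticForm F V) :
    LinearMap.BilinForm.IsRefl (QuadraticMap.polarBilin Q) :=
  LinearMap.BilinForm.IsSymm.isRefl ⟨fun x y => QuadraticMap.polar_comm _ x y⟩

theorem qr_quad_sub (Q : QuadraticForm F V) (x y : V) :
    Q (x - y) = Q x + Q y - QuadraticMap.polarBilin Q x y := by
  rw [sub_eq_add_neg, ← neg_one_smul F y, qr_quad_add_smul]
  ring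

/-- A singular vector `z` orthogonal to and independent of a singular vector `u` is a sum of two
non-singular vectors orthogonal to `u`, except over the field with two elements in
dimension four. -/
theorem exists_nonsingular_decomp [FiniteDimensional F V] (Q : QuadraticForm F V)
    (hQ : (QuadraticMap.polarBilin Q).Nondegenerate) (u z : V) (hu : Q u = 0) (hz : Q z = 0)
    (huz : QuadraticMap.polarBilin Q u z = 0) (hu0 : u ≠ 0) (hzu : z ∉ Submodule.span F {u})
    (h : (∃ a : F, a ≠ 0 ∧ a ≠ 1) ∨ finrank F V ≠ 4) :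
    ∃ z₁ : V, QuadraticMap.polarBilin Q u z₁ = 0 ∧ Q z₁ ≠ 0 ∧ Q (z - z₁) ≠ 0 := by
  have huu : QuadraticMap.polarBilin Q u u = 0 := by rw [qr_polar_self, hu, mul_zero]
  have hzz : QuadraticMap.polarBilin Q z z = 0 := by rw [qr_polar_self, hz, mul_zero]
  have hzu' : QuadraticMap.polarBilin Q z u = 0 := by rw [qr_polar_comm, huz]
  rcases h with ⟨a, ha0, ha1⟩ | hdim
  · -- a vector `y ⟂ u` with `f(z, y) ≠ 0`
    have hy : ∃ y, QuadraticMap.polarBilin Q u y = 0 ∧ QuadraticMap.polarBilin Q z y ≠ 0 := by
      by_contra hcon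
      push Not at hcon
      have hle : LinearMap.BilinForm.orthogonal (QuadraticMap.polarBilin Q) (Submodule.span F {u})
          ≤ LinearMap.BilinForm.orthogonal (QuadraticMap.polarBilin Q) (Submodule.span F {z}) := by
        intro m hm
        rw [LinearMap.BilinForm.mem_orthogonal_iff] at hm ⊢
        intro n hn
        obtain ⟨c, rfl⟩ := Submodule.mem_span_singleton.mp hn
        have h1 := hm u (Submodule.mem_span_singleton_self u)
        have h2 := hcon m h1
        change QuadraticMap.polarBilin Q (c • z) m = 0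
        rw [map_smul, LinearMap.smul_apply, h2, smul_zero]
      have h3 := LinearMap.BilinForm.orthogonal_le (B := QuadraticMap.polarBilin Q) hle
      rw [LinearMap.BilinForm.orthogonal_orthogonal hQ (qr_isRefl Q),
        LinearMap.BilinForm.orthogonal_orthogonal hQ (qr_isRefl Q)] at h3
      exact hzu (h3 (Submodule.mem_span_singleton_self z))
    obtain ⟨y, hy1, hy2⟩ := hy
    obtain ⟨y', hy'⟩ : ∃ y', y' = (QuadraticMap.polarBilin Q z y)⁻¹ • y := ⟨_, rfl⟩
    have hy1' : QuadraticMap.polarBilin Q u y' = 0 := by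
      rw [hy', map_smul, hy1, smul_zero]
    have hy2' : QuadraticMap.polarBilin Q z y' = 1 := by
      rw [hy', map_smul, smul_eq_mul, inv_mul_cancel₀ hy2]
    refine ⟨y' + (a - Q y') • z, ?_, ?_, ?_⟩
    · rw [map_add, map_smul, hy1', huz, smul_zero, add_zero]
    · rw [qr_quad_add_smul, hz, qr_polar_comm Q y' z, hy2']
      intro hh
      apply ha0
      linear_combination hh
    · rw [qr_quad_sub, qr_quad_add_smul, hz, qr_polar_comm Q y' z, hy2', map_add, hy2',
        LinearMap.map_smul, hzz]
      intro hh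
      apply ha1
      simp only [smul_eq_mul] at hh
      linear_combination hh
  · -- dimension at least five
    have hli : LinearIndependent F ![u, z] := by
      rw [LinearIndependent.pair_iff' hu0]
      intro c hc
      exact hzu (Submodule.mem_span_singleton.mpr ⟨c, hc⟩)
    have hfr : finrank F ↥(Submodule.span F (Set.range ![u, z])) = 2 := by
      rw [finrank_span_eq_card hli]
      simp
    have hrange : Set.range ![u, z] = {u, z} := by
      simp [Set.pair_comm]
    rw [hrange] at hfr
    set P₂ := Submodule.span F {u, z} with hP₂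
    have hP₂mem : ∀ n ∈ P₂, ∀ m ∈ P₂, QuadraticMap.polarBilin Q n m = 0 := by
      intro n hn m hm
      obtain ⟨a, b, rfl⟩ := Submodule.mem_span_pair.mp hn
      obtain ⟨c, d, rfl⟩ := Submodule.mem_span_pair.mp hm
      simp only [map_add, map_smul, LinearMap.add_apply, LinearMap.smul_apply, smul_eq_mul, huu,
        hzz, huz, hzu', mul_zero, add_zero]
    have hPle : P₂ ≤ LinearMap.BilinForm.orthogonal (QuadraticMap.polarBilin Q) P₂ := by
      intro m hm
      rw [LinearMap.BilinForm.mem_orthogonal_iff]
      intro n hn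
      exact hP₂mem n hn m hm
    have h1 := Submodule.finrank_mono hPle
    have h2 := LinearMap.BilinForm.finrank_orthogonal hQ P₂
    rw [hfr] at h1 h2
    set N := LinearMap.BilinForm.orthogonal (QuadraticMap.polarBilin Q) P₂ with hN
    have hex : ∃ z₁ ∈ N, Q z₁ ≠ 0 := by
      by_contra hcon
      push Not at hcon
      have hNle : N ≤ LinearMap.BilinForm.orthogonal (QuadraticMap.polarBilin Q) N := by
        intro m hm
        rw [LinearMap.BilinForm.mem_orthogonal_iff]
        intro n hn
        change QuadraticMap.polarBilin Q n m = 0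
        rw [QuadraticMap.polarBilin_apply_apply, QuadraticMap.polar, hcon _ (N.add_mem hn hm),
          hcon n hn, hcon m hm]
        ring
      have h3 := Submodule.finrank_mono hNle
      have h4 := LinearMap.BilinForm.finrank_orthogonal hQ N
      omega
    obtain ⟨z₁, hz₁N, hz₁⟩ := hex
    rw [hN, LinearMap.BilinForm.mem_orthogonal_iff] at hz₁N
    have hu1 : QuadraticMap.polarBilin Q u z₁ = 0 :=
      hz₁N u (Submodule.subset_span (by simp))
    have hz1 : QuadraticMap.polarBilin Q z z₁ = 0 :=
      hz₁N z (Submodule.subset_span (by simp))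
    refine ⟨z₁, hu1, hz₁, ?_⟩
    rw [qr_quad_sub, hz, hz1]
    simpa using hz₁

end Decomp

section Main

variable {F V : Type*} [Field F] [AddCommGroup V] [Module F V]

/-- `g` is a product of reflections. -/
def IsReflProd (Q : QuadraticForm F V) (g : V →ₗ[F] V) : Prop :=
  ∃ ws : List {w : V // Q w ≠ 0}, g = (ws.map (fun w => qRefl Q w.1)).prod

theorem isReflProd_one (Q : QuadraticForm F V) : IsReflProd Q 1 := ⟨[], by simp⟩

theorem isReflProd_qRefl (Q : QuadraticForm F V) (w : V) (hw : Q w ≠ 0) :
    IsReflProd Q (qRefl Q w) := ⟨[⟨w, hw⟩], by simp⟩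

theorem IsReflProd.mul {Q : QuadraticForm F V} {g h : V →ₗ[F] V} (hg : IsReflProd Q g)
    (hh : IsReflProd Q h) : IsReflProd Q (g * h) := by
  obtain ⟨a, rfl⟩ := hg
  obtain ⟨b, rfl⟩ := hh
  exact ⟨a ++ b, by simp⟩

theorem isReflProd_eichler [CharP F 2] [FiniteDimensional F V] (Q : QuadraticForm F V)
    (hQ : (QuadraticMap.polarBilin Q).Nondegenerate) (u z : V) (hu : Q u = 0) (hz : Q z = 0)
    (huz : QuadraticMap.polarBilin Q u z = 0) (hu0 : u ≠ 0) (hzu : z ∉ Submodule.span F {u})
    (h : (∃ a : F, a ≠ 0 ∧ a ≠ 1) ∨ finrank F V ≠ 4) : IsReflProd Q (eichler Q u z) := by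
  obtain ⟨z₁, h1, h2, h3⟩ := exists_nonsingular_decomp Q hQ u z hu hz huz hu0 hzu h
  have h1' : QuadraticMap.polarBilin Q u (z - z₁) = 0 := by rw [map_sub, huz, h1, sub_zero]
  have e : eichler Q u z = (qRefl Q z₁ * qRefl Q (z₁ + Q z₁ • u))
      * (qRefl Q (z - z₁) * qRefl Q ((z - z₁) + Q (z - z₁) • u)) := by
    apply LinearMap.ext
    intro x
    rw [Module.End.mul_apply, Module.End.mul_apply, Module.End.mul_apply,
      ← eichler_eq_qRefl_comp Q u (z - z₁) hu h1' h3, ← eichler_eq_qRefl_comp Q u z₁ hu h1 h2,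
      eichler_eichler Q u z₁ (z - z₁) hu h1 h1']
    congr 2
    abel
  rw [e]
  refine ((isReflProd_qRefl Q _ h2).mul (isReflProd_qRefl Q _ ?_)).mul
    ((isReflProd_qRefl Q _ h3).mul (isReflProd_qRefl Q _ ?_))
  · rw [quad_add_smul_singular Q u z₁ hu h1]
    exact h2
  · rw [quad_add_smul_singular Q u (z - z₁) hu h1']
    exact h3

/-- **Generation by reflections in characteristic two**: every isometry of a quadratic form with
non-degenerate polar form is a product of reflections, unless the field has two elements and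
the dimension is four. -/
theorem isReflProd_of_isometry_aux [CharP F 2] [FiniteDimensional F V] (Q : QuadraticForm F V)
    (hQ : (QuadraticMap.polarBilin Q).Nondegenerate)
    (h : (∃ a : F, a ≠ 0 ∧ a ≠ 1) ∨ finrank F V ≠ 4) :
    ∀ (k : ℕ) (g : V →ₗ[F] V), (∀ x, Q (g x) = Q x) →
      finrank F V - finrank F ↥(LinearMap.ker (g - LinearMap.id)) = k → IsReflProd Q g := by
  intro k
  induction k using Nat.strong_induction_on with
  | _ k ih =>
  intro g hg hk
  have step : ∀ (r g' : V →ₗ[F] V), IsReflProd Q r → g = r * g' → (∀ x, Q (g' x) = Q x) →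
      (∀ y, g y = y → g' y = y) → (∃ x, g' x = x ∧ g x ≠ x) → IsReflProd Q g := by
    intro r g' hr hgr hg' hfix ⟨x, hx1, hx2⟩
    have hlt : LinearMap.ker (g - LinearMap.id) < LinearMap.ker (g' - LinearMap.id) := by
      rw [SetLike.lt_iff_le_and_exists]
      refine ⟨fun y hy => ?_, x, ?_, ?_⟩
      · rw [LinearMap.mem_ker, LinearMap.sub_apply, LinearMap.id_apply, sub_eq_zero] at hy ⊢
        exact hfix y hy
      · rw [LinearMap.mem_ker, LinearMap.sub_apply, LinearMap.id_apply, sub_eq_zero]
        exact hx1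
      · rw [LinearMap.mem_ker, LinearMap.sub_apply, LinearMap.id_apply, sub_eq_zero]
        exact hx2
    have h1 := Submodule.finrank_lt_finrank_of_lt hlt
    have h2 := Submodule.finrank_le (LinearMap.ker (g' - LinearMap.id))
    have h3 := ih (finrank F V - finrank F ↥(LinearMap.ker (g' - LinearMap.id))) (by omega) g' hg'
      rfl
    rw [hgr]
    exact hr.mul h3
  by_cases hI : ∃ x, Q (g x - x) ≠ 0
  · obtain ⟨x, hx⟩ := hI
    apply step (qRefl Q (g x - x)) (qRefl Q (g x - x) * g) (isReflProd_qRefl Q _ hx)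
    · apply LinearMap.ext
      intro y
      rw [Module.End.mul_apply, Module.End.mul_apply, qRefl_qRefl Q _ hx]
    · intro y
      rw [Module.End.mul_apply, quad_qRefl Q _ hx, hg]
    · intro y hy
      rw [Module.End.mul_apply, hy]
      exact qRefl_of_ortho Q _ y (qr_polar_sub_fixed Q g hg x y hy)
    · refine ⟨x, ?_, ?_⟩
      · rw [Module.End.mul_apply]
        exact qRefl_sub_apply Q g hg x hx
      · intro hgx
        apply hx
        rw [hgx, sub_self, map_zero]
  · push Not at hI
    by_cases h1 : g = 1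
    · rw [h1]
      exact isReflProd_one Q
    · have hex : ∃ x₁, g x₁ ≠ x₁ := by
        by_contra hcon
        push Not at hcon
        apply h1
        apply LinearMap.ext
        intro x
        rw [hcon x]
        rfl
      obtain ⟨x₁, hx₁⟩ := hex
      have h2F : (2 : F) = 0 := CharTwo.two_eq_zero
      have hb : ∀ x y, QuadraticMap.polarBilin Q (g x - x) (g y - y) = 0 := by
        intro x y
        rw [QuadraticMap.polarBilin_apply_apply, QuadraticMap.polar]
        have e : g x - x + (g y - y) = g (x + y) - (x + y) := by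
          rw [map_add]
          abel
        rw [e, hI, hI, hI]
        ring
      have hc : ∀ x, QuadraticMap.polarBilin Q x (g x - x) = 0 := by
        intro x
        have h3 := hg x
        have e : g x = x + (g x - x) := by abel
        rw [e, qr_quad_add, hI] at h3
        linear_combination h3
      have hd : ∀ x y, QuadraticMap.polarBilin Q x (g y - y)
          + QuadraticMap.polarBilin Q y (g x - x) = 0 := by
        intro x y
        have h3 := hc (x + y)
        have e : g (x + y) - (x + y) = (g x - x) + (g y - y) := by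
          rw [map_add]
          abel
        rw [e] at h3
        simp only [map_add, LinearMap.add_apply] at h3
        rw [hc x, hc y] at h3
        linear_combination h3
      obtain ⟨u₁, hu₁⟩ : ∃ u₁, u₁ = g x₁ - x₁ := ⟨_, rfl⟩
      have hu₁0 : u₁ ≠ 0 := by
        rw [hu₁]
        exact sub_ne_zero.mpr hx₁
      obtain ⟨x₂', hx₂'⟩ : ∃ x₂, QuadraticMap.polarBilin Q u₁ x₂ ≠ 0 := by
        by_contra hcon
        push Not at hcon
        exact hu₁0 (hQ.1 u₁ hcon)
      obtain ⟨x₂, hx₂⟩ : ∃ x₂, QuadraticMap.polarBilin Q u₁ x₂ = 1 :=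
        ⟨(QuadraticMap.polarBilin Q u₁ x₂')⁻¹ • x₂', by
          rw [map_smul, smul_eq_mul, inv_mul_cancel₀ hx₂']⟩
      obtain ⟨u₂, hu₂⟩ : ∃ u₂, u₂ = g x₂ - x₂ := ⟨_, rfl⟩
      have hQu₁ : Q u₁ = 0 := by rw [hu₁]; exact hI x₁
      have hQu₂ : Q u₂ = 0 := by rw [hu₂]; exact hI x₂
      have h12 : QuadraticMap.polarBilin Q u₁ u₂ = 0 := by rw [hu₁, hu₂]; exact hb x₁ x₂
      have hx1u1 : QuadraticMap.polarBilin Q x₁ u₁ = 0 := by rw [hu₁]; exact hc x₁
      have hx1u2 : QuadraticMap.polarBilin Q x₁ u₂ = 1 := by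
        have h3 := hd x₁ x₂
        rw [← hu₁, ← hu₂, qr_polar_comm Q x₂ u₁, hx₂] at h3
        linear_combination h3 - h2F
      have hu₂span : u₂ ∉ Submodule.span F {u₁} := by
        intro hmem
        obtain ⟨c, hc'⟩ := Submodule.mem_span_singleton.mp hmem
        rw [← hc', map_smul, hx1u1, smul_zero] at hx1u2
        exact zero_ne_one hx1u2
      have hρ := isReflProd_eichler Q hQ u₁ u₂ hQu₁ hQu₂ h12 hu₁0 hu₂span h
      have hρρ : ∀ y, eichler Q u₁ u₂ (eichler Q u₁ u₂ y) = y := by
        intro y
        rw [eichler_eichler Q u₁ u₂ u₂ hQu₁ h12 h12]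
        have h3 : u₂ + u₂ = 0 := by rw [← two_smul F u₂, h2F, zero_smul]
        rw [h3, eichler_zero]
      have hρx : eichler Q u₁ u₂ x₁ = g x₁ := by
        rw [eichler_apply, qr_polar_comm Q u₂ x₁, hx1u2, qr_polar_comm Q u₁ x₁, hx1u1, hu₁]
        module
      apply step (eichler Q u₁ u₂) (eichler Q u₁ u₂ * g) hρ
      · apply LinearMap.ext
        intro y
        rw [Module.End.mul_apply, Module.End.mul_apply, hρρ]
      · intro y
        rw [Module.End.mul_apply, quad_eichler Q u₁ u₂ hQu₁ h12, hg]
      · intro y hy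
        have h1y : QuadraticMap.polarBilin Q u₁ y = 0 := by
          have h3 := hd y x₁
          rw [hy, sub_self, map_zero, add_zero, ← hu₁] at h3
          rw [qr_polar_comm]
          exact h3
        have h2y : QuadraticMap.polarBilin Q u₂ y = 0 := by
          have h3 := hd y x₂
          rw [hy, sub_self, map_zero, add_zero, ← hu₂] at h3
          rw [qr_polar_comm]
          exact h3
        rw [Module.End.mul_apply, hy, eichler_apply, h1y, h2y]
        simp
      · refine ⟨x₁, ?_, hx₁⟩
        rw [Module.End.mul_apply, ← hρx, hρρ]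

theorem isReflProd_of_isometry [CharP F 2] [FiniteDimensional F V] (Q : QuadraticForm F V)
    (hQ : (QuadraticMap.polarBilin Q).Nondegenerate)
    (h : (∃ a : F, a ≠ 0 ∧ a ≠ 1) ∨ finrank F V ≠ 4) (g : V →ₗ[F] V)
    (hg : ∀ x, Q (g x) = Q x) : IsReflProd Q g :=
  isReflProd_of_isometry_aux Q hQ h _ g hg rfl

end Main

end Cfsg.Agent.Helper14
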