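import Mathlib
import Cfsg.Agent.S0760

set_option autoImplicit false

namespace Cfsg.Agent.Helper14

open Module

section HypQuadric

variable {F V : Type*} [Field F] [AddCommGroup V] [Module F V]

/-- If `U ≤ W` has codimension one in `W` and `w ∈ W \ U`, every element of `W` is `u + a • w`. -/
theorem exists_add_smul_of_finrank_succ [FiniteDimensional F V] (U W : Submodule F V)
    (hUW : U ≤ W) (hfr : finrank F U + 1 = finrank F W) (w : V) (hw : w ∈ W) (hwU : w ∉ U)
    (x : V) (hx : x ∈ W) : ∃ u ∈ U, ∃ a : F, x = u + a • w := by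
  have hle : U ⊔ (F ∙ w) ≤ W :=
    sup_le hUW (by rw [Submodule.span_singleton_le_iff_mem]; exact hw)
  have hlt : U < U ⊔ (F ∙ w) := by
    apply lt_of_le_of_ne le_sup_left
    intro h
    apply hwU
    rw [h]
    exact Submodule.mem_sup_right (Submodule.mem_span_singleton_self w)
  have h1 := Submodule.finrank_lt_finrank_of_lt hlt
  have h2 := Submodule.finrank_mono hle
  have heq : U ⊔ (F ∙ w) = W := Submodule.eq_of_le_of_finrank_eq hle (by omega)
  rw [← heq] at hx
  obtain ⟨u, hu, y, hy, rfl⟩ := Submodule.mem_sup.mp hx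
  obtain ⟨a, rfl⟩ := Submodule.mem_span_singleton.mp hy
  exact ⟨u, hu, a, rfl⟩

theorem quad_add_smul (Q : QuadraticForm F V) (u w : V) (a : F) :
    Q (u + a • w) = Q u + a * a * Q w + a * QuadraticMap.polarBilin Q u w := by
  rw [QuadraticMap.map_add (⇑Q) u (a • w), QuadraticMap.map_smul, QuadraticMap.polar_smul_right,
    QuadraticMap.polarBilin_apply_apply]
  simp only [smul_eq_mul]

/-- Every totally singular subspace lies in a maximal one. -/
theorem exists_maximal_totally_singular [FiniteDimensional F V] (Q : QuadraticForm F V)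
    (U : Submodule F V) (hU : ∀ u ∈ U, Q u = 0) :
    ∃ W : Submodule F V, U ≤ W ∧ (∀ w ∈ W, Q w = 0) ∧
      ∀ W' : Submodule F V, W ≤ W' → (∀ w ∈ W', Q w = 0) → W' = W := by
  let S : Set (Submodule F V) := {W | U ≤ W ∧ ∀ w ∈ W, Q w = 0}
  have hS : S.Nonempty := ⟨U, le_refl U, hU⟩
  obtain ⟨W, hW, hmax⟩ := WellFounded.has_min
    (wellFounded_gt : WellFounded ((· > ·) : Submodule F V → Submodule F V → Prop)) S hS
  refine ⟨W, hW.1, hW.2, ?_⟩
  intro W' hWW' hW'
  by_contra hne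
  exact hmax W' ⟨le_trans hW.1 hWW', hW'⟩ (lt_of_le_of_ne hWW' (fun h => hne h.symm))

/-- In a quadratic space of dimension `2m` with non-degenerate polar form and a totally singular
subspace of dimension `m`, every totally singular subspace of dimension `m - 1` lies in exactly two
totally singular subspaces of dimension `m`. -/
theorem card_maximal_over [FiniteDimensional F V] (Q : QuadraticForm F V)
    (hQ : (QuadraticMap.polarBilin Q).Nondegenerate) (m : ℕ) (hV : finrank F V = 2 * m)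
    (Ws : Submodule F V) (hWs : finrank F Ws = m) (hWs0 : ∀ w ∈ Ws, Q w = 0)
    (U : Submodule F V) (hU : finrank F U + 1 = m) (hU0 : ∀ u ∈ U, Q u = 0) :
    Nat.card {W : Submodule F V // finrank F W = m ∧ (∀ w ∈ W, Q w = 0) ∧ U ≤ W} = 2 := by
  obtain ⟨f, hf⟩ : ∃ f : LinearMap.BilinForm F V, f = QuadraticMap.polarBilin Q := ⟨_, rfl⟩
  have hfnd : f.Nondegenerate := by rw [hf]; exact hQ
  have hpol : ∀ (W : Submodule F V), (∀ w ∈ W, Q w = 0) → ∀ x ∈ W, ∀ y ∈ W, f x y = 0 := by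
    intro W hW x hx y hy
    rw [hf]
    exact Cfsg.Agent.S0760.polar_eq_zero_of_totally_singular Q W hW hx hy
  have hperp : ∀ (W : Submodule F V), (∀ w ∈ W, Q w = 0) → W ≤ f.orthogonal W := by
    intro W hW
    rw [hf]
    exact Cfsg.Agent.S0760.le_orthogonal_of_totally_singular Q W hW
  have hquad : ∀ (u w : V) (a : F), Q (u + a • w) = Q u + a * a * Q w + a * f u w := by
    intro u w a
    rw [hf]
    exact quad_add_smul Q u w a
  -- every maximal t.s. subspace has dimension m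
  have hmaxdim : ∀ W : Submodule F V, (∀ w ∈ W, Q w = 0) →
      (∀ W' : Submodule F V, W ≤ W' → (∀ w ∈ W', Q w = 0) → W' = W) → finrank F W = m := by
    intro W hW0 hWmax
    have h1 : m ≤ finrank F W := by
      rw [← hWs]
      exact Cfsg.Agent.S0760.finrank_le_of_maximal Q hQ W Ws hW0 hWs0 hWmax
    have h3 := LinearMap.BilinForm.finrank_orthogonal hfnd W
    have h4 := Submodule.finrank_mono (hperp W hW0)
    rw [h3, hV] at h4
    omega
  obtain ⟨W₀, hUW₀, hW₀0, hW₀max⟩ := exists_maximal_totally_singular Q U hU0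
  have hW₀dim : finrank F W₀ = m := hmaxdim W₀ hW₀0 hW₀max
  have htsdim : ∀ W : Submodule F V, (∀ w ∈ W, Q w = 0) → finrank F W ≤ m := by
    intro W hW
    rw [← hW₀dim]
    exact Cfsg.Agent.S0760.finrank_le_of_maximal Q hQ W₀ W hW₀0 hW hW₀max
  -- U^⊥
  obtain ⟨Up, hUp⟩ : ∃ Up : Submodule F V, Up = f.orthogonal U := ⟨_, rfl⟩
  have hUpdim : finrank F Up = m + 1 := by
    have h3 := LinearMap.BilinForm.finrank_orthogonal hfnd U
    rw [hUp, h3, hV]
    omega
  have hmemUp : ∀ x, x ∈ Up ↔ ∀ u ∈ U, f u x = 0 := by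
    intro x
    rw [hUp]
    exact LinearMap.BilinForm.mem_orthogonal_iff
  have hleUp : ∀ W : Submodule F V, (∀ w ∈ W, Q w = 0) → U ≤ W → W ≤ Up := by
    intro W hW hUW x hx
    rw [hmemUp]
    intro u hu
    exact hpol W hW u (hUW hu) x hx
  have hW₀Up : W₀ ≤ Up := hleUp W₀ hW₀0 hUW₀
  have hW₀perp : f.orthogonal W₀ = W₀ := by
    have h3 := LinearMap.BilinForm.finrank_orthogonal hfnd W₀
    exact (Submodule.eq_of_le_of_finrank_eq (hperp W₀ hW₀0) (by rw [h3, hV, hW₀dim]; omega)).symm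
  obtain ⟨w₀, hw₀, hw₀U⟩ : ∃ w₀ ∈ W₀, w₀ ∉ U := by
    have hlt : U < W₀ := lt_of_le_of_ne hUW₀ (by intro h; rw [h] at hU; omega)
    exact SetLike.exists_of_lt hlt
  obtain ⟨z, hz, hzW₀⟩ : ∃ z ∈ Up, z ∉ W₀ := by
    have hlt : W₀ < Up := lt_of_le_of_ne hW₀Up (by intro h; rw [h] at hW₀dim; omega)
    exact SetLike.exists_of_lt hlt
  have hdecW₀ : ∀ x ∈ W₀, ∃ u ∈ U, ∃ a : F, x = u + a • w₀ :=
    exists_add_smul_of_finrank_succ U W₀ hUW₀ (by omega) w₀ hw₀ hw₀U
  have hfUz : ∀ u ∈ U, f u z = 0 := (hmemUp z).mp hz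
  have hc : f w₀ z ≠ 0 := by
    intro h0
    apply hzW₀
    rw [← hW₀perp, LinearMap.BilinForm.mem_orthogonal_iff]
    intro x hx
    obtain ⟨u, hu, a, rfl⟩ := hdecW₀ x hx
    rw [map_add, map_smul, LinearMap.add_apply, LinearMap.smul_apply, h0, hfUz u hu]
    simp
  obtain ⟨c, hcdef⟩ : ∃ c : F, c = f w₀ z := ⟨_, rfl⟩
  rw [← hcdef] at hc
  have hdecomp : ∀ x ∈ Up, ∃ u ∈ U, ∃ a b : F, x = u + a • w₀ + b • z := by
    intro x hx
    obtain ⟨y, hy, b, rfl⟩ :=
      exists_add_smul_of_finrank_succ W₀ Up hW₀Up (by omega) z hz hzW₀ x hx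
    obtain ⟨u, hu, a, rfl⟩ := hdecW₀ y hy
    exact ⟨u, hu, a, b, rfl⟩
  have hQUp : ∀ u ∈ U, ∀ a b : F, Q (u + a • w₀ + b • z) = b * (b * Q z + a * c) := by
    intro u hu a b
    rw [hquad, hquad, hU0 u hu, hW₀0 w₀ hw₀]
    have h1 : f u w₀ = 0 := hpol W₀ hW₀0 u (hUW₀ hu) w₀ hw₀
    have h2 : f (u + a • w₀) z = a * c := by
      rw [map_add, map_smul, LinearMap.add_apply, LinearMap.smul_apply, hfUz u hu, ← hcdef]
      simp
    rw [h1, h2]
    ring
  -- the second subspace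
  obtain ⟨z', hz'⟩ : ∃ z' : V, z' = z - (Q z / c) • w₀ := ⟨_, rfl⟩
  have hz'smul : ∀ (u : V) (b : F), u + b • z' = u + (-(b * Q z / c)) • w₀ + b • z := by
    intro u b
    rw [hz', smul_sub, smul_smul]
    have : b * (Q z / c) = b * Q z / c := by ring
    rw [this, neg_smul]
    abel
  have hz'W₀ : z' ∉ W₀ := by
    intro h
    apply hzW₀
    have : z = z' + (Q z / c) • w₀ := by rw [hz']; abel
    rw [this]
    exact W₀.add_mem h (W₀.smul_mem _ hw₀)
  obtain ⟨W₁, hW₁⟩ : ∃ W₁ : Submodule F V, W₁ = U ⊔ (F ∙ z') := ⟨_, rfl⟩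
  have hmemW₁ : ∀ x, x ∈ W₁ ↔ ∃ u ∈ U, ∃ b : F, x = u + b • z' := by
    intro x
    rw [hW₁, Submodule.mem_sup]
    constructor
    · rintro ⟨u, hu, y, hy, rfl⟩
      obtain ⟨b, rfl⟩ := Submodule.mem_span_singleton.mp hy
      exact ⟨u, hu, b, rfl⟩
    · rintro ⟨u, hu, b, rfl⟩
      exact ⟨u, hu, b • z', Submodule.mem_span_singleton.mpr ⟨b, rfl⟩, rfl⟩
  have hUW₁ : U ≤ W₁ := by rw [hW₁]; exact le_sup_left
  have hz'W₁ : z' ∈ W₁ := by
    rw [hW₁]
    exact Submodule.mem_sup_right (Submodule.mem_span_singleton_self z')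
  have hW₁0 : ∀ w ∈ W₁, Q w = 0 := by
    intro w hw
    obtain ⟨u, hu, b, rfl⟩ := (hmemW₁ w).mp hw
    rw [hz'smul, hQUp u hu]
    field_simp
    ring
  have hW₁dim : finrank F W₁ = m := by
    have h1 := htsdim W₁ hW₁0
    have hlt : U < W₁ := by
      apply lt_of_le_of_ne hUW₁
      intro h
      apply hz'W₀
      apply hUW₀
      rw [h]
      exact hz'W₁
    have h2 := Submodule.finrank_lt_finrank_of_lt hlt
    omega
  have hne : W₀ ≠ W₁ := by
    intro h
    apply hz'W₀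
    rw [h]
    exact hz'W₁
  -- classification
  have hclass : ∀ W : Submodule F V, finrank F W = m → (∀ w ∈ W, Q w = 0) → U ≤ W →
      W = W₀ ∨ W = W₁ := by
    intro W hWdim hW0 hUW
    have hWUp : W ≤ Up := hleUp W hW0 hUW
    obtain ⟨w, hw, hwU⟩ : ∃ w ∈ W, w ∉ U := by
      have hlt : U < W := lt_of_le_of_ne hUW (by intro h; rw [h] at hU; omega)
      exact SetLike.exists_of_lt hlt
    have hdecW : ∀ x ∈ W, ∃ u ∈ U, ∃ a : F, x = u + a • w :=
      exists_add_smul_of_finrank_succ U W hUW (by omega) w hw hwU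
    obtain ⟨u, hu, a, b, hwe⟩ := hdecomp w (hWUp hw)
    have hQw : b * (b * Q z + a * c) = 0 := by
      rw [← hQUp u hu a b, ← hwe]
      exact hW0 w hw
    rcases mul_eq_zero.mp hQw with hb | hb
    · left
      have hwW₀ : w ∈ W₀ := by
        rw [hwe, hb, zero_smul, add_zero]
        exact W₀.add_mem (hUW₀ hu) (W₀.smul_mem _ hw₀)
      apply Submodule.eq_of_le_of_finrank_eq
      · intro x hx
        obtain ⟨u', hu', t, rfl⟩ := hdecW x hx
        exact W₀.add_mem (hUW₀ hu') (W₀.smul_mem _ hwW₀)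
      · rw [hWdim, hW₀dim]
    · right
      have ha : a = -(b * Q z / c) := by
        field_simp
        linear_combination hb
      have hwW₁ : w ∈ W₁ := by
        rw [hmemW₁]
        refine ⟨u, hu, b, ?_⟩
        rw [hz'smul, ← ha]
        exact hwe
      apply Submodule.eq_of_le_of_finrank_eq
      · intro x hx
        obtain ⟨u', hu', t, rfl⟩ := hdecW x hx
        exact W₁.add_mem (hUW₁ hu') (W₁.smul_mem _ hwW₁)
      · rw [hWdim, hW₁dim]
  rw [Nat.card_eq_two_iff]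
  refine ⟨⟨W₀, hW₀dim, hW₀0, hUW₀⟩, ⟨W₁, hW₁dim, hW₁0, hUW₁⟩, ?_, ?_⟩
  · intro h
    exact hne (congrArg Subtype.val h)
  · apply Set.eq_univ_of_forall
    rintro ⟨W, hWdim, hW0, hUW⟩
    rcases hclass W hWdim hW0 hUW with h | h
    · left
      exact Subtype.ext h
    · right
      exact Subtype.ext h

end HypQuadric

end Cfsg.Agent.Helper14
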