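import Mathlib
import Cfsg.Agent.Helper14.HypQuadric

set_option autoImplicit false

namespace Cfsg.Agent.Helper14

open Module

section TwoFamilies

variable {F V : Type*} [Field F] [AddCommGroup V] [Module F V]

theorem polarBilin_symm (Q : QuadraticForm F V) (x y : V) :
    QuadraticMap.polarBilin Q x y = QuadraticMap.polarBilin Q y x := by
  rw [QuadraticMap.polarBilin_apply_apply, QuadraticMap.polarBilin_apply_apply,
    QuadraticMap.polar_comm]

theorem orthogonal_sup_eq (f : LinearMap.BilinForm F V) (A B : Submodule F V) :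
    f.orthogonal (A ⊔ B) = f.orthogonal A ⊓ f.orthogonal B := by
  apply le_antisymm
  · exact le_inf (LinearMap.BilinForm.orthogonal_le le_sup_left)
      (LinearMap.BilinForm.orthogonal_le le_sup_right)
  · intro x hx
    obtain ⟨hA, hB⟩ := Submodule.mem_inf.mp hx
    rw [LinearMap.BilinForm.mem_orthogonal_iff] at hA hB ⊢
    intro y hy
    obtain ⟨a, ha, b, hb, rfl⟩ := Submodule.mem_sup.mp hy
    rw [map_add, LinearMap.add_apply, hA a ha, hB b hb, add_zero]

/-- adding a vector outside a subspace raises the dimension -/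
theorem finrank_sup_span_singleton_ge [FiniteDimensional F V] (S : Submodule F V) (x : V)
    (hx : x ∉ S) : finrank F S + 1 ≤ finrank F (S ⊔ (F ∙ x) : Submodule F V) := by
  have hlt : S < S ⊔ (F ∙ x) := by
    apply lt_of_le_of_ne le_sup_left
    intro h
    apply hx
    rw [h]
    exact Submodule.mem_sup_right (Submodule.mem_span_singleton_self x)
  exact Submodule.finrank_lt_finrank_of_lt hlt

variable [FiniteDimensional F V] (Q : QuadraticForm F V)
  (hQ : (QuadraticMap.polarBilin Q).Nondegenerate) (m : ℕ) (hV : finrank F V = 2 * m)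

include hQ hV in
theorem ts_orthogonal_eq_self (W : Submodule F V) (hW : finrank F W = m)
    (hW0 : ∀ w ∈ W, Q w = 0) : LinearMap.BilinForm.orthogonal (QuadraticMap.polarBilin Q) W = W := by
  have h3 := LinearMap.BilinForm.finrank_orthogonal hQ W
  exact (Submodule.eq_of_le_of_finrank_eq
    (Cfsg.Agent.S0760.le_orthogonal_of_totally_singular Q W hW0)
    (by rw [h3, hV, hW]; omega)).symm

include hQ hV in
theorem ts_finrank_le (W : Submodule F V) (hW0 : ∀ w ∈ W, Q w = 0) : finrank F W ≤ m := by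
  have h3 := LinearMap.BilinForm.finrank_orthogonal hQ W
  have h4 := Submodule.finrank_mono (Cfsg.Agent.S0760.le_orthogonal_of_totally_singular Q W hW0)
  rw [h3, hV] at h4
  omega

include hQ hV in
/-- `dim (U ∩ H^⊥) = dim (U ∩ H) + 1` for `U` maximal totally singular and `dim H = m - 1`. -/
theorem finrank_inf_orthogonal (U H : Submodule F V) (hU : finrank F U = m)
    (hU0 : ∀ w ∈ U, Q w = 0) (hH : finrank F H + 1 = m) :
    finrank F (U ⊓ LinearMap.BilinForm.orthogonal (QuadraticMap.polarBilin Q) H : Submodule F V)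
      = finrank F (U ⊓ H : Submodule F V) + 1 := by
  have h1 : U ⊓ LinearMap.BilinForm.orthogonal (QuadraticMap.polarBilin Q) H
      = LinearMap.BilinForm.orthogonal (QuadraticMap.polarBilin Q) (U ⊔ H) := by
    rw [orthogonal_sup_eq, ts_orthogonal_eq_self Q hQ m hV U hU hU0]
  rw [h1, LinearMap.BilinForm.finrank_orthogonal hQ, hV]
  have h2 := Submodule.finrank_sup_add_finrank_inf_eq U H
  have h3 : finrank F (U ⊓ H : Submodule F V) ≤ finrank F H := Submodule.finrank_mono inf_le_right
  omega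

include hQ hV in
theorem adj_half (W X U : Submodule F V) (hW0 : ∀ w ∈ W, Q w = 0) (hX0 : ∀ w ∈ X, Q w = 0)
    (hU : finrank F U = m) (hU0 : ∀ w ∈ U, Q w = 0)
    (hadj : finrank F (W ⊓ X : Submodule F V) + 1 = m)
    (hU' : (U ⊓ LinearMap.BilinForm.orthogonal (QuadraticMap.polarBilin Q) (W ⊓ X)) ⊔ (W ⊓ X) = W) :
    finrank F (U ⊓ W : Submodule F V) = finrank F (U ⊓ X : Submodule F V) + 1 := by
  have hWHp : W ≤ LinearMap.BilinForm.orthogonal (QuadraticMap.polarBilin Q) (W ⊓ X) := by
    intro w hw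
    rw [LinearMap.BilinForm.mem_orthogonal_iff]
    intro h hh
    exact Cfsg.Agent.S0760.polar_eq_zero_of_totally_singular Q W hW0 (inf_le_left (a := W) hh) hw
  have hXHp : X ≤ LinearMap.BilinForm.orthogonal (QuadraticMap.polarBilin Q) (W ⊓ X) := by
    intro w hw
    rw [LinearMap.BilinForm.mem_orthogonal_iff]
    intro h hh
    exact Cfsg.Agent.S0760.polar_eq_zero_of_totally_singular Q X hX0 (inf_le_right (a := W) hh) hw
  have hle : U ⊓ LinearMap.BilinForm.orthogonal (QuadraticMap.polarBilin Q) (W ⊓ X) ≤ W := by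
    conv_rhs => rw [← hU']
    exact le_sup_left
  have hUW : U ⊓ W = U ⊓ LinearMap.BilinForm.orthogonal (QuadraticMap.polarBilin Q) (W ⊓ X) :=
    le_antisymm (inf_le_inf_left U hWHp) (le_inf inf_le_left hle)
  have hUX : U ⊓ X = U ⊓ (W ⊓ X) := by
    apply le_antisymm
    · intro x hx
      obtain ⟨hxU, hxX⟩ := Submodule.mem_inf.mp hx
      have hxW : x ∈ W := hle (Submodule.mem_inf.mpr ⟨hxU, hXHp hxX⟩)
      exact Submodule.mem_inf.mpr ⟨hxU, Submodule.mem_inf.mpr ⟨hxW, hxX⟩⟩
    · exact inf_le_inf_left U inf_le_right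
  rw [hUW, hUX]
  exact finrank_inf_orthogonal Q hQ m hV U (W ⊓ X) hU hU0 hadj

include hQ hV in
/-- Adjacent maximal totally singular subspaces meet any third one in dimensions differing by 1. -/
theorem adj (Ws : Submodule F V) (hWs : finrank F Ws = m) (hWs0 : ∀ w ∈ Ws, Q w = 0)
    (W X U : Submodule F V) (hW : finrank F W = m) (hW0 : ∀ w ∈ W, Q w = 0)
    (hX : finrank F X = m) (hX0 : ∀ w ∈ X, Q w = 0)
    (hU : finrank F U = m) (hU0 : ∀ w ∈ U, Q w = 0)
    (hadj : finrank F (W ⊓ X : Submodule F V) + 1 = m) :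
    finrank F (U ⊓ W : Submodule F V) = finrank F (U ⊓ X : Submodule F V) + 1 ∨
      finrank F (U ⊓ X : Submodule F V) = finrank F (U ⊓ W : Submodule F V) + 1 := by
  have hWX : W ≠ X := by
    intro h
    rw [h, inf_idem] at hadj
    omega
  have hH0 : ∀ w ∈ (W ⊓ X : Submodule F V), Q w = 0 := fun w hw => hW0 w (inf_le_left (a := W) hw)
  obtain ⟨U', hU'def⟩ : ∃ U' : Submodule F V,
      U' = (U ⊓ LinearMap.BilinForm.orthogonal (QuadraticMap.polarBilin Q) (W ⊓ X)) ⊔ (W ⊓ X) :=
    ⟨_, rfl⟩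
  have hHp : (W ⊓ X : Submodule F V)
      ≤ LinearMap.BilinForm.orthogonal (QuadraticMap.polarBilin Q) (W ⊓ X) :=
    Cfsg.Agent.S0760.le_orthogonal_of_totally_singular Q _ hH0
  have hU'0 : ∀ w ∈ U', Q w = 0 := by
    intro w hw
    rw [hU'def] at hw
    obtain ⟨a, ha, h, hh, rfl⟩ := Submodule.mem_sup.mp hw
    obtain ⟨haU, haHp⟩ := Submodule.mem_inf.mp ha
    rw [QuadraticMap.map_add (⇑Q) a h, hU0 a haU, hH0 h hh, ← QuadraticMap.polarBilin_apply_apply,
      polarBilin_symm]
    rw [LinearMap.BilinForm.mem_orthogonal_iff] at haHp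
    rw [haHp h hh]
    simp
  have hU'dim : finrank F U' = m := by
    have h1 := Submodule.finrank_sup_add_finrank_inf_eq
      (U ⊓ LinearMap.BilinForm.orthogonal (QuadraticMap.polarBilin Q) (W ⊓ X)) (W ⊓ X)
    have h2 : (U ⊓ LinearMap.BilinForm.orthogonal (QuadraticMap.polarBilin Q) (W ⊓ X)) ⊓ (W ⊓ X)
        = U ⊓ (W ⊓ X) := by
      rw [inf_assoc, inf_eq_right.mpr hHp]
    rw [h2, finrank_inf_orthogonal Q hQ m hV U (W ⊓ X) hU hU0 hadj, ← hU'def] at h1
    omega
  have hHU' : (W ⊓ X : Submodule F V) ≤ U' := by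
    rw [hU'def]
    exact le_sup_right
  have hcard := card_maximal_over Q hQ m hV Ws hWs hWs0 (W ⊓ X) hadj hH0
  have huniq := (Nat.card_eq_two_iff' (⟨W, hW, hW0, inf_le_left⟩ :
    {Y : Submodule F V // finrank F Y = m ∧ (∀ w ∈ Y, Q w = 0) ∧ (W ⊓ X : Submodule F V) ≤ Y})).mp
    hcard
  obtain ⟨y, -, hy⟩ := huniq
  have hcases : U' = W ∨ U' = X := by
    by_cases h : U' = W
    · left; exact h
    · right
      have h1 := hy ⟨U', hU'dim, hU'0, hHU'⟩ (fun hh => h (congrArg Subtype.val hh))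
      have h2 := hy ⟨X, hX, hX0, inf_le_right⟩ (fun hh => hWX (congrArg Subtype.val hh).symm)
      exact congrArg Subtype.val (h1.trans h2.symm)
  rcases hcases with h | h
  · left
    exact adj_half Q hQ m hV W X U hW0 hX0 hU hU0 hadj (by rw [← hU'def]; exact h)
  · right
    have hadj' : finrank F (X ⊓ W : Submodule F V) + 1 = m := by rw [inf_comm]; exact hadj
    exact adj_half Q hQ m hV X W U hX0 hW0 hU hU0 hadj'
      (by rw [inf_comm X W, ← hU'def]; exact h)

include hQ hV in
/-- For distinct maximal totally singular `W`, `X` there is a maximal totally singular `W'`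
adjacent to `W` and closer to `X`. -/
theorem exists_adj_closer (W X : Submodule F V) (hW : finrank F W = m) (hW0 : ∀ w ∈ W, Q w = 0)
    (hX : finrank F X = m) (hX0 : ∀ w ∈ X, Q w = 0) (hne : W ≠ X) :
    ∃ W' : Submodule F V, finrank F W' = m ∧ (∀ w ∈ W', Q w = 0) ∧
      finrank F (W ⊓ W' : Submodule F V) + 1 = m ∧
      finrank F (W ⊓ X : Submodule F V) + 1 ≤ finrank F (W' ⊓ X : Submodule F V) := by
  obtain ⟨x, hxX, hxW⟩ : ∃ x ∈ X, x ∉ W := by
    by_contra hcon
    push Not at hcon
    have hle : X ≤ W := fun x hx => hcon x hx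
    exact hne (Submodule.eq_of_le_of_finrank_eq hle (by rw [hX, hW])).symm
  have hx0 : x ≠ 0 := by
    rintro rfl
    exact hxW W.zero_mem
  obtain ⟨A, hA⟩ : ∃ A : Submodule F V,
      A = W ⊓ LinearMap.BilinForm.orthogonal (QuadraticMap.polarBilin Q) (F ∙ x) := ⟨_, rfl⟩
  have hAW : A ≤ W := by rw [hA]; exact inf_le_left
  have hsup : finrank F (W ⊔ (F ∙ x) : Submodule F V) = m + 1 := by
    have h1 := finrank_sup_span_singleton_ge W x hxW
    have h2 := Submodule.finrank_sup_add_finrank_inf_eq W (F ∙ x)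
    rw [finrank_span_singleton hx0] at h2
    omega
  have hAdim : finrank F A + 1 = m := by
    have h1 : A = LinearMap.BilinForm.orthogonal (QuadraticMap.polarBilin Q) (W ⊔ (F ∙ x)) := by
      rw [hA, orthogonal_sup_eq, ts_orthogonal_eq_self Q hQ m hV W hW hW0]
    have h2 := LinearMap.BilinForm.finrank_orthogonal hQ (W ⊔ (F ∙ x))
    have h3 : finrank F (W ⊔ (F ∙ x) : Submodule F V) ≤ finrank F V := Submodule.finrank_le _
    rw [h1, h2, hV, hsup]
    rw [hV, hsup] at h3
    omega
  have hAx : ∀ a ∈ A, QuadraticMap.polarBilin Q x a = 0 := by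
    intro a ha
    rw [hA] at ha
    have h1 := (Submodule.mem_inf.mp ha).2
    rw [LinearMap.BilinForm.mem_orthogonal_iff] at h1
    exact h1 x (Submodule.mem_span_singleton_self x)
  have hxA : x ∉ A := fun h => hxW (hAW h)
  refine ⟨A ⊔ (F ∙ x), ?_, ?_, ?_, ?_⟩
  · -- dimension
    have h0 : ∀ w ∈ (A ⊔ (F ∙ x) : Submodule F V), Q w = 0 := by
      intro w hw
      obtain ⟨a, ha, y, hy, rfl⟩ := Submodule.mem_sup.mp hw
      obtain ⟨t, rfl⟩ := Submodule.mem_span_singleton.mp hy
      rw [quad_add_smul, hW0 a (hAW ha), hX0 x hxX, polarBilin_symm, hAx a ha]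
      simp
    have h1 := ts_finrank_le Q hQ m hV _ h0
    have h2 := finrank_sup_span_singleton_ge A x hxA
    omega
  · intro w hw
    obtain ⟨a, ha, y, hy, rfl⟩ := Submodule.mem_sup.mp hw
    obtain ⟨t, rfl⟩ := Submodule.mem_span_singleton.mp hy
    rw [quad_add_smul, hW0 a (hAW ha), hX0 x hxX, polarBilin_symm, hAx a ha]
    simp
  · have h1 : A ≤ W ⊓ (A ⊔ (F ∙ x)) := le_inf hAW le_sup_left
    have h2 := Submodule.finrank_mono h1
    have hlt : W ⊓ (A ⊔ (F ∙ x)) < W := by
      apply lt_of_le_of_ne inf_le_left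
      intro h
      have hle : W ≤ A ⊔ (F ∙ x) := inf_eq_left.mp h
      have h0 : ∀ w ∈ (A ⊔ (F ∙ x) : Submodule F V), Q w = 0 := by
        intro w hw
        obtain ⟨a, ha, y, hy, rfl⟩ := Submodule.mem_sup.mp hw
        obtain ⟨t, rfl⟩ := Submodule.mem_span_singleton.mp hy
        rw [quad_add_smul, hW0 a (hAW ha), hX0 x hxX, polarBilin_symm, hAx a ha]
        simp
      have h3 := ts_finrank_le Q hQ m hV _ h0
      have h4 : W = A ⊔ (F ∙ x) :=
        Submodule.eq_of_le_of_finrank_eq hle (le_antisymm (Submodule.finrank_mono hle) (by omega))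
      apply hxW
      rw [h4]
      exact Submodule.mem_sup_right (Submodule.mem_span_singleton_self x)
    have h3 := Submodule.finrank_lt_finrank_of_lt hlt
    omega
  · have hWXA : W ⊓ X ≤ A := by
      intro y hy
      obtain ⟨hyW, hyX⟩ := Submodule.mem_inf.mp hy
      rw [hA]
      refine Submodule.mem_inf.mpr ⟨hyW, ?_⟩
      rw [LinearMap.BilinForm.mem_orthogonal_iff]
      intro n hn
      obtain ⟨c, rfl⟩ := Submodule.mem_span_singleton.mp hn
      rw [map_smul, LinearMap.smul_apply,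
        Cfsg.Agent.S0760.polar_eq_zero_of_totally_singular Q X hX0 hxX hyX, smul_zero]
    have hle : (W ⊓ X) ⊔ (F ∙ x) ≤ (A ⊔ (F ∙ x)) ⊓ X := by
      apply sup_le
      · exact le_inf (le_trans hWXA le_sup_left) inf_le_right
      · apply le_inf le_sup_right
        rw [Submodule.span_singleton_le_iff_mem]
        exact hxX
    have h1 := finrank_sup_span_singleton_ge (W ⊓ X) x (fun h => hxW (inf_le_left (a := W) h))
    have h2 := Submodule.finrank_mono hle
    omega

include hQ hV in
/-- The parity theorem: "even codimension of the intersection" is transitive. -/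
theorem parity_maximal (Ws : Submodule F V) (hWs : finrank F Ws = m) (hWs0 : ∀ w ∈ Ws, Q w = 0) :
    ∀ (k : ℕ) (W X U : Submodule F V), finrank F W = m → (∀ w ∈ W, Q w = 0) →
      finrank F X = m → (∀ w ∈ X, Q w = 0) → finrank F U = m → (∀ w ∈ U, Q w = 0) →
      m - finrank F (W ⊓ X : Submodule F V) = k →
      Even ((m - finrank F (U ⊓ W : Submodule F V)) + k + (m - finrank F (U ⊓ X : Submodule F V))) := by
  intro k
  induction k with
  | zero =>
    intro W X U hW hW0 hX hX0 hU hU0 hk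
    have h1 : finrank F (W ⊓ X : Submodule F V) ≤ m := by
      rw [← hW]; exact Submodule.finrank_mono inf_le_left
    have h2 : finrank F (W ⊓ X : Submodule F V) = m := by omega
    have h3 : W ⊓ X = W := Submodule.eq_of_le_of_finrank_eq inf_le_left (by rw [h2, hW])
    have h4 : W ⊓ X = X := Submodule.eq_of_le_of_finrank_eq inf_le_right (by rw [h2, hX])
    have h5 : W = X := h3.symm.trans h4
    rw [h5]
    exact ⟨m - finrank F (U ⊓ X : Submodule F V), by ring⟩
  | succ k ih =>
    intro W X U hW hW0 hX hX0 hU hU0 hk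
    have hne : W ≠ X := by
      intro h
      rw [h, inf_idem, hX] at hk
      omega
    obtain ⟨W', hW', hW'0, hadj, hcl⟩ := exists_adj_closer Q hQ m hV W X hW hW0 hX hX0 hne
    have hX' := adj Q hQ m hV Ws hWs hWs0 W W' X hW hW0 hW' hW'0 hX hX0 hadj
    have hU' := adj Q hQ m hV Ws hWs hWs0 W W' U hW hW0 hW' hW'0 hU hU0 hadj
    rw [inf_comm X W, inf_comm X W'] at hX'
    have hb1 : finrank F (W' ⊓ X : Submodule F V) ≤ m := by
      rw [← hX]; exact Submodule.finrank_mono inf_le_right
    have hb2 : finrank F (U ⊓ W : Submodule F V) ≤ m := by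
      rw [← hU]; exact Submodule.finrank_mono inf_le_left
    have hb3 : finrank F (U ⊓ W' : Submodule F V) ≤ m := by
      rw [← hU]; exact Submodule.finrank_mono inf_le_left
    have hb4 : finrank F (U ⊓ X : Submodule F V) ≤ m := by
      rw [← hU]; exact Submodule.finrank_mono inf_le_left
    have hk' : m - finrank F (W' ⊓ X : Submodule F V) = k := by omega
    have hih := ih W' X U hW' hW'0 hX hX0 hU hU0 hk'
    rw [Nat.even_iff] at hih ⊢
    omega

end TwoFamilies

end Cfsg.Agent.Helper14
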