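import Mathlib
import Cfsg.Agent.Helper14.CharTwoRefl

/-!
# The Dickson invariant as the parity of the dimension of the fixed space

Composing an isometry with a reflection changes the dimension of the fixed space by exactly one
(any characteristic).
-/

set_option autoImplicit false

namespace Cfsg.Agent.Helper14

open Module

section DicksonParity

variable {F V : Type*} [Field F] [AddCommGroup V] [Module F V]

/-- The fixed space of a linear endomorphism. -/
def fixSpace (g : V →ₗ[F] V) : Submodule F V := LinearMap.ker (g - LinearMap.id)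

theorem mem_fixSpace (g : V →ₗ[F] V) (x : V) : x ∈ fixSpace g ↔ g x = x := by
  rw [fixSpace, LinearMap.mem_ker, LinearMap.sub_apply, LinearMap.id_apply, sub_eq_zero]

theorem fixSpace_one : fixSpace (1 : V →ₗ[F] V) = ⊤ := by
  rw [eq_top_iff]
  intro x _
  rw [mem_fixSpace]
  rfl

/-- A hyperplane section loses at most one dimension. -/
theorem finrank_le_inf_ker_add_one [FiniteDimensional F V] (K : Submodule F V) (φ : V →ₗ[F] F) :
    finrank F ↥K ≤ finrank F ↥(K ⊓ LinearMap.ker φ) + 1 := by
  have h1 := Submodule.finrank_sup_add_finrank_inf_eq K (LinearMap.ker φ)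
  have h2 := LinearMap.finrank_range_add_finrank_ker φ
  have h3 : finrank F ↥(LinearMap.range φ) ≤ 1 := by
    have := Submodule.finrank_le (LinearMap.range φ)
    rwa [finrank_self] at this
  have h4 := Submodule.finrank_le (K ⊔ LinearMap.ker φ)
  omega

/-- Composing an isometry with a reflection changes the dimension of the fixed space by exactly
one. -/
theorem finrank_fixSpace_qRefl_mul [FiniteDimensional F V] (Q : QuadraticForm F V)
    (hQ : (QuadraticMap.polarBilin Q).Nondegenerate) (g : V →ₗ[F] V)
    (hg : ∀ x, Q (g x) = Q x) (u : V) (hu : Q u ≠ 0) :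
    finrank F ↥(fixSpace (qRefl Q u * g)) = finrank F ↥(fixSpace g) + 1 ∨
      finrank F ↥(fixSpace (qRefl Q u * g)) + 1 = finrank F ↥(fixSpace g) := by
  by_cases hr : ∃ y, g y - y = u
  · left
    obtain ⟨y, hy⟩ := hr
    have hle : fixSpace g ≤ fixSpace (qRefl Q u * g) := by
      intro f hf
      rw [mem_fixSpace] at hf ⊢
      rw [Module.End.mul_apply, hf]
      apply qRefl_of_ortho
      rw [← hy]
      exact qr_polar_sub_fixed Q g hg y f hf
    have hyK' : y ∈ fixSpace (qRefl Q u * g) := by
      rw [mem_fixSpace, Module.End.mul_apply, ← hy]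
      apply qRefl_sub_apply Q g hg y
      rw [hy]
      exact hu
    have hyK : y ∉ fixSpace g := by
      rw [mem_fixSpace]
      intro h
      rw [h, sub_self] at hy
      rw [← hy, map_zero] at hu
      exact hu rfl
    have hlt : fixSpace g < fixSpace (qRefl Q u * g) := by
      rw [SetLike.lt_iff_le_and_exists]
      exact ⟨hle, y, hyK', hyK⟩
    have h1 := Submodule.finrank_lt_finrank_of_lt hlt
    have h2 := finrank_le_inf_ker_add_one (fixSpace (qRefl Q u * g))
      ((QuadraticMap.polarBilin Q u).comp g)
    have h3 : fixSpace (qRefl Q u * g) ⊓ LinearMap.ker ((QuadraticMap.polarBilin Q u).comp g)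
        ≤ fixSpace g := by
      intro x hx
      obtain ⟨hx1, hx2⟩ := hx
      rw [SetLike.mem_coe, mem_fixSpace, Module.End.mul_apply] at hx1
      rw [SetLike.mem_coe, LinearMap.mem_ker, LinearMap.comp_apply] at hx2
      rw [mem_fixSpace]
      rw [qRefl_of_ortho Q u (g x) hx2] at hx1
      exact hx1
    have h4 := Submodule.finrank_mono h3
    omega
  · right
    push Not at hr
    have hle : fixSpace (qRefl Q u * g) ≤ fixSpace g := by
      intro x hx
      rw [mem_fixSpace] at hx ⊢
      rw [Module.End.mul_apply, qRefl_apply] at hx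
      obtain ⟨c, hcd⟩ : ∃ c : F, c = (Q u)⁻¹ * QuadraticMap.polarBilin Q u (g x) := ⟨_, rfl⟩
      rw [← hcd] at hx
      by_cases hc : c = 0
      · rw [hc, zero_smul, sub_zero] at hx
        exact hx
      · exfalso
        apply hr (c⁻¹ • x)
        rw [map_smul, ← smul_sub]
        have h1 : g x - x = c • u := by
          rw [sub_eq_iff_eq_add] at hx
          rw [hx]
          abel
        rw [h1, smul_smul, inv_mul_cancel₀ hc, one_smul]
    have hinf : fixSpace g ⊓ LinearMap.ker (QuadraticMap.polarBilin Q u)
        ≤ fixSpace (qRefl Q u * g) := by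
      intro f hf
      obtain ⟨hf1, hf2⟩ := hf
      rw [SetLike.mem_coe, mem_fixSpace] at hf1
      rw [SetLike.mem_coe, LinearMap.mem_ker] at hf2
      rw [mem_fixSpace, Module.End.mul_apply, hf1]
      exact qRefl_of_ortho Q u f hf2
    have hex : ∃ f ∈ fixSpace g, QuadraticMap.polarBilin Q u f ≠ 0 := by
      by_contra hcon
      push Not at hcon
      have h1 : LinearMap.range (g - LinearMap.id)
          ≤ LinearMap.BilinForm.orthogonal (QuadraticMap.polarBilin Q) (fixSpace g) := by
        intro r hr'
        obtain ⟨x, rfl⟩ := hr'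
        rw [LinearMap.BilinForm.mem_orthogonal_iff]
        intro f hf
        rw [mem_fixSpace] at hf
        change QuadraticMap.polarBilin Q f ((g - LinearMap.id : V →ₗ[F] V) x) = 0
        rw [LinearMap.sub_apply, LinearMap.id_apply, qr_polar_comm]
        exact qr_polar_sub_fixed Q g hg x f hf
      have h2 := LinearMap.finrank_range_add_finrank_ker (g - LinearMap.id)
      have h3 := LinearMap.BilinForm.finrank_orthogonal hQ (fixSpace g)
      have h4 := Submodule.finrank_le (fixSpace g)
      have h5 : LinearMap.range (g - LinearMap.id)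
          = LinearMap.BilinForm.orthogonal (QuadraticMap.polarBilin Q) (fixSpace g) := by
        apply Submodule.eq_of_le_of_finrank_eq h1
        rw [h3]
        change finrank F ↥(LinearMap.range (g - LinearMap.id)) + finrank F ↥(fixSpace g)
          = finrank F V at h2
        omega
      have h6 : u ∈ LinearMap.range (g - LinearMap.id) := by
        rw [h5, LinearMap.BilinForm.mem_orthogonal_iff]
        intro f hf
        change QuadraticMap.polarBilin Q f u = 0
        rw [qr_polar_comm]
        exact hcon f hf
      obtain ⟨y, hy⟩ := h6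
      exact hr y (by rw [← hy]; rfl)
    obtain ⟨f, hf1, hf2⟩ := hex
    have hlt : fixSpace (qRefl Q u * g) < fixSpace g := by
      rw [SetLike.lt_iff_le_and_exists]
      refine ⟨hle, f, hf1, ?_⟩
      intro hf3
      rw [mem_fixSpace] at hf1 hf3
      rw [Module.End.mul_apply, hf1, qRefl_apply, sub_eq_self] at hf3
      have h1 : (Q u)⁻¹ * QuadraticMap.polarBilin Q u f ≠ 0 :=
        mul_ne_zero (inv_ne_zero hu) hf2
      have hu0 : u ≠ 0 := by
        intro h0
        rw [h0, map_zero] at hu
        exact hu rfl
      exact (smul_ne_zero h1 hu0) hf3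
    have h1 := Submodule.finrank_lt_finrank_of_lt hlt
    have h2 := finrank_le_inf_ker_add_one (fixSpace g) (QuadraticMap.polarBilin Q u)
    have h3 := Submodule.finrank_mono hinf
    omega

end DicksonParity

end Cfsg.Agent.Helper14
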