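import Mathlib

set_option autoImplicit false

namespace Cfsg.Agent.Helper14

open QuaternionGroup
open scoped commutatorElement

variable {m : ℕ}

theorem a_mem_zpowers (i : ZMod (2 * m)) [NeZero m] :
    (a i : QuaternionGroup m) ∈ Subgroup.zpowers (a 1 : QuaternionGroup m) := by
  refine ⟨(i.val : ℤ), ?_⟩
  show (a 1 : QuaternionGroup m) ^ ((i.val : ℕ) : ℤ) = a i
  rw [zpow_natCast, a_one_pow, ZMod.natCast_zmod_val]

theorem mem_zpowers_a_one_iff [NeZero m] (x : QuaternionGroup m) :
    x ∈ Subgroup.zpowers (a 1 : QuaternionGroup m) ↔ ∃ i, x = a i := by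
  constructor
  · rintro ⟨k, rfl⟩
    show ∃ i, (a 1 : QuaternionGroup m) ^ k = a i
    induction k using Int.induction_on with
    | zero => exact ⟨0, by simp⟩
    | succ k ih =>
      obtain ⟨i, hi⟩ := ih
      exact ⟨i + 1, by rw [zpow_add_one, hi, a_mul_a]⟩
    | pred k ih =>
      obtain ⟨i, hi⟩ := ih
      refine ⟨i + (-1), ?_⟩
      rw [zpow_sub_one, hi]
      have : (a 1 : QuaternionGroup m)⁻¹ = a (-1) := rfl
      rw [this, a_mul_a]
  · rintro ⟨i, rfl⟩
    exact a_mem_zpowers i

/-- every commutator in the generalized quaternion group is a rotation -/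
theorem commutator_le_zpowers [NeZero m] :
    commutator (QuaternionGroup m) ≤ Subgroup.zpowers (a 1 : QuaternionGroup m) := by
  rw [commutator_eq_closure, Subgroup.closure_le]
  rintro _ ⟨x, y, rfl⟩
  rw [SetLike.mem_coe, mem_zpowers_a_one_iff, commutatorElement_def]
  have hinv_a : ∀ i : ZMod (2 * m), (a i : QuaternionGroup m)⁻¹ = a (-i) := fun _ => rfl
  have hinv_xa : ∀ i : ZMod (2 * m), (xa i : QuaternionGroup m)⁻¹ = xa ((m : ZMod (2 * m)) + i) :=
    fun _ => rfl
  rcases x with i | i <;> rcases y with j | j <;>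
    simp only [hinv_a, hinv_xa, a_mul_a, a_mul_xa, xa_mul_a, xa_mul_xa] <;> exact ⟨_, rfl⟩

theorem a_two_mem_commutator :
    (a 2 : QuaternionGroup m) ∈ commutator (QuaternionGroup m) := by
  have h : ⁅(a 1 : QuaternionGroup m), (xa 0 : QuaternionGroup m)⁆ = a 2 := by
    rw [commutatorElement_def]
    have hinv_a : (a 1 : QuaternionGroup m)⁻¹ = a (-1) := rfl
    have hinv_xa : (xa 0 : QuaternionGroup m)⁻¹ = xa ((m : ZMod (2 * m)) + 0) := rfl
    rw [hinv_a, hinv_xa, a_mul_xa, xa_mul_a, xa_mul_xa]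
    congr 1
    have : (2 * m : ZMod (2 * m)) = 0 := by norm_cast; simp
    ring_nf
    ring_nf at this
    rw [this]; ring
  rw [← h]
  exact Subgroup.commutator_mem_commutator (Subgroup.mem_top _) (Subgroup.mem_top _)

/-- the centralizer of the commutator subgroup consists of rotations, as soon as `4 ≠ 0` mod `2m`. -/
theorem centralizer_commutator_le [NeZero m] (h4 : (4 : ZMod (2 * m)) ≠ 0) :
    Subgroup.centralizer (commutator (QuaternionGroup m) : Set (QuaternionGroup m)) ≤
      Subgroup.zpowers (a 1 : QuaternionGroup m) := by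
  intro x hx
  rw [mem_zpowers_a_one_iff]
  rcases x with i | i
  · exact ⟨i, rfl⟩
  · exfalso
    have := hx (a 2) a_two_mem_commutator
    rw [a_mul_xa, xa_mul_a] at this
    have h' : i - 2 = i + 2 := by
      injection this
    apply h4
    have : (4 : ZMod (2 * m)) = (i + 2) - (i - 2) := by ring
    rw [this, h', sub_self]

theorem four_ne_zero_of_le {m : ℕ} (hm : 3 ≤ m) : (4 : ZMod (2 * m)) ≠ 0 := by
  intro h
  have h' : ((4 : ℕ) : ZMod (2 * m)) = 0 := by exact_mod_cast h
  rw [ZMod.natCast_eq_zero_iff] at h'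
  have := Nat.le_of_dvd (by norm_num) h'
  omega

end Cfsg.Agent.Helper14
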