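import Mathlib
import Cfsg.Agent.Helper14.Quaternion

set_option autoImplicit false

namespace Cfsg.Agent.Helper14

open QuaternionGroup
open scoped commutatorElement

section algebraic

variable {G : Type*} [Group G] {m : ℕ} (S : Subgroup G)

/-- the image of the commutator subgroup under an isomorphism -/
theorem map_commutator_equiv (e : S ≃* QuaternionGroup m) :
    (commutator S).map e.toMonoidHom = commutator (QuaternionGroup m) := by
  rw [commutator_def, Subgroup.map_commutator, commutator_def]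
  have : Subgroup.map e.toMonoidHom ⊤ = ⊤ := by
    rw [← MonoidHom.range_eq_map, MonoidHom.range_eq_top]
    exact e.surjective
  rw [this]

theorem mem_commutator_of_mem {d : G} (hd : d ∈ ⁅S, S⁆) :
    ∃ d' : S, d' ∈ commutator S ∧ (d' : G) = d := by
  rw [← Subgroup.map_subtype_commutator] at hd
  obtain ⟨d', hd', rfl⟩ := hd
  exact ⟨d', hd', rfl⟩

theorem coe_mem_of_mem_commutator {d' : S} (hd' : d' ∈ commutator S) : (d' : G) ∈ ⁅S, S⁆ := by
  rw [← Subgroup.map_subtype_commutator]
  exact ⟨d', hd', rfl⟩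

/-- the derived subgroup `D = [S,S]` of a generalized quaternion subgroup `S` is abelian -/
theorem commutator_le_centralizer [NeZero m] (e : S ≃* QuaternionGroup m) :
    ⁅S, S⁆ ≤ Subgroup.centralizer ((⁅S, S⁆ : Subgroup G) : Set G) := by
  intro x hx y hy
  obtain ⟨x', hx', rfl⟩ := mem_commutator_of_mem S hx
  obtain ⟨y', hy', rfl⟩ := mem_commutator_of_mem S hy
  have hx'' : e x' ∈ commutator (QuaternionGroup m) := by
    rw [← map_commutator_equiv S e]; exact ⟨x', hx', rfl⟩
  have hy'' : e y' ∈ commutator (QuaternionGroup m) := by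
    rw [← map_commutator_equiv S e]; exact ⟨y', hy', rfl⟩
  obtain ⟨i, hi⟩ := (mem_zpowers_a_one_iff _).mp (commutator_le_zpowers hx'')
  obtain ⟨j, hj⟩ := (mem_zpowers_a_one_iff _).mp (commutator_le_zpowers hy'')
  have : e (y' * x') = e (x' * y') := by
    rw [map_mul, map_mul, hi, hj, a_mul_a, a_mul_a, add_comm]
  have h2 := e.injective this
  exact congrArg Subtype.val h2

/-- `S ∩ C_G(D)` lies in the image of the cyclic subgroup of rotations -/
theorem inf_centralizer_le [NeZero m] (e : S ≃* QuaternionGroup m) (h4 : (4 : ZMod (2 * m)) ≠ 0) :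
    S ⊓ Subgroup.centralizer ((⁅S, S⁆ : Subgroup G) : Set G) ≤
      (Subgroup.zpowers (e.symm (a 1))).map S.subtype := by
  rintro x ⟨hxS, hxC⟩
  have hcent : e ⟨x, hxS⟩ ∈
      Subgroup.centralizer (commutator (QuaternionGroup m) : Set (QuaternionGroup m)) := by
    intro q hq
    rw [← map_commutator_equiv S e] at hq
    obtain ⟨d', hd', rfl⟩ := hq
    have h1 := hxC (d' : G) (coe_mem_of_mem_commutator S hd')
    have h2 : d' * ⟨x, hxS⟩ = ⟨x, hxS⟩ * d' := Subtype.ext h1
    show e d' * e ⟨x, hxS⟩ = e ⟨x, hxS⟩ * e d'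
    rw [← map_mul, ← map_mul, h2]
  have hz := centralizer_commutator_le h4 hcent
  obtain ⟨k, hk⟩ := hz
  refine ⟨⟨x, hxS⟩, ⟨k, ?_⟩, rfl⟩
  show (e.symm (a 1)) ^ k = _
  rw [← map_zpow, show (a 1 : QuaternionGroup m) ^ k = e ⟨x, hxS⟩ from hk, e.symm_apply_apply]

theorem isCyclic_inf_centralizer [NeZero m] (e : S ≃* QuaternionGroup m) (h4 : (4 : ZMod (2 * m)) ≠ 0) :
    IsCyclic ↥(S ⊓ Subgroup.centralizer ((⁅S, S⁆ : Subgroup G) : Set G)) := by
  have h := inf_centralizer_le S e h4
  rw [MonoidHom.map_zpowers] at h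
  exact Subgroup.isCyclic_of_le h

/-- `S` normalizes its derived subgroup -/
theorem le_normalizer_commutator : S ≤ Subgroup.normalizer ((⁅S, S⁆ : Subgroup G) : Set G) := by
  intro s hs
  rw [Subgroup.mem_normalizer_iff]
  intro h
  have key : ∀ (t : G), t ∈ S → ∀ h, h ∈ ⁅S, S⁆ → t * h * t⁻¹ ∈ ⁅S, S⁆ := by
    intro t ht h hh
    obtain ⟨h', hh', rfl⟩ := mem_commutator_of_mem S hh
    have : (⟨t, ht⟩ : S) * h' * (⟨t, ht⟩ : S)⁻¹ ∈ commutator S :=
      (inferInstance : (commutator S).Normal).conj_mem h' hh' ⟨t, ht⟩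
    exact coe_mem_of_mem_commutator S this
  constructor
  · exact key s hs h
  · intro hh
    have := key s⁻¹ (S.inv_mem hs) _ hh
    simpa [mul_assoc] using this

end algebraic

end Cfsg.Agent.Helper14

namespace Cfsg.Agent.Helper14

/-- in a finite cyclic group, a subgroup whose order divides the order of another one is
contained in it -/
theorem le_of_card_dvd_of_isCyclic' {R : Type*} [Group R] [Finite R] [IsCyclic R]
    (H K : Subgroup R) (hdvd : Nat.card H ∣ Nat.card K) : H ≤ K := by
  classical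
  have := Fintype.ofFinite R
  intro x hx
  have hxH : x ^ Nat.card H = 1 := by
    have := pow_card_eq_one' (G := H) (x := ⟨x, hx⟩)
    exact congrArg Subtype.val this
  have hxK : x ^ Nat.card K = 1 := by
    obtain ⟨c, hc⟩ := hdvd
    rw [hc, pow_mul, hxH, one_pow]
  have hpos : 0 < Nat.card K := Nat.card_pos
  let T : Finset R := Finset.univ.filter (fun a => a ^ Nat.card K = 1)
  have hT : T.card ≤ Nat.card K := IsCyclic.card_pow_eq_one_le hpos
  let KF : Finset R := Finset.univ.filter (fun a => a ∈ K)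
  have hKF : KF.card = Nat.card K := by
    rw [Nat.card_eq_fintype_card, Fintype.card_subtype]
  have hsub : KF ⊆ T := by
    intro a ha
    simp only [KF, Finset.mem_filter, Finset.mem_univ, true_and] at ha
    simp only [T, Finset.mem_filter, Finset.mem_univ, true_and]
    have := pow_card_eq_one' (G := K) (x := ⟨a, ha⟩)
    exact congrArg Subtype.val this
  have heq : KF = T := Finset.eq_of_subset_of_card_le hsub (by rw [hKF]; exact hT)
  have : x ∈ T := Finset.mem_filter.mpr ⟨Finset.mem_univ _, hxK⟩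
  rw [← heq] at this
  exact (Finset.mem_filter.mp this).2

theorem le_of_card_dvd_of_isCyclic {G : Type*} [Group G] [Finite G] (R H K : Subgroup G)
    [IsCyclic R] (hH : H ≤ R) (hK : K ≤ R) (hdvd : Nat.card H ∣ Nat.card K) : H ≤ K := by
  intro x hx
  have h1 : Nat.card (H.subgroupOf R) = Nat.card H :=
    Nat.card_congr (Subgroup.subgroupOfEquivOfLe hH).toEquiv
  have h2 : Nat.card (K.subgroupOf R) = Nat.card K :=
    Nat.card_congr (Subgroup.subgroupOfEquivOfLe hK).toEquiv
  have := le_of_card_dvd_of_isCyclic' (H.subgroupOf R) (K.subgroupOf R) (by rw [h1, h2]; exact hdvd)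
  have hx' : (⟨x, hH hx⟩ : R) ∈ H.subgroupOf R := by
    rw [Subgroup.mem_subgroupOf]; exact hx
  have := this hx'
  rw [Subgroup.mem_subgroupOf] at this
  exact this

/-- conjugating an element of the centralizer of `D` by an element of its normalizer -/
theorem conj_mem_centralizer {G : Type*} [Group G] {D : Subgroup G} {g c : G}
    (hg : g ∈ Subgroup.normalizer (D : Set G)) (hc : c ∈ Subgroup.centralizer (D : Set G)) :
    g * c * g⁻¹ ∈ Subgroup.centralizer (D : Set G) := by
  intro d hd
  have hd' : g⁻¹ * d * g ∈ D := (Subgroup.mem_normalizer_iff''.mp hg d).mp hd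
  have h := hc _ hd'
  calc d * (g * c * g⁻¹) = g * ((g⁻¹ * d * g) * c) * g⁻¹ := by group
    _ = g * (c * (g⁻¹ * d * g)) * g⁻¹ := by rw [h]
    _ = g * c * g⁻¹ * d := by group

section sylow

variable {G : Type*} [Group G] [Finite G] {m : ℕ} [NeZero m]

/-- Every 2-subgroup of `C_G(D)` is cyclic, where `D = [S,S]` for a generalized quaternion Sylow
2-subgroup `S`. -/
theorem isCyclic_of_le_centralizer (S : Sylow 2 G) (e : (S : Subgroup G) ≃* QuaternionGroup m)
    (h4 : (4 : ZMod (2 * m)) ≠ 0) (R : Subgroup G)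
    (hRC : R ≤ Subgroup.centralizer ((⁅(S : Subgroup G), (S : Subgroup G)⁆ : Subgroup G) : Set G))
    (hR : IsPGroup 2 R) : IsCyclic R := by
  set D : Subgroup G := ⁅(S : Subgroup G), (S : Subgroup G)⁆ with hD
  set N := Subgroup.normalizer (D : Set G) with hN
  have hSN : (S : Subgroup G) ≤ N := le_normalizer_commutator (S : Subgroup G)
  have hCN : Subgroup.centralizer (D : Set G) ≤ N := Subgroup.centralizer_le_normalizer _
  let S' : Sylow 2 N := S.subtype hSN
  have hR' : IsPGroup 2 (R.subgroupOf N) := hR.comap_subtype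
  obtain ⟨Q, hQ⟩ := hR'.exists_le_sylow
  obtain ⟨g, hg⟩ := MulAction.exists_smul_eq N Q S'
  have hconj : R.map (MulAut.conj (g : G)).toMonoidHom ≤
      (S : Subgroup G) ⊓ Subgroup.centralizer (D : Set G) := by
    rintro _ ⟨r, hr, rfl⟩
    have hrN : r ∈ N := hCN (hRC hr)
    have hrQ : (⟨r, hrN⟩ : N) ∈ Q := hQ (by rw [Subgroup.mem_subgroupOf]; exact hr)
    have h1 : g * ⟨r, hrN⟩ * g⁻¹ ∈ ((g • Q : Sylow 2 N) : Subgroup N) := by
      rw [Sylow.coe_subgroup_smul]
      have := Subgroup.smul_mem_pointwise_smul (⟨r, hrN⟩ : N) (MulAut.conj g) (Q : Subgroup N) hrQ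
      simpa [MulAut.smul_def] using this
    rw [hg] at h1
    have h2 : ((g * ⟨r, hrN⟩ * g⁻¹ : N) : G) ∈ (S : Subgroup G) := by
      have := h1
      rw [Sylow.coe_subtype, Subgroup.mem_subgroupOf] at this
      exact this
    constructor
    · show (MulAut.conj (g : G)) r ∈ (S : Subgroup G)
      rw [MulAut.conj_apply]
      exact h2
    · show (MulAut.conj (g : G)) r ∈ Subgroup.centralizer (D : Set G)
      rw [MulAut.conj_apply]
      exact conj_mem_centralizer g.2 (hRC hr)
  have : IsCyclic ↥((S : Subgroup G) ⊓ Subgroup.centralizer (D : Set G)) :=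
    isCyclic_inf_centralizer (S : Subgroup G) e h4
  have : IsCyclic ↥(R.map (MulAut.conj (g : G)).toMonoidHom) := Subgroup.isCyclic_of_le hconj
  exact (R.equivMapOfInjective (MulAut.conj (g : G)).toMonoidHom
    (MulAut.conj (g : G)).injective).isCyclic.mpr inferInstance

end sylow

end Cfsg.Agent.Helper14
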