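import Mathlib

/-!
# S3439: the 3-group `A8 R σ`

For a commutative ring `R` with a ring endomorphism `σ`, the set `R^8` with the group law of the
`7 × 7` unitriangular matrices

```
1  X  Y  -σX  -σY  XY - σXσY  v2
   1  .   .    .      Y       p1
      1   .    .      X       p2
          1    .     σY       p3
               1     σX       p4
                      1       v0
                              1
```

Over `R = F_81`, `σ x = x^9`, this is a group of order `3^32`, exponent 9, on which the Frobenius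
group of order 20 acts (`diagAut`, `mapAut`), the subgroup of order 5 without fixed points, the
involution with fixed points of exponent 3.
-/

set_option autoImplicit false

namespace Cfsg.Agent.Helper14.Spec4

/-- the underlying set `R^8` -/
@[ext] structure A8 (R : Type*) [CommRing R] (σ : R →+* R) where
  /-- coordinate -/
  X : R
  /-- coordinate -/
  Y : R
  /-- coordinate -/
  v0 : R
  /-- coordinate -/
  p1 : R
  /-- coordinate -/
  p2 : R
  /-- coordinate -/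
  p3 : R
  /-- coordinate -/
  p4 : R
  /-- coordinate -/
  v2 : R

variable {R : Type*} [CommRing R] {σ : R →+* R}

namespace A8

instance : Mul (A8 R σ) := ⟨fun a b => ⟨a.X + b.X, a.Y + b.Y, a.v0 + b.v0,
  a.p1 + b.p1 + a.Y * b.v0, a.p2 + b.p2 + a.X * b.v0,
  a.p3 + b.p3 + σ a.Y * b.v0, a.p4 + b.p4 + σ a.X * b.v0,
  a.v2 + b.v2 + a.X * b.p1 + a.Y * b.p2 - σ a.X * b.p3 - σ a.Y * b.p4
    + (a.X * a.Y - σ a.X * σ a.Y) * b.v0⟩⟩

instance : One (A8 R σ) := ⟨⟨0, 0, 0, 0, 0, 0, 0, 0⟩⟩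

instance : Inv (A8 R σ) := ⟨fun a => ⟨-a.X, -a.Y, -a.v0,
  -a.p1 + a.Y * a.v0, -a.p2 + a.X * a.v0, -a.p3 + σ a.Y * a.v0, -a.p4 + σ a.X * a.v0,
  -a.v2 + a.X * a.p1 + a.Y * a.p2 - σ a.X * a.p3 - σ a.Y * a.p4
    - (a.X * a.Y - σ a.X * σ a.Y) * a.v0⟩⟩

@[simp] theorem mul_X (a b : A8 R σ) : (a * b).X = a.X + b.X := rfl
@[simp] theorem mul_Y (a b : A8 R σ) : (a * b).Y = a.Y + b.Y := rfl
@[simp] theorem mul_v0 (a b : A8 R σ) : (a * b).v0 = a.v0 + b.v0 := rfl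
@[simp] theorem mul_p1 (a b : A8 R σ) : (a * b).p1 = a.p1 + b.p1 + a.Y * b.v0 := rfl
@[simp] theorem mul_p2 (a b : A8 R σ) : (a * b).p2 = a.p2 + b.p2 + a.X * b.v0 := rfl
@[simp] theorem mul_p3 (a b : A8 R σ) : (a * b).p3 = a.p3 + b.p3 + σ a.Y * b.v0 := rfl
@[simp] theorem mul_p4 (a b : A8 R σ) : (a * b).p4 = a.p4 + b.p4 + σ a.X * b.v0 := rfl
@[simp] theorem mul_v2 (a b : A8 R σ) : (a * b).v2 =
    a.v2 + b.v2 + a.X * b.p1 + a.Y * b.p2 - σ a.X * b.p3 - σ a.Y * b.p4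
      + (a.X * a.Y - σ a.X * σ a.Y) * b.v0 := rfl

@[simp] theorem one_X : (1 : A8 R σ).X = 0 := rfl
@[simp] theorem one_Y : (1 : A8 R σ).Y = 0 := rfl
@[simp] theorem one_v0 : (1 : A8 R σ).v0 = 0 := rfl
@[simp] theorem one_p1 : (1 : A8 R σ).p1 = 0 := rfl
@[simp] theorem one_p2 : (1 : A8 R σ).p2 = 0 := rfl
@[simp] theorem one_p3 : (1 : A8 R σ).p3 = 0 := rfl
@[simp] theorem one_p4 : (1 : A8 R σ).p4 = 0 := rfl
@[simp] theorem one_v2 : (1 : A8 R σ).v2 = 0 := rfl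

@[simp] theorem inv_X (a : A8 R σ) : (a⁻¹).X = -a.X := rfl
@[simp] theorem inv_Y (a : A8 R σ) : (a⁻¹).Y = -a.Y := rfl
@[simp] theorem inv_v0 (a : A8 R σ) : (a⁻¹).v0 = -a.v0 := rfl
@[simp] theorem inv_p1 (a : A8 R σ) : (a⁻¹).p1 = -a.p1 + a.Y * a.v0 := rfl
@[simp] theorem inv_p2 (a : A8 R σ) : (a⁻¹).p2 = -a.p2 + a.X * a.v0 := rfl
@[simp] theorem inv_p3 (a : A8 R σ) : (a⁻¹).p3 = -a.p3 + σ a.Y * a.v0 := rfl
@[simp] theorem inv_p4 (a : A8 R σ) : (a⁻¹).p4 = -a.p4 + σ a.X * a.v0 := rfl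
@[simp] theorem inv_v2 (a : A8 R σ) : (a⁻¹).v2 =
    -a.v2 + a.X * a.p1 + a.Y * a.p2 - σ a.X * a.p3 - σ a.Y * a.p4
      - (a.X * a.Y - σ a.X * σ a.Y) * a.v0 := rfl

instance : Group (A8 R σ) :=
  Group.ofLeftAxioms
    (by
      intro a b c
      ext <;> simp only [mul_X, mul_Y, mul_v0, mul_p1, mul_p2, mul_p3, mul_p4, mul_v2, map_add] <;>
        ring)
    (by
      intro a
      ext <;> simp only [mul_X, mul_Y, mul_v0, mul_p1, mul_p2, mul_p3, mul_p4, mul_v2, one_X,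
        one_Y, one_v0, one_p1, one_p2, one_p3, one_p4, one_v2, map_zero] <;> ring)
    (by
      intro a
      ext <;> simp only [mul_X, mul_Y, mul_v0, mul_p1, mul_p2, mul_p3, mul_p4, mul_v2, one_X,
        one_Y, one_v0, one_p1, one_p2, one_p3, one_p4, one_v2, inv_X, inv_Y, inv_v0, inv_p1,
        inv_p2, inv_p3, inv_p4, inv_v2, map_neg] <;> ring)

/-- the element with given coordinates, as a function of an 8-tuple -/
def equivFun : A8 R σ ≃ (Fin 8 → R) where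
  toFun a := ![a.X, a.Y, a.v0, a.p1, a.p2, a.p3, a.p4, a.v2]
  invFun f := ⟨f 0, f 1, f 2, f 3, f 4, f 5, f 6, f 7⟩
  left_inv a := by ext <;> rfl
  right_inv f := by
    funext i
    fin_cases i <;> rfl

instance [Finite R] : Finite (A8 R σ) := Finite.of_equiv _ equivFun.symm

theorem pow_two (a : A8 R σ) : a ^ 2 = a * a := sq a

theorem pow_three (h3 : (3 : R) = 0) (a : A8 R σ) :
    a ^ 3 = ⟨0, 0, 0, 0, 0, 0, 0, -((a.X * a.Y - σ a.X * σ a.Y) * a.v0)⟩ := by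
  have e : a ^ 3 = a * a * a := by rw [pow_succ, sq]
  rw [e]
  ext <;> simp only [mul_X, mul_Y, mul_v0, mul_p1, mul_p2, mul_p3, mul_p4, mul_v2, map_add]
  · linear_combination a.X * h3
  · linear_combination a.Y * h3
  · linear_combination a.v0 * h3
  · linear_combination (a.p1 + a.Y * a.v0) * h3
  · linear_combination (a.p2 + a.X * a.v0) * h3
  · linear_combination (a.p3 + σ a.Y * a.v0) * h3
  · linear_combination (a.p4 + σ a.X * a.v0) * h3
  · linear_combination (a.v2 + a.X * a.p1 + a.Y * a.p2 - σ a.X * a.p3 - σ a.Y * a.p4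
      + 2 * (a.X * a.Y - σ a.X * σ a.Y) * a.v0) * h3

theorem pow_three_eq_one (h3 : (3 : R) = 0) (a : A8 R σ)
    (h : (a.X * a.Y - σ a.X * σ a.Y) * a.v0 = 0) : a ^ 3 = 1 := by
  rw [pow_three h3, h]
  ext <;> simp

theorem pow_nine (h3 : (3 : R) = 0) (a : A8 R σ) : a ^ 9 = 1 := by
  have e : a ^ 9 = (a ^ 3) ^ 3 := by rw [← pow_mul]
  rw [e]
  apply pow_three_eq_one h3
  rw [pow_three h3]
  simp

/-- the abelian normal subgroup `X = Y = 0` is the kernel of this homomorphism -/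
def toXY : A8 R σ →* Multiplicative (R × R) where
  toFun a := Multiplicative.ofAdd (a.X, a.Y)
  map_one' := rfl
  map_mul' _ _ := rfl

theorem mem_ker_toXY (a : A8 R σ) : a ∈ (toXY (R := R) (σ := σ)).ker ↔ a.X = 0 ∧ a.Y = 0 := by
  rw [MonoidHom.mem_ker]
  constructor
  · intro h
    have h' : (a.X, a.Y) = (0, 0) := h
    exact ⟨congrArg Prod.fst h', congrArg Prod.snd h'⟩
  · rintro ⟨h1, h2⟩
    change Multiplicative.ofAdd (a.X, a.Y) = 1
    rw [h1, h2]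
    rfl

instance instIsSolvable : Group.IsSolvable (A8 R σ) := by
  have hker : Group.IsSolvable (toXY (R := R) (σ := σ)).ker := by
    apply Group.isSolvable_of_comm
    intro a b
    obtain ⟨ha1, ha2⟩ := (mem_ker_toXY a.1).1 a.2
    obtain ⟨hb1, hb2⟩ := (mem_ker_toXY b.1).1 b.2
    apply Subtype.ext
    change a.1 * b.1 = b.1 * a.1
    ext <;> simp only [mul_X, mul_Y, mul_v0, mul_p1, mul_p2, mul_p3, mul_p4, mul_v2, ha1, ha2,
      hb1, hb2, map_zero] <;> ring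
  exact Group.isSolvable_of_ker_le_range (toXY (R := R) (σ := σ)).ker.subtype toXY
    (by rw [Subgroup.range_subtype])

/-- the diagonal automorphisms -/
def diagAut (s s' r : Rˣ) (h1 : σ s = s') (h2 : σ s' = s) : A8 R σ ≃* A8 R σ where
  toFun a := ⟨s * a.X, s' * a.Y, r * a.v0, s' * r * a.p1, s * r * a.p2, s * r * a.p3,
    s' * r * a.p4, s * s' * r * a.v2⟩
  invFun a := ⟨↑s⁻¹ * a.X, ↑s'⁻¹ * a.Y, ↑r⁻¹ * a.v0, ↑s'⁻¹ * ↑r⁻¹ * a.p1, ↑s⁻¹ * ↑r⁻¹ * a.p2,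
    ↑s⁻¹ * ↑r⁻¹ * a.p3, ↑s'⁻¹ * ↑r⁻¹ * a.p4, ↑s⁻¹ * ↑s'⁻¹ * ↑r⁻¹ * a.v2⟩
  left_inv a := by
    have e1 : (↑s⁻¹ : R) * s = 1 := by rw [← Units.val_mul, inv_mul_cancel, Units.val_one]
    have e2 : (↑s'⁻¹ : R) * s' = 1 := by rw [← Units.val_mul, inv_mul_cancel, Units.val_one]
    have e3 : (↑r⁻¹ : R) * r = 1 := by rw [← Units.val_mul, inv_mul_cancel, Units.val_one]
    ext <;> dsimp only
    · linear_combination a.X * e1
    · linear_combination a.Y * e2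
    · linear_combination a.v0 * e3
    · linear_combination (↑r⁻¹ * r * a.p1) * e2 + a.p1 * e3
    · linear_combination (↑r⁻¹ * r * a.p2) * e1 + a.p2 * e3
    · linear_combination (↑r⁻¹ * r * a.p3) * e1 + a.p3 * e3
    · linear_combination (↑r⁻¹ * r * a.p4) * e2 + a.p4 * e3
    · linear_combination (↑s'⁻¹ * s' * ↑r⁻¹ * r * a.v2) * e1 + (↑r⁻¹ * r * a.v2) * e2 + a.v2 * e3
  right_inv a := by
    have e1 : (s : R) * ↑s⁻¹ = 1 := by rw [← Units.val_mul, mul_inv_cancel, Units.val_one]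
    have e2 : (s' : R) * ↑s'⁻¹ = 1 := by rw [← Units.val_mul, mul_inv_cancel, Units.val_one]
    have e3 : (r : R) * ↑r⁻¹ = 1 := by rw [← Units.val_mul, mul_inv_cancel, Units.val_one]
    ext <;> dsimp only
    · linear_combination a.X * e1
    · linear_combination a.Y * e2
    · linear_combination a.v0 * e3
    · linear_combination (r * ↑r⁻¹ * a.p1) * e2 + a.p1 * e3
    · linear_combination (r * ↑r⁻¹ * a.p2) * e1 + a.p2 * e3
    · linear_combination (r * ↑r⁻¹ * a.p3) * e1 + a.p3 * e3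
    · linear_combination (r * ↑r⁻¹ * a.p4) * e2 + a.p4 * e3
    · linear_combination (s' * ↑s'⁻¹ * r * ↑r⁻¹ * a.v2) * e1 + (r * ↑r⁻¹ * a.v2) * e2 + a.v2 * e3
  map_mul' a b := by
    ext <;> simp only [mul_X, mul_Y, mul_v0, mul_p1, mul_p2, mul_p3, mul_p4, mul_v2, map_mul,
      h1, h2] <;> ring

@[simp] theorem diagAut_apply (s s' r : Rˣ) (h1 : σ s = s') (h2 : σ s' = s) (a : A8 R σ) :
    diagAut s s' r h1 h2 a = ⟨s * a.X, s' * a.Y, r * a.v0, s' * r * a.p1, s * r * a.p2,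
      s * r * a.p3, s' * r * a.p4, s * s' * r * a.v2⟩ := rfl

/-- the automorphisms induced by ring automorphisms commuting with `σ` -/
def mapAut (τ : R ≃+* R) (hτ : ∀ x, τ (σ x) = σ (τ x)) : A8 R σ ≃* A8 R σ where
  toFun a := ⟨τ a.X, τ a.Y, τ a.v0, τ a.p1, τ a.p2, τ a.p3, τ a.p4, τ a.v2⟩
  invFun a := ⟨τ.symm a.X, τ.symm a.Y, τ.symm a.v0, τ.symm a.p1, τ.symm a.p2, τ.symm a.p3,
    τ.symm a.p4, τ.symm a.v2⟩
  left_inv a := by ext <;> simp
  right_inv a := by ext <;> simp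
  map_mul' a b := by
    ext <;> simp only [mul_X, mul_Y, mul_v0, mul_p1, mul_p2, mul_p3, mul_p4, mul_v2, map_mul,
      map_add, map_sub, hτ]

@[simp] theorem mapAut_apply (τ : R ≃+* R) (hτ : ∀ x, τ (σ x) = σ (τ x)) (a : A8 R σ) :
    mapAut τ hτ a = ⟨τ a.X, τ a.Y, τ a.v0, τ a.p1, τ a.p2, τ a.p3, τ a.p4, τ a.v2⟩ := rfl

end A8

end Cfsg.Agent.Helper14.Spec4
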