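import Mathlib
import Cfsg.Agent.Helper14.Spec4Defs

/-!
# S3439: the solvable group `G = A8(F_81) ⋊ F20` of order `3^32 * 20`
-/

set_option autoImplicit false
set_option linter.style.haveILetI false
set_option linter.unusedSimpArgs false

namespace Cfsg.Agent.Helper14.Spec4

open SemidirectProduct

/-- the field with 81 elements -/
abbrev K : Type := GaloisField 3 4

/-- `x ↦ x^9` -/
noncomputable def sg : K →+* K := iterateFrobenius K 3 2

/-- `x ↦ x^3` -/
noncomputable def tau : K ≃+* K := frobeniusEquiv K 3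

theorem sg_apply (x : K) : sg x = x ^ 9 := by
  rw [sg, iterateFrobenius_def]; norm_num

theorem tau_apply (x : K) : tau x = x ^ 3 := by
  rw [tau, coe_frobeniusEquiv, frobenius_def]

theorem three_eq_zero : (3 : K) = 0 := by
  have := CharP.cast_eq_zero K 3
  exact_mod_cast this

theorem pow_81 (x : K) : x ^ 81 = x := by
  letI : Fintype K := Fintype.ofFinite K
  have h := FiniteField.pow_card x
  have hc : Fintype.card K = 81 := by
    rw [← Nat.card_eq_fintype_card, GaloisField.card 3 4 (by norm_num)]; norm_num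
  rw [hc] at h
  exact h

theorem tau_sg (x : K) : tau (sg x) = sg (tau x) := by
  rw [tau_apply, sg_apply, tau_apply, sg_apply, ← pow_mul, ← pow_mul]

theorem exists_zeta : ∃ z : Kˣ, orderOf z = 5 := by
  letI : Fintype K := Fintype.ofFinite K
  classical
  haveI : Fact (Nat.Prime 5) := ⟨by norm_num⟩
  apply exists_prime_orderOf_dvd_card 5
  rw [Fintype.card_units]
  have hc : Fintype.card K = 81 := by
    rw [← Nat.card_eq_fintype_card, GaloisField.card 3 4 (by norm_num)]; norm_num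
  rw [hc]
  norm_num

/-- an element of order 5 -/
noncomputable def zeta : Kˣ := Classical.choose exists_zeta

theorem orderOf_zeta : orderOf zeta = 5 := Classical.choose_spec exists_zeta

theorem zeta_pow_five : zeta ^ 5 = 1 := by
  rw [← orderOf_zeta]; exact pow_orderOf_eq_one zeta

theorem zeta_pow_eq_one_iff (k : ℕ) : zeta ^ k = 1 ↔ 5 ∣ k := by
  rw [← orderOf_zeta]; exact (orderOf_dvd_iff_pow_eq_one).symm

theorem sg_units (u : Kˣ) : sg (u : K) = ((u ^ 9 : Kˣ) : K) := by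
  rw [sg_apply, Units.val_pow_eq_pow_val]

theorem tau_units (u : Kˣ) : tau (u : K) = ((u ^ 3 : Kˣ) : K) := by
  rw [tau_apply, Units.val_pow_eq_pow_val]

/-- the group `A` -/
abbrev A : Type := A8 K sg

/-- the automorphism of order 5 -/
noncomputable def eta : MulAut A :=
  A8.diagAut (zeta ^ 3) (zeta ^ 2) zeta
    (by
      rw [sg_units, ← pow_mul]
      have : zeta ^ (3 * 9) = zeta ^ 2 := by
        have e : (3 * 9 : ℕ) = 5 * 5 + 2 := by norm_num
        rw [e, pow_add, pow_mul, zeta_pow_five, one_pow, one_mul]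
      rw [this])
    (by
      rw [sg_units, ← pow_mul]
      have : zeta ^ (2 * 9) = zeta ^ 3 := by
        have e : (2 * 9 : ℕ) = 5 * 3 + 3 := by norm_num
        rw [e, pow_add, pow_mul, zeta_pow_five, one_pow, one_mul]
      rw [this])

/-- the automorphism of order 4 -/
noncomputable def phi : MulAut A := A8.mapAut tau tau_sg

theorem eta_apply (a : A) : eta a = ⟨(zeta ^ 3 : Kˣ) * a.X, (zeta ^ 2 : Kˣ) * a.Y, zeta * a.v0,
    (zeta ^ 2 : Kˣ) * zeta * a.p1, (zeta ^ 3 : Kˣ) * zeta * a.p2, (zeta ^ 3 : Kˣ) * zeta * a.p3,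
    (zeta ^ 2 : Kˣ) * zeta * a.p4, (zeta ^ 3 : Kˣ) * (zeta ^ 2 : Kˣ) * zeta * a.v2⟩ := rfl

theorem phi_apply (a : A) : phi a = ⟨a.X ^ 3, a.Y ^ 3, a.v0 ^ 3, a.p1 ^ 3, a.p2 ^ 3, a.p3 ^ 3,
    a.p4 ^ 3, a.v2 ^ 3⟩ := by
  rw [phi, A8.mapAut_apply]
  simp only [tau_apply]

/-- `eta ^ n` scales the coordinates by the `n`-th powers -/
theorem eta_pow_apply (n : ℕ) (a : A) : (eta ^ n) a =
    ⟨((zeta ^ 3) ^ n : Kˣ) * a.X, ((zeta ^ 2) ^ n : Kˣ) * a.Y, (zeta ^ n : Kˣ) * a.v0,
    ((zeta ^ 3) ^ n : Kˣ) * a.p1, ((zeta ^ 4) ^ n : Kˣ) * a.p2, ((zeta ^ 4) ^ n : Kˣ) * a.p3,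
    ((zeta ^ 3) ^ n : Kˣ) * a.p4, ((zeta ^ 6) ^ n : Kˣ) * a.v2⟩ := by
  induction n generalizing a with
  | zero => ext <;> simp
  | succ n ih =>
    rw [pow_succ, MulAut.mul_apply, ih, eta_apply]
    ext <;> simp only [Units.val_mul, Units.val_pow_eq_pow_val] <;> ring

theorem eta_pow_five : eta ^ 5 = 1 := by
  apply MulEquiv.ext
  intro a
  rw [eta_pow_apply, MulAut.one_apply]
  have e3 : (zeta ^ 3) ^ 5 = 1 := by rw [pow_right_comm, zeta_pow_five, one_pow]
  have e2 : (zeta ^ 2) ^ 5 = 1 := by rw [pow_right_comm, zeta_pow_five, one_pow]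
  have e4 : (zeta ^ 4) ^ 5 = 1 := by rw [pow_right_comm, zeta_pow_five, one_pow]
  have e6 : (zeta ^ 6) ^ 5 = 1 := by rw [pow_right_comm, zeta_pow_five, one_pow]
  rw [e3, e2, e4, e6, zeta_pow_five]
  ext <;> simp

theorem phi_pow_two_apply (a : A) : (phi ^ 2) a = ⟨a.X ^ 9, a.Y ^ 9, a.v0 ^ 9, a.p1 ^ 9, a.p2 ^ 9,
    a.p3 ^ 9, a.p4 ^ 9, a.v2 ^ 9⟩ := by
  rw [sq, MulAut.mul_apply, phi_apply, phi_apply]
  ext <;> simp only [← pow_mul]

theorem phi_pow_three_apply (a : A) : (phi ^ 3) a = ⟨a.X ^ 27, a.Y ^ 27, a.v0 ^ 27, a.p1 ^ 27,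
    a.p2 ^ 27, a.p3 ^ 27, a.p4 ^ 27, a.v2 ^ 27⟩ := by
  rw [pow_succ, MulAut.mul_apply, phi_apply, phi_pow_two_apply]
  ext <;> simp only [← pow_mul]

theorem phi_pow_four : phi ^ 4 = 1 := by
  apply MulEquiv.ext
  intro a
  have e : phi ^ 4 = phi ^ 2 * phi ^ 2 := by rw [← pow_add]
  rw [e, MulAut.mul_apply, phi_pow_two_apply, phi_pow_two_apply, MulAut.one_apply]
  ext <;> simp only [← pow_mul] <;> exact pow_81 _

theorem phi_mul_eta : phi * eta = eta ^ 3 * phi := by
  apply MulEquiv.ext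
  intro a
  rw [MulAut.mul_apply, MulAut.mul_apply, eta_pow_apply, phi_apply, phi_apply, eta_apply]
  ext <;> simp only [Units.val_mul, Units.val_pow_eq_pow_val] <;> ring

/-- the Frobenius group of order 20, as a group of automorphisms of `A` -/
noncomputable def F20 : Subgroup (MulAut A) := Subgroup.closure {eta, phi}

theorem eta_mem : eta ∈ F20 := Subgroup.subset_closure (by simp)
theorem phi_mem : phi ∈ F20 := Subgroup.subset_closure (by simp)

/-- the group `G = A ⋊ F20` -/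
abbrev G : Type := A ⋊[F20.subtype] F20

/-- `eta` as an element of `G` -/
noncomputable def hG : G := inr ⟨eta, eta_mem⟩

/-- `phi` as an element of `G` -/
noncomputable def cG : G := inr ⟨phi, phi_mem⟩

end Cfsg.Agent.Helper14.Spec4
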