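import Mathlib

set_option autoImplicit false

namespace Cfsg.Agent.Helper14

open Module

section Refl

variable {F V : Type*} [Field F] [AddCommGroup V] [Module F V]

/-- The reflection `x ↦ x - (2 B(w,x)/B(w,w)) w` of a symmetric bilinear form. -/
noncomputable def bilinRefl (B : LinearMap.BilinForm F V) (w : V) : V →ₗ[F] V :=
  LinearMap.id - (2 / B w w) • ((LinearMap.toSpanSingleton F V w) ∘ₗ (B w))

theorem bilinRefl_apply (B : LinearMap.BilinForm F V) (w x : V) :
    bilinRefl B w x = x - (2 * B w x / B w w) • w := by
  simp only [bilinRefl, LinearMap.sub_apply, LinearMap.id_apply, LinearMap.smul_apply,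
    LinearMap.comp_apply, LinearMap.toSpanSingleton_apply, smul_smul]
  congr 2
  ring

theorem bilinRefl_isometry (B : LinearMap.BilinForm F V) (hS : B.IsSymm) (w : V)
    (hw : B w w ≠ 0) (x y : V) : B (bilinRefl B w x) (bilinRefl B w y) = B x y := by
  rw [bilinRefl_apply, bilinRefl_apply]
  simp only [map_sub, map_smul, LinearMap.sub_apply, LinearMap.smul_apply, smul_eq_mul]
  rw [hS.eq x w]
  field_simp
  ring

theorem bilinRefl_involutive (B : LinearMap.BilinForm F V) (w : V) (hw : B w w ≠ 0) (x : V) :
    bilinRefl B w (bilinRefl B w x) = x := by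
  rw [bilinRefl_apply, bilinRefl_apply]
  simp only [map_sub, map_smul, smul_eq_mul]
  have h : (2 * (B w x - 2 * B w x / B w w * B w w) / B w w) = -(2 * B w x / B w w) := by
    field_simp
    ring
  rw [h, neg_smul]
  abel

theorem bilinRefl_self (B : LinearMap.BilinForm F V) (w : V) (hw : B w w ≠ 0) :
    bilinRefl B w w = -w := by
  rw [bilinRefl_apply]
  have h : 2 * B w w / B w w = 2 := by field_simp
  rw [h, two_smul]
  abel

theorem bilinRefl_of_ortho (B : LinearMap.BilinForm F V) (w x : V) (h : B w x = 0) :
    bilinRefl B w x = x := by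
  rw [bilinRefl_apply, h]
  simp

theorem bilinRefl_sub_apply (B : LinearMap.BilinForm F V) (hS : B.IsSymm) (a b : V)
    (hab : B a a = B b b) (h : B (a - b) (a - b) ≠ 0) : bilinRefl B (a - b) a = b := by
  rw [bilinRefl_apply]
  have h1 : B (a - b) (a - b) = 2 * B (a - b) a := by
    simp only [map_sub, LinearMap.sub_apply]
    rw [hS.eq a b, ← hab]
    ring
  have h2 : 2 * B (a - b) a / B (a - b) (a - b) = 1 := by
    rw [← h1]
    exact div_self h
  rw [h2, one_smul]
  abel

theorem bilinRefl_add_apply (B : LinearMap.BilinForm F V) (hS : B.IsSymm) (a b : V)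
    (hab : B a a = B b b) (h : B (a + b) (a + b) ≠ 0) : bilinRefl B (a + b) a = -b := by
  rw [bilinRefl_apply]
  have h1 : B (a + b) (a + b) = 2 * B (a + b) a := by
    simp only [map_add, LinearMap.add_apply]
    rw [hS.eq a b, ← hab]
    ring
  have h2 : 2 * B (a + b) a / B (a + b) (a + b) = 1 := by
    rw [← h1]
    exact div_self h
  rw [h2, one_smul]
  abel

end Refl

/-- Weak Cartan–Dieudonné: in characteristic not two, every isometry of a non-degenerate symmetric
bilinear form on a finite-dimensional space is a product of reflections. -/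
theorem exists_reflection_list {F : Type*} [Field F] (h2 : (2 : F) ≠ 0) :
    ∀ (n : ℕ) {V : Type*} [AddCommGroup V] [Module F V] [FiniteDimensional F V]
      (B : LinearMap.BilinForm F V), B.IsSymm → B.Nondegenerate → finrank F V = n →
      ∀ g : V →ₗ[F] V, (∀ x y, B (g x) (g y) = B x y) →
      ∃ ws : List {w : V // B w w ≠ 0}, g = (ws.map (fun w => bilinRefl B w.1)).prod := by
  intro n
  induction n with
  | zero =>
    intro V _ _ _ B hS hnd hn g hg
    refine ⟨[], ?_⟩
    have h0 : ∀ x : V, x = 0 := finrank_zero_iff_forall_zero.mp hn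
    apply LinearMap.ext
    intro x
    rw [h0 x]
    simp
  | succ n ih =>
    intro V _ _ _ B hS hnd hn g hg
    have : Invertible (2 : F) := invertibleOfNonzero h2
    have hnt : Nontrivial V := Module.nontrivial_of_finrank_pos (R := F) (by omega)
    have hB0 : B ≠ 0 := by
      rintro rfl
      obtain ⟨y, hy⟩ := exists_ne (0 : V)
      exact hy (hnd.1 y (fun _ => rfl))
    obtain ⟨v, hv⟩ := LinearMap.BilinForm.exists_bilinForm_self_ne_zero hB0
      (LinearMap.BilinForm.isSymm_iff.mp hS)
    have hv0 : v ≠ 0 := by
      rintro rfl
      apply hv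
      simp
    -- the hyperplane
    obtain ⟨V', hV'⟩ : ∃ V' : Submodule F V, V' = B.orthogonal (F ∙ v) := ⟨_, rfl⟩
    have hcompl : IsCompl (F ∙ v) V' := by
      rw [hV']
      exact LinearMap.BilinForm.isCompl_span_singleton_orthogonal hv
    have hnd' : (B.restrict V').Nondegenerate := by
      rw [hV']
      exact LinearMap.BilinForm.restrict_nondegenerate_orthogonal_spanSingleton B hnd hS.isRefl hv
    have hfr : finrank F V' = n := by
      have h1 := Submodule.finrank_add_eq_of_isCompl hcompl
      rw [finrank_span_singleton hv0, hn] at h1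
      omega
    have hmem : ∀ x, x ∈ V' ↔ B v x = 0 := by
      intro x
      rw [hV', LinearMap.BilinForm.mem_orthogonal_iff]
      constructor
      · intro h
        exact h v (Submodule.mem_span_singleton_self v)
      · intro h y hy
        obtain ⟨c, rfl⟩ := Submodule.mem_span_singleton.mp hy
        rw [map_smul, LinearMap.smul_apply, h, smul_zero]
    have hS' : (B.restrict V').IsSymm := ⟨fun x y => hS.eq x y⟩
    -- Step 1: isometries fixing `v`
    have step1 : ∀ g₁ : V →ₗ[F] V, (∀ x y, B (g₁ x) (g₁ y) = B x y) → g₁ v = v →
        ∃ ws : List {w : V // B w w ≠ 0}, g₁ = (ws.map (fun w => bilinRefl B w.1)).prod := by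
      intro g₁ hg₁ hfix
      have hpres : ∀ x ∈ V', g₁ x ∈ V' := by
        intro x hx
        rw [hmem] at hx ⊢
        have h1 := hg₁ v x
        rw [hfix] at h1
        rw [h1]
        exact hx
      obtain ⟨ws', hws'⟩ := ih (B.restrict V') hS' hnd' hfr (g₁.restrict hpres)
        (fun x y => hg₁ x y)
      let lift : {w : V' // (B.restrict V') w w ≠ 0} → {w : V // B w w ≠ 0} :=
        fun w => ⟨w.1.1, w.2⟩
      refine ⟨ws'.map lift, ?_⟩
      have hlistV' : ∀ (l : List {w : V' // (B.restrict V') w w ≠ 0}) (x : V'),
          ((l.map lift).map (fun w => bilinRefl B w.1)).prod (x : V)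
            = ((l.map (fun w => bilinRefl (B.restrict V') w.1)).prod x : V') := by
        intro l
        induction l with
        | nil =>
          intro x
          simp
        | cons a l ihl =>
          intro x
          simp only [List.map_cons, List.prod_cons, Module.End.mul_apply]
          rw [ihl x, bilinRefl_apply, bilinRefl_apply]
          rfl
      have hlistv : ∀ (l : List {w : V' // (B.restrict V') w w ≠ 0}),
          ((l.map lift).map (fun w => bilinRefl B w.1)).prod v = v := by
        intro l
        induction l with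
        | nil => simp
        | cons a l ihl =>
          simp only [List.map_cons, List.prod_cons, Module.End.mul_apply]
          rw [ihl]
          apply bilinRefl_of_ortho
          rw [hS.eq]
          exact (hmem _).mp a.1.2
      apply LinearMap.ext
      intro z
      have hz : z ∈ (F ∙ v) ⊔ V' := by
        rw [hcompl.sup_eq_top]
        trivial
      obtain ⟨a, ha, b, hb, rfl⟩ := Submodule.mem_sup.mp hz
      obtain ⟨c, rfl⟩ := Submodule.mem_span_singleton.mp ha
      rw [map_add, map_add, map_smul, map_smul, hfix, hlistv]
      congr 1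
      have h3 := hlistV' ws' ⟨b, hb⟩
      rw [h3, ← hws']
      rfl
    -- Step 2: the general case
    have hgv : B (g v) (g v) = B v v := hg v v
    by_cases h : B (g v - v) (g v - v) ≠ 0
    · -- one reflection moves `g v` to `v`
      have hr : bilinRefl B (g v - v) (g v) = v := bilinRefl_sub_apply B hS (g v) v hgv h
      obtain ⟨ws, hws⟩ := step1 (bilinRefl B (g v - v) ∘ₗ g)
        (fun x y => by
          rw [LinearMap.comp_apply, LinearMap.comp_apply, bilinRefl_isometry B hS _ h, hg])
        (by rw [LinearMap.comp_apply, hr])
      refine ⟨⟨g v - v, h⟩ :: ws, ?_⟩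
      rw [List.map_cons, List.prod_cons, ← hws]
      apply LinearMap.ext
      intro x
      rw [Module.End.mul_apply, LinearMap.comp_apply, bilinRefl_involutive B _ h]
    · -- two reflections
      rw [not_not] at h
      have hgvv : B (g v) v = B v v := by
        have h1 : B (g v - v) (g v - v) = 2 * B v v - 2 * B (g v) v := by
          simp only [map_sub, LinearMap.sub_apply]
          rw [hS.eq v (g v), hgv]
          ring
        rw [h1] at h
        have h3 : 2 * (B v v - B (g v) v) = 0 := by linear_combination h
        have h4 := (mul_eq_zero.mp h3).resolve_left h2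
        exact (sub_eq_zero.mp h4).symm
      have hw : B (g v + v) (g v + v) ≠ 0 := by
        have h1 : B (g v + v) (g v + v) = 4 * B v v := by
          simp only [map_add, LinearMap.add_apply]
          rw [hS.eq v (g v), hgv, hgvv]
          ring
        rw [h1]
        have h4 : (4 : F) ≠ 0 := by
          have : (4 : F) = 2 * 2 := by norm_num
          rw [this]
          exact mul_ne_zero h2 h2
        exact mul_ne_zero h4 hv
      have hr : bilinRefl B (g v + v) (g v) = -v := bilinRefl_add_apply B hS (g v) v hgv hw
      obtain ⟨ws, hws⟩ := step1 (bilinRefl B v ∘ₗ bilinRefl B (g v + v) ∘ₗ g)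
        (fun x y => by
          rw [LinearMap.comp_apply, LinearMap.comp_apply, LinearMap.comp_apply,
            LinearMap.comp_apply, bilinRefl_isometry B hS _ hv, bilinRefl_isometry B hS _ hw, hg])
        (by
          rw [LinearMap.comp_apply, LinearMap.comp_apply, hr, map_neg, bilinRefl_self B v hv,
            neg_neg])
      refine ⟨⟨g v + v, hw⟩ :: ⟨v, hv⟩ :: ws, ?_⟩
      rw [List.map_cons, List.map_cons, List.prod_cons, List.prod_cons, ← hws]
      apply LinearMap.ext
      intro x
      rw [Module.End.mul_apply, Module.End.mul_apply, LinearMap.comp_apply, LinearMap.comp_apply,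
        bilinRefl_involutive B _ hv, bilinRefl_involutive B _ hw]

end Cfsg.Agent.Helper14
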