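import Mathlib
import Cfsg.Prelude.Def_ClassicalGeometry
import Cfsg.Agent.Helper13.Isom
import Cfsg.Agent.Helper14.CartanDieudonne

set_option autoImplicit false

namespace Cfsg.Agent.Helper14

open Module Matrix

section ReflGen

variable {F : Type*} [Field F] {n : ℕ}

theorem polarBilin_self (Q : QuadraticForm F (Fin n → F)) (w : Fin n → F) :
    QuadraticMap.polarBilin Q w w = 2 * Q w := by
  rw [QuadraticMap.polarBilin_apply_apply, QuadraticMap.polar_self]
  simp

theorem polarBilin_isSymm (Q : QuadraticForm F (Fin n → F)) :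
    LinearMap.BilinForm.IsSymm (QuadraticMap.polarBilin Q) :=
  ⟨fun x y => QuadraticMap.polar_comm _ x y⟩

/-- The matrix reflection is the bilinear-form reflection of the polar form. -/
theorem mulVecLin_reflectionMatrix (h2 : (2 : F) ≠ 0) (Q : QuadraticForm F (Fin n → F))
    (w : Fin n → F) (hw : Q w ≠ 0) :
    (Cfsg.reflectionMatrix (⇑Q) w).mulVecLin = bilinRefl (QuadraticMap.polarBilin Q) w := by
  apply LinearMap.ext
  intro x
  rw [Matrix.mulVecLin_apply, Cfsg.Agent.Helper13.reflectionMatrix_mulVec, bilinRefl_apply,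
    polarBilin_self, QuadraticMap.polarBilin_apply_apply]
  congr 2
  field_simp

/-- The reflection as an element of the isometry group. -/
noncomputable def reflIso (Q : QuadraticForm F (Fin n → F)) (w : {w : Fin n → F // Q w ≠ 0}) :
    ↥(Cfsg.isometryGroup F (⇑Q)) :=
  ⟨Cfsg.Agent.Helper13.reflectionGL Q w.1 w.2, Cfsg.Agent.Helper13.reflectionGL_mem Q w.1 w.2⟩

theorem reflIso_val (Q : QuadraticForm F (Fin n → F)) (w : {w : Fin n → F // Q w ≠ 0}) :
    ((reflIso Q w : Matrix.GeneralLinearGroup (Fin n) F) : Matrix (Fin n) (Fin n) F)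
      = Cfsg.reflectionMatrix (⇑Q) w.1 := rfl

theorem prod_reflIso_val (Q : QuadraticForm F (Fin n → F)) (l : List {w : Fin n → F // Q w ≠ 0}) :
    (((l.map (reflIso Q)).prod : ↥(Cfsg.isometryGroup F (⇑Q))) :
      Matrix.GeneralLinearGroup (Fin n) F).val
      = (l.map (fun w => Cfsg.reflectionMatrix (⇑Q) w.1)).prod := by
  induction l with
  | nil => simp
  | cons a l ih =>
    rw [List.map_cons, List.prod_cons, List.map_cons, List.prod_cons, Subgroup.coe_mul,
      Units.val_mul, ih]
    rfl

theorem det_prod_reflectionMatrix (Q : QuadraticForm F (Fin n → F))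
    (l : List {w : Fin n → F // Q w ≠ 0}) :
    ((l.map (fun w => Cfsg.reflectionMatrix (⇑Q) w.1)).prod).det = (-1) ^ l.length := by
  induction l with
  | nil => simp
  | cons a l ih =>
    rw [List.map_cons, List.prod_cons, Matrix.det_mul, ih,
      Cfsg.Agent.Helper13.reflectionMatrix_det Q a.1 a.2, List.length_cons, pow_succ]
    ring

theorem mulVecLin_prod_reflectionMatrix (h2 : (2 : F) ≠ 0) (Q : QuadraticForm F (Fin n → F))
    (l : List {w : Fin n → F // Q w ≠ 0}) :
    ((l.map (fun w => Cfsg.reflectionMatrix (⇑Q) w.1)).prod).mulVecLin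
      = (l.map (fun w => bilinRefl (QuadraticMap.polarBilin Q) w.1)).prod := by
  induction l with
  | nil =>
    simp only [List.map_nil, List.prod_nil, Matrix.mulVecLin_one]
    rfl
  | cons a l ih =>
    rw [List.map_cons, List.prod_cons, List.map_cons, List.prod_cons, Matrix.mulVecLin_mul, ih,
      mulVecLin_reflectionMatrix h2 Q a.1 a.2]
    rfl

/-- Every isometry is a product of reflections (matrix form). -/
theorem exists_reflIso_list (h2 : (2 : F) ≠ 0) (Q : QuadraticForm F (Fin n → F))
    (hQ : (QuadraticMap.polarBilin Q).Nondegenerate) (g : ↥(Cfsg.isometryGroup F (⇑Q))) :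
    ∃ l : List {w : Fin n → F // Q w ≠ 0}, g = (l.map (reflIso Q)).prod := by
  have hg := (Cfsg.Agent.Helper13.mem_isometryGroup_iff (⇑Q) g.1).mp g.2
  obtain ⟨ws, hws⟩ := exists_reflection_list h2 n (QuadraticMap.polarBilin Q)
    (polarBilin_isSymm Q) hQ (Module.finrank_fin_fun F)
    ((g : Matrix.GeneralLinearGroup (Fin n) F) : Matrix (Fin n) (Fin n) F).mulVecLin
    (fun x y => by
      rw [Matrix.mulVecLin_apply, Matrix.mulVecLin_apply, QuadraticMap.polarBilin_apply_apply,
        QuadraticMap.polarBilin_apply_apply]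
      exact Cfsg.Agent.Helper13.polar_mulVec_of_isometry Q _ hg x y)
  have hconv : ∀ w : {w : Fin n → F // QuadraticMap.polarBilin Q w w ≠ 0}, Q w.1 ≠ 0 := by
    intro w hw
    apply w.2
    rw [polarBilin_self, hw, mul_zero]
  let l : List {w : Fin n → F // Q w ≠ 0} := ws.map (fun w => ⟨w.1, hconv w⟩)
  refine ⟨l, ?_⟩
  apply Subtype.ext
  apply Units.ext
  rw [prod_reflIso_val]
  have hinj : Function.Injective (Matrix.toLin' : Matrix (Fin n) (Fin n) F → _) :=
    Matrix.toLin'.injective
  apply hinj
  rw [Matrix.toLin'_apply', Matrix.toLin'_apply', mulVecLin_prod_reflectionMatrix h2, hws]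
  simp only [l, List.map_map]
  rfl

end ReflGen

end Cfsg.Agent.Helper14
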