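import Mathlib
import Cfsg.Prelude.Def_ClassicalGeometry
import Cfsg.Agent.Helper13.Isom
import Cfsg.Agent.Helper14.ReflGen
import Cfsg.Agent.Helper14.CharTwoRefl

/-!
# Generation of `Cfsg.isometryGroup` by reflections (all characteristics)
-/

set_option autoImplicit false

namespace Cfsg.Agent.Helper14

open Module Matrix

section ReflGenTwo

variable {F : Type*} [Field F] {n : ℕ}

/-- The matrix reflection is the abstract quadratic reflection `qRefl`. -/
theorem mulVecLin_reflectionMatrix_eq_qRefl (Q : QuadraticForm F (Fin n → F)) (w : Fin n → F) :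
    (Cfsg.reflectionMatrix (⇑Q) w).mulVecLin = qRefl Q w := by
  apply LinearMap.ext
  intro x
  rw [Matrix.mulVecLin_apply, Cfsg.Agent.Helper13.reflectionMatrix_mulVec, qRefl_apply,
    QuadraticMap.polarBilin_apply_apply]

theorem mulVecLin_prod_reflectionMatrix_eq_qRefl (Q : QuadraticForm F (Fin n → F))
    (l : List {w : Fin n → F // Q w ≠ 0}) :
    ((l.map (fun w => Cfsg.reflectionMatrix (⇑Q) w.1)).prod).mulVecLin
      = (l.map (fun w => qRefl Q w.1)).prod := by
  induction l with
  | nil =>
    simp only [List.map_nil, List.prod_nil, Matrix.mulVecLin_one]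
    rfl
  | cons a l ih =>
    rw [List.map_cons, List.prod_cons, List.map_cons, List.prod_cons, Matrix.mulVecLin_mul, ih,
      mulVecLin_reflectionMatrix_eq_qRefl Q a.1]
    rfl

/-- Characteristic two: every isometry is a product of reflections (matrix form), except for
`(|F|, n) = (2, 4)`. -/
theorem exists_reflIso_list_two [CharP F 2] (Q : QuadraticForm F (Fin n → F))
    (hQ : (QuadraticMap.polarBilin Q).Nondegenerate)
    (h : (∃ a : F, a ≠ 0 ∧ a ≠ 1) ∨ n ≠ 4) (g : ↥(Cfsg.isometryGroup F (⇑Q))) :
    ∃ l : List {w : Fin n → F // Q w ≠ 0}, g = (l.map (reflIso Q)).prod := by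
  have hg := (Cfsg.Agent.Helper13.mem_isometryGroup_iff (⇑Q) g.1).mp g.2
  have h' : (∃ a : F, a ≠ 0 ∧ a ≠ 1) ∨ finrank F (Fin n → F) ≠ 4 := by
    rw [Module.finrank_fin_fun]
    exact h
  obtain ⟨l, hl⟩ := isReflProd_of_isometry Q hQ h'
    ((g : Matrix.GeneralLinearGroup (Fin n) F) : Matrix (Fin n) (Fin n) F).mulVecLin
    (fun x => by rw [Matrix.mulVecLin_apply]; exact hg x)
  refine ⟨l, ?_⟩
  apply Subtype.ext
  apply Units.ext
  rw [prod_reflIso_val]
  have hinj : Function.Injective (Matrix.toLin' : Matrix (Fin n) (Fin n) F → _) :=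
    Matrix.toLin'.injective
  apply hinj
  rw [Matrix.toLin'_apply', Matrix.toLin'_apply', mulVecLin_prod_reflectionMatrix_eq_qRefl, hl]

/-- Every isometry of a quadratic form with non-degenerate polar form over a finite field is a
product of reflections, except for `(|F|, n) = (2, 4)`. -/
theorem exists_reflIso_list_all [Fintype F] (Q : QuadraticForm F (Fin n → F))
    (hQ : (QuadraticMap.polarBilin Q).Nondegenerate)
    (h : Fintype.card F ≠ 2 ∨ n ≠ 4) (g : ↥(Cfsg.isometryGroup F (⇑Q))) :
    ∃ l : List {w : Fin n → F // Q w ≠ 0}, g = (l.map (reflIso Q)).prod := by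
  classical
  by_cases h2 : (2 : F) = 0
  · have : CharP F 2 := CharTwo.of_one_ne_zero_of_two_eq_zero one_ne_zero h2
    apply exists_reflIso_list_two Q hQ _ g
    rcases h with h | h
    · left
      by_contra hcon
      push Not at hcon
      apply h
      have hsub : (Finset.univ : Finset F) ⊆ {0, 1} := by
        intro a _
        by_cases ha : a = 0
        · simp [ha]
        · simp [hcon a ha]
      have h1 := Finset.card_le_card hsub
      have h3 : ({0, 1} : Finset F).card ≤ 2 := Finset.card_le_two
      have h4 : 1 < Fintype.card F := Fintype.one_lt_card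
      rw [Finset.card_univ] at h1
      omega
    · right
      exact h
  · exact exists_reflIso_list h2 Q hQ g

end ReflGenTwo

end Cfsg.Agent.Helper14
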