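import Mathlib
import Cfsg.Prelude.Def_ClassicalGeometry
import Cfsg.Agent.Helper14.ReflGenTwo
import Cfsg.Agent.Helper14.DicksonParity

/-!
# The Dickson invariant (parity of the residual dimension) as a homomorphism on
`Cfsg.isometryGroup F Q`
-/

set_option autoImplicit false

namespace Cfsg.Agent.Helper14

open Module Matrix

section DicksonHom

variable {F : Type*} [Field F] {n : ℕ}

/-- The linear map of an isometry. -/
noncomputable def isoLin (Q : QuadraticForm F (Fin n → F)) (g : ↥(Cfsg.isometryGroup F (⇑Q))) :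
    (Fin n → F) →ₗ[F] (Fin n → F) :=
  ((g : Matrix.GeneralLinearGroup (Fin n) F) : Matrix (Fin n) (Fin n) F).mulVecLin

theorem isoLin_apply (Q : QuadraticForm F (Fin n → F)) (g : ↥(Cfsg.isometryGroup F (⇑Q)))
    (x : Fin n → F) :
    isoLin Q g x = ((g : Matrix.GeneralLinearGroup (Fin n) F) : Matrix (Fin n) (Fin n) F) *ᵥ x :=
  rfl

theorem isoLin_mul (Q : QuadraticForm F (Fin n → F)) (g h : ↥(Cfsg.isometryGroup F (⇑Q))) :
    isoLin Q (g * h) = isoLin Q g * isoLin Q h := by
  unfold isoLin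
  rw [Subgroup.coe_mul, Units.val_mul, Matrix.mulVecLin_mul]
  rfl

theorem isoLin_one (Q : QuadraticForm F (Fin n → F)) :
    isoLin Q (1 : ↥(Cfsg.isometryGroup F (⇑Q))) = 1 := by
  unfold isoLin
  rw [Subgroup.coe_one, Units.val_one, Matrix.mulVecLin_one]
  rfl

theorem isoLin_reflIso (Q : QuadraticForm F (Fin n → F)) (w : {w : Fin n → F // Q w ≠ 0}) :
    isoLin Q (reflIso Q w) = qRefl Q w.1 := by
  unfold isoLin
  rw [reflIso_val, mulVecLin_reflectionMatrix_eq_qRefl]

theorem isoLin_isometry (Q : QuadraticForm F (Fin n → F)) (g : ↥(Cfsg.isometryGroup F (⇑Q)))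
    (x : Fin n → F) : Q (isoLin Q g x) = Q x :=
  (Cfsg.Agent.Helper13.mem_isometryGroup_iff (⇑Q) g.1).mp g.2 x

/-- The dimension of the fixed space of an isometry. -/
noncomputable def fixDim (Q : QuadraticForm F (Fin n → F)) (g : ↥(Cfsg.isometryGroup F (⇑Q))) : ℕ :=
  finrank F ↥(fixSpace (isoLin Q g))

theorem fixDim_one (Q : QuadraticForm F (Fin n → F)) :
    fixDim Q (1 : ↥(Cfsg.isometryGroup F (⇑Q))) = n := by
  unfold fixDim
  rw [isoLin_one, fixSpace_one, finrank_top, Module.finrank_fin_fun]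

theorem fixDim_reflIso_mul (Q : QuadraticForm F (Fin n → F))
    (hQ : (QuadraticMap.polarBilin Q).Nondegenerate) (w : {w : Fin n → F // Q w ≠ 0})
    (g : ↥(Cfsg.isometryGroup F (⇑Q))) :
    ((fixDim Q (reflIso Q w * g) : ℕ) : ZMod 2) = (fixDim Q g : ZMod 2) + 1 := by
  unfold fixDim
  rw [isoLin_mul, isoLin_reflIso]
  have h2 : (1 : ZMod 2) + 1 = 0 := by decide
  rcases finrank_fixSpace_qRefl_mul Q hQ (isoLin Q g) (isoLin_isometry Q g) w.1 w.2 with h | h
  · rw [h]
    push_cast
    ring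
  · rw [← h]
    push_cast
    linear_combination -h2

theorem fixDim_prod_mul (Q : QuadraticForm F (Fin n → F))
    (hQ : (QuadraticMap.polarBilin Q).Nondegenerate) (l : List {w : Fin n → F // Q w ≠ 0})
    (g : ↥(Cfsg.isometryGroup F (⇑Q))) :
    ((fixDim Q ((l.map (reflIso Q)).prod * g) : ℕ) : ZMod 2) = (fixDim Q g : ZMod 2) + l.length := by
  induction l with
  | nil => simp
  | cons a l ih =>
    rw [List.map_cons, List.prod_cons, mul_assoc, fixDim_reflIso_mul Q hQ, ih, List.length_cons]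
    push_cast
    ring

theorem fixDim_prod (Q : QuadraticForm F (Fin n → F))
    (hQ : (QuadraticMap.polarBilin Q).Nondegenerate) (l : List {w : Fin n → F // Q w ≠ 0}) :
    ((fixDim Q ((l.map (reflIso Q)).prod) : ℕ) : ZMod 2) = (n : ZMod 2) + l.length := by
  have h := fixDim_prod_mul Q hQ l 1
  rw [mul_one, fixDim_one] at h
  exact h

/-- **The Dickson invariant** `g ↦ n - dim Fix(g) mod 2`, a homomorphism whenever the isometry
group is generated by reflections. -/
noncomputable def dicksonParity [Fintype F] (Q : QuadraticForm F (Fin n → F))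
    (hQ : (QuadraticMap.polarBilin Q).Nondegenerate) (h : Fintype.card F ≠ 2 ∨ n ≠ 4) :
    ↥(Cfsg.isometryGroup F (⇑Q)) →* Multiplicative (ZMod 2) where
  toFun g := Multiplicative.ofAdd ((fixDim Q g : ZMod 2) + n)
  map_one' := by
    rw [fixDim_one]
    have h2 : ∀ a : ZMod 2, a + a = 0 := by decide
    rw [h2]
    rfl
  map_mul' g g' := by
    obtain ⟨l, rfl⟩ := exists_reflIso_list_all Q hQ h g
    rw [fixDim_prod_mul Q hQ, fixDim_prod Q hQ, ← ofAdd_add]
    congr 1
    have h2 : ∀ a : ZMod 2, a + a = 0 := by decide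
    linear_combination -h2 (n : ZMod 2)

theorem dicksonParity_prod [Fintype F] (Q : QuadraticForm F (Fin n → F))
    (hQ : (QuadraticMap.polarBilin Q).Nondegenerate) (h : Fintype.card F ≠ 2 ∨ n ≠ 4)
    (l : List {w : Fin n → F // Q w ≠ 0}) :
    dicksonParity Q hQ h ((l.map (reflIso Q)).prod) = Multiplicative.ofAdd (l.length : ZMod 2) := by
  change Multiplicative.ofAdd ((fixDim Q ((l.map (reflIso Q)).prod) : ZMod 2) + n) = _
  rw [fixDim_prod Q hQ]
  congr 1
  have h2 : ∀ a : ZMod 2, a + a = 0 := by decide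
  linear_combination h2 (n : ZMod 2)

theorem dicksonParity_reflIso [Fintype F] (Q : QuadraticForm F (Fin n → F))
    (hQ : (QuadraticMap.polarBilin Q).Nondegenerate) (h : Fintype.card F ≠ 2 ∨ n ≠ 4)
    (w : {w : Fin n → F // Q w ≠ 0}) :
    dicksonParity Q hQ h (reflIso Q w) = Multiplicative.ofAdd (1 : ZMod 2) := by
  have := dicksonParity_prod Q hQ h [w]
  simpa using this

end DicksonHom

end Cfsg.Agent.Helper14
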