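import Mathlib
import Cfsg.Prelude.Def_ClassicalGeometry
import Cfsg.Agent.Helper14.DicksonHom

/-!
# In characteristic two all reflections are conjugate modulo the commutator subgroup
-/

set_option autoImplicit false

namespace Cfsg.Agent.Helper14

open Module Matrix
open scoped commutatorElement

section Abstract

variable {F V : Type*} [Field F] [AddCommGroup V] [Module F V]

theorem qRefl_smul (Q : QuadraticForm F V) (c : F) (hc : c ≠ 0) (w : V) :
    qRefl Q (c • w) = qRefl Q w := by
  apply LinearMap.ext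
  intro x
  rw [qRefl_apply, qRefl_apply, QuadraticMap.map_smul, map_smul, LinearMap.smul_apply, smul_smul]
  congr 2
  simp only [smul_eq_mul]
  by_cases hw : Q w = 0
  · simp [hw]
  · field_simp

theorem qRefl_map (Q : QuadraticForm F V) (g : V →ₗ[F] V) (hg : ∀ x, Q (g x) = Q x) (w x : V) :
    g (qRefl Q w x) = qRefl Q (g w) (g x) := by
  rw [qRefl_apply, qRefl_apply, map_sub, map_smul, hg, qr_polar_isometry Q g hg]

theorem qRefl_sub_swap (Q : QuadraticForm F V) (u v : V) (huv : Q u = Q v)
    (h : Q (u - v) ≠ 0) : qRefl Q (u - v) u = v := by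
  have h1 : Q (u - v) = 2 * Q u - QuadraticMap.polarBilin Q u v := by
    rw [sub_eq_add_neg, ← neg_one_smul F v, qr_quad_add_smul, ← huv]
    ring
  have h2 : QuadraticMap.polarBilin Q (u - v) u = Q (u - v) := by
    rw [h1, map_sub, LinearMap.sub_apply, qr_polar_self, qr_polar_comm Q v u]
  rw [qRefl_apply, h2, inv_mul_cancel₀ h, one_smul]
  abel

/-- Two orthogonal independent non-singular vectors in characteristic two have a common
non-orthogonal non-singular vector, except over the field with two elements in dimension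
four. -/
theorem exists_nonsingular_nonorth [CharP F 2] [FiniteDimensional F V] (Q : QuadraticForm F V)
    (hQ : (QuadraticMap.polarBilin Q).Nondegenerate) (u v : V) (hu : Q u ≠ 0) (hv : Q v ≠ 0)
    (huv : QuadraticMap.polarBilin Q u v = 0) (hind : v ∉ Submodule.span F {u})
    (h : (∃ a : F, a ≠ 0 ∧ a ≠ 1) ∨ finrank F V ≠ 4) :
    ∃ w, Q w ≠ 0 ∧ QuadraticMap.polarBilin Q u w ≠ 0 ∧ QuadraticMap.polarBilin Q v w ≠ 0 := by
  have h2F : (2 : F) = 0 := CharTwo.two_eq_zero
  have hu0 : u ≠ 0 := by
    intro h0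
    rw [h0, map_zero] at hu
    exact hu rfl
  have hv0 : v ≠ 0 := by
    intro h0
    rw [h0, map_zero] at hv
    exact hv rfl
  have huu : QuadraticMap.polarBilin Q u u = 0 := by rw [qr_polar_self, h2F, zero_mul]
  have hvv : QuadraticMap.polarBilin Q v v = 0 := by rw [qr_polar_self, h2F, zero_mul]
  have hvu : QuadraticMap.polarBilin Q v u = 0 := by rw [qr_polar_comm, huv]
  -- a vector non-orthogonal to both
  obtain ⟨x, hxu, hxv⟩ : ∃ x, QuadraticMap.polarBilin Q u x ≠ 0 ∧
      QuadraticMap.polarBilin Q v x ≠ 0 := by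
    obtain ⟨x1, hx1⟩ : ∃ x, QuadraticMap.polarBilin Q u x ≠ 0 := by
      by_contra hcon
      push Not at hcon
      exact hu0 (hQ.1 u hcon)
    obtain ⟨x2, hx2⟩ : ∃ x, QuadraticMap.polarBilin Q v x ≠ 0 := by
      by_contra hcon
      push Not at hcon
      exact hv0 (hQ.1 v hcon)
    by_cases h1 : QuadraticMap.polarBilin Q v x1 = 0
    · by_cases h3 : QuadraticMap.polarBilin Q u x2 = 0
      · refine ⟨x1 + x2, ?_, ?_⟩
        · rw [map_add, h3, add_zero]
          exact hx1
        · rw [map_add, h1, zero_add]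
          exact hx2
      · exact ⟨x2, h3, hx2⟩
    · exact ⟨x1, hx1, h1⟩
  by_cases hQx : Q x ≠ 0
  · exact ⟨x, hQx, hxu, hxv⟩
  push Not at hQx
  rcases h with ⟨a, ha0, ha1⟩ | hdim
  · obtain ⟨c, hc⟩ : ∃ c : F, c = a * ((Q u)⁻¹ * QuadraticMap.polarBilin Q u x) := ⟨_, rfl⟩
    have hc0 : c ≠ 0 := by
      rw [hc]
      exact mul_ne_zero ha0 (mul_ne_zero (inv_ne_zero hu) hxu)
    refine ⟨x + c • u, ?_, ?_, ?_⟩
    · rw [qr_quad_add_smul, hQx, qr_polar_comm Q x u]
      have h3 : c * Q u = a * QuadraticMap.polarBilin Q u x := by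
        rw [hc]
        field_simp
      have h4 : 0 + c * c * Q u + c * QuadraticMap.polarBilin Q u x
          = c * QuadraticMap.polarBilin Q u x * (a + 1) := by
        linear_combination c * h3
      rw [h4]
      refine mul_ne_zero (mul_ne_zero hc0 hxu) ?_
      intro h5
      apply ha1
      linear_combination h5 - h2F
    · rw [map_add, map_smul, huu, smul_zero, add_zero]
      exact hxu
    · rw [map_add, map_smul, hvu, smul_zero, add_zero]
      exact hxv
  · have hli : LinearIndependent F ![u, v] := by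
      rw [LinearIndependent.pair_iff' hu0]
      intro c hc
      exact hind (Submodule.mem_span_singleton.mpr ⟨c, hc⟩)
    have hfr : finrank F ↥(Submodule.span F (Set.range ![u, v])) = 2 := by
      rw [finrank_span_eq_card hli]
      simp
    have hrange : Set.range ![u, v] = {u, v} := by
      simp [Set.pair_comm]
    rw [hrange] at hfr
    obtain ⟨P₂, hP₂⟩ : ∃ P₂, P₂ = Submodule.span F {u, v} := ⟨_, rfl⟩
    rw [← hP₂] at hfr
    have hP₂mem : ∀ n ∈ P₂, ∀ m ∈ P₂, QuadraticMap.polarBilin Q n m = 0 := by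
      intro n hn m hm
      rw [hP₂] at hn hm
      obtain ⟨a, b, rfl⟩ := Submodule.mem_span_pair.mp hn
      obtain ⟨c, d, rfl⟩ := Submodule.mem_span_pair.mp hm
      simp only [map_add, map_smul, LinearMap.add_apply, LinearMap.smul_apply, smul_eq_mul, huu,
        hvv, huv, hvu, mul_zero, add_zero]
    have hPle : P₂ ≤ LinearMap.BilinForm.orthogonal (QuadraticMap.polarBilin Q) P₂ := by
      intro m hm
      rw [LinearMap.BilinForm.mem_orthogonal_iff]
      intro n hn
      exact hP₂mem n hn m hm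
    have h1 := Submodule.finrank_mono hPle
    have h2 := LinearMap.BilinForm.finrank_orthogonal hQ P₂
    rw [hfr] at h1 h2
    obtain ⟨N, hN⟩ : ∃ N, N = LinearMap.BilinForm.orthogonal (QuadraticMap.polarBilin Q) P₂ :=
      ⟨_, rfl⟩
    rw [← hN] at h1 h2
    have hex : ∃ y ∈ N, Q (x + y) ≠ 0 := by
      by_contra hcon
      push Not at hcon
      have hNle : N ≤ LinearMap.BilinForm.orthogonal (QuadraticMap.polarBilin Q) N := by
        intro m hm
        rw [LinearMap.BilinForm.mem_orthogonal_iff]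
        intro n hn
        change QuadraticMap.polarBilin Q n m = 0
        have e1 := hcon (n + m) (N.add_mem hn hm)
        have e2 := hcon n hn
        have e3 := hcon m hm
        rw [← add_assoc, qr_quad_add, e2, map_add, LinearMap.add_apply] at e1
        rw [qr_quad_add, hQx] at e3
        linear_combination e1 - e3
      have h3 := Submodule.finrank_mono hNle
      have h4 := LinearMap.BilinForm.finrank_orthogonal hQ N
      omega
    obtain ⟨y, hyN, hy⟩ := hex
    rw [hN, LinearMap.BilinForm.mem_orthogonal_iff] at hyN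
    have hyu : QuadraticMap.polarBilin Q u y = 0 :=
      hyN u (by rw [hP₂]; exact Submodule.subset_span (by simp))
    have hyv : QuadraticMap.polarBilin Q v y = 0 :=
      hyN v (by rw [hP₂]; exact Submodule.subset_span (by simp))
    refine ⟨x + y, hy, ?_, ?_⟩
    · rw [map_add, hyu, add_zero]
      exact hxu
    · rw [map_add, hyv, add_zero]
      exact hxv

end Abstract

section GroupLevel

variable {F : Type*} [Field F] {n : ℕ}

theorem exists_ne_zero_one_of_card_ne_two [Fintype F] (h : Fintype.card F ≠ 2) :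
    ∃ a : F, a ≠ 0 ∧ a ≠ 1 := by
  classical
  by_contra hcon
  push Not at hcon
  apply h
  have hsub : (Finset.univ : Finset F) ⊆ {0, 1} := by
    intro a _
    by_cases ha : a = 0
    · simp [ha]
    · simp [hcon a ha]
  have h1 := Finset.card_le_card hsub
  have h3 : ({0, 1} : Finset F).card ≤ 2 := Finset.card_le_two
  have h4 : 1 < Fintype.card F := Fintype.one_lt_card
  rw [Finset.card_univ] at h1
  omega

theorem isoLin_injective (Q : QuadraticForm F (Fin n → F)) : Function.Injective (isoLin Q) := by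
  intro g h hgh
  apply Subtype.ext
  apply Units.ext
  have hinj : Function.Injective (Matrix.toLin' : Matrix (Fin n) (Fin n) F → _) :=
    Matrix.toLin'.injective
  apply hinj
  rw [Matrix.toLin'_apply', Matrix.toLin'_apply']
  exact hgh

theorem reflIso_mul_self (Q : QuadraticForm F (Fin n → F)) (w : {w : Fin n → F // Q w ≠ 0}) :
    reflIso Q w * reflIso Q w = 1 := by
  apply isoLin_injective
  rw [isoLin_mul, isoLin_reflIso, isoLin_one]
  apply LinearMap.ext
  intro x
  rw [Module.End.mul_apply, qRefl_qRefl Q _ w.2]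
  rfl

theorem reflIso_inv (Q : QuadraticForm F (Fin n → F)) (w : {w : Fin n → F // Q w ≠ 0}) :
    (reflIso Q w)⁻¹ = reflIso Q w :=
  inv_eq_of_mul_eq_one_right (reflIso_mul_self Q w)

theorem mul_reflIso (Q : QuadraticForm F (Fin n → F)) (g : ↥(Cfsg.isometryGroup F (⇑Q)))
    (w : {w : Fin n → F // Q w ≠ 0}) :
    g * reflIso Q w
      = reflIso Q ⟨isoLin Q g w.1, by rw [isoLin_isometry]; exact w.2⟩ * g := by
  apply isoLin_injective
  rw [isoLin_mul, isoLin_mul, isoLin_reflIso, isoLin_reflIso]
  apply LinearMap.ext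
  intro x
  rw [Module.End.mul_apply, Module.End.mul_apply]
  exact qRefl_map Q _ (isoLin_isometry Q g) w.1 x

theorem reflIso_smul (Q : QuadraticForm F (Fin n → F)) (c : F) (hc : c ≠ 0)
    (w : {w : Fin n → F // Q w ≠ 0}) (hcw : Q (c • w.1) ≠ 0) :
    reflIso Q ⟨c • w.1, hcw⟩ = reflIso Q w := by
  apply isoLin_injective
  rw [isoLin_reflIso, isoLin_reflIso]
  exact qRefl_smul Q c hc w.1

/-- Two reflections are related when their product lies in the commutator subgroup. -/
def ReflRel (Q : QuadraticForm F (Fin n → F)) (u v : {w : Fin n → F // Q w ≠ 0}) : Prop :=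
  reflIso Q u * reflIso Q v ∈ commutator ↥(Cfsg.isometryGroup F (⇑Q))

theorem ReflRel.rfl' (Q : QuadraticForm F (Fin n → F)) (u : {w : Fin n → F // Q w ≠ 0}) :
    ReflRel Q u u := by
  unfold ReflRel
  rw [reflIso_mul_self]
  exact Subgroup.one_mem _

theorem ReflRel.symm' {Q : QuadraticForm F (Fin n → F)} {u v : {w : Fin n → F // Q w ≠ 0}}
    (h : ReflRel Q u v) : ReflRel Q v u := by
  unfold ReflRel at h ⊢
  have := Subgroup.inv_mem _ h
  rwa [_root_.mul_inv_rev, reflIso_inv, reflIso_inv] at this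

theorem ReflRel.trans' {Q : QuadraticForm F (Fin n → F)} {u v w : {w : Fin n → F // Q w ≠ 0}}
    (h1 : ReflRel Q u v) (h2 : ReflRel Q v w) : ReflRel Q u w := by
  unfold ReflRel at h1 h2 ⊢
  have := Subgroup.mul_mem _ h1 h2
  rwa [mul_assoc, ← mul_assoc (reflIso Q v), reflIso_mul_self, one_mul] at this

theorem reflRel_of_conj (Q : QuadraticForm F (Fin n → F)) (g : ↥(Cfsg.isometryGroup F (⇑Q)))
    (a b : {w : Fin n → F // Q w ≠ 0}) (h : g * reflIso Q b = reflIso Q a * g) :
    ReflRel Q a b := by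
  have e : reflIso Q a * reflIso Q b = ⁅g, reflIso Q b⁆ := by
    rw [commutatorElement_def, reflIso_inv, h, mul_assoc (reflIso Q a) g, mul_inv_cancel, mul_one]
  unfold ReflRel
  rw [e, commutator_def]
  exact Subgroup.commutator_mem_commutator (Subgroup.mem_top _) (Subgroup.mem_top _)

theorem reflRel_of_eq (Q : QuadraticForm F (Fin n → F)) (a b : {w : Fin n → F // Q w ≠ 0})
    (h : reflIso Q a = reflIso Q b) : ReflRel Q a b := by
  unfold ReflRel
  rw [h, reflIso_mul_self]
  exact Subgroup.one_mem _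

/-- In characteristic two over a finite field, the product of any two reflections lies in the
commutator subgroup (except for `(|F|, n) = (2, 4)`). -/
theorem reflRel_all [Fintype F] [CharP F 2] (Q : QuadraticForm F (Fin n → F))
    (hQ : (QuadraticMap.polarBilin Q).Nondegenerate) (h : Fintype.card F ≠ 2 ∨ n ≠ 4)
    (u v : {w : Fin n → F // Q w ≠ 0}) : ReflRel Q u v := by
  have h2F : (2 : F) = 0 := CharTwo.two_eq_zero
  have key1 : ∀ u v : {w : Fin n → F // Q w ≠ 0}, Q u.1 = Q v.1 →
      QuadraticMap.polarBilin Q u.1 v.1 ≠ 0 → ReflRel Q v u := by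
    intro u v huv hB
    have ha : Q (u.1 - v.1) ≠ 0 := by
      rw [qr_quad_sub, ← huv]
      intro h0
      apply hB
      linear_combination (Q u.1) * h2F - h0
    apply reflRel_of_conj Q (reflIso Q ⟨u.1 - v.1, ha⟩) v u
    rw [mul_reflIso]
    congr 2
    apply Subtype.ext
    change isoLin Q (reflIso Q ⟨u.1 - v.1, ha⟩) u.1 = v.1
    rw [isoLin_reflIso]
    exact qRefl_sub_swap Q u.1 v.1 huv ha
  have key2 : ∀ u v : {w : Fin n → F // Q w ≠ 0},
      QuadraticMap.polarBilin Q u.1 v.1 ≠ 0 → ReflRel Q u v := by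
    intro u v hB
    obtain ⟨s, hs⟩ := FiniteField.isSquare_of_char_two (ringChar.eq F 2) (Q u.1 * (Q v.1)⁻¹)
    have hs0 : s ≠ 0 := by
      intro h0
      rw [h0, mul_zero] at hs
      exact (mul_ne_zero u.2 (inv_ne_zero v.2)) hs
    have hQv' : Q (s • v.1) = Q u.1 := by
      rw [QuadraticMap.map_smul, smul_eq_mul, ← hs, mul_assoc, inv_mul_cancel₀ v.2, mul_one]
    have hv' : Q (s • v.1) ≠ 0 := by
      rw [hQv']
      exact u.2
    have h1 := key1 u ⟨s • v.1, hv'⟩ hQv'.symm (by
      change QuadraticMap.polarBilin Q u.1 (s • v.1) ≠ 0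
      rw [map_smul, smul_eq_mul]
      exact mul_ne_zero hs0 hB)
    have h3 : ReflRel Q ⟨s • v.1, hv'⟩ v := reflRel_of_eq Q _ _ (reflIso_smul Q s hs0 v hv')
    exact (h1.symm').trans' h3
  by_cases hB : QuadraticMap.polarBilin Q u.1 v.1 ≠ 0
  · exact key2 u v hB
  push Not at hB
  by_cases hspan : v.1 ∈ Submodule.span F {u.1}
  · obtain ⟨c, hc⟩ := Submodule.mem_span_singleton.mp hspan
    have hc0 : c ≠ 0 := by
      intro h0
      have hv := v.2
      rw [← hc, h0, zero_smul, map_zero] at hv
      exact hv rfl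
    have hcu : Q (c • u.1) ≠ 0 := by
      rw [hc]
      exact v.2
    have e : v = ⟨c • u.1, hcu⟩ := Subtype.ext hc.symm
    apply ReflRel.symm'
    rw [e]
    exact reflRel_of_eq Q _ _ (reflIso_smul Q c hc0 u hcu)
  · have h' : (∃ a : F, a ≠ 0 ∧ a ≠ 1) ∨ finrank F (Fin n → F) ≠ 4 := by
      rw [Module.finrank_fin_fun]
      rcases h with h | h
      · exact Or.inl (exists_ne_zero_one_of_card_ne_two h)
      · exact Or.inr h
    obtain ⟨w, hw, hwu, hwv⟩ := exists_nonsingular_nonorth Q hQ u.1 v.1 u.2 v.2 hB hspan h'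
    have h1 := key2 u ⟨w, hw⟩ hwu
    have h3 := key2 v ⟨w, hw⟩ hwv
    exact h1.trans' h3.symm'

end GroupLevel

end Cfsg.Agent.Helper14
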