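import Mathlib
import Cfsg.Prelude.Def_ClassicalGeometry
import Cfsg.Agent.Helper14.ReflConj

/-!
# `|O : Ω| = 2` in characteristic two
-/

set_option autoImplicit false

namespace Cfsg.Agent.Helper14

open Module Matrix

section OmegaTwo

variable {F : Type*} [Field F] {n : ℕ}

theorem exists_nonsingular (Q : QuadraticForm F (Fin n → F))
    (hQ : (QuadraticMap.polarBilin Q).Nondegenerate) (hn : 1 ≤ n) : ∃ w, Q w ≠ 0 := by
  by_contra hcon
  push Not at hcon
  have h0 : ∀ x : Fin n → F, x = 0 := by
    intro x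
    apply hQ.1 x
    intro y
    rw [QuadraticMap.polarBilin_apply_apply, QuadraticMap.polar, hcon, hcon, hcon]
    ring
  have h1 := h0 (Pi.single ⟨0, hn⟩ 1)
  have h2 := congrFun h1 ⟨0, hn⟩
  simp at h2

/-- products of reflections of even length lie in the commutator subgroup. -/
theorem prod_reflIso_mem_commutator [Fintype F] [CharP F 2] (Q : QuadraticForm F (Fin n → F))
    (hQ : (QuadraticMap.polarBilin Q).Nondegenerate) (h : Fintype.card F ≠ 2 ∨ n ≠ 4)
    (l : List {w : Fin n → F // Q w ≠ 0}) :
    (Even l.length → (l.map (reflIso Q)).prod ∈ commutator ↥(Cfsg.isometryGroup F (⇑Q))) ∧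
    (Odd l.length → ∀ w, reflIso Q w * (l.map (reflIso Q)).prod
      ∈ commutator ↥(Cfsg.isometryGroup F (⇑Q))) := by
  induction l with
  | nil =>
    refine ⟨fun _ => ?_, fun h1 => ?_⟩
    · simp only [List.map_nil, List.prod_nil]
      exact Subgroup.one_mem _
    · simp at h1
  | cons a l ih =>
    refine ⟨fun h1 => ?_, fun h1 w => ?_⟩
    · rw [List.length_cons, Nat.even_add_one, Nat.not_even_iff_odd] at h1
      rw [List.map_cons, List.prod_cons]
      exact ih.2 h1 a
    · rw [List.length_cons, Nat.odd_add_one, Nat.not_odd_iff_even] at h1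
      rw [List.map_cons, List.prod_cons, ← mul_assoc]
      exact Subgroup.mul_mem _ (reflRel_all Q hQ h w a) (ih.1 h1)

theorem ker_dicksonParity [Fintype F] [CharP F 2] (Q : QuadraticForm F (Fin n → F))
    (hQ : (QuadraticMap.polarBilin Q).Nondegenerate) (h : Fintype.card F ≠ 2 ∨ n ≠ 4) :
    (dicksonParity Q hQ h).ker = commutator ↥(Cfsg.isometryGroup F (⇑Q)) := by
  apply le_antisymm
  · intro g hg
    rw [MonoidHom.mem_ker] at hg
    obtain ⟨l, rfl⟩ := exists_reflIso_list_all Q hQ h g
    rw [dicksonParity_prod] at hg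
    have h1 : ((l.length : ℕ) : ZMod 2) = 0 := by
      have := congrArg Multiplicative.toAdd hg
      simpa using this
    have h2 : Even l.length := by
      rw [even_iff_two_dvd]
      exact (ZMod.natCast_eq_zero_iff _ _).mp h1
    exact (prod_reflIso_mem_commutator Q hQ h l).1 h2
  · exact Abelianization.commutator_subset_ker _

theorem dicksonParity_surjective [Fintype F] (Q : QuadraticForm F (Fin n → F))
    (hQ : (QuadraticMap.polarBilin Q).Nondegenerate) (h : Fintype.card F ≠ 2 ∨ n ≠ 4)
    (hn : 1 ≤ n) : Function.Surjective (dicksonParity Q hQ h) := by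
  obtain ⟨w, hw⟩ := exists_nonsingular Q hQ hn
  intro z
  have hz : ∀ a : ZMod 2, a = 0 ∨ a = 1 := by decide
  rcases hz (Multiplicative.toAdd z) with h0 | h1
  · refine ⟨1, ?_⟩
    rw [map_one]
    apply Multiplicative.toAdd.injective
    rw [h0]
    rfl
  · refine ⟨reflIso Q ⟨w, hw⟩, ?_⟩
    rw [dicksonParity_reflIso]
    apply Multiplicative.toAdd.injective
    rw [h1]
    rfl

/-- `|O : Ω| = 2` for a quadratic form with non-degenerate polar form over a finite field of
characteristic two, `(|F|, n) ≠ (2, 4)`. -/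
theorem index_commutator_eq_two [Fintype F] [CharP F 2] (Q : QuadraticForm F (Fin n → F))
    (hQ : (QuadraticMap.polarBilin Q).Nondegenerate) (h : Fintype.card F ≠ 2 ∨ n ≠ 4)
    (hn : 1 ≤ n) : (commutator ↥(Cfsg.isometryGroup F (⇑Q))).index = 2 := by
  rw [← ker_dicksonParity Q hQ h, Subgroup.index_ker,
    MonoidHom.range_eq_top.2 (dicksonParity_surjective Q hQ h hn),
    Nat.card_congr (Subgroup.topEquiv (G := Multiplicative (ZMod 2))).toEquiv]
  rw [Nat.card_eq_fintype_card, Fintype.card_multiplicative, ZMod.card]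

end OmegaTwo

end Cfsg.Agent.Helper14
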