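import Mathlib

/-!
Helper14: a Hua-type lemma.  Additive maps `g h : F → F` of a finite field with
`h y * g x = -1` whenever `y * x = -1` satisfy `g (c * y) = d * g y` for a suitable `d`
depending only on `c`.
-/

set_option autoImplicit false

namespace Cfsg.Agent.Helper14.AutPSL

variable {F : Type*} [Field F]

/-- every element of a finite field is a sum of two squares -/
theorem exists_two_squares [Finite F] (c : F) : ∃ s t : F, s ^ 2 + t ^ 2 = c := by
  classical
  have := Fintype.ofFinite F
  by_cases hchar : ringChar F = 2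
  · obtain ⟨s, hs⟩ := FiniteField.isSquare_of_char_two hchar c
    exact ⟨s, 0, by rw [hs]; ring⟩
  · open Polynomial in
    have hcard : Fintype.card F % 2 = 1 := FiniteField.odd_card_of_char_ne_two hchar
    have hf : degree (X ^ 2 - C c : F[X]) = 2 := by
      rw [degree_sub_C, degree_X_pow]
      · rfl
      · rw [degree_X_pow]
        norm_num
    have hg : degree (X ^ 2 : F[X]) = 2 := by
      rw [degree_X_pow]
      rfl
    obtain ⟨x, y, hxy⟩ := FiniteField.exists_root_sum_quadratic hf hg hcard
    simp only [eval_sub, eval_C, eval_pow, eval_X] at hxy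
    exact ⟨x, y, by linear_combination hxy⟩

section hua

variable (g h : F →+ F) (hg : Function.Injective g)
  (hrel : ∀ x y : F, y * x = -1 → h y * g x = -1)

include hrel in
theorem hua_inv {x y : F} (hxy : y * x = 1) : h y * g x = 1 := by
  have := hrel x (-y) (by rw [neg_mul, hxy])
  rw [map_neg, neg_mul, neg_inj] at this
  exact this

include hg in
theorem hua_g_ne {x : F} (hx : x ≠ 0) : g x ≠ 0 := fun h0 => hx (hg (h0.trans (map_zero g).symm))

include hrel in
theorem hua_h_inv {x : F} (hx : x ≠ 0) : h x⁻¹ = (g x)⁻¹ := by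
  have := hua_inv g h hrel (inv_mul_cancel₀ hx)
  exact eq_inv_of_mul_eq_one_left this

include hrel in
theorem hua_g_inv {y : F} (hy : y ≠ 0) : g y⁻¹ = (h y)⁻¹ := by
  have := hua_inv g h hrel (mul_inv_cancel₀ hy)
  exact eq_inv_of_mul_eq_one_right this

theorem hua_field_identity {x y : F} (hx : x ≠ 0) (hy : y ≠ 0) (hxy : 1 - x * y ≠ 0) :
    (x - x ^ 2 * y)⁻¹ = x⁻¹ + (y⁻¹ - x)⁻¹ := by
  have h1 : y⁻¹ - x ≠ 0 := by
    intro h
    apply hxy
    have : y⁻¹ = x := sub_eq_zero.mp h
    rw [← this, inv_mul_cancel₀ hy, sub_self]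
  have h2 : x - x ^ 2 * y ≠ 0 := by
    have : x - x ^ 2 * y = x * (1 - x * y) := by ring
    rw [this]
    exact mul_ne_zero hx hxy
  field_simp
  ring

include hg hrel in
/-- Hua's identity -/
theorem hua_sq (x y : F) : g (x ^ 2 * y) = g x ^ 2 * h y := by
  by_cases hx : x = 0
  · rw [hx]; simp
  by_cases hy : y = 0
  · rw [hy]; simp
  by_cases hxy : 1 - x * y = 0
  · have h1 : y * x = 1 := by linear_combination -hxy
    have h2 := hua_inv g h hrel h1
    have h3 : x ^ 2 * y = x := by linear_combination x * h1
    rw [h3]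
    linear_combination -(g x) * h2
  have hgx := hua_g_ne g hg hx
  have hhy : h y ≠ 0 := by
    intro h0
    have := hua_inv g h hrel (inv_mul_cancel₀ (inv_ne_zero hy))
    rw [inv_inv, h0, zero_mul] at this
    exact zero_ne_one this
  have hw : y⁻¹ - x ≠ 0 := by
    intro h
    apply hxy
    have : y⁻¹ = x := sub_eq_zero.mp h
    rw [← this, inv_mul_cancel₀ hy, sub_self]
  have hz : x - x ^ 2 * y ≠ 0 := by
    have : x - x ^ 2 * y = x * (1 - x * y) := by ring
    rw [this]
    exact mul_ne_zero hx hxy
  -- apply `h` to the field identity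
  have e1 := congrArg h (hua_field_identity hx hy hxy)
  rw [map_add, hua_h_inv g h hrel hz, hua_h_inv g h hrel hx, hua_h_inv g h hrel hw, map_sub,
    map_sub, hua_g_inv g h hrel hy] at e1
  -- the identity on the image side
  have hXY : 1 - g x * h y ≠ 0 := by
    intro h0
    have h1 : (h y)⁻¹ - g x = 0 := by
      field_simp
      linear_combination h0
    have h2 : g (y⁻¹ - x) = 0 := by rw [map_sub, hua_g_inv g h hrel hy, h1]
    exact hua_g_ne g hg hw h2
  have e2 := hua_field_identity hgx hhy hXY
  rw [← e2, inv_inj] at e1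
  linear_combination -e1

include hg hrel in
/-- multiplication by a square is mapped to multiplication by a scalar -/
theorem hua_square_mul (x y : F) : g (x ^ 2 * y) = (g x / g 1) ^ 2 * g y := by
  have ha : g 1 ≠ 0 := hua_g_ne g hg one_ne_zero
  have h1 : g y = g 1 ^ 2 * h y := by
    have := hua_sq g h hg hrel 1 y
    rwa [one_pow, one_mul] at this
  rw [hua_sq g h hg hrel, h1]
  field_simp

include hg hrel in
theorem hua_uniform [Finite F] (c : F) : ∃ d : F, ∀ y : F, g (c * y) = d * g y := by
  obtain ⟨s, t, hst⟩ := exists_two_squares c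
  refine ⟨(g s / g 1) ^ 2 + (g t / g 1) ^ 2, fun y => ?_⟩
  rw [← hst, add_mul, map_add, hua_square_mul g h hg hrel, hua_square_mul g h hg hrel, add_mul]

end hua

end Cfsg.Agent.Helper14.AutPSL
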