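import Mathlib
import Cfsg.Agent.Helper14.AutFamily

/-!
Helper14: every automorphism of `PSL_n(q)` permutes the family `IsQ`.
-/

set_option autoImplicit false
set_option linter.unusedSectionVars false

namespace Cfsg.Agent.Helper14.AutPSL

open Matrix
open scoped Pointwise

variable {n : ℕ} {F : Type*} [Field F]

/-- automorphisms preserve the classes of elements `1 + a φᵀ` -/
theorem exists_isTq_lift_map [Fintype F] {p f : ℕ} [hp : Fact p.Prime]
    (hF : Fintype.card F = p ^ f) (hf : 1 ≤ f) (hn : 2 ≤ n)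
    (α : (Matrix.SpecialLinearGroup (Fin n) F ⧸ Subgroup.center (Matrix.SpecialLinearGroup (Fin n) F)) ≃*
      (Matrix.SpecialLinearGroup (Fin n) F ⧸ Subgroup.center (Matrix.SpecialLinearGroup (Fin n) F)))
    {x : Matrix.SpecialLinearGroup (Fin n) F ⧸ Subgroup.center (Matrix.SpecialLinearGroup (Fin n) F)}
    (hx : ∃ g : Matrix.SpecialLinearGroup (Fin n) F, IsTq g ∧ prj g = x) :
    ∃ g : Matrix.SpecialLinearGroup (Fin n) F, IsTq g ∧ prj g = α x := by
  obtain ⟨g, hg, rfl⟩ := hx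
  rcases hg.eq_one_or with h1 | h1
  · exact ⟨1, isTq_one, by rw [h1, map_one, map_one]⟩
  · have h2 := (isSylCentral_of_isTv hF hf hn h1).map α
    have hne : Nonempty (Fin n) := ⟨⟨0, by omega⟩⟩
    have h3 : α (prj g) ≠ 1 := by
      intro h0
      have h4 : prj g = 1 := by
        have := congrArg α.symm h0
        rwa [α.symm_apply_apply, map_one] at this
      apply h1.ne_one
      exact h1.isTq.eq_of_mk_eq isTq_one (h4.trans (map_one prj).symm)
    obtain ⟨g', hg', he⟩ := exists_isTv_of_isSylCentral hF hf hn h2 h3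
    exact ⟨g', hg'.isTq, he⟩

theorem map_conj_PQc [Finite F] (hn : 1 ≤ n) (s : Matrix.SpecialLinearGroup (Fin n) F)
    {a : Fin n → F} (ha : a ≠ 0) :
    (PQc a).map (MulAut.conj (prj s)).toMonoidHom = PQc (s.1 *ᵥ a) := by
  have hne : Nonempty (Fin n) := ⟨⟨0, by omega⟩⟩
  have ha' : s.1 *ᵥ a ≠ 0 := (smul_ne_zero_iff_ne s).mpr ha
  apply (isQ_PQc ha).map_eq_of_le (isQ_PQc ha')
  rintro _ ⟨_, ⟨g, hg, rfl⟩, rfl⟩
  refine ⟨s * g * s⁻¹, conj_mem_Qc hg s, ?_⟩
  show prj (s * g * s⁻¹) = prj s * prj g * (prj s)⁻¹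
  rw [map_mul, map_mul, map_inv]

theorem map_conj_PQa [Finite F] (hn : 1 ≤ n) (s : Matrix.SpecialLinearGroup (Fin n) F)
    {φ : Fin n → F} (hφ : φ ≠ 0) :
    (PQa φ).map (MulAut.conj (prj s)).toMonoidHom = PQa (φ ᵥ* (s⁻¹).1) := by
  have hne : Nonempty (Fin n) := ⟨⟨0, by omega⟩⟩
  have hφ' : φ ᵥ* (s⁻¹).1 ≠ 0 := by
    intro h
    apply hφ
    have := congrArg (fun v => v ᵥ* s.1) h
    simp only [vecMul_vecMul, zero_vecMul] at this
    rwa [← Matrix.SpecialLinearGroup.coe_mul, inv_mul_cancel, Matrix.SpecialLinearGroup.coe_one,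
      vecMul_one] at this
  apply (isQ_PQa hφ).map_eq_of_le (isQ_PQa hφ')
  rintro _ ⟨_, ⟨g, hg, rfl⟩, rfl⟩
  refine ⟨s * g * s⁻¹, conj_mem_Qa hg s, ?_⟩
  show prj (s * g * s⁻¹) = prj s * prj g * (prj s)⁻¹
  rw [map_mul, map_mul, map_inv]

/-- automorphisms permute the family `IsQ` -/
theorem isQ_map_aut [Fintype F] {p f : ℕ} [hp : Fact p.Prime]
    (hF : Fintype.card F = p ^ f) (hf : 1 ≤ f) (hn : 2 ≤ n)
    (α : (Matrix.SpecialLinearGroup (Fin n) F ⧸ Subgroup.center (Matrix.SpecialLinearGroup (Fin n) F)) ≃*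
      (Matrix.SpecialLinearGroup (Fin n) F ⧸ Subgroup.center (Matrix.SpecialLinearGroup (Fin n) F)))
    {X : Subgroup (Matrix.SpecialLinearGroup (Fin n) F ⧸
      Subgroup.center (Matrix.SpecialLinearGroup (Fin n) F))} (hX : IsQ X) :
    IsQ (X.map α.toMonoidHom) := by
  classical
  have hne : Nonempty (Fin n) := ⟨⟨0, by omega⟩⟩
  by_cases h3 : 3 ≤ n
  · -- lifting argument
    have h3' : 3 ≤ Fintype.card (Fin n) := by rw [Fintype.card_fin]; exact h3
    have hE : ∀ t ∈ X.map α.toMonoidHom, ∃ g : Matrix.SpecialLinearGroup (Fin n) F,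
        IsTq g ∧ prj g = t := by
      rintro _ ⟨x, hx, rfl⟩
      exact exists_isTq_lift_map hF hf hn α (hX.exists_lift hx)
    have key : ∃ Y, IsQ Y ∧ X.map α.toMonoidHom ≤ Y := by
      rcases psl_tq_subgroup h3' _ hE with ⟨a, ha, hle⟩ | ⟨φ, hφ, hle⟩
      · exact ⟨_, isQ_PQc ha, hle⟩
      · exact ⟨_, isQ_PQa hφ, hle⟩
    obtain ⟨Y, hY, hle⟩ := key
    have hE' : ∀ t ∈ Y.map α.symm.toMonoidHom, ∃ g : Matrix.SpecialLinearGroup (Fin n) F,
        IsTq g ∧ prj g = t := by
      rintro _ ⟨y, hy, rfl⟩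
      exact exists_isTq_lift_map hF hf hn α.symm (hY.exists_lift hy)
    have key' : ∃ Y', IsQ Y' ∧ Y.map α.symm.toMonoidHom ≤ Y' := by
      rcases psl_tq_subgroup h3' _ hE' with ⟨a, ha, hle⟩ | ⟨φ, hφ, hle⟩
      · exact ⟨_, isQ_PQc ha, hle⟩
      · exact ⟨_, isQ_PQa hφ, hle⟩
    obtain ⟨Y', hY', hle'⟩ := key'
    have h1 : X ≤ Y.map α.symm.toMonoidHom := by
      intro x hx
      exact ⟨α x, hle ⟨x, hx, rfl⟩, α.symm_apply_apply x⟩
    have h2 : X = Y' := hX.eq_of_le hY' (h1.trans hle')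
    have h4 : Y.map α.symm.toMonoidHom ≤ X := h2 ▸ hle'
    have h5 : Y ≤ X.map α.toMonoidHom := by
      intro y hy
      exact ⟨α.symm y, h4 ⟨y, hy, rfl⟩, α.apply_symm_apply y⟩
    rw [le_antisymm hle h5]
    exact hY
  · -- `n = 2`: Sylow subgroups
    have hn2 : n = 2 := by omega
    subst hn2
    have hcardX : ∀ Z : Subgroup (Matrix.SpecialLinearGroup (Fin 2) F ⧸
          Subgroup.center (Matrix.SpecialLinearGroup (Fin 2) F)), IsQ Z → Nat.card Z =
        p ^ (Nat.card (Matrix.SpecialLinearGroup (Fin 2) F ⧸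
          Subgroup.center (Matrix.SpecialLinearGroup (Fin 2) F))).factorization p := by
      intro Z hZ
      rw [hZ.card, ← card_map_UT_eq hF hf 2 (by omega), card_map_UT (by omega), card_UT (F := F) 2,
        Nat.card_eq_fintype_card, Fintype.card_fin]
      congr 1
    let P : Sylow p _ := Sylow.ofCard X (hcardX X hX)
    let P' : Sylow p _ := Sylow.ofCard (X.map α.toMonoidHom) (by
      rw [card_map_equiv]; exact hcardX X hX)
    obtain ⟨c, hc⟩ := MulAction.exists_smul_eq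
      (Matrix.SpecialLinearGroup (Fin 2) F ⧸ Subgroup.center (Matrix.SpecialLinearGroup (Fin 2) F)) P P'
    have h1 : X.map α.toMonoidHom = MulAut.conj c • X := by
      have h2 : ((c • P : Sylow p _) : Subgroup (Matrix.SpecialLinearGroup (Fin 2) F ⧸
          Subgroup.center (Matrix.SpecialLinearGroup (Fin 2) F))) = (P' : Subgroup _) := by rw [hc]
      rw [Sylow.coe_subgroup_smul] at h2
      have h3 : (P : Subgroup _) = X := Sylow.coe_ofCard _ _
      have h4 : (P' : Subgroup _) = X.map α.toMonoidHom := Sylow.coe_ofCard _ _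
      rw [h3, h4] at h2
      exact h2.symm
    obtain ⟨s, rfl⟩ := prj_surjective c
    rw [h1, Subgroup.pointwise_smul_def]
    rcases hX with ⟨a, ha, rfl⟩ | ⟨φ, hφ, rfl⟩
    · have := map_conj_PQc (by omega) s ha
      rw [show (MulDistribMulAction.toMonoidEnd (MulAut _) _) (MulAut.conj (prj s)) =
        (MulAut.conj (prj s)).toMonoidHom from rfl, this]
      exact isQ_PQc ((smul_ne_zero_iff_ne s).mpr ha)
    · have := map_conj_PQa (by omega) s hφ
      rw [show (MulDistribMulAction.toMonoidEnd (MulAut _) _) (MulAut.conj (prj s)) =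
        (MulAut.conj (prj s)).toMonoidHom from rfl, this]
      apply isQ_PQa
      intro h
      apply hφ
      have := congrArg (fun v => v ᵥ* s.1) h
      simp only [vecMul_vecMul, zero_vecMul] at this
      rwa [← Matrix.SpecialLinearGroup.coe_mul, inv_mul_cancel, Matrix.SpecialLinearGroup.coe_one,
        vecMul_one] at this

end Cfsg.Agent.Helper14.AutPSL
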