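import Mathlib
import Cfsg.Agent.Helper14.AutFamily2
import Cfsg.Agent.Helper14.AutGen

/-!
Helper14: normalisation of an automorphism of `PSL_n(q)` by standard automorphisms so that it
fixes `PQc e₀` and `PQa e₀`.
-/

set_option autoImplicit false
set_option linter.unusedSectionVars false

namespace Cfsg.Agent.Helper14.AutPSL

open Matrix

section general
variable {ι : Type*} [Fintype ι] [DecidableEq ι] {F : Type*} [Field F]

/-- the group of standard automorphisms of `SL` -/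
def stdSub (ι : Type*) [Fintype ι] [DecidableEq ι] (F : Type*) [Field F] :
    Subgroup (MulAut (Matrix.SpecialLinearGroup ι F)) :=
  Subgroup.closure ({e | ∃ g : GL ι F, e = slConj g} ∪ {e | ∃ σ : F ≃+* F, e = slField σ} ∪ {slInvT})

theorem slConj_mem_stdSub (g : GL ι F) : slConj g ∈ stdSub ι F :=
  Subgroup.subset_closure (Or.inl (Or.inl ⟨g, rfl⟩))

theorem slField_mem_stdSub (σ : F ≃+* F) : slField σ ∈ stdSub ι F :=
  Subgroup.subset_closure (Or.inl (Or.inr ⟨σ, rfl⟩))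

theorem slInvT_mem_stdSub : (slInvT : MulAut (Matrix.SpecialLinearGroup ι F)) ∈ stdSub ι F :=
  Subgroup.subset_closure (Or.inr rfl)

theorem map_mul_aut {G : Type*} [Group G] (X : Subgroup G) (α β : MulAut G) :
    X.map (α * β).toMonoidHom = (X.map β.toMonoidHom).map α.toMonoidHom := by
  rw [Subgroup.map_map]
  rfl

theorem toGL_inv_coe (s : Matrix.SpecialLinearGroup ι F) :
    (((Matrix.SpecialLinearGroup.toGL s)⁻¹ : GL ι F) : Matrix ι ι F) = (s⁻¹).1 := by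
  rw [← map_inv]; rfl

end general

variable {n : ℕ} {F : Type*} [Field F]

/-- the first basis vector -/
def e0 (hn : 2 ≤ n) : Fin n → F := Pi.single (fst hn) 1

theorem e0_ne_zero (hn : 2 ≤ n) : (e0 hn : Fin n → F) ≠ 0 := single_ne_zero' _

/-- first normalisation: `PQc e₀` is fixed -/
theorem exists_std_fix_X0 [Fintype F] {p f : ℕ} [hp : Fact p.Prime]
    (hF : Fintype.card F = p ^ f) (hf : 1 ≤ f) (hn : 2 ≤ n)
    (α : MulAut (Matrix.SpecialLinearGroup (Fin n) F ⧸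
      Subgroup.center (Matrix.SpecialLinearGroup (Fin n) F))) :
    ∃ e ∈ stdSub (Fin n) F, (PQc (e0 hn : Fin n → F)).map (pslOf e * α).toMonoidHom = PQc (e0 hn) := by
  have hne : Nonempty (Fin n) := ⟨⟨0, by omega⟩⟩
  have hnt : Nontrivial (Fin n) := Fin.nontrivial_iff_two_le.mpr hn
  have key : ∃ e ∈ stdSub (Fin n) F, ∃ b : Fin n → F, b ≠ 0 ∧
      (PQc (e0 hn : Fin n → F)).map (pslOf e * α).toMonoidHom = PQc b := by
    rcases isQ_map_aut hF hf hn α (isQ_PQc (e0_ne_zero hn)) with ⟨b, hb, hY⟩ | ⟨ψ, hψ, hY⟩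
    · exact ⟨1, Subgroup.one_mem _, b, hb, by rw [map_one, one_mul]; exact hY⟩
    · refine ⟨slInvT, slInvT_mem_stdSub, ψ, hψ, ?_⟩
      rw [map_mul_aut, hY, map_slInvT_PQa hψ]
  obtain ⟨e, he, b, hb, hY⟩ := key
  obtain ⟨s, l, hl, hs⟩ := exists_trans hb (fst hn)
  refine ⟨slConj (Matrix.SpecialLinearGroup.toGL s) * e,
    Subgroup.mul_mem _ (slConj_mem_stdSub _) he, ?_⟩
  rw [map_mul, mul_assoc, map_mul_aut, hY, map_slConj_PQc _ hb]
  show PQc (s.1 *ᵥ b) = _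
  rw [hs]
  unfold PQc e0
  rw [Qc_smul hl]

theorem map_sup_top {G : Type*} [Group G] {X Y : Subgroup G} (h : X ⊔ Y = ⊤) (α : MulAut G) :
    X.map α.toMonoidHom ⊔ Y.map α.toMonoidHom = ⊤ := by
  rw [← Subgroup.map_sup, h, ← MonoidHom.range_eq_map, MonoidHom.range_eq_top]
  exact α.surjective

/-- second normalisation: `PQc e₀` and `PQa e₀` are fixed -/
theorem exists_std_fix_X0_X1 [Fintype F] {p f : ℕ} [hp : Fact p.Prime]
    (hF : Fintype.card F = p ^ f) (hf : 1 ≤ f) (hn : 2 ≤ n)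
    (α : MulAut (Matrix.SpecialLinearGroup (Fin n) F ⧸
      Subgroup.center (Matrix.SpecialLinearGroup (Fin n) F)))
    (h0 : (PQc (e0 hn : Fin n → F)).map α.toMonoidHom = PQc (e0 hn)) :
    ∃ e ∈ stdSub (Fin n) F,
      (PQc (e0 hn : Fin n → F)).map (pslOf e * α).toMonoidHom = PQc (e0 hn) ∧
      (PQa (e0 hn : Fin n → F)).map (pslOf e * α).toMonoidHom = PQa (e0 hn) := by
  have hne : Nonempty (Fin n) := ⟨⟨0, by omega⟩⟩
  have hnt : Nontrivial (Fin n) := Fin.nontrivial_iff_two_le.mpr hn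
  have htop := map_sup_top (PQc_sup_PQa_eq_top (F := F) (fst hn)) α
  change (PQc (e0 hn : Fin n → F)).map α.toMonoidHom ⊔ (PQa (e0 hn : Fin n → F)).map α.toMonoidHom = ⊤
    at htop
  rw [h0] at htop
  -- the image of `PQa e₀` is some `PQa ψ`
  have key : ∃ ψ : Fin n → F, ψ ≠ 0 ∧ (PQa (e0 hn : Fin n → F)).map α.toMonoidHom = PQa ψ := by
    rcases isQ_map_aut hF hf hn α (isQ_PQa (e0_ne_zero hn)) with ⟨b, hb, hY⟩ | ⟨ψ, hψ, hY⟩
    · by_cases h3 : 3 ≤ n
      · exfalso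
        rw [hY] at htop
        exact PQc_sup_PQc_ne_top (by rw [Fintype.card_fin]; exact h3) (e0_ne_zero hn) b htop
      · have h2 : Fintype.card (Fin n) = 2 := by rw [Fintype.card_fin]; omega
        obtain ⟨ψ, hψ0, -, hψ⟩ := exists_PQc_eq_PQa h2 hb
        exact ⟨ψ, hψ0, hY.trans hψ⟩
    · exact ⟨ψ, hψ, hY⟩
  obtain ⟨ψ, hψ, hY⟩ := key
  rw [hY] at htop
  have hψ0 : ψ ⬝ᵥ (e0 hn) ≠ 0 := fun h => PQc_sup_PQa_ne_top (e0_ne_zero hn) hψ h htop
  set c := ψ ⬝ᵥ (e0 hn) with hc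
  set χ : Fin n → F := c⁻¹ • ψ - e0 hn with hχ
  have hee : (e0 hn : Fin n → F) ⬝ᵥ e0 hn = 1 := by
    unfold e0
    rw [single_dotProduct, one_mul, Pi.single_eq_same]
  have hχ0 : χ ⬝ᵥ (e0 hn) = 0 := by
    rw [hχ, sub_dotProduct, smul_dotProduct, ← hc, smul_eq_mul, inv_mul_cancel₀ hψ0, hee, sub_self]
  set s := tv (e0 hn) χ hχ0 with hs
  refine ⟨slConj (Matrix.SpecialLinearGroup.toGL s), slConj_mem_stdSub _, ?_, ?_⟩
  · rw [map_mul_aut, h0, map_slConj_PQc _ (e0_ne_zero hn)]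
    show PQc (s.1 *ᵥ e0 hn) = _
    rw [hs, tv_mulVec, hχ0, zero_smul, add_zero]
  · rw [map_mul_aut, hY, map_slConj_PQa _ hψ, toGL_inv_coe, hs, tv_inv, vecMul_tv, ← hc]
    have : ψ + c • -χ = c • e0 hn := by
      rw [hχ, smul_neg, smul_sub, smul_smul, mul_inv_cancel₀ hψ0, one_smul]
      abel
    rw [this]
    unfold PQa
    rw [Qa_smul hψ0]

end Cfsg.Agent.Helper14.AutPSL
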