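import Mathlib

/-!
Helper14: additive bijections of a vector space over a finite field which map lines to lines are
semilinear.
-/

set_option autoImplicit false
set_option linter.unusedSectionVars false

namespace Cfsg.Agent.Helper14.AutPSL

variable {F : Type*} [Field F] [Finite F] {V : Type*} [AddCommGroup V] [Module F V]

/-- the multipliers of a line-preserving injective additive map are onto -/
theorem exists_smul_eq_of_line (g : V →+ V) (hg : Function.Injective g)
    (hline : ∀ (w : V) (c : F), ∃ d : F, g (c • w) = d • g w) {w : V} (hw : w ≠ 0) (k : F) :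
    ∃ k' : F, g (k' • w) = k • g w := by
  choose θ hθ using hline w
  have hgw : g w ≠ 0 := fun h => hw (hg (h.trans (map_zero g).symm))
  have hinj : Function.Injective θ := by
    intro c c' h
    have h1 : g (c • w) = g (c' • w) := by rw [hθ, hθ, h]
    have h2 := hg h1
    have h3 : (c - c') • w = 0 := by rw [sub_smul, h2, sub_self]
    rcases smul_eq_zero.mp h3 with h4 | h4
    · exact sub_eq_zero.mp h4
    · exact absurd h4 hw
  obtain ⟨k', hk'⟩ := Finite.injective_iff_surjective.mp hinj k
  exact ⟨k', by rw [hθ, hk']⟩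

/-- independent vectors have the same multipliers -/
theorem multiplier_eq_of_indep (g : V →+ V) (hg : Function.Injective g)
    (hline : ∀ (w : V) (c : F), ∃ d : F, g (c • w) = d • g w) {w w' : V} (hw : w ≠ 0)
    (hind : ∀ k : F, w' ≠ k • w) {c d d' : F} (hd : g (c • w) = d • g w)
    (hd' : g (c • w') = d' • g w') : d = d' := by
  have hgw : g w ≠ 0 := fun h => hw (hg (h.trans (map_zero g).symm))
  obtain ⟨e, he⟩ := hline (w + w') c
  rw [smul_add, map_add, map_add, hd, hd', smul_add] at he
  have h1 : (d - e) • g w = (e - d') • g w' := by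
    rw [sub_smul, sub_smul, sub_eq_sub_iff_add_eq_add, he, add_comm]
  by_cases hB : e - d' = 0
  · rw [hB, zero_smul] at h1
    have hA : d - e = 0 := (smul_eq_zero.mp h1).resolve_right hgw
    rw [sub_eq_zero] at hA hB
    rw [hA, hB]
  · exfalso
    have h2 : g w' = ((e - d')⁻¹ * (d - e)) • g w := by
      rw [← smul_smul, h1, smul_smul, inv_mul_cancel₀ hB, one_smul]
    obtain ⟨k', hk'⟩ := exists_smul_eq_of_line g hg hline hw ((e - d')⁻¹ * (d - e))
    rw [← h2] at hk'
    exact hind k' (hg hk').symm

/-- in dimension at least two, the multipliers do not depend on the vector -/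
theorem uniform_of_line (g : V →+ V) (hg : Function.Injective g)
    (hline : ∀ (w : V) (c : F), ∃ d : F, g (c • w) = d • g w) {v₁ v₂ : V} (hv₁ : v₁ ≠ 0)
    (hv : ∀ k : F, v₂ ≠ k • v₁) (c : F) : ∃ d : F, ∀ w : V, g (c • w) = d • g w := by
  obtain ⟨d, hd⟩ := hline v₁ c
  refine ⟨d, fun w => ?_⟩
  by_cases hw : w = 0
  · rw [hw, smul_zero, map_zero, smul_zero]
  obtain ⟨d', hd'⟩ := hline w c
  have hv₂ : v₂ ≠ 0 := by
    intro h
    apply hv 0
    rw [h, zero_smul]
  by_cases hind : ∀ k : F, w ≠ k • v₁
  · rw [hd', multiplier_eq_of_indep g hg hline hv₁ hind hd hd']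
  · push Not at hind
    obtain ⟨k, hk⟩ := hind
    have hk0 : k ≠ 0 := by
      rintro rfl
      rw [zero_smul] at hk
      exact hw hk
    obtain ⟨d₂, hd₂⟩ := hline v₂ c
    have h1 : d = d₂ := multiplier_eq_of_indep g hg hline hv₁ hv hd hd₂
    have hind' : ∀ k' : F, v₂ ≠ k' • w := by
      intro k' h
      apply hv (k' * k)
      rw [h, hk, smul_smul]
    have h2 : d' = d₂ := multiplier_eq_of_indep g hg hline hw hind' hd' hd₂
    rw [hd', h2, h1]

/-- an injective additive map with uniform multipliers is semilinear for a field automorphism -/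
theorem exists_ringEquiv_of_uniform [Nontrivial V] (g : V →+ V) (hg : Function.Injective g)
    (hunif : ∀ c : F, ∃ d : F, ∀ w : V, g (c • w) = d • g w) :
    ∃ σ : F ≃+* F, ∀ (c : F) (w : V), g (c • w) = σ c • g w := by
  choose θ hθ using hunif
  obtain ⟨w₀, hw₀⟩ := exists_ne (0 : V)
  have hgw : g w₀ ≠ 0 := fun h => hw₀ (hg (h.trans (map_zero g).symm))
  have cancel : ∀ x y : F, x • g w₀ = y • g w₀ → x = y := by
    intro x y h
    have : (x - y) • g w₀ = 0 := by rw [sub_smul, h, sub_self]
    exact sub_eq_zero.mp ((smul_eq_zero.mp this).resolve_right hgw)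
  have h1 : θ 1 = 1 := by
    apply cancel
    rw [← hθ, one_smul, one_smul]
  have hmul : ∀ x y : F, θ (x * y) = θ x * θ y := by
    intro x y
    apply cancel
    rw [← hθ, ← smul_smul, hθ, hθ, smul_smul]
  have hadd : ∀ x y : F, θ (x + y) = θ x + θ y := by
    intro x y
    apply cancel
    rw [← hθ, add_smul, map_add, hθ, hθ, add_smul]
  have h0 : θ 0 = 0 := by
    apply cancel
    rw [← hθ, zero_smul, map_zero, zero_smul]
  let τ : F →+* F :=
    { toFun := θ
      map_one' := h1
      map_mul' := hmul
      map_zero' := h0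
      map_add' := hadd }
  have hinj : Function.Injective τ := τ.injective
  have hbij : Function.Bijective τ := ⟨hinj, Finite.injective_iff_surjective.mp hinj⟩
  exact ⟨RingEquiv.ofBijective τ hbij, fun c w => hθ c w⟩

end Cfsg.Agent.Helper14.AutPSL
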