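import Mathlib
import Cfsg.Agent.Helper14.AutNorm
import Cfsg.Agent.Helper14.AutSemi

/-!
Helper14: the additive map induced on the parameters of `PQa e₀` by an automorphism of
`PSL_n(q)` fixing `PQa e₀`; line preservation for `n ≥ 3`.
-/

set_option autoImplicit false
set_option linter.unusedSectionVars false

namespace Cfsg.Agent.Helper14.AutPSL

open Matrix

variable {n : ℕ} {F : Type*} [Field F]

/-- the parameter space of `Qa e₀`: vectors with vanishing first coordinate -/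
abbrev Wp (hn : 2 ≤ n) (F : Type*) [Field F] : Submodule F (Fin n → F) :=
  LinearMap.ker (dotL (e0 hn : Fin n → F))

theorem mem_Wp {hn : 2 ≤ n} {b : Fin n → F} : b ∈ Wp hn F ↔ b (fst hn) = 0 := by
  rw [mem_ker_dotL]
  unfold e0
  rw [dotProduct_single, mul_one]

theorem e0_dot {hn : 2 ≤ n} (b : Wp hn F) : (e0 hn : Fin n → F) ⬝ᵥ b.1 = 0 := by
  rw [dotProduct_comm]; exact mem_ker_dotL.mp b.2

/-- the transvection `1 + b e₀ᵀ` -/
def lw {hn : 2 ≤ n} (b : Wp hn F) : Matrix.SpecialLinearGroup (Fin n) F := tv b.1 (e0 hn) (e0_dot b)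

theorem lw_mem_Qa {hn : 2 ≤ n} (b : Wp hn F) : lw b ∈ Qa (e0 hn : Fin n → F) := tv_mem_Qa _ _ _

theorem lw_add {hn : 2 ≤ n} (b b' : Wp hn F) : lw (b + b') = lw b * lw b' := by
  unfold lw
  rw [tv_mul_axis]
  rfl

theorem lw_zero {hn : 2 ≤ n} : lw (0 : Wp hn F) = 1 := tv_zero_left _

theorem lw_injective {hn : 2 ≤ n} {b b' : Wp hn F} (h : lw b = lw b') : b = b' := by
  have h2 := congrArg Subtype.val h
  unfold lw at h2
  rw [tv_coe, tv_coe] at h2
  have h3 : vecMulVec (b.1 - b'.1) (e0 hn) = 0 := by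
    rw [sub_eq_add_neg, add_vecMulVec, neg_vecMulVec, add_left_cancel h2, add_neg_cancel]
  apply Subtype.ext
  rcases vecMulVec_eq_zero.mp h3 with h4 | h4
  · exact sub_eq_zero.mp h4
  · exact absurd h4 (e0_ne_zero hn)

theorem lw_eq_of_prj_eq {hn : 2 ≤ n} {b b' : Wp hn F} (h : prj (lw b) = prj (lw b')) : b = b' := by
  have hne : Nonempty (Fin n) := ⟨⟨0, by omega⟩⟩
  exact lw_injective ((isTq_of_mem_Qa (lw_mem_Qa b)).eq_of_mk_eq (isTq_of_mem_Qa (lw_mem_Qa b')) h)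

theorem exists_lw_of_mem {hn : 2 ≤ n} {x : Matrix.SpecialLinearGroup (Fin n) F ⧸
    Subgroup.center (Matrix.SpecialLinearGroup (Fin n) F)} (hx : x ∈ PQa (e0 hn : Fin n → F)) :
    ∃ b : Wp hn F, x = prj (lw b) := by
  obtain ⟨_, ⟨a, h, rfl⟩, rfl⟩ := hx
  exact ⟨⟨a, mem_ker_dotL.mpr (by rw [dotProduct_comm]; exact h)⟩, rfl⟩

section gmap

variable {hn : 2 ≤ n}
  (α : MulAut (Matrix.SpecialLinearGroup (Fin n) F ⧸
    Subgroup.center (Matrix.SpecialLinearGroup (Fin n) F)))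
  (h1 : (PQa (e0 hn : Fin n → F)).map α.toMonoidHom = PQa (e0 hn))

include h1 in
theorem exists_param (b : Wp hn F) : ∃ b' : Wp hn F, α (prj (lw b)) = prj (lw b') := by
  apply exists_lw_of_mem
  rw [← h1]
  exact ⟨prj (lw b), Subgroup.mem_map_of_mem _ (lw_mem_Qa b), rfl⟩

/-- the induced map on parameters -/
noncomputable def gmap (b : Wp hn F) : Wp hn F := Classical.choose (exists_param α h1 b)

theorem gmap_spec (b : Wp hn F) : α (prj (lw b)) = prj (lw (gmap α h1 b)) :=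
  Classical.choose_spec (exists_param α h1 b)

theorem gmap_add (b b' : Wp hn F) : gmap α h1 (b + b') = gmap α h1 b + gmap α h1 b' := by
  apply lw_eq_of_prj_eq
  rw [← gmap_spec, lw_add, lw_add, map_mul, map_mul, map_mul, gmap_spec α h1, gmap_spec α h1]

/-- the induced additive map -/
noncomputable def gAdd : Wp hn F →+ Wp hn F :=
  AddMonoidHom.mk' (gmap α h1) (gmap_add α h1)

theorem gAdd_spec (b : Wp hn F) : α (prj (lw b)) = prj (lw (gAdd α h1 b)) := gmap_spec α h1 b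

theorem gAdd_injective : Function.Injective (gAdd α h1) := by
  intro b b' h
  apply lw_eq_of_prj_eq
  apply α.injective
  rw [gAdd_spec α h1, gAdd_spec α h1, h]

end gmap

/-- in dimension at least three a `PQc` is never a `PQa` -/
theorem PQc_ne_PQa (h3 : 3 ≤ n) {b φ : Fin n → F} (hb : b ≠ 0) : PQc b ≠ PQa φ := by
  have hne : Nonempty (Fin n) := ⟨⟨0, by omega⟩⟩
  intro h
  obtain ⟨ψ, hψ, hψφ⟩ := exists_ker_not_smul (by rw [Fintype.card_fin]; exact h3) b φ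
  have hψ0 : ψ ≠ 0 := by
    intro h0
    apply hψφ 0
    rw [h0, zero_smul]
  have h1 : prj (tv b ψ hψ) ∈ PQa φ := by
    rw [← h]
    exact Subgroup.mem_map_of_mem _ (tv_mem_Qc _ _ _)
  have h2 := mem_Qa_of_prj_mem ⟨b, ψ, hψ, rfl⟩ h1
  obtain ⟨c, -, hc⟩ := smul_of_tv_mem_Qa hψ hb hψ0 h2
  exact hψφ c hc

/-- line preservation in dimension at least three -/
theorem gAdd_line [Fintype F] {p f : ℕ} [hp : Fact p.Prime]
    (hF : Fintype.card F = p ^ f) (hf : 1 ≤ f) {hn : 2 ≤ n} (h3 : 3 ≤ n)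
    (α : MulAut (Matrix.SpecialLinearGroup (Fin n) F ⧸
      Subgroup.center (Matrix.SpecialLinearGroup (Fin n) F)))
    (h1 : (PQa (e0 hn : Fin n → F)).map α.toMonoidHom = PQa (e0 hn))
    (b : Wp hn F) (c : F) : ∃ d : F, gAdd α h1 (c • b) = d • gAdd α h1 b := by
  have hne : Nonempty (Fin n) := ⟨⟨0, by omega⟩⟩
  by_cases hb : b = 0
  · exact ⟨0, by rw [hb, smul_zero, map_zero, smul_zero]⟩
  have hb1 : b.1 ≠ 0 := fun h => hb (Subtype.ext h)
  have hgb : gAdd α h1 b ≠ 0 := fun h => hb (gAdd_injective α h1 (h.trans (map_zero _).symm))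
  have hgb1 : (gAdd α h1 b).1 ≠ 0 := fun h => hgb (Subtype.ext h)
  -- the image of `PQc b`
  have hY : (PQc b.1).map α.toMonoidHom = PQc (gAdd α h1 b).1 := by
    have hmem : prj (lw (gAdd α h1 b)) ∈ (PQc b.1).map α.toMonoidHom := by
      rw [← gAdd_spec]
      exact Subgroup.mem_map_of_mem _ (Subgroup.mem_map_of_mem _ (tv_mem_Qc _ _ _))
    rcases isQ_map_aut hF hf hn α (isQ_PQc hb1) with ⟨a, ha, hYa⟩ | ⟨ψ, hψ, hYψ⟩
    · rw [hYa] at hmem ⊢
      have h2 := mem_Qc_of_prj_mem (isTq_of_mem_Qa (lw_mem_Qa _)) hmem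
      obtain ⟨k, hk, hka⟩ := smul_of_tv_mem_Qc _ hgb1 (e0_ne_zero hn) h2
      unfold PQc
      rw [hka, Qc_smul hk]
    · exfalso
      rw [hYψ] at hmem
      have h2 := mem_Qa_of_prj_mem (isTq_of_mem_Qa (lw_mem_Qa _)) hmem
      obtain ⟨k, hk, hkψ⟩ := smul_of_tv_mem_Qa _ hgb1 (e0_ne_zero hn) h2
      have h4 : PQa ψ = PQa (e0 hn : Fin n → F) := by
        unfold PQa
        rw [hkψ, Qa_smul hk]
      rw [h4, ← h1] at hYψ
      have h5 : PQc b.1 = PQa (e0 hn : Fin n → F) :=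
        Subgroup.map_injective α.injective hYψ
      exact PQc_ne_PQa h3 hb1 h5
  -- apply to `c • b`
  have hmem : prj (lw (gAdd α h1 (c • b))) ∈ PQc (gAdd α h1 b).1 := by
    rw [← hY, ← gAdd_spec]
    apply Subgroup.mem_map_of_mem
    apply Subgroup.mem_map_of_mem
    exact tv_smul_mem_Qc c b.1 _ _
  by_cases hz : gAdd α h1 (c • b) = 0
  · exact ⟨0, by rw [hz, zero_smul]⟩
  have hz1 : (gAdd α h1 (c • b)).1 ≠ 0 := fun h => hz (Subtype.ext h)
  have h2 := mem_Qc_of_prj_mem (isTq_of_mem_Qa (lw_mem_Qa _)) hmem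
  obtain ⟨k, hk, hkb⟩ := smul_of_tv_mem_Qc _ hz1 (e0_ne_zero hn) h2
  refine ⟨k⁻¹, ?_⟩
  apply Subtype.ext
  rw [Submodule.coe_smul, hkb, smul_smul, inv_mul_cancel₀ hk, one_smul]

end Cfsg.Agent.Helper14.AutPSL
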