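import Mathlib
import Cfsg.Agent.Helper14.AutParam

/-!
Helper14: a semilinear parameter map is induced by a standard automorphism.
-/

set_option autoImplicit false
set_option linter.unusedSectionVars false

namespace Cfsg.Agent.Helper14.AutPSL

open Matrix

variable {n : ℕ} {F : Type*} [Field F]

/-- the basis vectors of `Wp` (zero for the first index) -/
def ej (hn : 2 ≤ n) (j : Fin n) : Wp hn F :=
  ⟨if j = fst hn then 0 else Pi.single j 1, by
    rw [mem_Wp]
    split_ifs with h
    · rfl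
    · exact Pi.single_eq_of_ne (Ne.symm h) _⟩

theorem ej_apply (hn : 2 ≤ n) (j i : Fin n) :
    (ej hn j : Wp hn F).1 i = if j = fst hn then 0 else if i = j then 1 else 0 := by
  unfold ej
  simp only
  split_ifs with h1 h2 h2
  · rfl
  · rw [h2, Pi.single_eq_same]
  · rw [Pi.single_eq_of_ne h2]

theorem sum_smul_ej (hn : 2 ≤ n) (b : Wp hn F) : b = ∑ j : Fin n, b.1 j • ej hn j := by
  apply Subtype.ext
  rw [Submodule.coe_sum]
  funext i
  rw [Finset.sum_apply]
  simp only [Submodule.coe_smul, Pi.smul_apply, smul_eq_mul, ej_apply]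
  rw [Finset.sum_eq_single i]
  · by_cases hi : i = fst hn
    · rw [if_pos hi, mul_zero, hi]
      exact mem_Wp.mp b.2
    · rw [if_neg hi, if_pos rfl, mul_one]
  · intro j _ hji
    rw [if_neg (Ne.symm hji)]
    split_ifs <;> simp
  · intro h; exact absurd (Finset.mem_univ i) h

section construct

variable {hn : 2 ≤ n}
  (α : MulAut (Matrix.SpecialLinearGroup (Fin n) F ⧸
    Subgroup.center (Matrix.SpecialLinearGroup (Fin n) F)))
  (h1 : (PQa (e0 hn : Fin n → F)).map α.toMonoidHom = PQa (e0 hn))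
  (σ : F ≃+* F) (hσ : ∀ (c : F) (b : Wp hn F), gAdd α h1 (c • b) = σ c • gAdd α h1 b)

/-- the matrix with columns `e₀` and the images of the basis vectors -/
noncomputable def hmat : Matrix (Fin n) (Fin n) F :=
  fun i j => if j = fst hn then (e0 hn : Fin n → F) i else (gAdd α h1 (ej hn j)).1 i

theorem hmat_mulVec_e0 : hmat α h1 *ᵥ (e0 hn : Fin n → F) = e0 hn := by
  unfold e0
  rw [mulVec_single_one]
  funext i
  rw [Matrix.col_apply]
  unfold hmat
  rw [if_pos rfl]
  rfl

theorem e0_vecMul_hmat : (e0 hn : Fin n → F) ᵥ* hmat α h1 = e0 hn := by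
  unfold e0
  rw [single_one_vecMul]
  funext j
  rw [Matrix.row_apply]
  unfold hmat
  split_ifs with h
  · rw [h]; rfl
  · rw [mem_Wp.mp (gAdd α h1 (ej hn j)).2]
    exact (Pi.single_eq_of_ne (M := fun _ => F) h (1 : F)).symm

include hσ in
theorem hmat_mulVec_map (b : Wp hn F) :
    hmat α h1 *ᵥ (fun i => σ (b.1 i)) = (gAdd α h1 b).1 := by
  have h2 : gAdd α h1 b = ∑ j : Fin n, σ (b.1 j) • gAdd α h1 (ej hn j) := by
    conv_lhs => rw [sum_smul_ej hn b, map_sum]
    apply Finset.sum_congr rfl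
    intro j _
    rw [hσ]
  rw [h2, Submodule.coe_sum]
  funext i
  rw [Finset.sum_apply]
  unfold mulVec dotProduct
  apply Finset.sum_congr rfl
  intro j _
  simp only [Submodule.coe_smul, Pi.smul_apply, smul_eq_mul]
  unfold hmat
  split_ifs with h
  · rw [h, mem_Wp.mp b.2, map_zero, mul_zero, zero_mul]
  · rw [mul_comm]

include hσ in
theorem hmat_injective : Function.Injective (hmat α h1).mulVec := by
  intro v v' hvv
  have key : ∀ w : Fin n → F, hmat α h1 *ᵥ w = 0 → w = 0 := by
    intro w hw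
    -- decompose `w`
    set w' : Fin n → F := w - w (fst hn) • e0 hn with hw'
    have hw'W : (fun i => σ.symm (w' i)) ∈ Wp hn F := by
      rw [mem_Wp, hw']
      simp [e0]
    have h3 : w = w (fst hn) • e0 hn + (fun i => σ ((fun i => σ.symm (w' i)) i)) := by
      funext i
      simp [hw']
    rw [h3, mulVec_add, mulVec_smul, hmat_mulVec_e0,
      hmat_mulVec_map α h1 σ hσ ⟨_, hw'W⟩] at hw
    have h4 := congrFun hw (fst hn)
    rw [Pi.add_apply, mem_Wp.mp (gAdd α h1 _).2, add_zero, Pi.smul_apply, Pi.zero_apply] at h4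
    have h5 : w (fst hn) = 0 := by simpa [e0] using h4
    rw [h5, zero_smul, zero_add] at hw
    have h6 : gAdd α h1 ⟨_, hw'W⟩ = 0 := Subtype.ext hw
    have h7 := gAdd_injective α h1 (h6.trans (map_zero _).symm)
    have h8 : (fun i => σ.symm (w' i)) = 0 := congrArg Subtype.val h7
    have h9 : w' = 0 := by
      funext i
      have := congrFun h8 i
      simpa using this
    rw [hw', h5, zero_smul, sub_zero] at h9
    exact h9
  have := key (v - v') (by
    rw [mulVec_sub]
    exact sub_eq_zero.mpr hvv)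
  exact sub_eq_zero.mp this

/-- `hmat` as an element of `GL` -/
noncomputable def hGL : GL (Fin n) F :=
  (mulVec_injective_iff_isUnit.mp (hmat_injective α h1 σ hσ)).unit

theorem hGL_coe : ((hGL α h1 σ hσ : GL (Fin n) F) : Matrix (Fin n) (Fin n) F) = hmat α h1 :=
  IsUnit.unit_spec _

theorem e0_vecMul_hGL_inv :
    (e0 hn : Fin n → F) ᵥ* (((hGL α h1 σ hσ)⁻¹ : GL (Fin n) F) : Matrix (Fin n) (Fin n) F) = e0 hn := by
  have h2 := e0_vecMul_hmat α h1
  rw [← hGL_coe α h1 σ hσ] at h2
  have h3 := congrArg (fun v => v ᵥ* (((hGL α h1 σ hσ)⁻¹ : GL (Fin n) F) : Matrix (Fin n) (Fin n) F)) h2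
  simp only [vecMul_vecMul, gl_mul_inv, vecMul_one] at h3
  exact h3.symm

theorem map_e0 (σ : F ≃+* F) : (fun i => σ ((e0 hn : Fin n → F) i)) = e0 hn := by
  funext i
  unfold e0
  by_cases h : i = fst hn
  · rw [h, Pi.single_eq_same, map_one]
  · rw [Pi.single_eq_of_ne h, map_zero]

include hσ in
/-- the standard automorphism agreeing with `α` on `PQa e₀` -/
theorem exists_std_agree [Finite F] :
    ∃ e ∈ stdSub (Fin n) F,
      (∀ b : Wp hn F, pslOf e (prj (lw b)) = α (prj (lw b))) ∧
      (PQc (e0 hn : Fin n → F)).map (pslOf e).toMonoidHom = PQc (e0 hn) := by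
  have hne : Nonempty (Fin n) := ⟨⟨0, by omega⟩⟩
  refine ⟨slConj (hGL α h1 σ hσ) * slField σ,
    Subgroup.mul_mem _ (slConj_mem_stdSub _) (slField_mem_stdSub _), ?_, ?_⟩
  · intro b
    rw [pslOf_prj, gAdd_spec α h1]
    congr 1
    show slConj (hGL α h1 σ hσ) (slField σ (lw b)) = lw (gAdd α h1 b)
    unfold lw
    rw [slField_tv, slConj_tv]
    apply tv_eq_of_vecMulVec_eq
    rw [hGL_coe, hmat_mulVec_map α h1 σ hσ, map_e0, e0_vecMul_hGL_inv]
  · rw [map_mul, map_mul_aut, map_slField_PQc σ (e0_ne_zero hn), map_e0,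
      map_slConj_PQc _ (e0_ne_zero hn), hGL_coe, hmat_mulVec_e0]

end construct

end Cfsg.Agent.Helper14.AutPSL
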