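import Mathlib
import Cfsg.Agent.Helper14.AutSemi2

/-!
Helper14: rigidity.  An automorphism of `PSL_n(q)` fixing `PQc e₀` setwise and `PQa e₀`
pointwise is trivial (via the braid relation between opposite transvections).
-/

set_option autoImplicit false
set_option linter.unusedSectionVars false

namespace Cfsg.Agent.Helper14.AutPSL

open Matrix

section braid
variable {ι : Type*} [Fintype ι] [DecidableEq ι] {F : Type*} [Field F]

/-- the braid relation between two opposite transvections -/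
theorem tv_braid (a φ b ψ : ι → F) (h : φ ⬝ᵥ a = 0) (h' : ψ ⬝ᵥ b = 0)
    (h1 : ψ ⬝ᵥ a = 1) (h2 : φ ⬝ᵥ b = -1) :
    tv a φ h * tv b ψ h' * tv a φ h = tv b ψ h' * tv a φ h * tv b ψ h' := by
  apply Subtype.ext
  simp only [Matrix.SpecialLinearGroup.coe_mul, tv_coe]
  set E := vecMulVec a φ with hE
  set L := vecMulVec b ψ with hL
  have hEE : E * E = 0 := by
    rw [hE, vecMulVec_mul_vecMulVec, h, zero_smul, vecMulVec_zero]
  have hLL : L * L = 0 := by
    rw [hL, vecMulVec_mul_vecMulVec, h', zero_smul, vecMulVec_zero]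
  have hELE : E * L * E = -E := by
    rw [hE, hL, vecMulVec_mul_vecMulVec, h2, vecMulVec_mul_vecMulVec, smul_dotProduct, h1,
      smul_eq_mul, mul_one, neg_smul, one_smul, vecMulVec_neg]
  have hLEL : L * E * L = -L := by
    rw [hE, hL, vecMulVec_mul_vecMulVec, h1, one_smul, vecMulVec_mul_vecMulVec, h2,
      neg_smul, one_smul, vecMulVec_neg]
  have e1 : (1 + E) * (1 + L) * (1 + E) = 1 + E + L + E * L + L * E + (E + E * E + E * L * E) := by
    noncomm_ring
  have e2 : (1 + L) * (1 + E) * (1 + L) = 1 + E + L + E * L + L * E + (L + L * L + L * E * L) := by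
    noncomm_ring
  rw [e1, e2, hEE, hLL, hELE, hLEL]
  simp

end braid

variable {n : ℕ} {F : Type*} [Field F]

theorem dot_e0 {hn : 2 ≤ n} (b : Wp hn F) : b.1 ⬝ᵥ (e0 hn : Fin n → F) = 0 := mem_ker_dotL.mp b.2

theorem e0_dot_e0 (hn : 2 ≤ n) : (e0 hn : Fin n → F) ⬝ᵥ e0 hn = 1 := by
  unfold e0
  rw [single_dotProduct, one_mul, Pi.single_eq_same]

/-- the transvection `1 + e₀ φᵀ` -/
def uw {hn : 2 ≤ n} (φ : Wp hn F) : Matrix.SpecialLinearGroup (Fin n) F :=
  tv (e0 hn) φ.1 (dot_e0 φ)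

theorem uw_mem_Qc {hn : 2 ≤ n} (φ : Wp hn F) : uw φ ∈ Qc (e0 hn : Fin n → F) := tv_mem_Qc _ _ _

theorem exists_uw_of_mem {hn : 2 ≤ n} {x : Matrix.SpecialLinearGroup (Fin n) F ⧸
    Subgroup.center (Matrix.SpecialLinearGroup (Fin n) F)} (hx : x ∈ PQc (e0 hn : Fin n → F)) :
    ∃ φ : Wp hn F, x = prj (uw φ) := by
  obtain ⟨_, ⟨φ, h, rfl⟩, rfl⟩ := hx
  exact ⟨⟨φ, mem_ker_dotL.mpr h⟩, rfl⟩

theorem uw_lw_braid {hn : 2 ≤ n} (φ b : Wp hn F) (h : φ.1 ⬝ᵥ b.1 = -1) :
    uw φ * lw b * uw φ = lw b * uw φ * lw b :=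
  tv_braid _ _ _ _ _ _ (e0_dot_e0 hn) h

theorem uw_mulVec {hn : 2 ≤ n} (φ : Wp hn F) (v : Fin n → F) :
    (uw φ).1 *ᵥ v = v + (φ.1 ⬝ᵥ v) • e0 hn := tv_mulVec _ _ _ _

theorem lw_mulVec {hn : 2 ≤ n} (b : Wp hn F) (v : Fin n → F) :
    (lw b).1 *ᵥ v = v + ((e0 hn : Fin n → F) ⬝ᵥ v) • b.1 := tv_mulVec _ _ _ _

/-- converse of the braid relation, modulo the centre -/
theorem rigid_dot {hn : 2 ≤ n} (ψ b : Wp hn F) (hb : b ≠ 0)
    (h : prj (uw ψ * lw b * uw ψ) = prj (lw b * uw ψ * lw b)) : ψ.1 ⬝ᵥ b.1 = -1 := by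
  have h' : (QuotientGroup.mk (uw ψ * lw b * uw ψ) : Matrix.SpecialLinearGroup (Fin n) F ⧸
      Subgroup.center (Matrix.SpecialLinearGroup (Fin n) F)) =
      QuotientGroup.mk (lw b * uw ψ * lw b) := h
  rw [QuotientGroup.eq] at h'
  obtain ⟨r, -, hr⟩ := Matrix.SpecialLinearGroup.mem_center_iff.mp h'
  have h1 : (lw b * uw ψ * lw b).1 = (uw ψ * lw b * uw ψ).1 * scalar (Fin n) r := by
    rw [hr, ← Matrix.SpecialLinearGroup.coe_mul, mul_inv_cancel_left]
  have h2 := congrArg (fun M => M *ᵥ (e0 hn : Fin n → F)) h1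
  simp only [Matrix.SpecialLinearGroup.coe_mul, ← mulVec_mulVec, scalar_apply,
    ← smul_one_eq_diagonal, smul_mulVec, one_mulVec, mulVec_smul] at h2
  simp only [uw_mulVec, lw_mulVec, dot_e0, e0_dot_e0, e0_dot, dotProduct_add, dotProduct_smul,
    zero_smul, add_zero, one_smul, smul_eq_mul, mul_one, zero_add] at h2
  set t := ψ.1 ⬝ᵥ b.1 with ht
  have hb1 : b.1 ≠ 0 := fun h => hb (Subtype.ext h)
  obtain ⟨j, hj⟩ := Function.ne_iff.mp hb1
  rw [Pi.zero_apply] at hj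
  have hjf : j ≠ fst hn := by
    intro h
    rw [h] at hj
    exact hj (mem_Wp.mp b.2)
  have e1 := congrFun h2 (fst hn)
  have e2 := congrFun h2 j
  have hf1 : (e0 hn : Fin n → F) (fst hn) = 1 := Pi.single_eq_same _ _
  have hf2 : (e0 hn : Fin n → F) j = 0 := Pi.single_eq_of_ne hjf _
  simp only [Pi.add_apply, Pi.smul_apply, smul_eq_mul, hf1, hf2, mem_Wp.mp b.2, mul_zero, mul_one,
    add_zero, zero_add] at e1 e2
  have e3 : (2 + t - r) * b.1 j = 0 := by linear_combination e2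
  have e4 : r = 2 + t := by
    rcases mul_eq_zero.mp e3 with h | h
    · linear_combination -h
    · exact absurd h hj
  rw [e4] at e1
  have e5 : (1 + t) * (1 + t) = 0 := by linear_combination -e1
  have e6 : 1 + t = 0 := by
    rcases mul_eq_zero.mp e5 with h | h <;> exact h
  linear_combination e6

theorem prj_uw_injective {hn : 2 ≤ n} {φ φ' : Wp hn F} (h : prj (uw φ) = prj (uw φ')) : φ = φ' := by
  have hne : Nonempty (Fin n) := ⟨⟨0, by omega⟩⟩
  have h1 := (isTq_of_mem_Qc (uw_mem_Qc φ)).eq_of_mk_eq (isTq_of_mem_Qc (uw_mem_Qc φ')) h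
  have h2 := congrArg Subtype.val h1
  unfold uw at h2
  rw [tv_coe, tv_coe] at h2
  have h3 : vecMulVec (e0 hn) (φ.1 - φ'.1) = 0 := by
    rw [sub_eq_add_neg, vecMulVec_add, vecMulVec_neg, add_left_cancel h2, add_neg_cancel]
  apply Subtype.ext
  rcases vecMulVec_eq_zero.mp h3 with h4 | h4
  · exact absurd h4 (e0_ne_zero hn)
  · exact sub_eq_zero.mp h4

section rigid

variable {hn : 2 ≤ n}
  (β : MulAut (Matrix.SpecialLinearGroup (Fin n) F ⧸
    Subgroup.center (Matrix.SpecialLinearGroup (Fin n) F)))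
  (h0 : (PQc (e0 hn : Fin n → F)).map β.toMonoidHom = PQc (e0 hn))
  (h1 : ∀ b : Wp hn F, β (prj (lw b)) = prj (lw b))

include h0 h1 in
theorem fix_uw (φ : Wp hn F) : β (prj (uw φ)) = prj (uw φ) := by
  have hmem : β (prj (uw φ)) ∈ PQc (e0 hn : Fin n → F) := by
    rw [← h0]
    exact ⟨prj (uw φ), Subgroup.mem_map_of_mem _ (uw_mem_Qc φ), rfl⟩
  obtain ⟨φ', hφ'⟩ := exists_uw_of_mem hmem
  rw [hφ']
  congr 2
  -- the key implication
  have key : ∀ b : Wp hn F, φ.1 ⬝ᵥ b.1 = -1 → φ'.1 ⬝ᵥ b.1 = -1 := by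
    intro b hb
    have hb0 : b ≠ 0 := by
      rintro rfl
      rw [Submodule.coe_zero, dotProduct_zero] at hb
      exact one_ne_zero (neg_eq_zero.mp hb.symm)
    apply rigid_dot φ' b hb0
    have h2 := congrArg (fun x => β (prj x)) (uw_lw_braid φ b hb)
    simp only [map_mul, h1, hφ'] at h2
    rw [map_mul, map_mul, map_mul, map_mul]
    exact h2
  by_cases hφ : φ = 0
  · subst hφ
    have : β (prj (uw (0 : Wp hn F))) = 1 := by
      have : uw (0 : Wp hn F) = 1 := tv_zero_right _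
      rw [this, map_one, map_one]
    rw [this] at hφ'
    have h3 : prj (uw φ') = prj (uw (0 : Wp hn F)) := by
      have : uw (0 : Wp hn F) = 1 := tv_zero_right _
      rw [this, map_one, ← hφ']
    exact prj_uw_injective h3
  -- pick `b0` with `φ ⬝ b0 = -1`
  have hφ1 : φ.1 ≠ 0 := fun h => hφ (Subtype.ext h)
  obtain ⟨j, hj⟩ := Function.ne_iff.mp hφ1
  rw [Pi.zero_apply] at hj
  have hjf : j ≠ fst hn := by
    intro h
    rw [h] at hj
    exact hj (mem_Wp.mp φ.2)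
  set b0 : Wp hn F := ⟨Pi.single j (-(φ.1 j)⁻¹), by
    rw [mem_Wp]; exact Pi.single_eq_of_ne (Ne.symm hjf) _⟩ with hb0
  have hφb0 : φ.1 ⬝ᵥ b0.1 = -1 := by
    rw [hb0]
    simp only
    rw [dotProduct_single, mul_neg, mul_inv_cancel₀ hj]
  have hφ'b0 := key b0 hφb0
  -- agreement on `Wp`
  have agree : ∀ w : Wp hn F, φ'.1 ⬝ᵥ w.1 = φ.1 ⬝ᵥ w.1 := by
    intro w
    set c : Wp hn F := w + (φ.1 ⬝ᵥ w.1) • b0 with hc
    have hφc : φ.1 ⬝ᵥ c.1 = 0 := by
      rw [hc, Submodule.coe_add, Submodule.coe_smul, dotProduct_add, dotProduct_smul, hφb0,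
        smul_eq_mul, mul_neg, mul_one, add_neg_cancel]
    have h2 := key (b0 + c) (by
      rw [Submodule.coe_add, dotProduct_add, hφb0, hφc, add_zero])
    rw [Submodule.coe_add, dotProduct_add, hφ'b0] at h2
    have h3 : φ'.1 ⬝ᵥ c.1 = 0 := by linear_combination h2
    rw [hc, Submodule.coe_add, Submodule.coe_smul, dotProduct_add, dotProduct_smul, hφ'b0,
      smul_eq_mul, mul_neg, mul_one] at h3
    linear_combination h3
  symm
  apply Subtype.ext
  funext i
  by_cases hi : i = fst hn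
  · rw [hi, mem_Wp.mp φ.2, mem_Wp.mp φ'.2]
  · have := agree ⟨Pi.single i 1, by rw [mem_Wp]; exact Pi.single_eq_of_ne (Ne.symm hi) _⟩
    simp only [dotProduct_single, mul_one] at this
    exact this.symm

include h0 h1 in
/-- rigidity -/
theorem eq_one_of_fix : β = 1 := by
  have hnt : Nontrivial (Fin n) := Fin.nontrivial_iff_two_le.mpr hn
  have htop := PQc_sup_PQa_eq_top (F := F) (fst hn)
  change PQc (e0 hn : Fin n → F) ⊔ PQa (e0 hn : Fin n → F) = ⊤ at htop
  have hle : PQc (e0 hn : Fin n → F) ⊔ PQa (e0 hn : Fin n → F) ≤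
      MonoidHom.eqLocus β.toMonoidHom (MonoidHom.id _) := by
    apply sup_le
    · intro x hx
      obtain ⟨φ, rfl⟩ := exists_uw_of_mem hx
      exact fix_uw β h0 h1 φ
    · intro x hx
      obtain ⟨b, rfl⟩ := exists_lw_of_mem hx
      exact h1 b
  rw [htop] at hle
  ext x
  exact hle (Subgroup.mem_top x)

end rigid

end Cfsg.Agent.Helper14.AutPSL
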