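import Mathlib
import Cfsg.Agent.Helper14.AutRigid
import Cfsg.Agent.Helper14.AutHua

/-!
Helper14: an automorphism of `PSL_n(q)` fixing `PQc e₀` and `PQa e₀` acts semilinearly on the
parameters of `PQa e₀`.
-/

set_option autoImplicit false
set_option linter.unusedSectionVars false

namespace Cfsg.Agent.Helper14.AutPSL

open Matrix

variable {n : ℕ} {F : Type*} [Field F]

theorem uw_add {hn : 2 ≤ n} (φ φ' : Wp hn F) : uw (φ + φ') = uw φ * uw φ' := by
  unfold uw
  rw [tv_mul_center]
  rfl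

section hmap

variable {hn : 2 ≤ n}
  (α : MulAut (Matrix.SpecialLinearGroup (Fin n) F ⧸
    Subgroup.center (Matrix.SpecialLinearGroup (Fin n) F)))
  (h0 : (PQc (e0 hn : Fin n → F)).map α.toMonoidHom = PQc (e0 hn))
  (h1 : (PQa (e0 hn : Fin n → F)).map α.toMonoidHom = PQa (e0 hn))

include h0 in
theorem exists_param_uw (φ : Wp hn F) : ∃ φ' : Wp hn F, α (prj (uw φ)) = prj (uw φ') := by
  apply exists_uw_of_mem
  rw [← h0]
  exact ⟨prj (uw φ), Subgroup.mem_map_of_mem _ (uw_mem_Qc φ), rfl⟩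

/-- the induced map on the parameters of `PQc e₀` -/
noncomputable def hmap (φ : Wp hn F) : Wp hn F := Classical.choose (exists_param_uw α h0 φ)

theorem hmap_spec (φ : Wp hn F) : α (prj (uw φ)) = prj (uw (hmap α h0 φ)) :=
  Classical.choose_spec (exists_param_uw α h0 φ)

theorem hmap_add (φ φ' : Wp hn F) : hmap α h0 (φ + φ') = hmap α h0 φ + hmap α h0 φ' := by
  apply prj_uw_injective
  rw [← hmap_spec, uw_add, uw_add, map_mul, map_mul, map_mul, hmap_spec α h0, hmap_spec α h0]

/-- the induced additive map -/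
noncomputable def hAdd : Wp hn F →+ Wp hn F :=
  AddMonoidHom.mk' (hmap α h0) (hmap_add α h0)

theorem hAdd_spec (φ : Wp hn F) : α (prj (uw φ)) = prj (uw (hAdd α h0 φ)) := hmap_spec α h0 φ

/-- transfer of the braid relation -/
theorem hAdd_dot_gAdd (φ b : Wp hn F) (h : φ.1 ⬝ᵥ b.1 = -1) :
    (hAdd α h0 φ).1 ⬝ᵥ (gAdd α h1 b).1 = -1 := by
  have hb0 : b ≠ 0 := by
    rintro rfl
    rw [Submodule.coe_zero, dotProduct_zero] at h
    exact one_ne_zero (neg_eq_zero.mp h.symm)
  have hgb : gAdd α h1 b ≠ 0 := fun h => hb0 (gAdd_injective α h1 (h.trans (map_zero _).symm))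
  apply rigid_dot _ _ hgb
  have h2 := congrArg (fun x => α (prj x)) (uw_lw_braid φ b h)
  simp only [map_mul, hAdd_spec α h0, gAdd_spec α h1] at h2
  rw [map_mul, map_mul, map_mul, map_mul]
  exact h2

end hmap

/-! ### the case `n = 2` -/

section two

variable {hn : 2 ≤ n}

/-- the second basis vector -/
def e1 (hn : 2 ≤ n) : Wp hn F := ej hn (lst hn)

theorem e1_lst (hn : 2 ≤ n) : (e1 hn : Wp hn F).1 (lst hn) = 1 := by
  unfold e1
  rw [ej_apply, if_neg (fst_ne_lst hn).symm, if_pos rfl]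

theorem eq_smul_e1 (hn2 : n = 2) (b : Wp hn F) : b = b.1 (lst hn) • e1 hn := by
  apply Subtype.ext
  funext i
  rw [Submodule.coe_smul, Pi.smul_apply, smul_eq_mul]
  have hi : i = fst hn ∨ i = lst hn := by
    have := i.2
    rcases Nat.lt_or_ge i.1 1 with h | h
    · left; apply Fin.ext; simp only [fst]; omega
    · right; apply Fin.ext; simp only [lst]; omega
  rcases hi with rfl | rfl
  · rw [mem_Wp.mp b.2, mem_Wp.mp (e1 hn).2, mul_zero]
  · rw [e1_lst, mul_one]

theorem e1_dot_e1 (hn : 2 ≤ n) : (e1 hn : Wp hn F).1 ⬝ᵥ (e1 hn : Wp hn F).1 = 1 := by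
  have : (e1 hn : Wp hn F).1 = Pi.single (lst hn) 1 := by
    unfold e1 ej
    simp only
    rw [if_neg (fst_ne_lst hn).symm]
  rw [this, single_dotProduct, one_mul, Pi.single_eq_same]

variable
  (α : MulAut (Matrix.SpecialLinearGroup (Fin n) F ⧸
    Subgroup.center (Matrix.SpecialLinearGroup (Fin n) F)))
  (h0 : (PQc (e0 hn : Fin n → F)).map α.toMonoidHom = PQc (e0 hn))
  (h1 : (PQa (e0 hn : Fin n → F)).map α.toMonoidHom = PQa (e0 hn))

/-- the scalar version of `gAdd` -/
noncomputable def gF : F →+ F :=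
  AddMonoidHom.mk' (fun x => (gAdd α h1 (x • e1 hn)).1 (lst hn)) (by
    intro x y
    rw [add_smul, map_add]
    rfl)

/-- the scalar version of `hAdd` -/
noncomputable def hF : F →+ F :=
  AddMonoidHom.mk' (fun x => (hAdd α h0 (x • e1 hn)).1 (lst hn)) (by
    intro x y
    rw [add_smul, map_add]
    rfl)

theorem gF_spec (hn2 : n = 2) (x : F) : gAdd α h1 (x • e1 hn) = gF α h1 x • e1 hn :=
  eq_smul_e1 hn2 _

theorem hF_spec (hn2 : n = 2) (x : F) : hAdd α h0 (x • e1 hn) = hF α h0 x • e1 hn :=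
  eq_smul_e1 hn2 _

theorem gF_injective (hn2 : n = 2) : Function.Injective (gF α h1) := by
  intro x y hxy
  have h2 : gAdd α h1 (x • e1 hn) = gAdd α h1 (y • e1 hn) := by
    rw [gF_spec α h1 hn2, gF_spec α h1 hn2, hxy]
  have h3 := gAdd_injective α h1 h2
  have h4 := congrArg (fun b : Wp hn F => b.1 (lst hn)) h3
  simp only [Submodule.coe_smul, Pi.smul_apply, smul_eq_mul, e1_lst, mul_one] at h4
  exact h4

theorem hF_gF_rel (hn2 : n = 2) (x y : F) (hxy : y * x = -1) : hF α h0 y * gF α h1 x = -1 := by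
  have h2 := hAdd_dot_gAdd α h0 h1 (y • e1 hn) (x • e1 hn) (by
    rw [Submodule.coe_smul, Submodule.coe_smul, smul_dotProduct, dotProduct_smul, e1_dot_e1,
      smul_eq_mul, smul_eq_mul, mul_one, hxy])
  rw [gF_spec α h1 hn2, hF_spec α h0 hn2, Submodule.coe_smul, Submodule.coe_smul, smul_dotProduct,
    dotProduct_smul, e1_dot_e1, smul_eq_mul, smul_eq_mul, mul_one] at h2
  exact h2

include h0 in
theorem gAdd_uniform_two [Finite F] (hn2 : n = 2) (c : F) :
    ∃ d : F, ∀ w : Wp hn F, gAdd α h1 (c • w) = d • gAdd α h1 w := by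
  obtain ⟨d, hd⟩ := hua_uniform (gF α h1) (hF α h0) (gF_injective α h1 hn2)
    (hF_gF_rel α h0 h1 hn2) c
  refine ⟨d, fun w => ?_⟩
  rw [eq_smul_e1 hn2 w, smul_smul, gF_spec α h1 hn2, gF_spec α h1 hn2, hd, smul_smul]

end two

/-! ### the general case -/

theorem Wp_nontrivial (hn : 2 ≤ n) : Nontrivial (Wp hn F) := by
  refine ⟨⟨e1 hn, 0, ?_⟩⟩
  intro h
  have := congrArg (fun b : Wp hn F => b.1 (lst hn)) h
  simp only [e1_lst, Submodule.coe_zero, Pi.zero_apply] at this
  exact one_ne_zero this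

/-- semilinearity of the parameter map -/
theorem exists_sigma [Fintype F] {p f : ℕ} [hp : Fact p.Prime]
    (hF : Fintype.card F = p ^ f) (hf : 1 ≤ f) {hn : 2 ≤ n}
    (α : MulAut (Matrix.SpecialLinearGroup (Fin n) F ⧸
      Subgroup.center (Matrix.SpecialLinearGroup (Fin n) F)))
    (h0 : (PQc (e0 hn : Fin n → F)).map α.toMonoidHom = PQc (e0 hn))
    (h1 : (PQa (e0 hn : Fin n → F)).map α.toMonoidHom = PQa (e0 hn)) :
    ∃ σ : F ≃+* F, ∀ (c : F) (b : Wp hn F), gAdd α h1 (c • b) = σ c • gAdd α h1 b := by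
  have := Wp_nontrivial (F := F) hn
  apply exists_ringEquiv_of_uniform (gAdd α h1) (gAdd_injective α h1)
  intro c
  by_cases h3 : 3 ≤ n
  · -- two independent vectors
    have hmid : (⟨1, by omega⟩ : Fin n) ≠ fst hn := by
      intro h
      have := congrArg Fin.val h
      simp [fst] at this
    have hmidl : (⟨1, by omega⟩ : Fin n) ≠ lst hn := by
      intro h
      have := congrArg Fin.val h
      simp only [lst] at this
      omega
    have hv1 : (e1 hn : Wp hn F) ≠ 0 := by
      intro h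
      have := congrArg (fun b : Wp hn F => b.1 (lst hn)) h
      simp only [e1_lst, Submodule.coe_zero, Pi.zero_apply] at this
      exact one_ne_zero this
    have hind : ∀ k : F, (ej hn ⟨1, by omega⟩ : Wp hn F) ≠ k • e1 hn := by
      intro k h
      have := congrArg (fun b : Wp hn F => b.1 ⟨1, by omega⟩) h
      simp only [Submodule.coe_smul, Pi.smul_apply, smul_eq_mul] at this
      rw [ej_apply, if_neg hmid, if_pos rfl] at this
      unfold e1 at this
      rw [ej_apply, if_neg (fst_ne_lst hn).symm, if_neg hmidl, mul_zero] at this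
      exact one_ne_zero this
    exact uniform_of_line (gAdd α h1) (gAdd_injective α h1)
      (fun w c => gAdd_line hF hf h3 α h1 w c) hv1 hind c
  · exact gAdd_uniform_two α h0 h1 (by omega) c

end Cfsg.Agent.Helper14.AutPSL
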