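import Mathlib
import Cfsg.Agent.Helper14.AutUnif

/-!
Helper14: every automorphism of `PSL_n(q)` is induced by a standard automorphism of `SL_n(q)`
(a product of conjugations by `GL_n(q)`, field automorphisms and the inverse transpose).
-/

set_option autoImplicit false
set_option linter.unusedSectionVars false

namespace Cfsg.Agent.Helper14.AutPSL

open Matrix

variable {n : ℕ} {F : Type*} [Field F]

theorem map_inv_aut_eq {G : Type*} [Group G] {X : Subgroup G} {α : MulAut G}
    (h : X.map α.toMonoidHom = X) : X.map (α⁻¹).toMonoidHom = X := by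
  conv_lhs => rw [← h]
  rw [← map_mul_aut, inv_mul_cancel]
  exact Subgroup.map_id X

/-- **The automorphisms of `PSL_n(q)`.** -/
theorem exists_std_eq [Fintype F] {p f : ℕ} [hp : Fact p.Prime]
    (hF : Fintype.card F = p ^ f) (hf : 1 ≤ f) (hn : 2 ≤ n)
    (α : MulAut (Matrix.SpecialLinearGroup (Fin n) F ⧸
      Subgroup.center (Matrix.SpecialLinearGroup (Fin n) F))) :
    ∃ e ∈ stdSub (Fin n) F, α = pslOf e := by
  obtain ⟨e1, he1, hX0⟩ := exists_std_fix_X0 hF hf hn α
  obtain ⟨e2, he2, hY0, hY1⟩ := exists_std_fix_X0_X1 hF hf hn (pslOf e1 * α) hX0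
  set α2 := pslOf e2 * (pslOf e1 * α) with hα2
  obtain ⟨σ, hσ⟩ := exists_sigma hF hf α2 hY0 hY1
  obtain ⟨e3, he3, hagree, hZ0⟩ := exists_std_agree α2 hY1 σ hσ
  have hβ : (pslOf e3)⁻¹ * α2 = 1 := by
    apply eq_one_of_fix (hn := hn)
    · rw [map_mul_aut, hY0]
      exact map_inv_aut_eq hZ0
    · intro b
      rw [MulAut.mul_apply, ← hagree b]
      exact (pslOf e3).symm_apply_apply _
  have h3 : α2 = pslOf e3 := by
    have := congrArg (fun x => pslOf e3 * x) hβ
    simp only [mul_inv_cancel_left, mul_one] at this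
    exact this
  refine ⟨e1⁻¹ * (e2⁻¹ * e3), Subgroup.mul_mem _ (Subgroup.inv_mem _ he1)
    (Subgroup.mul_mem _ (Subgroup.inv_mem _ he2) he3), ?_⟩
  rw [map_mul, map_mul, map_inv, map_inv, ← h3, hα2]
  group

end Cfsg.Agent.Helper14.AutPSL
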