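import Mathlib
import Cfsg.Agent.Helper14.AutMain

/-!
Helper14: normal form of the standard automorphisms of `SL_n(F)`.
-/

set_option autoImplicit false
set_option linter.unusedSectionVars false

namespace Cfsg.Agent.Helper14.AutPSL

open Matrix

variable {ι : Type*} [Fintype ι] [DecidableEq ι] {F : Type*} [Field F]

/-- a field automorphism applied to an invertible matrix -/
def glMap (σ : F ≃+* F) (g : GL ι F) : GL ι F := Matrix.GeneralLinearGroup.map (σ : F →+* F) g

theorem glMap_coe (σ : F ≃+* F) (g : GL ι F) : ((glMap σ g : GL ι F) : Matrix ι ι F) = g.1.map σ := rfl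

theorem glMap_inv_coe (σ : F ≃+* F) (g : GL ι F) :
    (((glMap σ g)⁻¹ : GL ι F) : Matrix ι ι F) = ((g⁻¹ : GL ι F) : Matrix ι ι F).map σ := by
  unfold glMap
  rw [← map_inv]
  rfl

/-- the inverse transpose of an invertible matrix -/
def glInvT (g : GL ι F) : GL ι F :=
  ⟨((g⁻¹ : GL ι F) : Matrix ι ι F)ᵀ, (g : Matrix ι ι F)ᵀ,
    by rw [← transpose_mul, gl_mul_inv, transpose_one],
    by rw [← transpose_mul, gl_inv_mul, transpose_one]⟩

theorem glInvT_coe (g : GL ι F) :
    ((glInvT g : GL ι F) : Matrix ι ι F) = ((g⁻¹ : GL ι F) : Matrix ι ι F)ᵀ := rfl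

theorem glInvT_inv_coe (g : GL ι F) :
    (((glInvT g)⁻¹ : GL ι F) : Matrix ι ι F) = (g : Matrix ι ι F)ᵀ := rfl

theorem slConj_mul (g h : GL ι F) : slConj (g * h) = slConj g * slConj h := by
  ext s : 1
  apply Subtype.ext
  rw [MulAut.mul_apply, slConj_coe, slConj_coe, slConj_coe, _root_.mul_inv_rev, Units.val_mul,
    Units.val_mul]
  simp only [Matrix.mul_assoc]

theorem slConj_one : slConj (1 : GL ι F) = 1 := by
  ext s : 1
  apply Subtype.ext
  rw [slConj_coe, inv_one, Units.val_one, Matrix.one_mul, Matrix.mul_one]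
  rfl

theorem slConj_inv (g : GL ι F) : slConj g⁻¹ = (slConj g)⁻¹ := by
  rw [eq_inv_iff_mul_eq_one, ← slConj_mul, inv_mul_cancel, slConj_one]

theorem slField_mul (σ ρ : F ≃+* F) : slField (σ * ρ) = (slField σ * slField ρ : MulAut (Matrix.SpecialLinearGroup ι F)) := by
  ext s : 1
  apply Subtype.ext
  rfl

theorem slField_one : slField (1 : F ≃+* F) = (1 : MulAut (Matrix.SpecialLinearGroup ι F)) := by
  ext s : 1
  apply Subtype.ext
  rfl

theorem slField_inv (σ : F ≃+* F) : slField σ⁻¹ = (slField σ : MulAut (Matrix.SpecialLinearGroup ι F))⁻¹ := by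
  rw [eq_inv_iff_mul_eq_one, ← slField_mul, inv_mul_cancel, slField_one]

theorem slField_slConj (σ : F ≃+* F) (g : GL ι F) :
    slField σ * slConj g = slConj (glMap σ g) * slField σ := by
  ext s : 1
  apply Subtype.ext
  rw [MulAut.mul_apply, MulAut.mul_apply, slField_coe, slConj_coe, slConj_coe, slField_coe,
    glMap_coe, glMap_inv_coe]
  have := Matrix.map_mul (L := g.1 * s.1) (M := ((g⁻¹ : GL ι F) : Matrix ι ι F)) (f := (σ : F →+* F))
  have h2 := Matrix.map_mul (L := g.1) (M := s.1) (f := (σ : F →+* F))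
  rw [h2] at this
  exact this

theorem slInvT_slConj (g : GL ι F) : slInvT * slConj g = slConj (glInvT g) * slInvT := by
  ext s : 1
  apply Subtype.ext
  rw [MulAut.mul_apply, MulAut.mul_apply, slInvT_coe, ← map_inv, slConj_coe, slConj_coe,
    glInvT_coe, glInvT_inv_coe, slInvT_coe, transpose_mul, transpose_mul]
  simp only [Matrix.mul_assoc]

theorem slInvT_slField (σ : F ≃+* F) :
    slInvT * slField σ = (slField σ * slInvT : MulAut (Matrix.SpecialLinearGroup ι F)) := by
  ext s : 1
  apply Subtype.ext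
  rw [MulAut.mul_apply, MulAut.mul_apply, slInvT_coe, ← map_inv, slField_coe, slField_coe,
    slInvT_coe, transpose_map]

theorem slInvT_sq : slInvT * slInvT = (1 : MulAut (Matrix.SpecialLinearGroup ι F)) := by
  ext s : 1
  apply Subtype.ext
  rw [MulAut.mul_apply, slInvT_coe, ← map_inv, slInvT_coe, inv_inv, transpose_transpose]
  rfl

theorem slInvT_inv : (slInvT : MulAut (Matrix.SpecialLinearGroup ι F))⁻¹ = slInvT := by
  rw [inv_eq_iff_mul_eq_one, slInvT_sq]

/-- `slInvT ^ ε` -/
def slT (ε : Bool) : MulAut (Matrix.SpecialLinearGroup ι F) := if ε then slInvT else 1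

theorem slT_slConj (ε : Bool) (g : GL ι F) :
    ∃ g' : GL ι F, (slT ε * slConj g : MulAut (Matrix.SpecialLinearGroup ι F)) = slConj g' * slT ε := by
  cases ε
  · exact ⟨g, by unfold slT; simp⟩
  · exact ⟨glInvT g, by unfold slT; simp only [if_true]; exact slInvT_slConj g⟩

theorem slT_slField (ε : Bool) (σ : F ≃+* F) :
    (slT ε * slField σ : MulAut (Matrix.SpecialLinearGroup ι F)) = slField σ * slT ε := by
  cases ε
  · unfold slT; simp
  · unfold slT; simp only [if_true]; exact slInvT_slField σ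

theorem slT_slInvT (ε : Bool) :
    (slT ε * slInvT : MulAut (Matrix.SpecialLinearGroup ι F)) = slT (!ε) := by
  cases ε
  · unfold slT; simp
  · unfold slT; simp only [if_true, Bool.not_true]; exact slInvT_sq

/-- the normal form of a standard automorphism -/
theorem stdSub_normal_form {e : MulAut (Matrix.SpecialLinearGroup ι F)} (he : e ∈ stdSub ι F) :
    ∃ (g : GL ι F) (σ : F ≃+* F) (ε : Bool), e = slConj g * slField σ * slT ε := by
  unfold stdSub at he
  induction he using Subgroup.closure_induction_right with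
  | one => exact ⟨1, 1, false, by rw [slConj_one, slField_one]; unfold slT; simp⟩
  | mul_right x hx y hy ih =>
    obtain ⟨g, σ, ε, rfl⟩ := ih
    rcases hy with (⟨h, rfl⟩ | ⟨ρ, rfl⟩) | rfl
    · obtain ⟨h', hh'⟩ := slT_slConj ε h
      refine ⟨g * glMap σ h', σ, ε, ?_⟩
      rw [mul_assoc, hh', ← mul_assoc, mul_assoc (slConj g), slField_slConj, slConj_mul]
      simp only [mul_assoc]
    · refine ⟨g, σ * ρ, ε, ?_⟩
      rw [mul_assoc, slT_slField, slField_mul]
      simp only [mul_assoc]
    · exact ⟨g, σ, !ε, by rw [mul_assoc, slT_slInvT]⟩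
  | mul_inv_cancel x hx y hy ih =>
    obtain ⟨g, σ, ε, rfl⟩ := ih
    rcases hy with (⟨h, rfl⟩ | ⟨ρ, rfl⟩) | rfl
    · rw [← slConj_inv]
      obtain ⟨h', hh'⟩ := slT_slConj ε h⁻¹
      refine ⟨g * glMap σ h', σ, ε, ?_⟩
      rw [mul_assoc, hh', ← mul_assoc, mul_assoc (slConj g), slField_slConj, slConj_mul]
      simp only [mul_assoc]
    · rw [← slField_inv]
      refine ⟨g, σ * ρ⁻¹, ε, ?_⟩
      rw [mul_assoc, slT_slField, slField_mul]
      simp only [mul_assoc]
    · rw [slInvT_inv]
      exact ⟨g, σ, !ε, by rw [mul_assoc, slT_slInvT]⟩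

end Cfsg.Agent.Helper14.AutPSL
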