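import Mathlib
import Cfsg.Agent.Helper14.AutNF

/-!
Helper14: a semilinear map inducing the trivial automorphism of `PSL_n(F)` is a scalar; the kernel
of `GL_n(F) → Aut(PSL_n(F))` is the centre.
-/

set_option autoImplicit false
set_option linter.unusedSectionVars false

namespace Cfsg.Agent.Helper14.AutPSL

open Matrix

section eigen
variable {F : Type*} [Field F] {V : Type*} [AddCommGroup V] [Module F V]

theorem eigen_eq_of_indep (L : V →+ V) (hL : ∀ w : V, ∃ d : F, L w = d • w) {w w' : V} (hw : w ≠ 0)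
    (hind : ∀ k : F, w' ≠ k • w) {d d' : F} (hd : L w = d • w) (hd' : L w' = d' • w') : d = d' := by
  obtain ⟨e, he⟩ := hL (w + w')
  rw [map_add, hd, hd', smul_add] at he
  have h1 : (e - d) • w = (d' - e) • w' := by
    rw [sub_smul, sub_smul, sub_eq_sub_iff_add_eq_add, ← he, add_comm]
  by_cases hB : d' - e = 0
  · rw [hB, zero_smul] at h1
    have hA : e - d = 0 := (smul_eq_zero.mp h1).resolve_right hw
    rw [sub_eq_zero] at hA hB
    rw [← hA, hB]
  · exfalso
    apply hind ((d' - e)⁻¹ * (e - d))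
    rw [mul_smul, h1, smul_smul, inv_mul_cancel₀ hB, one_smul]

/-- an additive map for which every vector is an eigenvector is a scalar (dimension at least 2) -/
theorem eigen_uniform (L : V →+ V) (hL : ∀ w : V, ∃ d : F, L w = d • w) {v₁ v₂ : V} (hv₁ : v₁ ≠ 0)
    (hv : ∀ k : F, v₂ ≠ k • v₁) : ∃ d : F, ∀ w : V, L w = d • w := by
  obtain ⟨d, hd⟩ := hL v₁
  refine ⟨d, fun w => ?_⟩
  by_cases hw : w = 0
  · rw [hw, map_zero, smul_zero]
  obtain ⟨d', hd'⟩ := hL w
  have hv₂ : v₂ ≠ 0 := by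
    intro h
    apply hv 0
    rw [h, zero_smul]
  by_cases hind : ∀ k : F, w ≠ k • v₁
  · rw [hd', ← eigen_eq_of_indep L hL hv₁ hind hd hd']
  · push Not at hind
    obtain ⟨k, hk⟩ := hind
    have hk0 : k ≠ 0 := by
      intro h
      apply hw
      rw [hk, h, zero_smul]
    obtain ⟨d₂, hd₂⟩ := hL v₂
    have h1 : d = d₂ := eigen_eq_of_indep L hL hv₁ hv hd hd₂
    have hind2 : ∀ k' : F, v₂ ≠ k' • w := by
      intro k' h
      apply hv (k' * k)
      rw [h, hk, smul_smul]
    have h2 : d' = d₂ := eigen_eq_of_indep L hL hw hind2 hd' hd₂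
    rw [hd', h2, ← h1]

end eigen

section ker
variable {n : ℕ} {F : Type*} [Field F]

theorem ker_semilinear (hn : 2 ≤ n) (h : GL (Fin n) F) (τ : F ≃+* F)
    (hβ : pslOf (slConj h * slField τ) = 1) :
    τ = 1 ∧ ∃ d : F, (h : Matrix (Fin n) (Fin n) F) = d • (1 : Matrix (Fin n) (Fin n) F) := by
  have hne : Nonempty (Fin n) := ⟨⟨0, by omega⟩⟩
  let L : (Fin n → F) →+ (Fin n → F) :=
    AddMonoidHom.mk' (fun a => (h : Matrix (Fin n) (Fin n) F) *ᵥ (fun i => τ (a i))) (by
      intro a b
      rw [← mulVec_add]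
      congr 1
      funext i
      simp)
  have hLdef : ∀ a, L a = (h : Matrix (Fin n) (Fin n) F) *ᵥ (fun i => τ (a i)) := fun a => rfl
  have hLeig : ∀ a, ∃ d : F, L a = d • a := by
    intro a
    by_cases ha : a = 0
    · exact ⟨0, by rw [ha, map_zero, smul_zero]⟩
    obtain ⟨φ, hφ0, hφ⟩ := exists_ker (F := F) (by rw [Fintype.card_fin]; exact hn) a
    have hφa : φ ⬝ᵥ a = 0 := by rw [dotProduct_comm]; exact hφ
    have h1 : pslOf (slConj h * slField τ) (prj (tv a φ hφa)) = prj (tv a φ hφa) := by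
      rw [hβ]; rfl
    rw [pslOf_prj, MulAut.mul_apply, slField_tv, slConj_tv] at h1
    have h2 := (IsTq.eq_of_mk_eq ⟨_, _, _, rfl⟩ ⟨_, _, _, rfl⟩ h1).symm
    obtain ⟨c, -, hc, -⟩ := tv_eq_tv _ _ ha hφ0 h2
    exact ⟨c, hc⟩
  have hv1 : (Pi.single (fst hn) 1 : Fin n → F) ≠ 0 := single_ne_zero' _
  have hind : ∀ k : F, (Pi.single (lst hn) 1 : Fin n → F) ≠ k • Pi.single (fst hn) 1 := by
    intro k hk
    have := congrFun hk (lst hn)
    rw [Pi.single_eq_same, Pi.smul_apply, Pi.single_eq_of_ne (fst_ne_lst hn).symm, smul_zero] at this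
    exact one_ne_zero this
  obtain ⟨d, hd⟩ := eigen_uniform L hLeig hv1 hind
  have hd0 : d ≠ 0 := by
    intro h0
    have h3 := hd (Pi.single (fst hn) 1)
    rw [h0, zero_smul, hLdef] at h3
    have h4 : (fun i => τ ((Pi.single (fst hn) 1 : Fin n → F) i)) ≠ 0 := by
      intro h5
      have := congrFun h5 (fst hn)
      simp at this
    exact mulVec_ne_zero_of_gl h h4 h3
  have hτ : τ = 1 := by
    ext k
    have h3 := hd (k • Pi.single (fst hn) 1)
    have h4 : (fun i => τ ((k • (Pi.single (fst hn) 1 : Fin n → F)) i)) =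
        τ k • (fun i => τ ((Pi.single (fst hn) 1 : Fin n → F) i)) := by
      funext i
      simp
    rw [hLdef, h4, mulVec_smul, ← hLdef, hd] at h3
    have h5 := congrFun h3 (fst hn)
    simp only [Pi.smul_apply, Pi.single_eq_same, smul_eq_mul, mul_one] at h5
    have h6 : (τ k - k) * d = 0 := by linear_combination h5
    rcases mul_eq_zero.mp h6 with h7 | h7
    · exact sub_eq_zero.mp h7
    · exact absurd h7 hd0
  refine ⟨hτ, d, ?_⟩
  ext i j
  have h3 := hd (Pi.single j 1)
  rw [hLdef, hτ] at h3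
  have h4 : (fun i => (1 : F ≃+* F) ((Pi.single j 1 : Fin n → F) i)) = Pi.single j 1 := rfl
  rw [h4, mulVec_single_one] at h3
  have h5 := congrFun h3 i
  rw [Matrix.col_apply] at h5
  rw [h5, Matrix.smul_apply, Matrix.one_apply, Pi.smul_apply, Pi.single_apply]

theorem mem_center_of_scalar {ι : Type*} [Fintype ι] [DecidableEq ι] (h : GL ι F) (d : F)
    (hd : (h : Matrix ι ι F) = d • (1 : Matrix ι ι F)) : h ∈ Subgroup.center (GL ι F) := by
  rw [Subgroup.mem_center_iff]
  intro x
  apply Units.ext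
  rw [Units.val_mul, Units.val_mul, hd, Matrix.mul_smul, Matrix.smul_mul, Matrix.mul_one,
    Matrix.one_mul]

theorem slConj_eq_one_of_mem_center {ι : Type*} [Fintype ι] [DecidableEq ι] {h : GL ι F}
    (hh : h ∈ Subgroup.center (GL ι F)) : slConj h = 1 := by
  ext s : 1
  apply Subtype.ext
  rw [slConj_coe]
  have h1 := Subgroup.mem_center_iff.mp hh (Matrix.SpecialLinearGroup.toGL s)
  have h2 : (h : Matrix ι ι F) * s.1 = s.1 * (h : Matrix ι ι F) := by
    have := congrArg Units.val h1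
    rw [Units.val_mul, Units.val_mul] at this
    exact this.symm
  rw [h2, Matrix.mul_assoc, gl_mul_inv, Matrix.mul_one]
  rfl

/-- conjugation as a homomorphism -/
def slConjHom {ι : Type*} [Fintype ι] [DecidableEq ι] :
    GL ι F →* MulAut (Matrix.SpecialLinearGroup ι F) where
  toFun := slConj
  map_one' := slConj_one
  map_mul' := slConj_mul

/-- the homomorphism `GL_n(F) → Aut(PSL_n(F))` -/
def inndiagHom (n : ℕ) (F : Type*) [Field F] : GL (Fin n) F →*
    MulAut (Matrix.SpecialLinearGroup (Fin n) F ⧸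
      Subgroup.center (Matrix.SpecialLinearGroup (Fin n) F)) :=
  pslOf.comp slConjHom

theorem inndiagHom_apply (g : GL (Fin n) F) : inndiagHom n F g = pslOf (slConj g) := rfl

theorem ker_inndiagHom (hn : 2 ≤ n) : (inndiagHom n F).ker = Subgroup.center (GL (Fin n) F) := by
  ext g
  rw [MonoidHom.mem_ker, inndiagHom_apply]
  constructor
  · intro hg
    have h1 : pslOf (slConj g * slField (1 : F ≃+* F)) = 1 := by
      rw [slField_one, mul_one, hg]
    obtain ⟨-, d, hd⟩ := ker_semilinear hn g 1 h1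
    exact mem_center_of_scalar g d hd
  · intro hg
    rw [slConj_eq_one_of_mem_center hg, map_one]

end ker

end Cfsg.Agent.Helper14.AutPSL
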