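import Mathlib
import Cfsg.Prelude.Def_LieTypeDatum
import Cfsg.Agent.Helper14.AutNF

/-!
Helper14: the standard automorphisms of `PSL_n(F)` satisfy the Prelude predicates; every
automorphism of `PSL_n(q)` is a product `δ φ γ`.
-/

set_option autoImplicit false
set_option linter.unusedSectionVars false

namespace Cfsg.Agent.Helper14.AutPSL

open Matrix

variable {n : ℕ} {F : Type*} [Field F]

theorem isInnerDiagonal_pslOf_slConj (g : GL (Fin n) F) :
    Cfsg.IsInnerDiagonalAutPSL (pslOf (slConj g)) := by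
  refine ⟨g, fun s s' h => ?_⟩
  have : s' = slConj g s := Subtype.ext h
  rw [this]
  rfl

theorem isStdField_pslOf_slField (σ : F ≃+* F) :
    Cfsg.IsStdFieldAutPSL (n := n) σ (pslOf (slField σ)) := by
  intro s s' h
  have : s' = slField σ s := Subtype.ext h
  rw [this]
  rfl

theorem isInverseTranspose_pslOf_slInvT :
    Cfsg.IsInverseTransposeAutPSL (n := n) (F := F) (pslOf slInvT) := by
  intro s s' h
  have : s' = slInvT s := Subtype.ext h
  rw [this]
  rfl

theorem isInducedBySemilinear_pslOf (g : GL (Fin n) F) (σ : F ≃+* F) :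
    Cfsg.IsInducedBySemilinearPSL g σ (pslOf (slConj g * slField σ)) := by
  intro s s' h
  have : s' = slConj g (slField σ s) := Subtype.ext h
  rw [this]
  rfl

/-- every automorphism of `PSL_n(q)` is `δ φ γ` -/
theorem exists_factorization [Fintype F] {p f : ℕ} [hp : Fact p.Prime]
    (hF : Fintype.card F = p ^ f) (hf : 1 ≤ f) (hn : 2 ≤ n)
    (β : MulAut (Matrix.ProjectiveSpecialLinearGroup (Fin n) F)) :
    ∃ (g : GL (Fin n) F) (σ : F ≃+* F) (ε : Bool),
      β = pslOf (slConj g) * pslOf (slField σ) * pslOf (slT ε) := by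
  obtain ⟨e, he, hβ⟩ := exists_std_eq hF hf hn β
  obtain ⟨g, σ, ε, rfl⟩ := stdSub_normal_form he
  exact ⟨g, σ, ε, by rw [hβ, map_mul, map_mul]⟩

end Cfsg.Agent.Helper14.AutPSL
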