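import Mathlib
import Cfsg.Agent.Helper14.AutKer
import Cfsg.Agent.Helper14.AutPreds

/-!
Helper14: the order of `Aut(PSL_n(q))`.
-/

set_option autoImplicit false
set_option linter.unusedSectionVars false

namespace Cfsg.Agent.Helper14.AutPSL

open Matrix

/-! ### the automorphisms of a finite field -/

/-- ring automorphisms are the same as `ZMod p`-algebra automorphisms -/
def algAutEquiv (p : ℕ) (F : Type*) [Field F] [Algebra (ZMod p) F] : (F ≃ₐ[ZMod p] F) ≃ (F ≃+* F) where
  toFun e := e.toRingEquiv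
  invFun σ := AlgEquiv.ofRingEquiv (f := σ) (fun x => by
    have : (σ : F →+* F).comp (algebraMap (ZMod p) F) = algebraMap (ZMod p) F := Subsingleton.elim _ _
    exact DFunLike.congr_fun this x)
  left_inv e := by ext; rfl
  right_inv σ := by ext; rfl

theorem card_ringAut {F : Type*} [Field F] [Fintype F] (p f : ℕ) [hp : Fact p.Prime] (hf : 1 ≤ f)
    (hF : Fintype.card F = p ^ f) : Nat.card (F ≃+* F) = f := by
  have hchar : CharP F p := by
    obtain ⟨q, hq⟩ := CharP.exists F
    obtain ⟨m, hqp, hm⟩ := FiniteField.card F q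
    have : p = q := by
      have h1 : p ∣ q ^ (m : ℕ) := by
        rw [← hm, hF]
        exact dvd_pow_self p (by omega)
      exact (Nat.prime_dvd_prime_iff_eq hp.out hqp).mp (hp.out.dvd_of_dvd_pow h1)
    rw [this]
    exact hq
  let _ : Algebra (ZMod p) F := ZMod.algebra F p
  have h1 : Fintype.card F = p ^ Module.finrank (ZMod p) F := by
    rw [Module.card_eq_pow_finrank (K := ZMod p) (V := F), ZMod.card]
  have h2 : Module.finrank (ZMod p) F = f :=
    Nat.pow_right_injective hp.out.two_le (by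
      show p ^ Module.finrank (ZMod p) F = p ^ f
      rw [← h1, hF])
  rw [← h2, ← IsGalois.card_aut_eq_finrank (ZMod p) F]
  exact (Nat.card_congr (algAutEquiv p F)).symm

/-! ### the inverse transpose in dimension two -/

variable {n : ℕ} {F : Type*} [Field F]

theorem exists_slInvT_eq_slConj (hn2 : n = 2) :
    ∃ J : GL (Fin n) F, (slInvT : MulAut (Matrix.SpecialLinearGroup (Fin n) F)) = slConj J := by
  subst hn2
  refine ⟨⟨!![0, 1; -1, 0], !![0, -1; 1, 0], ?_, ?_⟩, ?_⟩
  · ext i j
    fin_cases i <;> fin_cases j <;> simp [Matrix.mul_apply, Fin.sum_univ_two]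
  · ext i j
    fin_cases i <;> fin_cases j <;> simp [Matrix.mul_apply, Fin.sum_univ_two]
  · ext s : 1
    apply Subtype.ext
    rw [slInvT_coe, slConj_coe, Matrix.SpecialLinearGroup.coe_inv, Matrix.adjugate_fin_two]
    ext i j
    fin_cases i <;> fin_cases j <;>
      simp [Matrix.mul_apply, Fin.sum_univ_two, Matrix.transpose_apply, Matrix.vecMul, dotProduct]

/-! ### injectivity -/

theorem inj_core (hn : 2 ≤ n) {g g' : GL (Fin n) F} {σ σ' : F ≃+* F}
    (h : (pslOf (slConj g) * pslOf (slField σ) : MulAut (Matrix.SpecialLinearGroup (Fin n) F ⧸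
      Subgroup.center (Matrix.SpecialLinearGroup (Fin n) F))) =
      pslOf (slConj g') * pslOf (slField σ')) :
    pslOf (slConj g) = pslOf (slConj g') ∧ σ = σ' := by
  have h1 : pslOf (slConj (g'⁻¹ * g) * slField (σ * σ'⁻¹)) = 1 := by
    rw [slConj_mul, slConj_inv, slField_mul, slField_inv, map_mul, map_mul, map_mul, map_inv,
      map_inv]
    have : pslOf (slConj g) * pslOf (slField σ) * (pslOf (slField σ'))⁻¹ = pslOf (slConj g') := by
      rw [h, mul_inv_cancel_right]
    calc (pslOf (slConj g'))⁻¹ * pslOf (slConj g) * (pslOf (slField σ) * (pslOf (slField σ'))⁻¹)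
        = (pslOf (slConj g'))⁻¹ * (pslOf (slConj g) * pslOf (slField σ) * (pslOf (slField σ'))⁻¹) := by
          group
      _ = 1 := by rw [this, inv_mul_cancel]
  obtain ⟨hτ, d, hd⟩ := ker_semilinear hn _ _ h1
  have hσ : σ = σ' := by
    have := congrArg (fun x => x * σ') hτ
    simpa using this
  refine ⟨?_, hσ⟩
  have h2 := slConj_eq_one_of_mem_center (mem_center_of_scalar _ d hd)
  rw [slConj_mul, slConj_inv, inv_mul_eq_one] at h2
  rw [h2]

theorem invT_not_semilinear [Finite F] (h3 : 3 ≤ n) (g g' : GL (Fin n) F) (σ σ' : F ≃+* F) :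
    (pslOf (slConj g) * pslOf (slField σ) * pslOf slInvT : MulAut (Matrix.SpecialLinearGroup (Fin n) F ⧸
      Subgroup.center (Matrix.SpecialLinearGroup (Fin n) F))) ≠
      pslOf (slConj g') * pslOf (slField σ') := by
  have hn : 2 ≤ n := by omega
  have hne : Nonempty (Fin n) := ⟨⟨0, by omega⟩⟩
  intro h
  have h1 := congrArg (fun α : MulAut (Matrix.SpecialLinearGroup (Fin n) F ⧸
      Subgroup.center (Matrix.SpecialLinearGroup (Fin n) F)) =>
      (PQc (e0 hn : Fin n → F)).map α.toMonoidHom) h
  simp only [map_mul_aut] at h1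
  rw [map_slInvT_PQc (e0_ne_zero hn), map_slField_PQa σ (e0_ne_zero hn), map_e0,
    map_slConj_PQa g (e0_ne_zero hn), map_slField_PQc σ' (e0_ne_zero hn), map_e0,
    map_slConj_PQc g' (e0_ne_zero hn)] at h1
  exact PQc_ne_PQa h3 (mulVec_ne_zero_of_gl g' (e0_ne_zero hn)) h1.symm

/-! ### the count -/

theorem card_range_inndiagHom (hn : 2 ≤ n) :
    Nat.card (inndiagHom n F).range = Nat.card (Matrix.ProjGenLinGroup (Fin n) F) := by
  rw [← Nat.card_congr (QuotientGroup.quotientKerEquivRange (inndiagHom n F)).toEquiv]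
  exact Nat.card_congr (QuotientGroup.quotientMulEquivOfEq (ker_inndiagHom hn)).toEquiv

theorem card_mulAut_three [Fintype F] {p f : ℕ} [hp : Fact p.Prime]
    (hF : Fintype.card F = p ^ f) (hf : 1 ≤ f) (h3 : 3 ≤ n) :
    Nat.card (MulAut (Matrix.ProjectiveSpecialLinearGroup (Fin n) F)) =
      2 * f * Nat.card (Matrix.ProjGenLinGroup (Fin n) F) := by
  have hn : 2 ≤ n := by omega
  let Θ : (inndiagHom n F).range × (F ≃+* F) × Bool →
      MulAut (Matrix.ProjectiveSpecialLinearGroup (Fin n) F) :=
    fun x => x.1.1 * pslOf (slField x.2.1) * pslOf (slT x.2.2)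
  have hbij : Function.Bijective Θ := by
    constructor
    · rintro ⟨⟨_, g, rfl⟩, σ, ε⟩ ⟨⟨_, g', rfl⟩, σ', ε'⟩ h
      simp only [Θ, inndiagHom_apply] at h
      have hε : ε = ε' := by
        cases ε <;> cases ε'
        · rfl
        · exfalso
          have h0 : pslOf (slT false : MulAut (Matrix.SpecialLinearGroup (Fin n) F)) = 1 := map_one _
          rw [h0, mul_one] at h
          exact invT_not_semilinear h3 g' g σ' σ h.symm
        · exfalso
          have h0 : pslOf (slT false : MulAut (Matrix.SpecialLinearGroup (Fin n) F)) = 1 := map_one _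
          rw [h0, mul_one] at h
          exact invT_not_semilinear h3 g g' σ σ' h
        · rfl
      subst hε
      obtain ⟨h1, h2⟩ := inj_core hn (mul_right_cancel h)
      subst h2
      congr 1
      exact Subtype.ext h1
    · intro β
      obtain ⟨g, σ, ε, hβ⟩ := exists_factorization hF hf hn β
      exact ⟨(⟨pslOf (slConj g), g, rfl⟩, σ, ε), hβ.symm⟩
  rw [← Nat.card_congr (Equiv.ofBijective Θ hbij), Nat.card_prod, Nat.card_prod,
    card_range_inndiagHom hn, card_ringAut p f hf hF, Nat.card_eq_fintype_card (α := Bool),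
    Fintype.card_bool]
  ring

theorem card_mulAut_two [Fintype F] {p f : ℕ} [hp : Fact p.Prime]
    (hF : Fintype.card F = p ^ f) (hf : 1 ≤ f) (hn2 : n = 2) :
    Nat.card (MulAut (Matrix.ProjectiveSpecialLinearGroup (Fin n) F)) =
      f * Nat.card (Matrix.ProjGenLinGroup (Fin n) F) := by
  have hn : 2 ≤ n := by omega
  let Θ : (inndiagHom n F).range × (F ≃+* F) →
      MulAut (Matrix.ProjectiveSpecialLinearGroup (Fin n) F) :=
    fun x => x.1.1 * pslOf (slField x.2)
  have hbij : Function.Bijective Θ := by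
    constructor
    · rintro ⟨⟨_, g, rfl⟩, σ⟩ ⟨⟨_, g', rfl⟩, σ'⟩ h
      simp only [Θ, inndiagHom_apply] at h
      obtain ⟨h1, h2⟩ := inj_core hn h
      subst h2
      congr 1
      exact Subtype.ext h1
    · intro β
      obtain ⟨g, σ, ε, hβ⟩ := exists_factorization hF hf hn β
      cases ε
      · have h0 : pslOf (slT false : MulAut (Matrix.SpecialLinearGroup (Fin n) F)) = 1 := map_one _
        rw [h0, mul_one] at hβ
        exact ⟨(⟨pslOf (slConj g), g, rfl⟩, σ), hβ.symm⟩
      · obtain ⟨J, hJ⟩ := exists_slInvT_eq_slConj (F := F) hn2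
        have h0 : (slT true : MulAut (Matrix.SpecialLinearGroup (Fin n) F)) = slConj J := by
          unfold slT
          rw [if_pos rfl, hJ]
        refine ⟨(⟨pslOf (slConj (g * glMap σ J)), g * glMap σ J, rfl⟩, σ), ?_⟩
        simp only [Θ]
        rw [hβ, h0, ← map_mul, ← map_mul, ← map_mul, mul_assoc, slField_slConj, slConj_mul, mul_assoc]
  rw [← Nat.card_congr (Equiv.ofBijective Θ hbij), Nat.card_prod,
    card_range_inndiagHom hn, card_ringAut p f hf hF]
  ring

end Cfsg.Agent.Helper14.AutPSL
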