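import Mathlib

/-!
Helper14: in a finite cyclic group `G` of order `N`, the subgroup generated by the `n`-th powers
and a subgroup of order `b` has index `gcd(n, N / b)`.
-/

set_option autoImplicit false

namespace Cfsg.Agent.Helper14.AutPSL

variable {G : Type*} [CommGroup G] [Finite G]

theorem index_zpowers_pow {ζ : G} (hζ : ∀ y : G, y ∈ Subgroup.zpowers ζ) {d : ℕ}
    (hd : d ∣ Nat.card G) : (Subgroup.zpowers (ζ ^ d)).index = d := by
  have hN : orderOf ζ = Nat.card G := orderOf_eq_card_of_forall_mem_zpowers hζ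
  have hNpos : 0 < Nat.card G := Nat.card_pos
  have hdpos : 0 < d := Nat.pos_of_dvd_of_pos hd hNpos
  have h1 : Nat.card (Subgroup.zpowers (ζ ^ d)) = Nat.card G / d := by
    rw [Nat.card_zpowers, orderOf_pow, hN, Nat.gcd_eq_right hd]
  have h2 := Subgroup.index_mul_card (Subgroup.zpowers (ζ ^ d))
  rw [h1] at h2
  obtain ⟨m, hm⟩ := hd
  rw [hm, Nat.mul_div_cancel_left _ hdpos] at h2
  have hmpos : 0 < m := by
    rcases Nat.eq_zero_or_pos m with h | h
    · rw [h, mul_zero] at hm; omega
    · exact h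
  exact Nat.eq_of_mul_eq_mul_right hmpos h2

theorem eq_ker_pow_of_card [IsCyclic G] (B : Subgroup G) :
    B = (powMonoidHom (Nat.card B) : G →* G).ker := by
  classical
  have hb : 0 < Nat.card B := Nat.card_pos
  have hle : B ≤ (powMonoidHom (Nat.card B) : G →* G).ker := by
    intro y hy
    rw [MonoidHom.mem_ker, powMonoidHom_apply]
    have := pow_card_eq_one' (G := B) (x := ⟨y, hy⟩)
    exact congrArg Subtype.val this
  apply Subgroup.eq_of_le_of_card_ge hle
  have := Fintype.ofFinite G
  have h1 := IsCyclic.card_pow_eq_one_le (α := G) hb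
  have h2 : Nat.card ((powMonoidHom (Nat.card B) : G →* G).ker) =
      (Finset.univ.filter (fun a : G => a ^ Nat.card B = 1)).card := by
    rw [← Nat.card_eq_finsetCard]
    apply Nat.card_congr
    exact
      { toFun := fun y => ⟨y.1, by
          rw [Finset.mem_filter]
          exact ⟨Finset.mem_univ _, y.2⟩⟩
        invFun := fun y => ⟨y.1, by
          have := (Finset.mem_filter.mp y.2).2
          exact this⟩
        left_inv := fun y => rfl
        right_inv := fun y => rfl }
  rw [h2]
  exact h1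

/-- the index of `Gⁿ · B` in a cyclic group `G` -/
theorem index_pow_sup [IsCyclic G] (n : ℕ) (B : Subgroup G) :
    ((powMonoidHom n : G →* G).range ⊔ B).index = Nat.gcd n (Nat.card G / Nat.card B) := by
  obtain ⟨ζ, hζ⟩ := IsCyclic.exists_generator (α := G)
  have hN : orderOf ζ = Nat.card G := orderOf_eq_card_of_forall_mem_zpowers hζ
  have hNpos : 0 < Nat.card G := Nat.card_pos
  have hb : 0 < Nat.card B := Nat.card_pos
  have hbN : Nat.card B ∣ Nat.card G := Subgroup.card_subgroup_dvd_card B
  set b := Nat.card B with hbdef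
  set N := Nat.card G with hNdef
  set M := N / b with hM
  have hMb : M * b = N := Nat.div_mul_cancel hbN
  have hMpos : 0 < M := by
    rcases Nat.eq_zero_or_pos M with h | h
    · rw [h, zero_mul] at hMb; omega
    · exact h
  set d := Nat.gcd n M with hd
  have hdM : d ∣ M := Nat.gcd_dvd_right n M
  have hdn : d ∣ n := Nat.gcd_dvd_left n M
  have hdN : d ∣ N := hdM.trans ⟨b, hMb.symm⟩
  have hBker := eq_ker_pow_of_card B
  -- the join is generated by `ζ ^ d`
  have hjoin : (powMonoidHom n : G →* G).range ⊔ B = Subgroup.zpowers (ζ ^ d) := by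
    apply le_antisymm
    · apply sup_le
      · rintro _ ⟨y, rfl⟩
        rw [powMonoidHom_apply]
        obtain ⟨k, rfl⟩ := Subgroup.mem_zpowers_iff.mp (hζ y)
        obtain ⟨e, he⟩ := hdn
        rw [Subgroup.mem_zpowers_iff]
        refine ⟨k * e, ?_⟩
        rw [← zpow_natCast, ← zpow_natCast, ← zpow_mul, ← zpow_mul, he]
        push_cast
        ring_nf
      · intro y hy
        rw [hBker, MonoidHom.mem_ker, powMonoidHom_apply] at hy
        obtain ⟨k, rfl⟩ := Subgroup.mem_zpowers_iff.mp (hζ y)
        rw [← zpow_natCast, ← zpow_mul] at hy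
        have h1 : (orderOf ζ : ℤ) ∣ k * (b : ℤ) := orderOf_dvd_iff_zpow_eq_one.mpr hy
        rw [hN, ← hMb] at h1
        push_cast at h1
        have hb' : (b : ℤ) ≠ 0 := by exact_mod_cast hb.ne'
        have h2 : (M : ℤ) ∣ k := (mul_dvd_mul_iff_right hb').mp h1
        have h3 : (d : ℤ) ∣ k := (Int.natCast_dvd_natCast.mpr hdM).trans h2
        obtain ⟨e, he⟩ := h3
        rw [Subgroup.mem_zpowers_iff]
        refine ⟨e, ?_⟩
        rw [← zpow_natCast, ← zpow_mul, he]
    · rw [Subgroup.zpowers_le]
      have hbez := Nat.gcd_eq_gcd_ab n M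
      have h1 : ζ ^ d = (ζ ^ (Nat.gcdA n M)) ^ n * (ζ ^ M) ^ (Nat.gcdB n M) := by
        rw [← zpow_natCast ζ d, hd, hbez, zpow_add, ← zpow_natCast (ζ ^ _) n, ← zpow_mul,
          ← zpow_natCast ζ M, ← zpow_mul]
        congr 2
        ring
      rw [h1]
      apply Subgroup.mul_mem
      · apply Subgroup.mem_sup_left
        exact ⟨ζ ^ (Nat.gcdA n M), rfl⟩
      · apply Subgroup.mem_sup_right
        apply Subgroup.zpow_mem
        rw [hBker, MonoidHom.mem_ker, powMonoidHom_apply, ← pow_mul, hMb, ← hN, pow_orderOf_eq_one]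
  rw [hjoin, index_zpowers_pow hζ hdN]

end Cfsg.Agent.Helper14.AutPSL
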