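import Mathlib

/-!
Helper14: an automorphism `σ` of a field `F`: the trace `Σ_{i<r} σ^i`, its non-vanishing
(Dedekind), the fixed field and its cardinality for finite `F`; descent of matrices (a form of
Hilbert's Theorem 90).
-/

set_option autoImplicit false

namespace Cfsg.Agent.Helper14.AutPSL

open Module

section trace
variable {F : Type*} [Field F] (σ : F ≃+* F)

/-- the trace `Σ_{i<r} σ^i` -/
def trσ (r : ℕ) (c : F) : F := ∑ i ∈ Finset.range r, (σ ^ i) c

theorem pow_succ_apply (i : ℕ) (c : F) : (σ ^ (i + 1)) c = σ ((σ ^ i) c) := by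
  rw [pow_succ']
  rfl

theorem trσ_fixed {r : ℕ} (hr : σ ^ r = 1) (c : F) : σ (trσ σ r c) = trσ σ r c := by
  unfold trσ
  rw [map_sum]
  have h1 : ∑ i ∈ Finset.range r, σ ((σ ^ i) c) = ∑ i ∈ Finset.range r, (σ ^ (i + 1)) c := by
    apply Finset.sum_congr rfl
    intro i _
    rw [pow_succ_apply]
  rw [h1]
  have h2 := Finset.sum_range_succ' (fun i => (σ ^ i) c) r
  have h3 := Finset.sum_range_succ (fun i => (σ ^ i) c) r
  beta_reduce at h2 h3
  rw [h3, hr, pow_zero] at h2
  exact (add_right_cancel h2).symm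

theorem exists_trσ_ne_zero {r : ℕ} (hr : 0 < r)
    (hinj : ∀ i < r, ∀ j < r, σ ^ i = σ ^ j → i = j) : ∃ c : F, trσ σ r c ≠ 0 := by
  by_contra hcon
  push Not at hcon
  have hli := linearIndependent_monoidHom F F
  let φ : Fin r → (F →* F) := fun i => (((σ ^ i.1 : F ≃+* F) : F →+* F) : F →* F)
  have hφ : Function.Injective φ := by
    intro i j hij
    apply Fin.ext
    apply hinj i.1 i.2 j.1 j.2
    ext x
    exact DFunLike.congr_fun hij x
  have hli2 := hli.comp φ hφ
  have hsum : ∑ i : Fin r, (1 : F) • ((fun f : F →* F => (f : F → F)) ∘ φ) i = 0 := by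
    funext c
    rw [Finset.sum_apply, Pi.zero_apply]
    have := hcon c
    unfold trσ at this
    rw [← Fin.sum_univ_eq_sum_range (fun i => (σ ^ i) c) r] at this
    rw [← this]
    apply Finset.sum_congr rfl
    intro i _
    simp [φ]
  have := Fintype.linearIndependent_iff.mp hli2 (fun _ => 1) hsum ⟨0, hr⟩
  exact one_ne_zero this

theorem pow_injOn_orderOf :
    ∀ i < orderOf σ, ∀ j < orderOf σ, σ ^ i = σ ^ j → i = j := by
  intro i hi j hj hij
  exact pow_injOn_Iio_orderOf (Set.mem_Iio.mpr hi) (Set.mem_Iio.mpr hj) hij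

end trace

section fixed
variable {F : Type*} [Field F] (σ : F ≃+* F)

/-- the fixed field of `σ` -/
abbrev fixF : Subfield F := FixedPoints.subfield (Subgroup.zpowers σ) F

theorem mem_fixF {a : F} : a ∈ fixF σ ↔ σ a = a := by
  constructor
  · intro h
    exact h ⟨σ, Subgroup.mem_zpowers σ⟩
  · intro h g
    have hle : Subgroup.zpowers σ ≤ MulAction.stabilizer (F ≃+* F) a := by
      rw [Subgroup.zpowers_le]
      exact h
    exact hle g.2

theorem card_fixF_pow [Fintype F] [Fintype (fixF σ)] :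
    Fintype.card F = Fintype.card (fixF σ) ^ orderOf σ := by
  have hfin : Finite (F ≃+* F) := DFunLike.finite _
  have hft : Fintype (Subgroup.zpowers σ) := Fintype.ofFinite _
  have h1 := Module.card_eq_pow_finrank (K := fixF σ) (V := F)
  have h2 := FixedPoints.finrank_eq_card (Subgroup.zpowers σ) F
  rw [h1, h2, ← Nat.card_eq_fintype_card (α := Subgroup.zpowers σ), Nat.card_zpowers]

theorem card_fixF [Fintype F] [Fintype (fixF σ)] {p f : ℕ} [hp : Fact p.Prime]
    (hF : Fintype.card F = p ^ f) : orderOf σ ∣ f ∧ Fintype.card (fixF σ) = p ^ (f / orderOf σ) := by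
  have h1 := card_fixF_pow σ
  have hfin : Finite (F ≃+* F) := DFunLike.finite _
  have hpos : 0 < orderOf σ := orderOf_pos σ
  rw [hF] at h1
  -- the cardinality of the fixed field is a power of `p`
  have h2 : Fintype.card (fixF σ) ∣ p ^ f := by
    rw [h1]
    exact dvd_pow_self _ hpos.ne'
  obtain ⟨k, -, hk⟩ := (Nat.dvd_prime_pow hp.out).mp h2
  rw [hk, ← pow_mul] at h1
  have h3 : f = k * orderOf σ := Nat.pow_right_injective hp.out.two_le h1
  refine ⟨⟨k, by rw [h3, mul_comm]⟩, ?_⟩
  rw [hk, h3, Nat.mul_div_cancel _ hpos]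

end fixed

end Cfsg.Agent.Helper14.AutPSL
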