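import Mathlib
import Cfsg.Agent.Helper14.AutFix
import Cfsg.Agent.Helper14.AutKer

/-!
Helper14: descent of invertible matrices along the fixed field of a field automorphism.
-/

set_option autoImplicit false
set_option linter.unusedSectionVars false

namespace Cfsg.Agent.Helper14.AutPSL

open Matrix

variable {ι : Type*} [Fintype ι] [DecidableEq ι] {F : Type*} [Field F] (σ : F ≃+* F)

/-- a matrix which is `σ`-fixed up to a scalar is a scalar multiple of a `σ`-fixed matrix -/
theorem exists_smul_fixed [Finite F] {g : Matrix ι ι F} {l : F} (hg : g.map σ = l • g) (hne : g ≠ 0) :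
    ∃ μ : F, μ ≠ 0 ∧ (μ • g).map σ = μ • g := by
  have hfin : Finite (F ≃+* F) := DFunLike.finite _
  have hex : ∃ a b, g a b ≠ 0 := by
    by_contra hcon
    push Not at hcon
    apply hne
    ext a b
    exact hcon a b
  obtain ⟨a, b, hab⟩ := hex
  have hσab : σ (g a b) = l * g a b := by
    have := congrFun (congrFun hg a) b
    rwa [Matrix.map_apply, Matrix.smul_apply, smul_eq_mul] at this
  have hl : l ≠ 0 := by
    intro h0
    rw [h0, zero_mul] at hσab
    exact hab ((map_eq_zero σ).mp hσab)
  obtain ⟨c, hc⟩ := exists_trσ_ne_zero σ (orderOf_pos σ) (pow_injOn_orderOf σ)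
  have hfix := trσ_fixed σ (pow_orderOf_eq_one σ) c
  refine ⟨trσ σ (orderOf σ) c / g a b, div_ne_zero hc hab, ?_⟩
  ext i j
  rw [Matrix.map_apply, Matrix.smul_apply, smul_eq_mul, map_mul, map_div₀, hfix, hσab]
  have hσij : σ (g i j) = l * g i j := by
    have := congrFun (congrFun hg i) j
    rwa [Matrix.map_apply, Matrix.smul_apply, smul_eq_mul] at this
  rw [hσij]
  field_simp

/-- the inclusion `GL_n(F^σ) → GL_n(F)` -/
def glIncl : GL ι (fixF σ) →* GL ι F := Matrix.GeneralLinearGroup.map (fixF σ).subtype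

theorem glIncl_coe (g : GL ι (fixF σ)) :
    ((glIncl σ g : GL ι F) : Matrix ι ι F) = g.1.map (fixF σ).subtype := rfl

theorem glIncl_injective : Function.Injective (glIncl (ι := ι) σ) := by
  intro g h hgh
  apply Units.ext
  have := congrArg Units.val hgh
  rw [glIncl_coe, glIncl_coe] at this
  ext i j
  have h2 := congrFun (congrFun this i) j
  exact h2

theorem glIncl_fixed (g : GL ι (fixF σ)) : glMap σ (glIncl σ g) = glIncl σ g := by
  apply Units.ext
  rw [glMap_coe, glIncl_coe]
  ext i j
  rw [Matrix.map_apply, Matrix.map_apply]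
  exact (mem_fixF σ).mp (g.1 i j).2

theorem exists_glIncl_eq (g : GL ι F) (hg : glMap σ g = g) : ∃ g₀ : GL ι (fixF σ), glIncl σ g₀ = g := by
  have h1 : ∀ i j, (g : Matrix ι ι F) i j ∈ fixF σ := by
    intro i j
    rw [mem_fixF]
    have := congrArg Units.val hg
    rw [glMap_coe] at this
    exact congrFun (congrFun this i) j
  have hg' : glMap σ g⁻¹ = g⁻¹ := by
    unfold glMap at hg ⊢
    rw [map_inv, hg]
  have h2 : ∀ i j, ((g⁻¹ : GL ι F) : Matrix ι ι F) i j ∈ fixF σ := by
    intro i j
    rw [mem_fixF]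
    have := congrArg Units.val hg'
    rw [glMap_coe] at this
    exact congrFun (congrFun this i) j
  let M : Matrix ι ι (fixF σ) := fun i j => ⟨(g : Matrix ι ι F) i j, h1 i j⟩
  let M' : Matrix ι ι (fixF σ) := fun i j => ⟨((g⁻¹ : GL ι F) : Matrix ι ι F) i j, h2 i j⟩
  have hM : M.map (fixF σ).subtype = (g : Matrix ι ι F) := by
    ext i j; rfl
  have hM' : M'.map (fixF σ).subtype = ((g⁻¹ : GL ι F) : Matrix ι ι F) := by
    ext i j; rfl
  have hinj : Function.Injective (fun N : Matrix ι ι (fixF σ) => N.map (fixF σ).subtype) := by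
    intro N N' h
    ext i j
    exact congrFun (congrFun h i) j
  have e1 : M * M' = 1 := by
    apply hinj
    show (M * M').map (fixF σ).subtype = (1 : Matrix ι ι (fixF σ)).map (fixF σ).subtype
    rw [Matrix.map_mul, hM, hM', gl_mul_inv, Matrix.map_one _ (map_zero _) (map_one _)]
  have e2 : M' * M = 1 := by
    apply hinj
    show (M' * M).map (fixF σ).subtype = (1 : Matrix ι ι (fixF σ)).map (fixF σ).subtype
    rw [Matrix.map_mul, hM, hM', gl_inv_mul, Matrix.map_one _ (map_zero _) (map_one _)]
  refine ⟨⟨M, M', e1, e2⟩, ?_⟩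
  apply Units.ext
  rw [glIncl_coe]
  exact hM

end Cfsg.Agent.Helper14.AutPSL
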