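import Mathlib
import Cfsg.Prelude.Def_LieTypeDatum
import Cfsg.Agent.Helper14.AutCount
import Cfsg.Agent.Helper14.AutDescent

/-!
Helper14: the inner-diagonal group of `PSL_n(q)` inside `Aut(PSL_n(q))`: identification with the
range of `inndiagHom`, normality, the inner automorphisms, standard field automorphisms.
-/

set_option autoImplicit false
set_option linter.unusedSectionVars false

namespace Cfsg.Agent.Helper14.AutPSL

open Matrix

variable {n : ℕ} {F : Type*} [Field F]

theorem isStdField_iff (σ : F ≃+* F)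
    (φ : MulAut (Matrix.ProjectiveSpecialLinearGroup (Fin n) F)) :
    Cfsg.IsStdFieldAutPSL σ φ ↔ φ = pslOf (slField σ) := by
  constructor
  · intro h
    ext x
    obtain ⟨s, rfl⟩ := prj_surjective x
    exact h s (slField σ s) rfl
  · rintro rfl
    exact isStdField_pslOf_slField σ

theorem isInverseTranspose_iff
    (φ : MulAut (Matrix.ProjectiveSpecialLinearGroup (Fin n) F)) :
    Cfsg.IsInverseTransposeAutPSL φ ↔ φ = pslOf slInvT := by
  constructor
  · intro h
    ext x
    obtain ⟨s, rfl⟩ := prj_surjective x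
    exact h s (slInvT s) rfl
  · rintro rfl
    exact isInverseTranspose_pslOf_slInvT

theorem isInnerDiagonal_iff
    (β : MulAut (Matrix.ProjectiveSpecialLinearGroup (Fin n) F)) :
    Cfsg.IsInnerDiagonalAutPSL β ↔ ∃ g : GL (Fin n) F, β = pslOf (slConj g) := by
  constructor
  · rintro ⟨g, hg⟩
    refine ⟨g, ?_⟩
    ext x
    obtain ⟨s, rfl⟩ := prj_surjective x
    exact hg s (slConj g s) rfl
  · rintro ⟨g, rfl⟩
    exact isInnerDiagonal_pslOf_slConj g

theorem inndiagPSL_eq_range : Cfsg.inndiagPSL n F = (inndiagHom n F).range := by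
  unfold Cfsg.inndiagPSL Cfsg.autSubgroupOf
  have : {β : MulAut (Matrix.ProjectiveSpecialLinearGroup (Fin n) F) | Cfsg.IsInnerDiagonalAutPSL β} =
      ((inndiagHom n F).range : Set _) := by
    ext β
    rw [Set.mem_ofPred_eq, isInnerDiagonal_iff]
    constructor
    · rintro ⟨g, rfl⟩
      exact ⟨g, rfl⟩
    · rintro ⟨g, rfl⟩
      exact ⟨g, rfl⟩
  rw [this, Subgroup.closure_eq]

theorem mem_inndiagPSL {β : MulAut (Matrix.ProjectiveSpecialLinearGroup (Fin n) F)} :
    β ∈ Cfsg.inndiagPSL n F ↔ ∃ g : GL (Fin n) F, β = pslOf (slConj g) := by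
  rw [inndiagPSL_eq_range]
  constructor
  · rintro ⟨g, rfl⟩
    exact ⟨g, rfl⟩
  · rintro ⟨g, rfl⟩
    exact ⟨g, rfl⟩

/-- inner automorphisms are induced by `SL` -/
theorem conj_prj (s : Matrix.SpecialLinearGroup (Fin n) F) :
    (MulAut.conj (prj s) : MulAut (Matrix.ProjectiveSpecialLinearGroup (Fin n) F)) =
      pslOf (slConj (Matrix.SpecialLinearGroup.toGL s)) := by
  ext x
  obtain ⟨t, rfl⟩ := prj_surjective x
  rw [pslOf_prj, MulAut.conj_apply, ← map_inv, ← map_mul, ← map_mul]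
  congr 1

theorem mem_Inn {β : MulAut (Matrix.ProjectiveSpecialLinearGroup (Fin n) F)} :
    β ∈ Cfsg.Inn (Matrix.ProjectiveSpecialLinearGroup (Fin n) F) ↔
      ∃ s : Matrix.SpecialLinearGroup (Fin n) F,
        β = pslOf (slConj (Matrix.SpecialLinearGroup.toGL s)) := by
  constructor
  · rintro ⟨x, rfl⟩
    obtain ⟨s, rfl⟩ := prj_surjective x
    exact ⟨s, conj_prj s⟩
  · rintro ⟨s, rfl⟩
    exact ⟨prj s, conj_prj s⟩

/-! ### conjugation formulas -/

theorem conj_field_conj (τ : F ≃+* F) (g : GL (Fin n) F) :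
    pslOf (slField τ) * pslOf (slConj g) * (pslOf (slField τ))⁻¹ =
      (pslOf (slConj (glMap τ g)) : MulAut (Matrix.ProjectiveSpecialLinearGroup (Fin n) F)) := by
  rw [mul_inv_eq_iff_eq_mul, ← map_mul, ← map_mul, slField_slConj]

theorem conj_invT_conj (g : GL (Fin n) F) :
    pslOf slInvT * pslOf (slConj g) * (pslOf slInvT)⁻¹ =
      (pslOf (slConj (glInvT g)) : MulAut (Matrix.ProjectiveSpecialLinearGroup (Fin n) F)) := by
  rw [mul_inv_eq_iff_eq_mul, ← map_mul, ← map_mul, slInvT_slConj]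

theorem conj_slT_conj (ε : Bool) (g : GL (Fin n) F) :
    ∃ g' : GL (Fin n) F, pslOf (slT ε) * pslOf (slConj g) * (pslOf (slT ε))⁻¹ =
      (pslOf (slConj g') : MulAut (Matrix.ProjectiveSpecialLinearGroup (Fin n) F)) := by
  cases ε
  · refine ⟨g, ?_⟩
    have : pslOf (slT false : MulAut (Matrix.SpecialLinearGroup (Fin n) F)) = 1 := map_one _
    rw [this, one_mul, inv_one, mul_one]
  · exact ⟨glInvT g, conj_invT_conj g⟩

/-- the inner-diagonal group is normalised by every automorphism -/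
theorem conj_mem_inndiag [Fintype F] {p f : ℕ} [hp : Fact p.Prime]
    (hF : Fintype.card F = p ^ f) (hf : 1 ≤ f) (hn : 2 ≤ n)
    (β : MulAut (Matrix.ProjectiveSpecialLinearGroup (Fin n) F)) (g : GL (Fin n) F) :
    ∃ g' : GL (Fin n) F, β * pslOf (slConj g) * β⁻¹ = pslOf (slConj g') := by
  obtain ⟨h, τ, ε, rfl⟩ := exists_factorization hF hf hn β
  obtain ⟨g₁, hg₁⟩ := conj_slT_conj ε g
  refine ⟨h * glMap τ g₁ * h⁻¹, ?_⟩
  have e : pslOf (slConj h) * pslOf (slField τ) * pslOf (slT ε) * pslOf (slConj g) *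
      (pslOf (slConj h) * pslOf (slField τ) * pslOf (slT ε))⁻¹ =
      pslOf (slConj h) * (pslOf (slField τ) * (pslOf (slT ε) * pslOf (slConj g) *
        (pslOf (slT ε))⁻¹) * (pslOf (slField τ))⁻¹) * (pslOf (slConj h))⁻¹ := by
    group
  rw [e, hg₁, conj_field_conj, slConj_mul, slConj_mul, slConj_inv, map_mul, map_mul, map_inv]

theorem inndiag_normal [Fintype F] {p f : ℕ} [hp : Fact p.Prime]
    (hF : Fintype.card F = p ^ f) (hf : 1 ≤ f) (hn : 2 ≤ n) :
    (Cfsg.inndiagPSL n F).Normal := by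
  constructor
  intro δ hδ β
  obtain ⟨g, rfl⟩ := mem_inndiagPSL.mp hδ
  obtain ⟨g', hg'⟩ := conj_mem_inndiag hF hf hn β g
  rw [hg']
  exact mem_inndiagPSL.mpr ⟨g', rfl⟩

theorem Inn_le_inndiag :
    Cfsg.Inn (Matrix.ProjectiveSpecialLinearGroup (Fin n) F) ≤ Cfsg.inndiagPSL n F := by
  intro β hβ
  obtain ⟨s, rfl⟩ := mem_Inn.mp hβ
  exact mem_inndiagPSL.mpr ⟨_, rfl⟩

/-! ### standard field automorphisms -/

/-- field automorphisms as a homomorphism -/
def slFieldHom : (F ≃+* F) →* MulAut (Matrix.SpecialLinearGroup (Fin n) F) where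
  toFun := slField
  map_one' := slField_one
  map_mul' := slField_mul

/-- the homomorphism `Aut(F) → Aut(PSL_n(F))` -/
def fieldAutHom (n : ℕ) (F : Type*) [Field F] :
    (F ≃+* F) →* MulAut (Matrix.ProjectiveSpecialLinearGroup (Fin n) F) :=
  pslOf.comp slFieldHom

theorem fieldAutHom_apply (σ : F ≃+* F) : fieldAutHom n F σ = pslOf (slField σ) := rfl

theorem fieldAutHom_injective (hn : 2 ≤ n) : Function.Injective (fieldAutHom n F) := by
  intro σ τ h
  rw [fieldAutHom_apply, fieldAutHom_apply] at h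
  have h1 : (pslOf (slConj (1 : GL (Fin n) F)) * pslOf (slField σ) :
      MulAut (Matrix.SpecialLinearGroup (Fin n) F ⧸
        Subgroup.center (Matrix.SpecialLinearGroup (Fin n) F))) =
      pslOf (slConj 1) * pslOf (slField τ) := by
    rw [h]
  exact (inj_core hn h1).2

theorem orderOf_fieldAut (hn : 2 ≤ n) (σ : F ≃+* F) :
    orderOf (pslOf (slField σ) : MulAut (Matrix.ProjectiveSpecialLinearGroup (Fin n) F)) = orderOf σ := by
  rw [← fieldAutHom_apply]
  exact orderOf_injective (fieldAutHom n F) (fieldAutHom_injective hn) σ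

end Cfsg.Agent.Helper14.AutPSL
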