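import Mathlib
import Cfsg.Agent.Helper14.AutInndiag

/-!
Helper14: the centraliser of a standard field automorphism in the inner-diagonal group of
`PSL_n(q)` is `PGL_n` of the fixed field.
-/

set_option autoImplicit false
set_option linter.unusedSectionVars false

namespace Cfsg.Agent.Helper14.AutPSL

open Matrix

variable {n : ℕ} {F : Type*} [Field F] (σ : F ≃+* F)

/-- `GL_n(F^σ) → Aut(PSL_n(F))` -/
def fixHom (n : ℕ) {F : Type*} [Field F] (σ : F ≃+* F) : GL (Fin n) (fixF σ) →*
    MulAut (Matrix.SpecialLinearGroup (Fin n) F ⧸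
      Subgroup.center (Matrix.SpecialLinearGroup (Fin n) F)) :=
  (inndiagHom n F).comp (glIncl σ)

theorem fixHom_apply (g₀ : GL (Fin n) (fixF σ)) :
    fixHom n σ g₀ = pslOf (slConj (glIncl σ g₀)) := rfl

theorem ker_fixHom (hn : 2 ≤ n) :
    (fixHom n σ).ker = Subgroup.center (GL (Fin n) (fixF σ)) := by
  ext g₀
  rw [MonoidHom.mem_ker]
  constructor
  · intro h
    have h1 : glIncl σ g₀ ∈ Subgroup.center (GL (Fin n) F) := by
      rw [← ker_inndiagHom hn, MonoidHom.mem_ker]
      exact h
    rw [Subgroup.mem_center_iff]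
    intro h₀
    apply glIncl_injective σ
    rw [map_mul, map_mul]
    exact Subgroup.mem_center_iff.mp h1 _
  · intro h
    rw [Matrix.GeneralLinearGroup.center_eq_range_scalar] at h
    obtain ⟨u, rfl⟩ := h
    have h1 : glIncl σ (Matrix.GeneralLinearGroup.scalar (Fin n) u) ∈
        Subgroup.center (GL (Fin n) F) := by
      unfold glIncl
      rw [Matrix.GeneralLinearGroup.map_scalar, Matrix.GeneralLinearGroup.center_eq_range_scalar]
      exact ⟨_, rfl⟩
    rw [fixHom_apply, slConj_eq_one_of_mem_center h1, map_one]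

theorem slConj_smul {g g' : GL (Fin n) F} {μ : F}
    (h : (g' : Matrix (Fin n) (Fin n) F) = μ • (g : Matrix (Fin n) (Fin n) F)) :
    slConj g' = slConj g := by
  by_cases hne : Nonempty (Fin n)
  swap
  · have : IsEmpty (Fin n) := not_nonempty_iff.mp hne
    ext s : 1
    apply Subtype.ext
    ext i
    exact (IsEmpty.false i).elim
  have hμ : μ ≠ 0 := by
    intro h0
    rw [h0, zero_smul] at h
    have h1 := gl_mul_inv g'
    rw [h, Matrix.zero_mul] at h1
    obtain ⟨i⟩ := hne
    have := congrFun (congrFun h1 i) i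
    simp at this
  have h2 : g' = Matrix.GeneralLinearGroup.scalar (Fin n) (Units.mk0 μ hμ) * g := by
    apply Units.ext
    rw [Units.val_mul, Matrix.GeneralLinearGroup.coe_scalar, h, Matrix.scalar_apply,
      ← Matrix.smul_one_eq_diagonal, Matrix.smul_mul, Matrix.one_mul]
    rfl
  have h3 : Matrix.GeneralLinearGroup.scalar (Fin n) (Units.mk0 μ hμ) ∈
      Subgroup.center (GL (Fin n) F) := by
    rw [Matrix.GeneralLinearGroup.center_eq_range_scalar]
    exact ⟨_, rfl⟩
  rw [h2, slConj_mul, slConj_eq_one_of_mem_center h3, one_mul]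

theorem range_fixHom [Finite F] (hn : 2 ≤ n) :
    (fixHom n σ).range = Cfsg.inndiagPSL n F ⊓
      Subgroup.centralizer {(pslOf (slField σ) :
        MulAut (Matrix.ProjectiveSpecialLinearGroup (Fin n) F))} := by
  ext β
  rw [Subgroup.mem_inf, Subgroup.mem_centralizer_iff]
  constructor
  · rintro ⟨g₀, rfl⟩
    refine ⟨mem_inndiagPSL.mpr ⟨_, rfl⟩, ?_⟩
    intro y hy
    rw [Set.mem_singleton_iff] at hy
    rw [hy, fixHom_apply, ← map_mul, ← map_mul, slField_slConj, glIncl_fixed]
  · rintro ⟨hβ, hc⟩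
    obtain ⟨g, rfl⟩ := mem_inndiagPSL.mp hβ
    have h1 := hc _ (Set.mem_singleton _)
    rw [← map_mul, ← map_mul, slField_slConj, map_mul, map_mul] at h1
    -- `C_{σ g} = C_g`
    have h2 : pslOf (slConj (glMap σ g)) = pslOf (slConj g) := mul_right_cancel h1
    have h3 : pslOf (slConj (g⁻¹ * glMap σ g) * slField (1 : F ≃+* F)) = 1 := by
      rw [slField_one, mul_one, slConj_mul, slConj_inv, map_mul, map_inv, h2, inv_mul_cancel]
    obtain ⟨-, d, hd⟩ := ker_semilinear hn _ _ h3
    have h4 : (g : Matrix (Fin n) (Fin n) F).map σ = d • (g : Matrix (Fin n) (Fin n) F) := by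
      have := congrArg (fun M => (g : Matrix (Fin n) (Fin n) F) * M) hd
      simp only [Units.val_mul, ← Matrix.mul_assoc, gl_mul_inv, Matrix.one_mul, Matrix.mul_smul,
        Matrix.mul_one] at this
      rw [← glMap_coe]
      exact this
    have hg0 : (g : Matrix (Fin n) (Fin n) F) ≠ 0 := by
      intro h0
      have h5 := gl_mul_inv g
      rw [h0, Matrix.zero_mul] at h5
      have := congrFun (congrFun h5 ⟨0, by omega⟩) ⟨0, by omega⟩
      simp at this
    obtain ⟨μ, hμ, hfix⟩ := exists_smul_fixed σ h4 hg0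
    -- the rescaled matrix
    let g' : GL (Fin n) F := Matrix.GeneralLinearGroup.scalar (Fin n) (Units.mk0 μ hμ) * g
    have hg' : (g' : Matrix (Fin n) (Fin n) F) = μ • (g : Matrix (Fin n) (Fin n) F) := by
      show ((Matrix.GeneralLinearGroup.scalar (Fin n) (Units.mk0 μ hμ) * g : GL (Fin n) F) :
        Matrix (Fin n) (Fin n) F) = _
      rw [Units.val_mul, Matrix.GeneralLinearGroup.coe_scalar, Matrix.scalar_apply,
        ← Matrix.smul_one_eq_diagonal, Matrix.smul_mul, Matrix.one_mul]
      rfl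
    have hfix' : glMap σ g' = g' := by
      apply Units.ext
      rw [glMap_coe, hg']
      exact hfix
    obtain ⟨g₀, hg₀⟩ := exists_glIncl_eq σ g' hfix'
    refine ⟨g₀, ?_⟩
    rw [fixHom_apply, hg₀, slConj_smul hg']

/-- the centraliser of a standard field automorphism in the inner-diagonal group -/
noncomputable def centralizerFieldEquiv [Finite F] (hn : 2 ≤ n) :
    ↥(Cfsg.inndiagPSL n F ⊓ Subgroup.centralizer {(pslOf (slField σ) :
        MulAut (Matrix.ProjectiveSpecialLinearGroup (Fin n) F))}) ≃*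
      Matrix.ProjGenLinGroup (Fin n) (fixF σ) :=
  ((MulEquiv.subgroupCongr (range_fixHom σ hn)).symm.trans
    (QuotientGroup.quotientKerEquivRange (fixHom n σ)).symm).trans
    (QuotientGroup.quotientMulEquivOfEq (ker_fixHom σ hn))

end Cfsg.Agent.Helper14.AutPSL
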