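import Mathlib
import Cfsg.Agent.Helper14.AutFieldCent
import Cfsg.Agent.Helper14.AutTransport
import Cfsg.Agent.Helper14.AutCyc

/-!
Helper14: the `PGL`-class of a standard field automorphism of `PSL_n(q)` splits into
`[F^× : (F^×)^n (F^σ)^×]` classes under `PSL_n(q)`.
-/

set_option autoImplicit false
set_option linter.unusedSectionVars false

namespace Cfsg.Agent.Helper14.AutPSL

open Matrix

section dg
variable {n : ℕ} {R : Type*} [CommRing R]

/-- `diag(u, 1, …, 1)` -/
def dg (hn : 2 ≤ n) (u : Rˣ) : GL (Fin n) R where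
  val := Matrix.diagonal (fun i => if i = fst hn then (u : R) else 1)
  inv := Matrix.diagonal (fun i => if i = fst hn then ((u⁻¹ : Rˣ) : R) else 1)
  val_inv := by
    rw [Matrix.diagonal_mul_diagonal, ← Matrix.diagonal_one]
    congr 1
    funext i
    split_ifs <;> simp
  inv_val := by
    rw [Matrix.diagonal_mul_diagonal, ← Matrix.diagonal_one]
    congr 1
    funext i
    split_ifs <;> simp

theorem det_dg (hn : 2 ≤ n) (u : Rˣ) : Matrix.GeneralLinearGroup.det (dg hn u) = u := by
  apply Units.ext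
  rw [Matrix.GeneralLinearGroup.val_det_apply]
  show (Matrix.diagonal (fun i => if i = fst hn then (u : R) else 1)).det = u
  rw [Matrix.det_diagonal, Finset.prod_ite_eq', if_pos (Finset.mem_univ _)]

theorem exists_sl_of_det_one (g : GL (Fin n) R) (h : Matrix.GeneralLinearGroup.det g = 1) :
    ∃ s : Matrix.SpecialLinearGroup (Fin n) R, Matrix.SpecialLinearGroup.toGL s = g := by
  have h1 : (g : Matrix (Fin n) (Fin n) R).det = 1 := by
    have := congrArg Units.val h
    rwa [Matrix.GeneralLinearGroup.val_det_apply] at this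
  refine ⟨⟨g.1, h1⟩, ?_⟩
  apply Units.ext
  rfl

end dg

variable {n : ℕ} {F : Type*} [Field F] (σ : F ≃+* F)

/-- `(F^×)^n (F^σ)^×` -/
def Pσ (n : ℕ) {F : Type*} [Field F] (σ : F ≃+* F) : Subgroup Fˣ :=
  (powMonoidHom n : Fˣ →* Fˣ).range ⊔ (Units.map ((fixF σ).subtype : fixF σ →* F)).range

/-- the conjugate of the standard field automorphism by the image of `g` -/
def cjx (g : GL (Fin n) F) : MulAut (Matrix.ProjectiveSpecialLinearGroup (Fin n) F) :=
  pslOf (slConj g) * pslOf (slField σ) * (pslOf (slConj g))⁻¹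

theorem det_glIncl (g₀ : GL (Fin n) (fixF σ)) :
    Matrix.GeneralLinearGroup.det (glIncl σ g₀) =
      Units.map ((fixF σ).subtype : fixF σ →* F) (Matrix.GeneralLinearGroup.det g₀) :=
  Matrix.GeneralLinearGroup.map_det _ g₀

theorem fixHom_comm (g₀ : GL (Fin n) (fixF σ)) :
    pslOf (slConj (glIncl σ g₀)) * pslOf (slField σ) =
      (pslOf (slField σ) * pslOf (slConj (glIncl σ g₀)) :
        MulAut (Matrix.ProjectiveSpecialLinearGroup (Fin n) F)) := by
  rw [← map_mul, ← map_mul, slField_slConj, glIncl_fixed]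

theorem pslOf_slConj_scalar (a : Fˣ) :
    (pslOf (slConj (Matrix.GeneralLinearGroup.scalar (Fin n) a)) :
      MulAut (Matrix.ProjectiveSpecialLinearGroup (Fin n) F)) = 1 := by
  have h3 : Matrix.GeneralLinearGroup.scalar (Fin n) a ∈ Subgroup.center (GL (Fin n) F) := by
    rw [Matrix.GeneralLinearGroup.center_eq_range_scalar]
    exact ⟨_, rfl⟩
  rw [slConj_eq_one_of_mem_center h3, map_one]

/-- the key criterion -/
theorem cjx_conj_iff [Finite F] (hn : 2 ≤ n) (g g' : GL (Fin n) F) :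
    (∃ s : Matrix.SpecialLinearGroup (Fin n) F,
      cjx σ g' = pslOf (slConj (Matrix.SpecialLinearGroup.toGL s)) * cjx σ g *
        (pslOf (slConj (Matrix.SpecialLinearGroup.toGL s)))⁻¹) ↔
    (Matrix.GeneralLinearGroup.det g)⁻¹ * Matrix.GeneralLinearGroup.det g' ∈ Pσ n σ := by
  constructor
  · rintro ⟨s, hs⟩
    unfold cjx at hs
    set t := Matrix.SpecialLinearGroup.toGL s with ht
    -- `c = C_{g'⁻¹ t g}` centralises the field automorphism
    have hc : pslOf (slConj (g'⁻¹ * t * g)) ∈ Cfsg.inndiagPSL n F ⊓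
        Subgroup.centralizer {(pslOf (slField σ) :
          MulAut (Matrix.ProjectiveSpecialLinearGroup (Fin n) F))} := by
      refine Subgroup.mem_inf.mpr ⟨mem_inndiagPSL.mpr ⟨_, rfl⟩, ?_⟩
      rw [Subgroup.mem_centralizer_iff]
      intro y hy
      rw [Set.mem_singleton_iff] at hy
      rw [hy, slConj_mul, slConj_mul, slConj_inv, map_mul, map_mul, map_inv]
      have e1 : pslOf (slField σ) = (pslOf (slConj g'))⁻¹ * (pslOf (slConj t) * (pslOf (slConj g) *
          pslOf (slField σ) * (pslOf (slConj g))⁻¹) * (pslOf (slConj t))⁻¹) * pslOf (slConj g') := by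
        rw [← hs]
        group
      calc pslOf (slField σ) * ((pslOf (slConj g'))⁻¹ * pslOf (slConj t) * pslOf (slConj g))
          = (pslOf (slConj g'))⁻¹ * (pslOf (slConj t) * (pslOf (slConj g) *
            pslOf (slField σ) * (pslOf (slConj g))⁻¹) * (pslOf (slConj t))⁻¹) * pslOf (slConj g') *
            ((pslOf (slConj g'))⁻¹ * pslOf (slConj t) * pslOf (slConj g)) := by rw [← e1]
        _ = (pslOf (slConj g'))⁻¹ * pslOf (slConj t) * pslOf (slConj g) * pslOf (slField σ) := by
            group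
    rw [← range_fixHom σ hn] at hc
    obtain ⟨g₀, hg₀⟩ := hc
    rw [fixHom_apply] at hg₀
    have h1 : (g'⁻¹ * t * g)⁻¹ * glIncl σ g₀ ∈ Subgroup.center (GL (Fin n) F) := by
      rw [← ker_inndiagHom hn, MonoidHom.mem_ker, map_mul, map_inv, inndiagHom_apply,
        inndiagHom_apply, hg₀, inv_mul_cancel]
    rw [Matrix.GeneralLinearGroup.center_eq_range_scalar] at h1
    obtain ⟨a, ha⟩ := h1
    have h2 := congrArg Matrix.GeneralLinearGroup.det ha
    rw [Matrix.GeneralLinearGroup.det_scalar, Fintype.card_fin, map_mul, map_inv, map_mul, map_mul,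
      map_inv, det_glIncl] at h2
    have hdt : Matrix.GeneralLinearGroup.det t = 1 := by
      apply Units.ext
      rw [Matrix.GeneralLinearGroup.val_det_apply]
      exact s.2
    rw [hdt, mul_one] at h2
    have h3 : (Matrix.GeneralLinearGroup.det g)⁻¹ * Matrix.GeneralLinearGroup.det g' =
        a ^ n * (Units.map ((fixF σ).subtype : fixF σ →* F) (Matrix.GeneralLinearGroup.det g₀))⁻¹ := by
      rw [h2]
      rw [_root_.mul_inv_rev, inv_inv]
      simp only [mul_assoc, mul_inv_cancel, mul_one]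
    rw [h3]
    apply Subgroup.mul_mem
    · apply Subgroup.mem_sup_left
      exact ⟨a, rfl⟩
    · apply Subgroup.mem_sup_right
      exact Subgroup.inv_mem _ ⟨_, rfl⟩
  · intro h
    unfold Pσ at h
    obtain ⟨_, ⟨a, rfl⟩, _, ⟨k, rfl⟩, hak⟩ := Subgroup.mem_sup.mp h
    rw [powMonoidHom_apply] at hak
    obtain ⟨z, hz⟩ : ∃ z, z = Matrix.GeneralLinearGroup.scalar (Fin n) a := ⟨_, rfl⟩
    obtain ⟨g₁, hg₁⟩ : ∃ g₁, g₁ = glIncl σ (dg hn k) := ⟨_, rfl⟩
    obtain ⟨u, hu⟩ : ∃ u, u = g⁻¹ * g' * z⁻¹ * g₁⁻¹ := ⟨_, rfl⟩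
    have hdu : Matrix.GeneralLinearGroup.det u = 1 := by
      rw [hu, map_mul, map_mul, map_mul, map_inv, map_inv, map_inv, hz,
        Matrix.GeneralLinearGroup.det_scalar, Fintype.card_fin, hg₁, det_glIncl, det_dg, ← hak]
      simp only [mul_assoc]
      rw [mul_inv_cancel_comm_assoc]
      exact mul_inv_cancel _
    -- `g u g⁻¹` has determinant one
    have hdw : Matrix.GeneralLinearGroup.det (g * u * g⁻¹) = 1 := by
      rw [map_mul, map_mul, map_inv, hdu, mul_one, mul_inv_cancel]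
    obtain ⟨s, hs⟩ := exists_sl_of_det_one _ hdw
    refine ⟨s, ?_⟩
    rw [hs]
    have hg' : g' = g * u * g₁ * z := by
      rw [hu]
      group
    have e2 : (pslOf (slConj (g * u * g⁻¹)) : MulAut (Matrix.ProjectiveSpecialLinearGroup (Fin n) F)) =
        pslOf (slConj g) * pslOf (slConj u) * (pslOf (slConj g))⁻¹ := by
      rw [slConj_mul, slConj_mul, slConj_inv, map_mul, map_mul, map_inv]
    have e3 : (pslOf (slConj g') : MulAut (Matrix.ProjectiveSpecialLinearGroup (Fin n) F)) =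
        pslOf (slConj g) * pslOf (slConj u) * pslOf (slConj g₁) := by
      rw [hg', slConj_mul, slConj_mul, slConj_mul, map_mul, map_mul, map_mul, hz,
        pslOf_slConj_scalar, mul_one]
    unfold cjx
    rw [e2, e3]
    have hcomm := fixHom_comm σ (dg hn k)
    rw [← hg₁] at hcomm
    have e1 : pslOf (slConj g₁) * pslOf (slField σ) * (pslOf (slConj g₁))⁻¹ =
        (pslOf (slField σ) : MulAut (Matrix.ProjectiveSpecialLinearGroup (Fin n) F)) := by
      rw [hcomm, mul_inv_cancel_right]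
    calc pslOf (slConj g) * pslOf (slConj u) * pslOf (slConj g₁) * pslOf (slField σ) *
          (pslOf (slConj g) * pslOf (slConj u) * pslOf (slConj g₁))⁻¹
        = pslOf (slConj g) * pslOf (slConj u) * (pslOf (slConj g₁) * pslOf (slField σ) *
          (pslOf (slConj g₁))⁻¹) * (pslOf (slConj u))⁻¹ * (pslOf (slConj g))⁻¹ := by group
      _ = pslOf (slConj g) * pslOf (slConj u) * (pslOf (slConj g))⁻¹ *
          (pslOf (slConj g) * pslOf (slField σ) * (pslOf (slConj g))⁻¹) *
          (pslOf (slConj g) * pslOf (slConj u) * (pslOf (slConj g))⁻¹)⁻¹ := by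
            rw [e1]
            group

/-! ### the count -/

theorem isConjUnder_cjx (g : GL (Fin n) F) :
    Cfsg.IsConjUnder (Cfsg.inndiagPSL n F) (pslOf (slField σ)) (cjx σ g) :=
  ⟨pslOf (slConj g), mem_inndiagPSL.mpr ⟨g, rfl⟩, rfl⟩

theorem exists_cjx_of_isConjUnder {y : MulAut (Matrix.ProjectiveSpecialLinearGroup (Fin n) F)}
    (hy : Cfsg.IsConjUnder (Cfsg.inndiagPSL n F) (pslOf (slField σ)) y) :
    ∃ g : GL (Fin n) F, y = cjx σ g := by
  obtain ⟨h, hh, rfl⟩ := hy
  obtain ⟨g, rfl⟩ := mem_inndiagPSL.mp hh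
  exact ⟨g, rfl⟩

theorem isConjUnder_Inn_cjx_iff [Finite F] (hn : 2 ≤ n) (g g' : GL (Fin n) F) :
    Cfsg.IsConjUnder (Cfsg.Inn (Matrix.ProjectiveSpecialLinearGroup (Fin n) F)) (cjx σ g) (cjx σ g') ↔
      (Matrix.GeneralLinearGroup.det g)⁻¹ * Matrix.GeneralLinearGroup.det g' ∈ Pσ n σ := by
  rw [← cjx_conj_iff σ hn]
  constructor
  · rintro ⟨k, hk, he⟩
    obtain ⟨s, rfl⟩ := mem_Inn.mp hk
    exact ⟨s, he⟩
  · rintro ⟨s, he⟩
    exact ⟨_, mem_Inn.mpr ⟨s, rfl⟩, he⟩

theorem isConjUnder_equivalence {X : Type*} [Group X] (K : Subgroup X) (p : X → Prop) :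
    Equivalence (fun y z : {y : X // p y} => Cfsg.IsConjUnder K y.1 z.1) := by
  refine ⟨fun y => ⟨1, K.one_mem, by group⟩, ?_, ?_⟩
  · rintro y z ⟨k, hk, h⟩
    refine ⟨k⁻¹, K.inv_mem hk, ?_⟩
    rw [h]
    group
  · rintro y z w ⟨k, hk, h⟩ ⟨k', hk', h'⟩
    refine ⟨k' * k, K.mul_mem hk' hk, ?_⟩
    rw [h', h]
    group

/-- the number of `PSL`-classes in the `PGL`-class of a standard field automorphism -/
theorem splitClassCount_field [Finite F] (hn : 2 ≤ n) :
    Cfsg.splitClassCount (Cfsg.inndiagPSL n F)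
      (Cfsg.Inn (Matrix.ProjectiveSpecialLinearGroup (Fin n) F))
      (pslOf (slField σ) : MulAut (Matrix.ProjectiveSpecialLinearGroup (Fin n) F)) =
      (Pσ n σ).index := by
  unfold Cfsg.splitClassCount
  set r := fun y z : {y : MulAut (Matrix.ProjectiveSpecialLinearGroup (Fin n) F) //
      Cfsg.IsConjUnder (Cfsg.inndiagPSL n F) (pslOf (slField σ)) y} =>
      Cfsg.IsConjUnder (Cfsg.Inn (Matrix.ProjectiveSpecialLinearGroup (Fin n) F)) y.1 z.1 with hr
  have hreq : Equivalence r := isConjUnder_equivalence _ _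
  let Ξ : GL (Fin n) F → {y : MulAut (Matrix.ProjectiveSpecialLinearGroup (Fin n) F) //
      Cfsg.IsConjUnder (Cfsg.inndiagPSL n F) (pslOf (slField σ)) y} :=
    fun g => ⟨cjx σ g, isConjUnder_cjx σ g⟩
  have hΞ : ∀ g g', r (Ξ g) (Ξ g') ↔
      (Matrix.GeneralLinearGroup.det g)⁻¹ * Matrix.GeneralLinearGroup.det g' ∈ Pσ n σ :=
    fun g g' => isConjUnder_Inn_cjx_iff σ hn g g'
  let Θ : Fˣ ⧸ Pσ n σ → Quot r :=
    Quotient.lift (fun d : Fˣ => Quot.mk r (Ξ (dg hn d))) (by
      intro d d' hdd'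
      apply Quot.sound
      rw [hΞ, det_dg, det_dg]
      exact QuotientGroup.leftRel_apply.mp hdd')
  have hbij : Function.Bijective Θ := by
    constructor
    · intro q q' h
      induction q using Quotient.inductionOn with
      | h d =>
      induction q' using Quotient.inductionOn with
      | h d' =>
      have h1 : Quot.mk r (Ξ (dg hn d)) = Quot.mk r (Ξ (dg hn d')) := h
      have h2 := hreq.eqvGen_iff.mp (Quot.eqvGen_exact h1)
      rw [hΞ, det_dg, det_dg] at h2
      exact Quotient.sound (QuotientGroup.leftRel_apply.mpr h2)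
    · intro q
      induction q using Quot.inductionOn with
      | h y =>
      obtain ⟨g, hg⟩ := exists_cjx_of_isConjUnder σ y.2
      refine ⟨QuotientGroup.mk (Matrix.GeneralLinearGroup.det g), ?_⟩
      show Quot.mk r (Ξ (dg hn (Matrix.GeneralLinearGroup.det g))) = Quot.mk r y
      apply Quot.sound
      have hy : y = Ξ g := Subtype.ext hg
      rw [hy, hΞ, det_dg, inv_mul_cancel]
      exact Subgroup.one_mem _
  exact (Nat.card_congr (Equiv.ofBijective Θ hbij)).symm

end Cfsg.Agent.Helper14.AutPSL
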