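import Mathlib
import Cfsg.Agent.Helper14.AutSplit

/-!
Helper14: abstract class-splitting count.  If `ι : G →* A`, `N ⊴ G` contains `ker ι` and the
centraliser of `x₀` in `ι(G)` is `ι(C)`, then the `ι(G)`-class of `x₀` splits into `[G : N C]`
classes under `ι(N)`.
-/

set_option autoImplicit false
set_option linter.unusedSectionVars false

namespace Cfsg.Agent.Helper14.SplitAbs

open Cfsg.Agent.Helper14.AutPSL

variable {A G : Type*} [Group A] [Group G]

theorem splitClassCount_abs (ι : G →* A) (N C : Subgroup G) [hN : N.Normal]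
    (hker : ι.ker ≤ N) (x₀ : A)
    (hC : C.map ι = ι.range ⊓ Subgroup.centralizer {x₀}) :
    Cfsg.splitClassCount ι.range (N.map ι) x₀ = (N ⊔ C).index := by
  unfold Cfsg.splitClassCount
  set r := fun y z : {y : A // Cfsg.IsConjUnder ι.range x₀ y} =>
      Cfsg.IsConjUnder (N.map ι) y.1 z.1 with hr
  have hreq : Equivalence r := isConjUnder_equivalence _ _
  let Ξ : G → {y : A // Cfsg.IsConjUnder ι.range x₀ y} :=
    fun g => ⟨ι g * x₀ * (ι g)⁻¹, ι g, ⟨g, rfl⟩, rfl⟩
  have hcomm : ∀ {c : G}, c ∈ C → ι c * x₀ = x₀ * ι c := by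
    intro c hc
    have h1 : ι c ∈ ι.range ⊓ Subgroup.centralizer {x₀} := by
      rw [← hC]; exact Subgroup.mem_map_of_mem _ hc
    exact (Subgroup.mem_centralizer_iff.mp (Subgroup.mem_inf.mp h1).2 x₀
      (Set.mem_singleton _)).symm
  have hΞ : ∀ g g', r (Ξ g) (Ξ g') ↔ g⁻¹ * g' ∈ N ⊔ C := by
    intro g g'
    constructor
    · rintro ⟨k, ⟨s, hsN, rfl⟩, hk⟩
      have hk' : ι g' * x₀ * (ι g')⁻¹ = ι s * (ι g * x₀ * (ι g)⁻¹) * (ι s)⁻¹ := hk
      have hcm : ι (g'⁻¹ * s * g) ∈ ι.range ⊓ Subgroup.centralizer {x₀} := by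
        refine Subgroup.mem_inf.mpr ⟨⟨_, rfl⟩, ?_⟩
        rw [Subgroup.mem_centralizer_iff]
        intro y hy
        rw [Set.mem_singleton_iff] at hy
        rw [hy, map_mul, map_mul, map_inv]
        have e1 : x₀ = (ι g')⁻¹ * (ι s * (ι g * x₀ * (ι g)⁻¹) * (ι s)⁻¹) * ι g' := by
          rw [← hk']; group
        calc x₀ * ((ι g')⁻¹ * ι s * ι g)
            = (ι g')⁻¹ * (ι s * (ι g * x₀ * (ι g)⁻¹) * (ι s)⁻¹) * ι g' *
              ((ι g')⁻¹ * ι s * ι g) := by rw [← e1]
          _ = (ι g')⁻¹ * ι s * ι g * x₀ := by group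
      rw [← hC] at hcm
      obtain ⟨c, hcC, hc⟩ := hcm
      have h1 : (g'⁻¹ * s * g)⁻¹ * c ∈ N := by
        apply hker
        rw [MonoidHom.mem_ker, map_mul, map_inv, hc, inv_mul_cancel]
      have h2 : g⁻¹ * g' = (g⁻¹ * s * g) * ((g'⁻¹ * s * g)⁻¹ * c) * c⁻¹ := by group
      rw [h2]
      apply Subgroup.mul_mem
      · apply Subgroup.mem_sup_left
        apply Subgroup.mul_mem _ _ h1
        have := hN.conj_mem s hsN g⁻¹
        rwa [inv_inv] at this
      · exact Subgroup.mem_sup_right (Subgroup.inv_mem _ hcC)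
    · intro h
      have h' : g⁻¹ * g' ∈ (↑(N ⊔ C) : Set G) := h
      rw [Subgroup.normal_mul] at h'
      obtain ⟨n, hn, c, hc, hnc⟩ := Set.mem_mul.mp h'
      refine ⟨ι (g * n * g⁻¹), Subgroup.mem_map_of_mem _ (hN.conj_mem n hn g), ?_⟩
      show ι g' * x₀ * (ι g')⁻¹ = ι (g * n * g⁻¹) * (ι g * x₀ * (ι g)⁻¹) * (ι (g * n * g⁻¹))⁻¹
      have hg' : g' = g * n * c := by
        rw [mul_assoc, hnc]; group
      have e1 : ι c * x₀ * (ι c)⁻¹ = x₀ := by
        rw [hcomm hc, mul_inv_cancel_right]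
      rw [hg', map_mul, map_mul, map_mul, map_mul, map_inv]
      calc ι g * ι n * ι c * x₀ * (ι g * ι n * ι c)⁻¹
          = ι g * ι n * (ι c * x₀ * (ι c)⁻¹) * (ι n)⁻¹ * (ι g)⁻¹ := by group
        _ = ι g * ι n * (ι g)⁻¹ * (ι g * x₀ * (ι g)⁻¹) * (ι g * ι n * (ι g)⁻¹)⁻¹ := by
            rw [e1]; group
  let Θ : G ⧸ (N ⊔ C) → Quot r :=
    Quotient.lift (fun g : G => Quot.mk r (Ξ g)) (by
      intro g g' hgg'
      apply Quot.sound
      rw [hΞ]
      exact QuotientGroup.leftRel_apply.mp hgg')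
  have hbij : Function.Bijective Θ := by
    constructor
    · intro q q' h
      induction q using Quotient.inductionOn with
      | h g =>
      induction q' using Quotient.inductionOn with
      | h g' =>
      have h1 : Quot.mk r (Ξ g) = Quot.mk r (Ξ g') := h
      have h2 := hreq.eqvGen_iff.mp (Quot.eqvGen_exact h1)
      rw [hΞ] at h2
      exact Quotient.sound (QuotientGroup.leftRel_apply.mpr h2)
    · intro q
      induction q using Quot.inductionOn with
      | h y =>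
      obtain ⟨k, ⟨g, rfl⟩, hy⟩ := y.2
      refine ⟨QuotientGroup.mk g, ?_⟩
      show Quot.mk r (Ξ g) = Quot.mk r y
      have hy' : y = Ξ g := Subtype.ext hy
      rw [hy']
  exact (Nat.card_congr (Equiv.ofBijective Θ hbij)).symm

/-- index of `N ⊔ C` through a surjective homomorphism whose kernel lies in `N` -/
theorem index_sup_map {Q : Type*} [Group Q] (μ : G →* Q) (hμ : Function.Surjective μ)
    (N C : Subgroup G) (hker : μ.ker ≤ N) :
    (N ⊔ C).index = (N.map μ ⊔ C.map μ).index := by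
  rw [← Subgroup.map_sup, Subgroup.index_map_eq _ hμ (hker.trans le_sup_left)]

end Cfsg.Agent.Helper14.SplitAbs
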