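import Mathlib
import Cfsg.Agent.Helper12.GammaOC
import Cfsg.Agent.Helper44.ConjKer

/-!
Helper14 (for helper12, S2717): the standard field automorphism `psi (1, σ)` of `PΩ(Q)` for a single
automorphism `σ` with `Q (σ ∘ v) = σ (Q v)`, against the action `conjAut` of the similarity group:
`φ * conjAut g = conjAut (σ g) * φ`, and `conjAut g` commutes with `φ` iff `σ g = λ • g`.
-/

set_option autoImplicit false
set_option linter.unusedSectionVars false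

namespace Cfsg.Agent.Helper14.GFCent

open Matrix Cfsg.Agent.Helper44 Cfsg.Agent.Helper12.GammaO

variable {F : Type*} [Field F] {ι : Type} [Fintype ι] [DecidableEq ι]
variable (Q : QuadraticForm F (ι → F)) (σ : F ≃+* F)
  (hσ : ∀ v : ι → F, Q (fun j => σ (v j)) = σ (Q v))

include hσ in
theorem hstd_sigma : Cfsg.IsSemisimilarityPair ⇑Q (1 : GL ι F) σ := by
  refine ⟨1, fun v => ?_⟩
  rw [Units.val_one, Units.val_one, Matrix.one_mulVec, one_mul]
  exact hσ v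

/-- the pair `(1, σ)` in `ΓO(Q)` -/
def xSig : ↥(GamO ⇑Q) := ⟨⟨1, σ⟩, hstd_sigma Q σ hσ⟩

/-- a field automorphism in the sense of the Prelude is `psi (1, σ)` -/
theorem eq_psi_of_isFieldAut (φ : MulAut (Cfsg.POmega F ⇑Q))
    (hφ : Cfsg.IsFieldAutPOmegaOf ⇑Q σ φ) : φ = psi ⇑Q (xSig Q σ hσ) := by
  rw [← Cfsg.Agent.Helper12.GammaO.isInduced_iff]
  intro s s' hs
  apply hφ s s'
  rw [hs]
  show (1 : Matrix _ _ F) * _ * ((1 : GL _ F)⁻¹ : GL _ F).1 = _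
  rw [inv_one, Units.val_one, Matrix.one_mul, Matrix.mul_one]
  rfl

include hσ in
theorem glMap_mem (g : GL ι F) (hg : g ∈ Cfsg.Geo.quadSimilarityGroup (F := F) ⇑Q) :
    glMap σ g ∈ Cfsg.Geo.quadSimilarityGroup (F := F) ⇑Q := by
  obtain ⟨c, hc⟩ := hg
  refine ⟨Units.map (σ : F →+* F).toMonoidHom c, fun v => ?_⟩
  obtain ⟨w, rfl⟩ : ∃ w : ι → F, v = fun j => σ (w j) :=
    ⟨fun j => σ.symm (v j), by funext j; simp⟩
  rw [coe_glMap, ← map_mulVec, hσ, hσ, hc, map_mul]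
  rfl

/-- `σ` applied entrywise to a similarity -/
noncomputable def sigSim (g : ↥(Cfsg.Geo.quadSimilarityGroup (F := F) ⇑Q)) :
    ↥(Cfsg.Geo.quadSimilarityGroup (F := F) ⇑Q) :=
  ⟨glMap σ g.1, glMap_mem Q σ hσ g.1 g.2⟩

theorem sigSim_coe (g : ↥(Cfsg.Geo.quadSimilarityGroup (F := F) ⇑Q)) :
    (((sigSim Q σ hσ g : ↥(Cfsg.Geo.quadSimilarityGroup (F := F) ⇑Q)) : GL ι F) : Matrix ι ι F)
      = ((g : GL ι F) : Matrix ι ι F).map σ := rfl

theorem xSig_mul_ofSim (g : ↥(Cfsg.Geo.quadSimilarityGroup (F := F) ⇑Q)) :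
    xSig Q σ hσ * ofSim Q g = ofSim Q (sigSim Q σ hσ g) * xSig Q σ hσ := by
  apply Subtype.ext
  apply SemidirectProduct.ext
  · show (1 : GL ι F) * fieldAct σ g.1 = (sigSim Q σ hσ g).1 * fieldAct (1 : F ≃+* F) 1
    rw [map_one, one_mul, mul_one, fieldAct_apply]
    rfl
  · show σ * 1 = 1 * σ
    rw [mul_one, one_mul]

/-- `φ * conjAut g = conjAut (σ g) * φ` -/
theorem psi_xSig_mul_conjAut (g : ↥(Cfsg.Geo.quadSimilarityGroup (F := F) ⇑Q)) :
    psi ⇑Q (xSig Q σ hσ) * conjAut ⇑Q g = conjAut ⇑Q (sigSim Q σ hσ g) * psi ⇑Q (xSig Q σ hσ) := by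
  rw [← psi_ofSim, ← psi_ofSim, ← map_mul, ← map_mul, xSig_mul_ofSim]

/-- `conjAut g` commutes with the field automorphism iff `σ g` and `g` differ by a scalar -/
theorem comm_iff [Fintype F] (hQ : (QuadraticMap.polarBilin Q).Nondegenerate)
    (hn : 7 ≤ Fintype.card ι) (g : ↥(Cfsg.Geo.quadSimilarityGroup (F := F) ⇑Q)) :
    psi ⇑Q (xSig Q σ hσ) * conjAut ⇑Q g = conjAut ⇑Q g * psi ⇑Q (xSig Q σ hσ) ↔
      ∃ c : Fˣ, ((g : GL ι F) : Matrix ι ι F).map σ = (c : F) • ((g : GL ι F) : Matrix ι ι F) := by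
  rw [psi_xSig_mul_conjAut, mul_left_inj]
  have hker := ker_conjAut Q hQ hn
  constructor
  · intro h
    have h1 : sigSim Q σ hσ g * g⁻¹ ∈ (conjAut ⇑Q).ker := by
      rw [MonoidHom.mem_ker, map_mul, h, map_inv, mul_inv_cancel]
    rw [hker, Subgroup.mem_subgroupOf, Cfsg.Geo.mem_scalars_iff] at h1
    obtain ⟨c, hc⟩ := h1
    refine ⟨c, ?_⟩
    have h2 : ((sigSim Q σ hσ g : ↥(Cfsg.Geo.quadSimilarityGroup (F := F) ⇑Q)) : GL ι F)
        = (((sigSim Q σ hσ g * g⁻¹ : ↥(Cfsg.Geo.quadSimilarityGroup (F := F) ⇑Q)) : GL ι F)) *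
          (g : GL ι F) := by
      rw [Subgroup.coe_mul, Subgroup.coe_inv, inv_mul_cancel_right]
    have h3 := congrArg (fun x : GL ι F => (x : Matrix ι ι F)) h2
    simp only [Units.val_mul] at h3
    rw [hc, Matrix.smul_mul, Matrix.one_mul] at h3
    exact h3
  · rintro ⟨c, hc⟩
    have h1 : sigSim Q σ hσ g * g⁻¹ ∈ (conjAut ⇑Q).ker := by
      rw [hker, Subgroup.mem_subgroupOf, Cfsg.Geo.mem_scalars_iff]
      refine ⟨c, ?_⟩
      rw [Subgroup.coe_mul, Subgroup.coe_inv, Units.val_mul, sigSim_coe, hc, Matrix.smul_mul,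
        Units.mul_inv]
    rw [MonoidHom.mem_ker, map_mul, map_inv, mul_inv_eq_one] at h1
    exact h1

end Cfsg.Agent.Helper14.GFCent
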