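import Mathlib
import Cfsg.Agent.Helper37.LangF
import Cfsg.Agent.Helper14.AutFix

/-!
Helper14 (for helper12, S2717): a field automorphism `σ` of a finite field `F` whose fixed field is
the image of `i : F₀ →+* F` with `|F| = |F₀|²` has order two; Hilbert 90 descent of matrices:
`g.map σ = c • g` forces `g = μ • g₀.map i` with `g₀` invertible over `F₀`.
-/

set_option autoImplicit false
set_option linter.unusedSectionVars false

namespace Cfsg.Agent.Helper14.GFCent

open Matrix Cfsg.Agent.Helper37.Lang Cfsg.Agent.Helper14.AutPSL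

variable {F₀ F : Type*} [Field F₀] [Fintype F₀] [Field F] [Fintype F]
  (i : F₀ →+* F) (σ : F ≃+* F) (hi : ∀ a : F, σ a = a ↔ a ∈ i.range)
  (hcard : Fintype.card F = Fintype.card F₀ ^ 2)

include hi hcard in
theorem orderOf_sigma : orderOf σ = 2 := by
  classical
  have hft : Fintype (fixF σ) := Fintype.ofFinite _
  have h1 := card_fixF_pow σ
  have e : F₀ ≃ fixF σ := Equiv.ofBijective
    (fun a => ⟨i a, (mem_fixF σ).2 ((hi _).2 ⟨a, rfl⟩)⟩)
    ⟨fun a b hab => i.injective (congrArg Subtype.val hab), fun x => by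
      obtain ⟨a, ha⟩ := (hi _).1 ((mem_fixF σ).1 x.2)
      exact ⟨a, Subtype.ext ha⟩⟩
  rw [← Fintype.card_congr e, hcard] at h1
  have h2 : 2 ≤ Fintype.card F₀ := Fintype.one_lt_card
  exact (Nat.pow_right_injective h2 h1).symm

include hi hcard in
theorem sigma_sigma (a : F) : σ (σ a) = a := by
  have h1 : σ ^ 2 = 1 := by
    rw [← orderOf_sigma i σ hi hcard]
    exact pow_orderOf_eq_one σ
  have h2 := DFunLike.congr_fun h1 a
  rw [pow_two] at h2
  exact h2

theorem sigma_incl (hi : ∀ a : F, σ a = a ↔ a ∈ i.range) (a : F₀) : σ (i a) = i a :=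
  (hi _).2 ⟨a, rfl⟩

variable {ι : Type} [Fintype ι] [DecidableEq ι]

/-- a matrix with entries in the range of `i` and non-zero determinant comes from `GL ι F₀` -/
theorem exists_gl_map_eq (M : Matrix ι ι F) (hM : ∀ a b, M a b ∈ i.range) (hdet : M.det ≠ 0) :
    ∃ g₀ : GL ι F₀, (g₀ : Matrix ι ι F₀).map i = M := by
  classical
  choose M₀ hM₀ using hM
  have hmap : (Matrix.of M₀).map i = M := by
    ext a b
    rw [Matrix.map_apply, Matrix.of_apply, hM₀]
  have hdet0 : (Matrix.of M₀).det ≠ 0 := by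
    intro h0
    apply hdet
    rw [← hmap, ← RingHom.mapMatrix_apply, ← RingHom.map_det, h0, map_zero]
  exact ⟨Matrix.GeneralLinearGroup.mkOfDetNeZero _ hdet0, hmap⟩

include hi hcard in
/-- **Hilbert 90 descent** -/
theorem exists_descent [Nonempty ι] (g : GL ι F) (c : F)
    (hc : (g : Matrix ι ι F).map σ = c • (g : Matrix ι ι F)) :
    ∃ (μ : Fˣ) (g₀ : GL ι F₀), (g : Matrix ι ι F) = (μ : F) • (g₀ : Matrix ι ι F₀).map i := by
  classical
  have hσ2 := sigma_sigma i σ hi hcard
  have hdet : (g : Matrix ι ι F).det ≠ 0 :=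
    ((Matrix.isUnit_iff_isUnit_det _).mp (Units.isUnit g)).ne_zero
  -- some entry of `g` is non-zero
  obtain ⟨a, b, hab⟩ : ∃ a b, (g : Matrix ι ι F) a b ≠ 0 := by
    by_contra hno
    push Not at hno
    apply hdet
    have : (g : Matrix ι ι F) = 0 := by
      ext a b
      exact hno a b
    rw [this]
    exact Matrix.det_zero
  -- the norm of `c` is one
  have hN : c * σ c = 1 := by
    have h1 : σ ((g : Matrix ι ι F) a b) = c * (g : Matrix ι ι F) a b := by
      have := congrFun (congrFun hc a) b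
      rw [Matrix.map_apply, Matrix.smul_apply, smul_eq_mul] at this
      exact this
    have h2 := congrArg σ h1
    rw [hσ2, map_mul, h1] at h2
    have h3 : (c * σ c - 1) * (g : Matrix ι ι F) a b = 0 := by
      linear_combination -h2
    rcases mul_eq_zero.1 h3 with h4 | h4
    · exact sub_eq_zero.1 h4
    · exact absurd h4 hab
  obtain ⟨h, hh0, hh⟩ := hilbert90 σ (orderOf_sigma i σ hi hcard) (by norm_num)
    (by rw [nrm_two]; exact hN)
  -- `h • g` is fixed by `σ`
  set M : Matrix ι ι F := h • (g : Matrix ι ι F) with hMdef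
  have hMfix : ∀ a b, M a b ∈ i.range := by
    intro a b
    rw [← hi, hMdef, Matrix.smul_apply, smul_eq_mul, map_mul]
    have h1 : σ ((g : Matrix ι ι F) a b) = c * (g : Matrix ι ι F) a b := by
      have := congrFun (congrFun hc a) b
      rw [Matrix.map_apply, Matrix.smul_apply, smul_eq_mul] at this
      exact this
    rw [h1]
    linear_combination (g : Matrix ι ι F) a b * hh
  have hMdet : M.det ≠ 0 := by
    rw [hMdef, Matrix.det_smul]
    exact mul_ne_zero (pow_ne_zero _ hh0) hdet
  obtain ⟨g₀, hg₀⟩ := exists_gl_map_eq i M hMfix hMdet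
  refine ⟨Units.mk0 h⁻¹ (inv_ne_zero hh0), g₀, ?_⟩
  rw [hg₀, hMdef, Units.val_mk0, smul_smul, inv_mul_cancel₀ hh0, one_smul]

end Cfsg.Agent.Helper14.GFCent
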