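import Mathlib
import Cfsg.Agent.Helper12.ClassPresE
import Cfsg.Agent.Helper12.ClassPresD
import Cfsg.Agent.Helper45.Isometry

/-!
Helper14 (for helper12, S2717): the minus form `quadFormMinus k F a b` as `qOf` of a coefficient
matrix, its behaviour under ring homomorphisms, hyperbolicity over a quadratic extension of a finite
field over which the binary part is anisotropic, and transport of similarities between `F₀` and
an extension `F`.
-/

set_option autoImplicit false
set_option linter.unusedSectionVars false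

namespace Cfsg.Agent.Helper14.GFCent

open Matrix Cfsg Cfsg.Agent.Helper44 Cfsg.Agent.Helper12.ClassPres Cfsg.Agent.Helper37.OddF

section coef

variable {F K : Type*} [Field F] [Field K]

/-- the coefficient matrix of the minus form -/
def minusCoef (k : ℕ) (a b : F) :
    Matrix ((Fin k ⊕ Fin k) ⊕ Fin 2) ((Fin k ⊕ Fin k) ⊕ Fin 2) F :=
  Matrix.fromBlocks (Matrix.fromBlocks 0 1 0 0) 0 0 !![1, a; 0, b]

theorem quadFormMinus_eq_qOf (k : ℕ) (a b : F) (v : (Fin k ⊕ Fin k) ⊕ Fin 2 → F) :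
    quadFormMinus k F a b v = qOf (minusCoef k a b) v := by
  unfold qOf minusCoef quadFormMinus
  rw [Matrix.fromBlocks_mulVec, Matrix.fromBlocks_mulVec]
  simp only [dotProduct, Fintype.sum_sum_type, Sum.elim_inl, Sum.elim_inr, Matrix.zero_mulVec,
    Matrix.one_mulVec, Pi.zero_apply, Function.comp_apply, add_zero, zero_add,
    mul_zero, Finset.sum_const_zero, Fin.sum_univ_two, Matrix.mulVec, Matrix.of_apply,
    Matrix.cons_val', Matrix.cons_val_zero, Matrix.cons_val_one, Matrix.cons_val_fin_one]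
  ring

theorem minusForm_eq_qOf (k : ℕ) (a b : F) (v : (Fin k ⊕ Fin k) ⊕ Fin 2 → F) :
    minusForm k F a b v = qOf (minusCoef k a b) v :=
  quadFormMinus_eq_qOf k a b v

theorem minusCoef_map (φ : F →+* K) (k : ℕ) (a b : F) :
    (minusCoef k a b).map φ = minusCoef k (φ a) (φ b) := by
  unfold minusCoef
  rw [Matrix.fromBlocks_map, Matrix.fromBlocks_map]
  congr 1
  · congr 1 <;> simp
  · simp
  · simp
  · ext x y
    fin_cases x <;> fin_cases y <;> simp

/-- the form takes the value one -/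
theorem minusForm_single (k : ℕ) (a b : F) :
    minusForm k F a b (Pi.single (Sum.inr 0) 1) = 1 := by
  show quadFormMinus k F a b _ = 1
  unfold quadFormMinus
  simp

/-- base change of similarities of the minus form (up) -/
theorem map_mem_quadSimilarityGroup (φ : F →+* K) (k : ℕ) (a b : F)
    (g : GL ((Fin k ⊕ Fin k) ⊕ Fin 2) F)
    (hg : g ∈ Geo.quadSimilarityGroup (F := F) (quadFormMinus k F a b)) :
    Matrix.GeneralLinearGroup.map φ g ∈
      Geo.quadSimilarityGroup (F := K) (quadFormMinus k K (φ a) (φ b)) := by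
  obtain ⟨c, hc⟩ := hg
  have key : ∀ v, qOf ((minusCoef k a b).map φ) ((g : Matrix _ _ F).map φ *ᵥ v)
      = φ c * qOf ((minusCoef k a b).map φ) v := by
    apply qOf_map_sim φ _ _ (c : F)
    intro u
    rw [← quadFormMinus_eq_qOf, ← quadFormMinus_eq_qOf]
    exact hc u
  rw [minusCoef_map] at key
  refine ⟨Units.map (φ : F →* K) c, fun v => ?_⟩
  rw [quadFormMinus_eq_qOf, quadFormMinus_eq_qOf]
  exact key v

/-- base change of similarities of the minus form (down) -/
theorem mem_quadSimilarityGroup_of_map (φ : F →+* K) (k : ℕ) (a b : F)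
    (g : GL ((Fin k ⊕ Fin k) ⊕ Fin 2) F) (c : K) (hc0 : c ≠ 0)
    (hc : ∀ v, quadFormMinus k K (φ a) (φ b) ((g : Matrix _ _ F).map φ *ᵥ v)
      = c * quadFormMinus k K (φ a) (φ b) v) :
    g ∈ Geo.quadSimilarityGroup (F := F) (quadFormMinus k F a b) := by
  have hv : ∀ v : (Fin k ⊕ Fin k) ⊕ Fin 2 → F,
      φ (quadFormMinus k F a b ((g : Matrix _ _ F) *ᵥ v)) = c * φ (quadFormMinus k F a b v) := by
    intro v
    have h1 := minusForm_vmap φ k a b v
    have h2 := minusForm_vmap φ k a b ((g : Matrix _ _ F) *ᵥ v)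
    rw [minusForm_coe, minusForm_coe] at h1 h2
    rw [← h1, ← h2, vmap_mulVec]
    exact hc _
  have h1 := hv (Pi.single (Sum.inr 0 : (Fin k ⊕ Fin k) ⊕ Fin 2) 1)
  have h2 : quadFormMinus k F a b (Pi.single (Sum.inr 0 : (Fin k ⊕ Fin k) ⊕ Fin 2) 1) = 1 :=
    minusForm_single k a b
  rw [h2, map_one, mul_one] at h1
  set c₀ := quadFormMinus k F a b
    ((g : Matrix _ _ F) *ᵥ Pi.single (Sum.inr 0 : (Fin k ⊕ Fin k) ⊕ Fin 2) 1) with hc₀
  have hc₀0 : c₀ ≠ 0 := by
    intro h0
    apply hc0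
    rw [← h1, h0, map_zero]
  refine ⟨Units.mk0 c₀ hc₀0, fun v => ?_⟩
  apply φ.injective
  rw [hv v, Units.val_mk0, map_mul, h1]

end coef

section field

variable {F₀ K : Type*} [Field F₀] [Fintype F₀] [Field K] [Fintype K] [Algebra F₀ K]

/-- over a quadratic extension the minus form with anisotropic binary part is hyperbolic -/
theorem isHyp_of_finrank_two (hd : Module.finrank F₀ K = 2) (k : ℕ) (a₀ b₀ : F₀)
    (hab : ∀ z₁ z₂ : F₀, z₁ ^ 2 + a₀ * z₁ * z₂ + b₀ * z₂ ^ 2 = 0 → z₁ = 0 ∧ z₂ = 0) :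
    IsHyp (minusForm k K (algebraMap F₀ K a₀) (algebraMap F₀ K b₀)) (k + 1) := by
  obtain ⟨ω, hω, hω2⟩ := Cfsg.Agent.Helper45.exists_root_of_aniso hd a₀ b₀ hab
  exact isHyp_minusForm_of_root k _ _ ω hω hω2

/-- the discriminant of an anisotropic binary form over a finite field is non-zero -/
theorem disc_ne_zero_of_aniso (hd : Module.finrank F₀ K = 2) (a₀ b₀ : F₀)
    (hab : ∀ z₁ z₂ : F₀, z₁ ^ 2 + a₀ * z₁ * z₂ + b₀ * z₂ ^ 2 = 0 → z₁ = 0 ∧ z₂ = 0) :
    a₀ ^ 2 - 4 * b₀ ≠ 0 := by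
  obtain ⟨ω, hω, hω2⟩ := Cfsg.Agent.Helper45.exists_root_of_aniso hd a₀ b₀ hab
  intro h0
  apply hω2
  have h1 : (2 * ω + algebraMap F₀ K a₀) ^ 2 = algebraMap F₀ K (a₀ ^ 2 - 4 * b₀) := by
    rw [map_sub, map_pow, map_mul, map_ofNat]
    linear_combination 4 * hω
  rw [h0, map_zero] at h1
  exact pow_eq_zero_iff (two_ne_zero) |>.1 h1

end field

end Cfsg.Agent.Helper14.GFCent
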