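import Mathlib
import Cfsg.Agent.Helper14.GFCentC

/-!
Helper14 (for helper12, S2717): class preservation of a similarity of the minus form over `F₀`,
read over a quadratic extension `F` given by `i : F₀ →+* F`, is the Prelude's
`PreservesSingularClassesMinus`.
-/

set_option autoImplicit false
set_option linter.unusedSectionVars false
set_option linter.style.haveILetI false

namespace Cfsg.Agent.Helper14.GFCent

open Matrix Cfsg Cfsg.Agent.Helper44 Cfsg.Agent.Helper12.ClassPres Cfsg.Agent.Helper37.OddF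

universe u₀ u

variable {F₀ : Type u₀} {F : Type u} [Field F₀] [Fintype F₀] [Field F] [Fintype F]
  (i : F₀ →+* F) (hcard : Fintype.card F = Fintype.card F₀ ^ 2) (k : ℕ) (a₀ b₀ : F₀)
  (hab : ∀ z₁ z₂ : F₀, z₁ ^ 2 + a₀ * z₁ * z₂ + b₀ * z₂ ^ 2 = 0 → z₁ = 0 ∧ z₂ = 0)

include hcard in
theorem finrank_toAlgebra : @Module.finrank F₀ F _ _ i.toAlgebra.toModule = 2 := by
  letI : Algebra F₀ F := i.toAlgebra
  have h1 := Module.card_eq_pow_finrank (K := F₀) (V := F)
  rw [hcard] at h1
  have h2 : 2 ≤ Fintype.card F₀ := Fintype.one_lt_card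
  exact (Nat.pow_right_injective h2 h1).symm

include hcard hab in
/-- the minus form is hyperbolic over `F` -/
theorem isHyp_F : IsHyp (minusForm k F (i a₀) (i b₀)) (k + 1) := by
  letI : Algebra F₀ F := i.toAlgebra
  exact isHyp_of_finrank_two (finrank_toAlgebra i hcard) k a₀ b₀ hab

include i hcard hab in
theorem disc_ne_zero : a₀ ^ 2 - 4 * b₀ ≠ 0 := by
  letI : Algebra F₀ F := i.toAlgebra
  exact disc_ne_zero_of_aniso (K := F) (finrank_toAlgebra i hcard) a₀ b₀ hab

include hcard hab in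
/-- base change of class preservation between two quadratic extensions -/
theorem psc_basechange {K : Type*} [Field K] [Fintype K] [Algebra F₀ K]
    (hK : Module.finrank F₀ K = 2) (φ : K →+* F) (hφ : ∀ a, φ (algebraMap F₀ K a) = i a)
    (g₀ : GL ((Fin k ⊕ Fin k) ⊕ Fin 2) F₀)
    (hg₀ : g₀ ∈ Geo.quadSimilarityGroup (F := F₀) (quadFormMinus k F₀ a₀ b₀)) :
    PreservesSingularClasses (quadFormMinus k K (algebraMap F₀ K a₀) (algebraMap F₀ K b₀))
        ((g₀ : Matrix _ _ F₀).map (algebraMap F₀ K)) ↔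
      PreservesSingularClasses (quadFormMinus k F (i a₀) (i b₀)) ((g₀ : Matrix _ _ F₀).map i) := by
  have hK' := isHyp_of_finrank_two hK k a₀ b₀ hab
  have hF' := isHyp_F i hcard k a₀ b₀ hab
  obtain ⟨c, hc⟩ := map_mem_quadSimilarityGroup (algebraMap F₀ K) k a₀ b₀ g₀ hg₀
  have hCmap : (minusCoef k (algebraMap F₀ K a₀) (algebraMap F₀ K b₀)).map φ
      = minusCoef k (i a₀) (i b₀) := by
    rw [minusCoef_map, hφ, hφ]
  have key := preservesSingularClasses_map_iff φ
    (minusCoef k (algebraMap F₀ K a₀) (algebraMap F₀ K b₀))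
    (Q₀ := minusForm k K (algebraMap F₀ K a₀) (algebraMap F₀ K b₀))
    (Q := minusForm k F (i a₀) (i b₀))
    (fun v => minusForm_eq_qOf k _ _ v)
    (fun v => by rw [hCmap]; exact minusForm_eq_qOf k _ _ v)
    hK' hF' (Matrix.GeneralLinearGroup.map (algebraMap F₀ K) g₀) (c := (c : K)) hc
  have hmm : ((Matrix.GeneralLinearGroup.map (algebraMap F₀ K) g₀ :
      GL ((Fin k ⊕ Fin k) ⊕ Fin 2) K) : Matrix _ _ K).map φ =
      (g₀ : Matrix ((Fin k ⊕ Fin k) ⊕ Fin 2) ((Fin k ⊕ Fin k) ⊕ Fin 2) F₀).map i := by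
    show ((g₀ : Matrix ((Fin k ⊕ Fin k) ⊕ Fin 2) ((Fin k ⊕ Fin k) ⊕ Fin 2) F₀).map
      (algebraMap F₀ K)).map φ = _
    rw [Matrix.map_map]
    congr 1
    funext a
    exact hφ a
  rw [hmm] at key
  exact key

include hcard hab in
/-- class preservation over `F` is the Prelude's predicate -/
theorem psc_iff_minus (g₀ : GL ((Fin k ⊕ Fin k) ⊕ Fin 2) F₀)
    (hg₀ : g₀ ∈ Geo.quadSimilarityGroup (F := F₀) (quadFormMinus k F₀ a₀ b₀)) :
    PreservesSingularClasses (quadFormMinus k F (i a₀) (i b₀)) ((g₀ : Matrix _ _ F₀).map i) ↔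
      PreservesSingularClassesMinus k a₀ b₀ (g₀ : Matrix _ _ F₀) := by
  constructor
  · intro h
    haveI : Small.{u₀} F := Countable.toSmall F
    let e : Shrink.{u₀} F ≃+* F := Shrink.ringEquiv F
    letI : Fintype (Shrink.{u₀} F) := Fintype.ofEquiv F (equivShrink F)
    letI : Algebra F₀ (Shrink.{u₀} F) := ((e.symm : F →+* Shrink.{u₀} F).comp i).toAlgebra
    have hφ : ∀ a, (e : Shrink.{u₀} F →+* F) (algebraMap F₀ (Shrink.{u₀} F) a) = i a := by
      intro a
      show e (e.symm (i a)) = i a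
      exact e.apply_symm_apply _
    have hfin : Module.finrank F₀ (Shrink.{u₀} F) = 2 := by
      have h1 := Module.card_eq_pow_finrank (K := F₀) (V := Shrink.{u₀} F)
      rw [Fintype.ofEquiv_card, hcard] at h1
      have h2 : 2 ≤ Fintype.card F₀ := Fintype.one_lt_card
      exact (Nat.pow_right_injective h2 h1).symm
    exact ⟨Shrink.{u₀} F, inferInstance, inferInstance, hfin,
      (psc_basechange i hcard k a₀ b₀ hab hfin (e : Shrink.{u₀} F →+* F) hφ g₀ hg₀).2 h⟩
  · rintro ⟨K, fK, aK, hfin, hpsc⟩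
    haveI : Module.Finite F₀ K := Module.finite_of_finrank_pos (by rw [hfin]; norm_num)
    haveI : Finite K := Module.finite_of_finite F₀
    letI : Fintype K := Fintype.ofFinite K
    letI : Algebra F₀ F := i.toAlgebra
    obtain ⟨ψ⟩ := FiniteField.nonempty_algHom_of_finrank_dvd (F := F₀) (K := K) (L := F)
      (by rw [hfin, finrank_toAlgebra i hcard])
    exact (psc_basechange i hcard k a₀ b₀ hab hfin (ψ : K →+* F) (fun a => ψ.commutes a) g₀ hg₀).1
      hpsc

end Cfsg.Agent.Helper14.GFCent
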