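import Mathlib
import Cfsg.Agent.Helper14.GFCentA
import Cfsg.Agent.Helper14.GFCentB
import Cfsg.Agent.Helper14.GFCentD
import Cfsg.Agent.Helper12.GFDefs

/-!
Helper14 (for helper12, S2717): the subgroup of class-preserving similarities of a hyperbolic form,
`cpAut Q` as its image under `conjAut`, and the effect of multiplying a similarity by a scalar.
-/

set_option autoImplicit false
set_option linter.unusedSectionVars false

namespace Cfsg.Agent.Helper14.GFCent

open Matrix Cfsg Cfsg.Agent.Helper44 Cfsg.Agent.Helper12.ClassPres Cfsg.Agent.Helper12.GammaO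
  Cfsg.Agent.Helper12.GF

variable {F : Type*} [Field F] {ι : Type} [Fintype ι] [DecidableEq ι]
  (Q : QuadraticForm F (ι → F)) {m : ℕ} (h : IsHyp Q m)

/-- the class-preserving similarities of a hyperbolic form -/
def cpSub : Subgroup (GL ι F) where
  carrier := {g | g ∈ Geo.quadSimilarityGroup (F := F) ⇑Q ∧
    PreservesSingularClasses ⇑Q (g : Matrix ι ι F)}
  one_mem' := ⟨one_mem _, preservesSingularClasses_one h⟩
  mul_mem' := by
    rintro a b ⟨ha, ha'⟩ ⟨hb, hb'⟩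
    refine ⟨mul_mem ha hb, ?_⟩
    obtain ⟨c, hc⟩ := ha
    obtain ⟨d, hd⟩ := hb
    exact preservesSingularClasses_mul h a b hc hd ha' hb'
  inv_mem' := by
    rintro a ⟨ha, ha'⟩
    refine ⟨inv_mem ha, ?_⟩
    obtain ⟨c, hc⟩ := ha
    exact (preservesSingularClasses_inv_iff h a c.ne_zero hc).2 ha'

theorem mem_cpSub_iff (g : GL ι F) : g ∈ cpSub Q h ↔
    g ∈ Geo.quadSimilarityGroup (F := F) ⇑Q ∧ PreservesSingularClasses ⇑Q (g : Matrix ι ι F) :=
  Iff.rfl

theorem cpSub_le : cpSub Q h ≤ Geo.quadSimilarityGroup (F := F) ⇑Q := fun _ hg => hg.1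

theorem cpAut_eq_map : cpAut ⇑Q =
    ((cpSub Q h).subgroupOf (Geo.quadSimilarityGroup (F := F) ⇑Q)).map (conjAut ⇑Q) := by
  rw [← closure_induced_eq_map ⇑Q (cpSub Q h) (cpSub_le Q h)]
  unfold cpAut
  congr 1
  ext β
  constructor
  · rintro ⟨g, hg, hp, hind⟩
    exact ⟨g, ⟨hg, hp⟩, hind⟩
  · rintro ⟨g, ⟨hg, hp⟩, hind⟩
    exact ⟨g, hg, hp, hind⟩

include h in
theorem mem_cpAut_iff (β : MulAut (POmega F ⇑Q)) : β ∈ cpAut ⇑Q ↔
    ∃ g : ↥(Geo.quadSimilarityGroup (F := F) ⇑Q),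
      PreservesSingularClasses ⇑Q ((g : GL ι F) : Matrix ι ι F) ∧ conjAut ⇑Q g = β := by
  rw [cpAut_eq_map Q h, Subgroup.mem_map]
  constructor
  · rintro ⟨g, hg, rfl⟩
    exact ⟨g, ((Subgroup.mem_subgroupOf).1 hg).2, rfl⟩
  · rintro ⟨g, hg, rfl⟩
    exact ⟨g, (Subgroup.mem_subgroupOf).2 ⟨g.2, hg⟩, rfl⟩

/-- similarities differing by a scalar induce the same automorphism -/
theorem conjAut_eq_of_smul (g g' : ↥(Geo.quadSimilarityGroup (F := F) ⇑Q)) (μ : Fˣ)
    (hgg : ((g : GL ι F) : Matrix ι ι F) = (μ : F) • ((g' : GL ι F) : Matrix ι ι F)) :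
    conjAut ⇑Q g = conjAut ⇑Q g' := by
  have h1 : g * g'⁻¹ ∈ (conjAut ⇑Q).ker := by
    apply mem_ker_of_mem_scalars
    rw [Geo.mem_scalars_iff]
    refine ⟨μ, ?_⟩
    rw [Subgroup.coe_mul, Subgroup.coe_inv, Units.val_mul, hgg, Matrix.smul_mul, Units.mul_inv]
  rw [MonoidHom.mem_ker, map_mul, map_inv, mul_inv_eq_one] at h1
  exact h1

include h in
/-- class preservation is insensitive to scalars -/
theorem psc_smul_iff (g g' : GL ι F) (hg' : g' ∈ Geo.quadSimilarityGroup (F := F) ⇑Q) (μ : Fˣ)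
    (hgg : (g : Matrix ι ι F) = (μ : F) • (g' : Matrix ι ι F)) :
    PreservesSingularClasses ⇑Q (g : Matrix ι ι F) ↔
      PreservesSingularClasses ⇑Q (g' : Matrix ι ι F) := by
  set s : GL ι F := g * g'⁻¹ with hs
  have hsc : (s : Matrix ι ι F) = Matrix.scalar ι (μ : F) := by
    rw [hs, Units.val_mul, hgg, Matrix.smul_mul, Units.mul_inv, Matrix.smul_one_eq_diagonal]
    rfl
  have hgs : g = s * g' := by rw [hs, inv_mul_cancel_right]
  have hps : PreservesSingularClasses ⇑Q (s : Matrix ι ι F) :=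
    preservesSingularClasses_scalar h s (μ : F) hsc
  have hc : ∀ v : ι → F, Q ((s : Matrix ι ι F) *ᵥ v) = ((μ : F) * (μ : F)) * Q v := by
    intro v
    have hmv : (s : Matrix ι ι F) *ᵥ v = (μ : F) • v := by
      rw [hsc]
      funext j
      simp [Matrix.mulVec, dotProduct, Matrix.scalar, Matrix.diagonal_apply]
    rw [hmv, QuadraticMap.map_smul, smul_eq_mul]
  obtain ⟨d, hd⟩ := hg'
  have key := preservesSingularClasses_mul_iff h s g' hc hd
  rw [hgs, key]
  exact ⟨fun h' => h'.1 hps, fun h' => ⟨fun _ => h', fun _ => hps⟩⟩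

/-- two homomorphisms with the same kernel have isomorphic ranges -/
noncomputable def rangeEquivOfKerEq {G A₁ A₂ : Type*} [Group G] [Group A₁] [Group A₂]
    (φ₁ : G →* A₁) (φ₂ : G →* A₂) (hk : φ₁.ker = φ₂.ker) : φ₁.range ≃* φ₂.range :=
  ((QuotientGroup.quotientKerEquivRange φ₁).symm.trans
    (QuotientGroup.quotientMulEquivOfEq hk)).trans (QuotientGroup.quotientKerEquivRange φ₂)

end Cfsg.Agent.Helper14.GFCent
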