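import Mathlib
import Cfsg.Agent.Helper14.GFCentE

/-!
Helper14 (for helper12, S2717): the centraliser of the standard field automorphism `φ_σ`
(`σ` of order two with fixed field `F₀`) in `cpAut` of the minus form read over `F`
(where it is hyperbolic): it consists of the automorphisms induced by the similarities of the
form over `F₀` which preserve the classes, and it is isomorphic to `Inndiag(PΩ⁻(F₀))`.
-/

set_option autoImplicit false
set_option linter.unusedSectionVars false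

namespace Cfsg.Agent.Helper14.GFCent

open Matrix Cfsg Cfsg.Agent.Helper44 Cfsg.Agent.Helper12.ClassPres Cfsg.Agent.Helper12.GammaO
  Cfsg.Agent.Helper12.GF Cfsg.Agent.Helper37.OddF

variable {F₀ F : Type*} [Field F₀] [Fintype F₀] [Field F] [Fintype F]
  (i : F₀ →+* F) (σ : F ≃+* F) (hi : ∀ a : F, σ a = a ↔ a ∈ i.range)
  (hcard : Fintype.card F = Fintype.card F₀ ^ 2) {k : ℕ} (hk : 3 ≤ k) (a₀ b₀ : F₀)
  (hab : ∀ z₁ z₂ : F₀, z₁ ^ 2 + a₀ * z₁ * z₂ + b₀ * z₂ ^ 2 = 0 → z₁ = 0 ∧ z₂ = 0)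

include hi in
theorem minusForm_sigma (v : (Fin k ⊕ Fin k) ⊕ Fin 2 → F) :
    minusForm k F (i a₀) (i b₀) (fun j => σ (v j)) = σ (minusForm k F (i a₀) (i b₀) v) := by
  have h1 := minusForm_vmap (σ : F →+* F) k (i a₀) (i b₀) v
  have e1 : (σ : F →+* F) (i a₀) = i a₀ := sigma_incl i σ hi a₀
  have e2 : (σ : F →+* F) (i b₀) = i b₀ := sigma_incl i σ hi b₀
  rw [e1, e2] at h1
  exact h1

include hk in
theorem seven_le_card : 7 ≤ Fintype.card ((Fin k ⊕ Fin k) ⊕ Fin 2) := by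
  simp only [Fintype.card_sum, Fintype.card_fin]
  omega

/-- `g₀.map i` is scalar iff `g₀` is -/
theorem map_mem_scalars_iff {ι : Type} [Fintype ι] [DecidableEq ι] [Nonempty ι] (g₀ : GL ι F₀) :
    Matrix.GeneralLinearGroup.map i g₀ ∈ Geo.scalars ι F ↔ g₀ ∈ Geo.scalars ι F₀ := by
  rw [Geo.mem_scalars_iff, Geo.mem_scalars_iff]
  constructor
  · rintro ⟨c, hc⟩
    have hc' : (g₀ : Matrix ι ι F₀).map i = (c : F) • (1 : Matrix ι ι F) := hc
    obtain ⟨j₀⟩ := ‹Nonempty ι›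
    have hent : ∀ a b, i ((g₀ : Matrix ι ι F₀) a b) = if a = b then (c : F) else 0 := by
      intro a b
      have := congrFun (congrFun hc' a) b
      rw [Matrix.map_apply, Matrix.smul_apply, Matrix.one_apply, smul_eq_mul, mul_ite, mul_one,
        mul_zero] at this
      exact this
    have hc₀ : (g₀ : Matrix ι ι F₀) j₀ j₀ ≠ 0 := by
      intro h0
      have := hent j₀ j₀
      rw [h0, map_zero, if_pos rfl] at this
      exact c.ne_zero this.symm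
    refine ⟨Units.mk0 _ hc₀, ?_⟩
    ext a b
    apply i.injective
    rw [hent a b, Units.val_mk0, Matrix.smul_apply, Matrix.one_apply, smul_eq_mul, mul_ite, mul_one,
      mul_zero]
    by_cases hab' : a = b
    · rw [if_pos hab', if_pos hab']
      have := hent j₀ j₀
      rw [if_pos rfl] at this
      exact this.symm
    · rw [if_neg hab', if_neg hab', map_zero]
  · rintro ⟨c₀, hc₀⟩
    refine ⟨Units.map (i : F₀ →* F) c₀, ?_⟩
    show (g₀ : Matrix ι ι F₀).map i = _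
    rw [hc₀]
    ext a b
    simp only [Matrix.map_apply, Matrix.smul_apply, Matrix.one_apply, smul_eq_mul, mul_ite,
      mul_one, mul_zero, Units.coe_map, MonoidHom.coe_coe]
    split_ifs <;> simp

section aux

local notation "QF" => minusForm k F (i a₀) (i b₀)

variable (φ : MulAut (POmega F ⇑(minusForm k F (i a₀) (i b₀))))
  (hφ : IsFieldAutPOmegaOf ⇑(minusForm k F (i a₀) (i b₀)) σ φ)

include hi hcard hk hab hφ in
theorem mem_cpAut_centralizer_iff_aux (β : MulAut (POmega F ⇑(minusForm k F (i a₀) (i b₀)))) :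
    β ∈ cpAut ⇑(minusForm k F (i a₀) (i b₀)) ⊓ Subgroup.centralizer {φ} ↔
      ∃ g₀ : GL ((Fin k ⊕ Fin k) ⊕ Fin 2) F₀,
        g₀ ∈ Geo.quadSimilarityGroup (F := F₀) (quadFormMinus k F₀ a₀ b₀) ∧
        PreservesSingularClassesMinus k a₀ b₀
          (g₀ : Matrix ((Fin k ⊕ Fin k) ⊕ Fin 2) ((Fin k ⊕ Fin k) ⊕ Fin 2) F₀) ∧
        IsInducedBySemilinearPOmega ⇑(minusForm k F (i a₀) (i b₀))
          (Matrix.GeneralLinearGroup.map i g₀) (RingEquiv.refl F) β := by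
  classical
  have hH : IsHyp QF (k + 1) := isHyp_F i hcard k a₀ b₀ hab
  have hσQ : ∀ v : (Fin k ⊕ Fin k) ⊕ Fin 2 → F, QF (fun j => σ (v j)) = σ (QF v) :=
    minusForm_sigma i σ hi a₀ b₀
  have hφeq : φ = psi ⇑QF (xSig QF σ hσQ) := eq_psi_of_isFieldAut QF σ hσQ φ hφ
  have hn := seven_le_card hk
  rw [Subgroup.mem_inf, Subgroup.mem_centralizer_iff]
  constructor
  · rintro ⟨hβ, hcent⟩
    obtain ⟨g, hgp, rfl⟩ := (mem_cpAut_iff QF hH β).1 hβ
    have hcomm : psi ⇑QF (xSig QF σ hσQ) * conjAut ⇑QF g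
        = conjAut ⇑QF g * psi ⇑QF (xSig QF σ hσQ) := by
      have h1 := hcent φ rfl
      rw [hφeq] at h1
      exact h1
    obtain ⟨c, hc⟩ := (comm_iff QF σ hσQ hH.nondeg hn g).1 hcomm
    obtain ⟨μ, g₀, hg₀⟩ := exists_descent i σ hi hcard g.1 (c : F) hc
    obtain ⟨d, hd⟩ := g.2
    have hsim' : ∀ v, quadFormMinus k F (i a₀) (i b₀)
        ((g₀ : Matrix ((Fin k ⊕ Fin k) ⊕ Fin 2) ((Fin k ⊕ Fin k) ⊕ Fin 2) F₀).map i *ᵥ v)
        = ((μ : F)⁻¹ * (μ : F)⁻¹ * (d : F)) * quadFormMinus k F (i a₀) (i b₀) v := by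
      intro v
      have h1 : QF (((g.1 : GL ((Fin k ⊕ Fin k) ⊕ Fin 2) F) :
          Matrix ((Fin k ⊕ Fin k) ⊕ Fin 2) ((Fin k ⊕ Fin k) ⊕ Fin 2) F) *ᵥ v) = (d : F) * QF v := hd v
      rw [hg₀, Matrix.smul_mulVec, QuadraticMap.map_smul, smul_eq_mul] at h1
      show QF _ = _ * QF v
      have hμ : (μ : F) ≠ 0 := μ.ne_zero
      field_simp
      linear_combination h1
    have hg₀mem : g₀ ∈ Geo.quadSimilarityGroup (F := F₀) (quadFormMinus k F₀ a₀ b₀) :=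
      mem_quadSimilarityGroup_of_map i k a₀ b₀ g₀ _
        (mul_ne_zero (mul_ne_zero (inv_ne_zero μ.ne_zero) (inv_ne_zero μ.ne_zero)) d.ne_zero) hsim'
    have hg'mem : Matrix.GeneralLinearGroup.map i g₀ ∈ Geo.quadSimilarityGroup (F := F) ⇑QF :=
      map_mem_quadSimilarityGroup i k a₀ b₀ g₀ hg₀mem
    have hpsc' : PreservesSingularClasses ⇑QF
        ((g₀ : Matrix ((Fin k ⊕ Fin k) ⊕ Fin 2) ((Fin k ⊕ Fin k) ⊕ Fin 2) F₀).map i) :=
      (psc_smul_iff QF hH (g : GL _ F) (Matrix.GeneralLinearGroup.map i g₀) hg'mem μ hg₀).1 hgp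
    refine ⟨g₀, hg₀mem, (psc_iff_minus i hcard k a₀ b₀ hab g₀ hg₀mem).1 hpsc', ?_⟩
    rw [Cfsg.Agent.Helper44.isInduced_iff ⇑QF _ hg'mem]
    exact conjAut_eq_of_smul QF g ⟨_, hg'mem⟩ μ hg₀
  · rintro ⟨g₀, hg₀mem, hmin, hind⟩
    have hg'mem : Matrix.GeneralLinearGroup.map i g₀ ∈ Geo.quadSimilarityGroup (F := F) ⇑QF :=
      map_mem_quadSimilarityGroup i k a₀ b₀ g₀ hg₀mem
    have hpsc' : PreservesSingularClasses ⇑QF
        ((g₀ : Matrix ((Fin k ⊕ Fin k) ⊕ Fin 2) ((Fin k ⊕ Fin k) ⊕ Fin 2) F₀).map i) :=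
      (psc_iff_minus i hcard k a₀ b₀ hab g₀ hg₀mem).2 hmin
    refine ⟨Subgroup.subset_closure ⟨_, hg'mem, hpsc', hind⟩, ?_⟩
    intro x hx
    rw [Set.mem_singleton_iff] at hx
    rw [hx, (Cfsg.Agent.Helper44.isInduced_iff ⇑QF _ hg'mem β).1 hind, hφeq]
    refine (comm_iff QF σ hσQ hH.nondeg hn ⟨_, hg'mem⟩).2 ⟨1, ?_⟩
    rw [Units.val_one, one_smul]
    show ((g₀ : Matrix ((Fin k ⊕ Fin k) ⊕ Fin 2) ((Fin k ⊕ Fin k) ⊕ Fin 2) F₀).map i).map σ
      = (g₀ : Matrix ((Fin k ⊕ Fin k) ⊕ Fin 2) ((Fin k ⊕ Fin k) ⊕ Fin 2) F₀).map i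
    rw [Matrix.map_map]
    congr 1
    funext a
    exact sigma_incl i σ hi a

end aux

/-- **(GD1)** -/
theorem mem_cpAut_centralizer_iff {F₀ F : Type*} [Field F₀] [Fintype F₀] [Field F] [Fintype F]
    (i : F₀ →+* F) (σ : F ≃+* F) (hi : ∀ a : F, σ a = a ↔ a ∈ i.range)
    (hcard : Fintype.card F = Fintype.card F₀ ^ 2) {k : ℕ} (hk : 3 ≤ k) (a₀ b₀ : F₀)
    (hab : ∀ z₁ z₂ : F₀, z₁ ^ 2 + a₀ * z₁ * z₂ + b₀ * z₂ ^ 2 = 0 → z₁ = 0 ∧ z₂ = 0)
    (φ : MulAut (POmega F (quadFormMinus k F (i a₀) (i b₀))))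
    (hφ : IsFieldAutPOmegaOf (quadFormMinus k F (i a₀) (i b₀)) σ φ)
    (β : MulAut (POmega F (quadFormMinus k F (i a₀) (i b₀)))) :
    β ∈ cpAut (quadFormMinus k F (i a₀) (i b₀)) ⊓ Subgroup.centralizer {φ} ↔
      ∃ g₀ : GL ((Fin k ⊕ Fin k) ⊕ Fin 2) F₀,
        g₀ ∈ Geo.quadSimilarityGroup (F := F₀) (quadFormMinus k F₀ a₀ b₀) ∧
        PreservesSingularClassesMinus k a₀ b₀ (g₀ : Matrix _ _ F₀) ∧
        IsInducedBySemilinearPOmega (quadFormMinus k F (i a₀) (i b₀))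
          (Matrix.GeneralLinearGroup.map i g₀) (RingEquiv.refl F) β :=
  mem_cpAut_centralizer_iff_aux i σ hi hcard hk a₀ b₀ hab φ hφ β

end Cfsg.Agent.Helper14.GFCent
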