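import Mathlib
import Cfsg.Agent.Helper14.GFCentF

/-!
Helper14 (for helper12, S2717): **(GD2)** the centraliser of the standard field automorphism in
`cpAut` of the minus form over `F` is isomorphic to `Inndiag(PΩ⁻(F₀))`.
-/

set_option autoImplicit false
set_option linter.unusedSectionVars false

namespace Cfsg.Agent.Helper14.GFCent

open Matrix Cfsg Cfsg.Agent.Helper44 Cfsg.Agent.Helper12.ClassPres Cfsg.Agent.Helper12.GammaO
  Cfsg.Agent.Helper12.GF Cfsg.Agent.Helper37.OddF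

variable {F₀ F : Type*} [Field F₀] [Fintype F₀] [Field F] [Fintype F]
  (i : F₀ →+* F) (σ : F ≃+* F) (hi : ∀ a : F, σ a = a ↔ a ∈ i.range)
  (hcard : Fintype.card F = Fintype.card F₀ ^ 2) {k : ℕ} (hk : 3 ≤ k) (a₀ b₀ : F₀)
  (hab : ∀ z₁ z₂ : F₀, z₁ ^ 2 + a₀ * z₁ * z₂ + b₀ * z₂ ^ 2 = 0 → z₁ = 0 ∧ z₂ = 0)

/-- the class-preserving similarities over `F₀` -/
def cpSub₀ (hH : IsHyp (minusForm k F (i a₀) (i b₀)) (k + 1)) :
    Subgroup (GL ((Fin k ⊕ Fin k) ⊕ Fin 2) F₀) :=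
  Geo.quadSimilarityGroup (F := F₀) (quadFormMinus k F₀ a₀ b₀) ⊓
    (cpSub (minusForm k F (i a₀) (i b₀)) hH).comap (Matrix.GeneralLinearGroup.map i)

include hcard hab in
theorem mem_cpSub₀_iff (hH : IsHyp (minusForm k F (i a₀) (i b₀)) (k + 1))
    (g₀ : GL ((Fin k ⊕ Fin k) ⊕ Fin 2) F₀) :
    g₀ ∈ cpSub₀ i a₀ b₀ hH ↔
      g₀ ∈ Geo.quadSimilarityGroup (F := F₀) (quadFormMinus k F₀ a₀ b₀) ∧
        PreservesSingularClassesMinus k a₀ b₀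
          (g₀ : Matrix ((Fin k ⊕ Fin k) ⊕ Fin 2) ((Fin k ⊕ Fin k) ⊕ Fin 2) F₀) := by
  unfold cpSub₀
  rw [Subgroup.mem_inf, Subgroup.mem_comap, mem_cpSub_iff]
  constructor
  · rintro ⟨h1, -, h2⟩
    exact ⟨h1, (psc_iff_minus i hcard k a₀ b₀ hab g₀ h1).1 h2⟩
  · rintro ⟨h1, h2⟩
    exact ⟨h1, map_mem_quadSimilarityGroup i k a₀ b₀ g₀ h1,
      (psc_iff_minus i hcard k a₀ b₀ hab g₀ h1).2 h2⟩

theorem map_mem_of_mem_cpSub₀ (hH : IsHyp (minusForm k F (i a₀) (i b₀)) (k + 1))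
    (x : ↥(cpSub₀ i a₀ b₀ hH)) :
    Matrix.GeneralLinearGroup.map i x.1 ∈
      Geo.quadSimilarityGroup (F := F) (quadFormMinus k F (i a₀) (i b₀)) :=
  map_mem_quadSimilarityGroup i k a₀ b₀ x.1 x.2.1

/-- the action over `F` -/
noncomputable def theta₁ (hH : IsHyp (minusForm k F (i a₀) (i b₀)) (k + 1)) :
    ↥(cpSub₀ i a₀ b₀ hH) →* MulAut (POmega F (quadFormMinus k F (i a₀) (i b₀))) :=
  (conjAut (quadFormMinus k F (i a₀) (i b₀))).comp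
    (MonoidHom.codRestrict
      ((Matrix.GeneralLinearGroup.map i).comp (cpSub₀ i a₀ b₀ hH).subtype)
      (Geo.quadSimilarityGroup (F := F) (quadFormMinus k F (i a₀) (i b₀)))
      (fun x => map_mem_of_mem_cpSub₀ i a₀ b₀ hH x))

/-- the action over `F₀` -/
noncomputable def theta₂ (hH : IsHyp (minusForm k F (i a₀) (i b₀)) (k + 1)) :
    ↥(cpSub₀ i a₀ b₀ hH) →* MulAut (POmega F₀ (quadFormMinus k F₀ a₀ b₀)) :=
  (conjAut (quadFormMinus k F₀ a₀ b₀)).comp (Subgroup.inclusion inf_le_left)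

theorem theta₁_apply (hH : IsHyp (minusForm k F (i a₀) (i b₀)) (k + 1))
    (x : ↥(cpSub₀ i a₀ b₀ hH)) :
    theta₁ i a₀ b₀ hH x = conjAut (quadFormMinus k F (i a₀) (i b₀))
      ⟨Matrix.GeneralLinearGroup.map i x.1, map_mem_of_mem_cpSub₀ i a₀ b₀ hH x⟩ := rfl

theorem theta₂_apply (hH : IsHyp (minusForm k F (i a₀) (i b₀)) (k + 1))
    (x : ↥(cpSub₀ i a₀ b₀ hH)) :
    theta₂ i a₀ b₀ hH x = conjAut (quadFormMinus k F₀ a₀ b₀) ⟨x.1, x.2.1⟩ := rfl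

include hcard hk hab in
theorem ker_theta_eq (hH : IsHyp (minusForm k F (i a₀) (i b₀)) (k + 1)) :
    (theta₁ i a₀ b₀ hH).ker = (theta₂ i a₀ b₀ hH).ker := by
  have hn := seven_le_card hk
  have hnd₀ : (QuadraticMap.polarBilin (minusForm k F₀ a₀ b₀)).Nondegenerate :=
    nondegenerate_minusForm k a₀ b₀ (disc_ne_zero i hcard a₀ b₀ hab)
  have hk1 := ker_conjAut (minusForm k F (i a₀) (i b₀)) hH.nondeg hn
  have hk2 := ker_conjAut (minusForm k F₀ a₀ b₀) hnd₀ hn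
  rw [minusForm_coe] at hk1 hk2
  ext x
  rw [MonoidHom.mem_ker, MonoidHom.mem_ker, theta₁_apply, theta₂_apply, ← MonoidHom.mem_ker,
    ← MonoidHom.mem_ker, hk1, hk2, Subgroup.mem_subgroupOf, Subgroup.mem_subgroupOf]
  exact map_mem_scalars_iff i x.1

section withphi

variable (φ : MulAut (POmega F (quadFormMinus k F (i a₀) (i b₀))))
  (hφ : IsFieldAutPOmegaOf (quadFormMinus k F (i a₀) (i b₀)) σ φ)

include hi hcard hk hab hφ in
theorem range_theta₁ (hH : IsHyp (minusForm k F (i a₀) (i b₀)) (k + 1)) :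
    (theta₁ i a₀ b₀ hH).range =
      cpAut (quadFormMinus k F (i a₀) (i b₀)) ⊓ Subgroup.centralizer {φ} := by
  ext β
  rw [mem_cpAut_centralizer_iff i σ hi hcard hk a₀ b₀ hab φ hφ β, MonoidHom.mem_range]
  constructor
  · rintro ⟨x, rfl⟩
    have hx := (mem_cpSub₀_iff i hcard a₀ b₀ hab hH x.1).1 x.2
    refine ⟨x.1, hx.1, hx.2, ?_⟩
    rw [Cfsg.Agent.Helper44.isInduced_iff _ _ (map_mem_of_mem_cpSub₀ i a₀ b₀ hH x), theta₁_apply]
  · rintro ⟨g₀, h1, h2, h3⟩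
    have hx : g₀ ∈ cpSub₀ i a₀ b₀ hH := (mem_cpSub₀_iff i hcard a₀ b₀ hab hH g₀).2 ⟨h1, h2⟩
    refine ⟨⟨g₀, hx⟩, ?_⟩
    rw [theta₁_apply]
    exact ((Cfsg.Agent.Helper44.isInduced_iff _ _
      (map_mem_of_mem_cpSub₀ i a₀ b₀ hH ⟨g₀, hx⟩) β).1 h3).symm

end withphi

include hcard hab in
theorem range_theta₂ (hH : IsHyp (minusForm k F (i a₀) (i b₀)) (k + 1)) :
    (theta₂ i a₀ b₀ hH).range = inndiagPOmegaMinus k F₀ a₀ b₀ := by
  have hset : {β : MulAut (POmega F₀ (quadFormMinus k F₀ a₀ b₀)) |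
      IsInnerDiagonalAutPOmegaMinus k a₀ b₀ β}
      = (((theta₂ i a₀ b₀ hH).range : Subgroup (MulAut (POmega F₀ (quadFormMinus k F₀ a₀ b₀)))) :
          Set (MulAut (POmega F₀ (quadFormMinus k F₀ a₀ b₀)))) := by
    ext β
    rw [SetLike.mem_coe, MonoidHom.mem_range]
    constructor
    · rintro ⟨g₀, h1, h2, h3⟩
      have hx : g₀ ∈ cpSub₀ i a₀ b₀ hH := (mem_cpSub₀_iff i hcard a₀ b₀ hab hH g₀).2 ⟨h1, h2⟩
      refine ⟨⟨g₀, hx⟩, ?_⟩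
      rw [theta₂_apply]
      exact ((Cfsg.Agent.Helper44.isInduced_iff _ _ hx.1 β).1 h3).symm
    · rintro ⟨x, rfl⟩
      have hx := (mem_cpSub₀_iff i hcard a₀ b₀ hab hH x.1).1 x.2
      refine ⟨x.1, hx.1, hx.2, ?_⟩
      rw [Cfsg.Agent.Helper44.isInduced_iff _ _ x.2.1, theta₂_apply]
  show _ = Subgroup.closure {β : MulAut (POmega F₀ (quadFormMinus k F₀ a₀ b₀)) |
      IsInnerDiagonalAutPOmegaMinus k a₀ b₀ β}
  rw [hset, Subgroup.closure_eq]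

/-- **(GD2)** -/
theorem nonempty_cpAut_centralizer_equiv {F₀ F : Type*} [Field F₀] [Fintype F₀] [Field F]
    [Fintype F] (i : F₀ →+* F) (σ : F ≃+* F) (hi : ∀ a : F, σ a = a ↔ a ∈ i.range)
    (hcard : Fintype.card F = Fintype.card F₀ ^ 2) {k : ℕ} (hk : 3 ≤ k) (a₀ b₀ : F₀)
    (hab : ∀ z₁ z₂ : F₀, z₁ ^ 2 + a₀ * z₁ * z₂ + b₀ * z₂ ^ 2 = 0 → z₁ = 0 ∧ z₂ = 0)
    (φ : MulAut (POmega F (quadFormMinus k F (i a₀) (i b₀))))
    (hφ : IsFieldAutPOmegaOf (quadFormMinus k F (i a₀) (i b₀)) σ φ) :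
    Nonempty (↥(cpAut (quadFormMinus k F (i a₀) (i b₀)) ⊓ Subgroup.centralizer {φ}) ≃*
      ↥(inndiagPOmegaMinus k F₀ a₀ b₀)) := by
  have hH : IsHyp (minusForm k F (i a₀) (i b₀)) (k + 1) := isHyp_F i hcard k a₀ b₀ hab
  have e := rangeEquivOfKerEq (theta₁ i a₀ b₀ hH) (theta₂ i a₀ b₀ hH)
    (ker_theta_eq i hcard hk a₀ b₀ hab hH)
  exact ⟨((MulEquiv.subgroupCongr (range_theta₁ i σ hi hcard hk a₀ b₀ hab φ hφ hH)).symm.trans
    e).trans (MulEquiv.subgroupCongr (range_theta₂ i hcard a₀ b₀ hab hH))⟩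

end Cfsg.Agent.Helper14.GFCent
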