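import Mathlib
import Cfsg.Agent.Helper14.AutFix

/-!
Helper14: an involutory automorphism of a finite field with `p^f` elements is `a ↦ a^(p^(f/2))`.
-/

set_option autoImplicit false
set_option linter.unusedSectionVars false

namespace Cfsg.Agent.Helper14.AutPSL

open Module

variable {F : Type*} [Field F] [Fintype F]

theorem finrank_fixF (σ : F ≃+* F) : Module.finrank (fixF σ) F = orderOf σ := by
  have hfin : Finite (F ≃+* F) := DFunLike.finite _
  have hft : Fintype (Subgroup.zpowers σ) := Fintype.ofFinite _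
  have h2 := FixedPoints.finrank_eq_card (Subgroup.zpowers σ) F
  rw [h2, ← Nat.card_eq_fintype_card (α := Subgroup.zpowers σ), Nat.card_zpowers]

/-- `σ` as an algebra automorphism over its fixed field -/
def fixAlgEquiv (σ : F ≃+* F) : F ≃ₐ[fixF σ] F :=
  AlgEquiv.ofRingEquiv (f := σ) (fun k => (mem_fixF σ).mp k.2)

theorem fixAlgEquiv_apply (σ : F ≃+* F) (a : F) : fixAlgEquiv σ a = σ a := rfl

theorem involution_eq_pow {p f : ℕ} [hp : Fact p.Prime] (hF : Fintype.card F = p ^ f)
    (σ : F ≃+* F) (hσ : orderOf σ = 2) : ∀ a : F, σ a = a ^ (p ^ (f / 2)) := by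
  classical
  have hft : Fintype (fixF σ) := Fintype.ofFinite _
  obtain ⟨-, hcard⟩ := card_fixF σ hF
  rw [hσ] at hcard
  have hrk : Module.finrank (fixF σ) F = 2 := by rw [finrank_fixF, hσ]
  obtain ⟨⟨i, hi⟩, h⟩ := (FiniteField.bijective_frobeniusAlgEquivOfAlgebraic_pow (fixF σ) F).2
    (fixAlgEquiv σ)
  simp only at h
  rw [hrk] at hi
  intro a
  interval_cases i
  · exfalso
    rw [pow_zero] at h
    have h1 : σ = 1 := by
      ext b
      have := DFunLike.congr_fun h b
      rw [fixAlgEquiv_apply] at this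
      exact this.symm
    rw [h1, orderOf_one] at hσ
    omega
  · rw [pow_one] at h
    have := DFunLike.congr_fun h a
    rw [fixAlgEquiv_apply, FiniteField.coe_frobeniusAlgEquivOfAlgebraic] at this
    rw [← this]
    simp only
    congr 1

end Cfsg.Agent.Helper14.AutPSL
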