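import Mathlib
import Cfsg.Agent.Helper14.AutSplit

/-!
Helper14: general class-splitting count in `Inndiag(PSL_n(q))`: if the centraliser of `x₀` in the
inner-diagonal group is the image of a subgroup `C` of `GL_n`, then the `Inndiag`-class of `x₀`
splits into `[F^× : (F^×)^n det(C)]` classes under the inner automorphisms.
-/

set_option autoImplicit false
set_option linter.unusedSectionVars false

namespace Cfsg.Agent.Helper14.AutPSL

open Matrix

variable {n : ℕ} {F : Type*} [Field F]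

/-- `(F^×)^n det(C)` -/
def PC (C : Subgroup (GL (Fin n) F)) : Subgroup Fˣ :=
  (powMonoidHom n : Fˣ →* Fˣ).range ⊔ C.map Matrix.GeneralLinearGroup.det

/-- the conjugate of `x₀` by the image of `g` -/
def cjg (x₀ : MulAut (Matrix.ProjectiveSpecialLinearGroup (Fin n) F)) (g : GL (Fin n) F) :
    MulAut (Matrix.ProjectiveSpecialLinearGroup (Fin n) F) :=
  pslOf (slConj g) * x₀ * (pslOf (slConj g))⁻¹

section
variable (x₀ : MulAut (Matrix.ProjectiveSpecialLinearGroup (Fin n) F))
  (C : Subgroup (GL (Fin n) F))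
  (hC : C.map (inndiagHom n F) = Cfsg.inndiagPSL n F ⊓ Subgroup.centralizer {x₀})

include hC in
theorem comm_of_mem_C {c : GL (Fin n) F} (hc : c ∈ C) :
    pslOf (slConj c) * x₀ = x₀ * pslOf (slConj c) := by
  have h1 : inndiagHom n F c ∈ Cfsg.inndiagPSL n F ⊓ Subgroup.centralizer {x₀} := by
    rw [← hC]
    exact Subgroup.mem_map_of_mem _ hc
  have h2 := Subgroup.mem_centralizer_iff.mp (Subgroup.mem_inf.mp h1).2 x₀ (Set.mem_singleton _)
  rw [inndiagHom_apply] at h2
  exact h2.symm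

include hC in
theorem cjg_conj_iff (hn : 2 ≤ n) (g g' : GL (Fin n) F) :
    (∃ s : Matrix.SpecialLinearGroup (Fin n) F,
      cjg x₀ g' = pslOf (slConj (Matrix.SpecialLinearGroup.toGL s)) * cjg x₀ g *
        (pslOf (slConj (Matrix.SpecialLinearGroup.toGL s)))⁻¹) ↔
    (Matrix.GeneralLinearGroup.det g)⁻¹ * Matrix.GeneralLinearGroup.det g' ∈ PC C := by
  constructor
  · rintro ⟨s, hs⟩
    unfold cjg at hs
    obtain ⟨t, ht⟩ : ∃ t, t = Matrix.SpecialLinearGroup.toGL s := ⟨_, rfl⟩
    rw [← ht] at hs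
    have hcm : pslOf (slConj (g'⁻¹ * t * g)) ∈ Cfsg.inndiagPSL n F ⊓ Subgroup.centralizer {x₀} := by
      refine Subgroup.mem_inf.mpr ⟨mem_inndiagPSL.mpr ⟨_, rfl⟩, ?_⟩
      rw [Subgroup.mem_centralizer_iff]
      intro y hy
      rw [Set.mem_singleton_iff] at hy
      rw [hy, slConj_mul, slConj_mul, slConj_inv, map_mul, map_mul, map_inv]
      have e1 : x₀ = (pslOf (slConj g'))⁻¹ * (pslOf (slConj t) * (pslOf (slConj g) *
          x₀ * (pslOf (slConj g))⁻¹) * (pslOf (slConj t))⁻¹) * pslOf (slConj g') := by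
        rw [← hs]
        group
      calc x₀ * ((pslOf (slConj g'))⁻¹ * pslOf (slConj t) * pslOf (slConj g))
          = (pslOf (slConj g'))⁻¹ * (pslOf (slConj t) * (pslOf (slConj g) *
            x₀ * (pslOf (slConj g))⁻¹) * (pslOf (slConj t))⁻¹) * pslOf (slConj g') *
            ((pslOf (slConj g'))⁻¹ * pslOf (slConj t) * pslOf (slConj g)) := by rw [← e1]
        _ = (pslOf (slConj g'))⁻¹ * pslOf (slConj t) * pslOf (slConj g) * x₀ := by
            group
    rw [← hC] at hcm
    obtain ⟨c, hcC, hc⟩ := hcm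
    rw [inndiagHom_apply] at hc
    have h1 : (g'⁻¹ * t * g)⁻¹ * c ∈ Subgroup.center (GL (Fin n) F) := by
      rw [← ker_inndiagHom hn, MonoidHom.mem_ker, map_mul, map_inv, inndiagHom_apply,
        inndiagHom_apply, hc, inv_mul_cancel]
    rw [Matrix.GeneralLinearGroup.center_eq_range_scalar] at h1
    obtain ⟨a, ha⟩ := h1
    have h2 := congrArg Matrix.GeneralLinearGroup.det ha
    rw [Matrix.GeneralLinearGroup.det_scalar, Fintype.card_fin, map_mul, map_inv, map_mul, map_mul,
      map_inv] at h2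
    have hdt : Matrix.GeneralLinearGroup.det t = 1 := by
      apply Units.ext
      rw [Matrix.GeneralLinearGroup.val_det_apply, ht]
      exact s.2
    rw [hdt, mul_one] at h2
    have h3 : (Matrix.GeneralLinearGroup.det g)⁻¹ * Matrix.GeneralLinearGroup.det g' =
        a ^ n * (Matrix.GeneralLinearGroup.det c)⁻¹ := by
      rw [h2]
      rw [_root_.mul_inv_rev, inv_inv]
      simp only [mul_assoc, mul_inv_cancel, mul_one]
    rw [h3]
    apply Subgroup.mul_mem
    · apply Subgroup.mem_sup_left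
      exact ⟨a, rfl⟩
    · apply Subgroup.mem_sup_right
      exact Subgroup.inv_mem _ (Subgroup.mem_map_of_mem _ hcC)
  · intro h
    unfold PC at h
    obtain ⟨_, ⟨a, rfl⟩, _, ⟨c, hcC, rfl⟩, hak⟩ := Subgroup.mem_sup.mp h
    rw [powMonoidHom_apply] at hak
    obtain ⟨z, hz⟩ : ∃ z, z = Matrix.GeneralLinearGroup.scalar (Fin n) a := ⟨_, rfl⟩
    obtain ⟨u, hu⟩ : ∃ u, u = g⁻¹ * g' * z⁻¹ * c⁻¹ := ⟨_, rfl⟩
    have hdu : Matrix.GeneralLinearGroup.det u = 1 := by
      rw [hu, map_mul, map_mul, map_mul, map_inv, map_inv, map_inv, hz,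
        Matrix.GeneralLinearGroup.det_scalar, Fintype.card_fin, ← hak]
      simp only [mul_assoc]
      rw [mul_inv_cancel_comm_assoc]
      exact mul_inv_cancel _
    have hdw : Matrix.GeneralLinearGroup.det (g * u * g⁻¹) = 1 := by
      rw [map_mul, map_mul, map_inv, hdu, mul_one, mul_inv_cancel]
    obtain ⟨s, hs⟩ := exists_sl_of_det_one _ hdw
    refine ⟨s, ?_⟩
    rw [hs]
    have hg' : g' = g * u * c * z := by
      rw [hu]
      group
    have e2 : (pslOf (slConj (g * u * g⁻¹)) : MulAut (Matrix.ProjectiveSpecialLinearGroup (Fin n) F)) =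
        pslOf (slConj g) * pslOf (slConj u) * (pslOf (slConj g))⁻¹ := by
      rw [slConj_mul, slConj_mul, slConj_inv, map_mul, map_mul, map_inv]
    have e3 : (pslOf (slConj g') : MulAut (Matrix.ProjectiveSpecialLinearGroup (Fin n) F)) =
        pslOf (slConj g) * pslOf (slConj u) * pslOf (slConj c) := by
      rw [hg', slConj_mul, slConj_mul, slConj_mul, map_mul, map_mul, map_mul, hz,
        pslOf_slConj_scalar, mul_one]
    unfold cjg
    rw [e2, e3]
    have hcomm := comm_of_mem_C x₀ C hC hcC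
    have e1 : pslOf (slConj c) * x₀ * (pslOf (slConj c))⁻¹ = x₀ := by
      rw [hcomm, mul_inv_cancel_right]
    calc pslOf (slConj g) * pslOf (slConj u) * pslOf (slConj c) * x₀ *
          (pslOf (slConj g) * pslOf (slConj u) * pslOf (slConj c))⁻¹
        = pslOf (slConj g) * pslOf (slConj u) * (pslOf (slConj c) * x₀ *
          (pslOf (slConj c))⁻¹) * (pslOf (slConj u))⁻¹ * (pslOf (slConj g))⁻¹ := by group
      _ = pslOf (slConj g) * pslOf (slConj u) * (pslOf (slConj g))⁻¹ *
          (pslOf (slConj g) * x₀ * (pslOf (slConj g))⁻¹) *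
          (pslOf (slConj g) * pslOf (slConj u) * (pslOf (slConj g))⁻¹)⁻¹ := by
            rw [e1]
            group

theorem isConjUnder_cjg (g : GL (Fin n) F) :
    Cfsg.IsConjUnder (Cfsg.inndiagPSL n F) x₀ (cjg x₀ g) :=
  ⟨pslOf (slConj g), mem_inndiagPSL.mpr ⟨g, rfl⟩, rfl⟩

theorem exists_cjg_of_isConjUnder {y : MulAut (Matrix.ProjectiveSpecialLinearGroup (Fin n) F)}
    (hy : Cfsg.IsConjUnder (Cfsg.inndiagPSL n F) x₀ y) :
    ∃ g : GL (Fin n) F, y = cjg x₀ g := by
  obtain ⟨h, hh, rfl⟩ := hy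
  obtain ⟨g, rfl⟩ := mem_inndiagPSL.mp hh
  exact ⟨g, rfl⟩

include hC in
theorem isConjUnder_Inn_cjg_iff (hn : 2 ≤ n) (g g' : GL (Fin n) F) :
    Cfsg.IsConjUnder (Cfsg.Inn (Matrix.ProjectiveSpecialLinearGroup (Fin n) F)) (cjg x₀ g) (cjg x₀ g') ↔
      (Matrix.GeneralLinearGroup.det g)⁻¹ * Matrix.GeneralLinearGroup.det g' ∈ PC C := by
  rw [← cjg_conj_iff x₀ C hC hn]
  constructor
  · rintro ⟨k, hk, he⟩
    obtain ⟨s, rfl⟩ := mem_Inn.mp hk
    exact ⟨s, he⟩
  · rintro ⟨s, he⟩
    exact ⟨_, mem_Inn.mpr ⟨s, rfl⟩, he⟩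

include hC in
/-- the general class-splitting count -/
theorem splitClassCount_gen (hn : 2 ≤ n) :
    Cfsg.splitClassCount (Cfsg.inndiagPSL n F)
      (Cfsg.Inn (Matrix.ProjectiveSpecialLinearGroup (Fin n) F)) x₀ = (PC C).index := by
  unfold Cfsg.splitClassCount
  set r := fun y z : {y : MulAut (Matrix.ProjectiveSpecialLinearGroup (Fin n) F) //
      Cfsg.IsConjUnder (Cfsg.inndiagPSL n F) x₀ y} =>
      Cfsg.IsConjUnder (Cfsg.Inn (Matrix.ProjectiveSpecialLinearGroup (Fin n) F)) y.1 z.1 with hr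
  have hreq : Equivalence r := isConjUnder_equivalence _ _
  let Ξ : GL (Fin n) F → {y : MulAut (Matrix.ProjectiveSpecialLinearGroup (Fin n) F) //
      Cfsg.IsConjUnder (Cfsg.inndiagPSL n F) x₀ y} :=
    fun g => ⟨cjg x₀ g, isConjUnder_cjg x₀ g⟩
  have hΞ : ∀ g g', r (Ξ g) (Ξ g') ↔
      (Matrix.GeneralLinearGroup.det g)⁻¹ * Matrix.GeneralLinearGroup.det g' ∈ PC C :=
    fun g g' => isConjUnder_Inn_cjg_iff x₀ C hC hn g g'
  let Θ : Fˣ ⧸ PC C → Quot r :=
    Quotient.lift (fun d : Fˣ => Quot.mk r (Ξ (dg hn d))) (by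
      intro d d' hdd'
      apply Quot.sound
      rw [hΞ, det_dg, det_dg]
      exact QuotientGroup.leftRel_apply.mp hdd')
  have hbij : Function.Bijective Θ := by
    constructor
    · intro q q' h
      induction q using Quotient.inductionOn with
      | h d =>
      induction q' using Quotient.inductionOn with
      | h d' =>
      have h1 : Quot.mk r (Ξ (dg hn d)) = Quot.mk r (Ξ (dg hn d')) := h
      have h2 := hreq.eqvGen_iff.mp (Quot.eqvGen_exact h1)
      rw [hΞ, det_dg, det_dg] at h2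
      exact Quotient.sound (QuotientGroup.leftRel_apply.mpr h2)
    · intro q
      induction q using Quot.inductionOn with
      | h y =>
      obtain ⟨g, hg⟩ := exists_cjg_of_isConjUnder x₀ y.2
      refine ⟨QuotientGroup.mk (Matrix.GeneralLinearGroup.det g), ?_⟩
      show Quot.mk r (Ξ (dg hn (Matrix.GeneralLinearGroup.det g))) = Quot.mk r y
      apply Quot.sound
      have hy : y = Ξ g := Subtype.ext hg
      rw [hy, hΞ, det_dg, inv_mul_cancel]
      exact Subgroup.one_mem _
  exact (Nat.card_congr (Equiv.ofBijective Θ hbij)).symm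

end

end Cfsg.Agent.Helper14.AutPSL
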