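import Mathlib
import Cfsg.Prelude.Def_LieTypeDatum
import Cfsg.Agent.Helper14.AutSplitGen
import Cfsg.Agent.Helper14.AutFrob
import Cfsg.Agent.Helper37.LangH

/-!
Helper14: the standard graph-field automorphism `φ_σ ι` of `PSL_n(q₀²)`: its centraliser in the
inner-diagonal group is the image of `GU_n(q₀)`.
-/

set_option autoImplicit false
set_option linter.unusedSectionVars false

namespace Cfsg.Agent.Helper14.AutPSL

open Matrix Cfsg.Agent.Helper37.Lang

variable {n : ℕ} {F : Type*} [Field F] (σ : F ≃+* F) (q : ℕ)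

/-- the standard graph-field automorphism -/
def gfx (n : ℕ) {F : Type*} [Field F] (σ : F ≃+* F) :
    MulAut (Matrix.ProjectiveSpecialLinearGroup (Fin n) F) :=
  pslOf (slField σ * slInvT)

theorem hermForm_eq (hq : ∀ a, σ a = a ^ q) (u v : Fin n → F) :
    Cfsg.hermForm n F q u v = u ⬝ᵥ (fun i => σ (v i)) := by
  unfold Cfsg.hermForm dotProduct
  apply Finset.sum_congr rfl
  intro i _
  show u i * v i ^ q = u i * σ (v i)
  rw [hq]

theorem map_mulVec' (M : Matrix (Fin n) (Fin n) F) (v : Fin n → F) :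
    (fun i => σ ((M *ᵥ v) i)) = M.map σ *ᵥ (fun i => σ (v i)) := by
  funext i
  unfold mulVec dotProduct
  rw [map_sum]
  apply Finset.sum_congr rfl
  intro j _
  show σ (M i j * v j) = σ (M i j) * σ (v j)
  rw [map_mul]

theorem mem_GU_iff (hq : ∀ a, σ a = a ^ q) (g : GL (Fin n) F) :
    g ∈ Cfsg.GU n F q ↔
      (g : Matrix (Fin n) (Fin n) F)ᵀ * (g : Matrix (Fin n) (Fin n) F).map σ = 1 := by
  constructor
  · intro hg
    ext i j
    have h1 := hg (Pi.single i 1) (Pi.single j 1)
    rw [hermForm_eq σ q hq, hermForm_eq σ q hq] at h1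
    simp only [Units.coeHom_apply] at h1
    rw [map_mulVec' σ, ← Matrix.vecMul_transpose, ← Matrix.dotProduct_mulVec, Matrix.mulVec_mulVec,
      single_dotProduct, one_mul] at h1
    have h2 : (fun k => σ ((Pi.single j (1 : F) : Fin n → F) k)) = Pi.single j 1 := by
      funext k
      by_cases hk : k = j
      · rw [hk, Pi.single_eq_same, map_one]
      · rw [Pi.single_eq_of_ne hk, map_zero]
    rw [h2, Matrix.mulVec_single_one, Matrix.col_apply, single_dotProduct, one_mul] at h1
    rw [h1, Matrix.one_apply, Pi.single_apply]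
  · intro hg u v
    rw [hermForm_eq σ q hq, hermForm_eq σ q hq]
    simp only [Units.coeHom_apply]
    rw [map_mulVec' σ, ← Matrix.vecMul_transpose, ← Matrix.dotProduct_mulVec, Matrix.mulVec_mulVec,
      hg, Matrix.one_mulVec]

theorem gfx_eq (σ : F ≃+* F) :
    gfx n σ = pslOf (slField σ) * pslOf slInvT := map_mul _ _ _

/-- conjugating the graph-field automorphism by an inner-diagonal one -/
theorem conj_gfx (h : GL (Fin n) F) :
    pslOf (slConj h) * gfx n σ * (pslOf (slConj h))⁻¹ =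
      pslOf (slConj (h * glMap σ (glInvT h⁻¹))) * gfx n σ := by
  unfold gfx
  rw [← map_inv, ← map_mul, ← map_mul, ← map_mul, conj_graph_field_eq]

theorem geoScalars_eq_center :
    Cfsg.Geo.scalars (Fin n) F = Subgroup.center (GL (Fin n) F) := by
  rw [Matrix.GeneralLinearGroup.center_eq_range_scalar]
  rfl

theorem mem_GU_of_mul_ct (hq : ∀ a, σ a = a ^ q) (g : GL (Fin n) F)
    (h : (g : Matrix (Fin n) (Fin n) F) * ct σ (g : Matrix (Fin n) (Fin n) F) = 1) :
    g ∈ Cfsg.GU n F q := by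
  rw [mem_GU_iff σ q hq]
  have h1 : ct σ (g : Matrix (Fin n) (Fin n) F) * (g : Matrix (Fin n) (Fin n) F) = 1 :=
    _root_.mul_eq_one_comm.mp h
  have h2 := congrArg Matrix.transpose h1
  rw [Matrix.transpose_mul, Matrix.transpose_one] at h2
  unfold ct at h2
  rw [Matrix.transpose_transpose] at h2
  exact h2

theorem mul_ct_of_mem_GU (hq : ∀ a, σ a = a ^ q) (g : GL (Fin n) F) (hg : g ∈ Cfsg.GU n F q) :
    (g : Matrix (Fin n) (Fin n) F) * ct σ (g : Matrix (Fin n) (Fin n) F) = 1 := by
  rw [mem_GU_iff σ q hq] at hg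
  apply _root_.mul_eq_one_comm.mp
  have h2 := congrArg Matrix.transpose hg
  rw [Matrix.transpose_mul, Matrix.transpose_one, Matrix.transpose_transpose] at h2
  exact h2

theorem map_GU [Fintype F] (hn : 2 ≤ n) (hσ : orderOf σ = 2) (hq : ∀ a, σ a = a ^ q) :
    (Cfsg.GU n F q).map (inndiagHom n F) =
      Cfsg.inndiagPSL n F ⊓ Subgroup.centralizer {gfx n σ} := by
  have hσσ : σ * σ = 1 := by rw [← pow_two, ← hσ]; exact pow_orderOf_eq_one σ
  have hσ2 : ∀ x, σ (σ x) = x := fun x => by
    have := congrArg (fun τ : F ≃+* F => τ x) hσσ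
    exact this
  ext β
  rw [Subgroup.mem_inf, Subgroup.mem_centralizer_iff]
  constructor
  · rintro ⟨g, hg, rfl⟩
    refine ⟨mem_inndiagPSL.mpr ⟨g, rfl⟩, ?_⟩
    intro y hy
    rw [Set.mem_singleton_iff] at hy
    rw [hy, inndiagHom_apply]
    have h1 := conj_gfx σ g
    have h2 : g * glMap σ (glInvT g⁻¹) = 1 := by
      apply Units.ext
      rw [Units.val_mul, glMap_glInvT_coe]
      exact mul_ct_of_mem_GU σ q hq g hg
    rw [h2, slConj_one, map_one, one_mul] at h1
    have h3 := congrArg (· * pslOf (slConj g)) h1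
    simp only [inv_mul_cancel_right] at h3
    exact h3.symm
  · rintro ⟨hβ, hc⟩
    obtain ⟨h, rfl⟩ := mem_inndiagPSL.mp hβ
    have h1 := hc _ (Set.mem_singleton _)
    have h2 := conj_gfx σ h
    rw [← h1, mul_inv_cancel_right] at h2
    have h3 : pslOf (slConj (h * glMap σ (glInvT h⁻¹)) * slField (1 : F ≃+* F)) = 1 := by
      rw [slField_one, mul_one]
      exact (mul_eq_right.mp h2.symm)
    obtain ⟨-, l, hl⟩ := ker_semilinear hn _ _ h3
    rw [Units.val_mul, glMap_glInvT_coe] at hl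
    set A : Matrix (Fin n) (Fin n) F := (h : Matrix (Fin n) (Fin n) F) with hA
    have hne : Nonempty (Fin n) := ⟨⟨0, by omega⟩⟩
    -- `l` is fixed by `σ`
    have hσl : σ l = l := by
      have e1 := congrArg (ct σ) hl
      rw [ct_mul, ct_ct hσ2, hl, ct_smul, ct_one] at e1
      have := congrFun (congrFun e1 ⟨0, by omega⟩) ⟨0, by omega⟩
      simpa using this.symm
    have hl0 : l ≠ 0 := by
      intro h0
      rw [h0, zero_smul] at hl
      have hu : IsUnit (A * ct σ A) := by
        rw [← glMap_glInvT_coe, hA, ← Units.val_mul]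
        exact Units.isUnit _
      rw [hl] at hu
      exact not_isUnit_zero hu
    obtain ⟨μ, hμ0, hμ⟩ := exists_nrm_eq σ hσ (by norm_num) hl0 hσl
    rw [nrm_two] at hμ
    -- the rescaled matrix
    let h' : GL (Fin n) F := Matrix.GeneralLinearGroup.scalar (Fin n) (Units.mk0 μ⁻¹ (inv_ne_zero hμ0)) * h
    have hh' : (h' : Matrix (Fin n) (Fin n) F) = μ⁻¹ • A := by
      show ((Matrix.GeneralLinearGroup.scalar (Fin n) (Units.mk0 μ⁻¹ (inv_ne_zero hμ0)) * h :
        GL (Fin n) F) : Matrix (Fin n) (Fin n) F) = _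
      rw [Units.val_mul, Matrix.GeneralLinearGroup.coe_scalar, Matrix.scalar_apply,
        ← Matrix.smul_one_eq_diagonal, Matrix.smul_mul, Matrix.one_mul]
      rfl
    refine ⟨h', ?_, ?_⟩
    · apply mem_GU_of_mul_ct σ q hq
      rw [hh', ct_smul, Matrix.smul_mul, Matrix.mul_smul, hl, smul_smul, smul_smul]
      have : μ⁻¹ * σ μ⁻¹ * l = 1 := by
        rw [map_inv₀, ← hμ]
        have hσμ : σ μ ≠ 0 := (map_ne_zero_iff _ σ.injective).mpr hμ0
        field_simp
      rw [this, one_smul]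
    · rw [inndiagHom_apply, slConj_smul hh']

/-- `GU_n → Aut(PSL_n)` -/
def guHom (n : ℕ) (F : Type*) [Field F] (q : ℕ) : ↥(Cfsg.GU n F q) →*
    MulAut (Matrix.SpecialLinearGroup (Fin n) F ⧸
      Subgroup.center (Matrix.SpecialLinearGroup (Fin n) F)) :=
  (inndiagHom n F).comp (Cfsg.GU n F q).subtype

theorem range_guHom : (guHom n F q).range = (Cfsg.GU n F q).map (inndiagHom n F) := by
  unfold guHom
  rw [MonoidHom.range_comp, Subgroup.range_subtype]

theorem ker_guHom (hn : 2 ≤ n) :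
    (guHom n F q).ker = (Cfsg.Geo.scalars (Fin n) F).subgroupOf (Cfsg.GU n F q) := by
  ext g
  rw [MonoidHom.mem_ker, Subgroup.mem_subgroupOf, geoScalars_eq_center, ← ker_inndiagHom hn,
    MonoidHom.mem_ker]
  rfl

/-- the centraliser of the graph-field automorphism is `PGU` -/
noncomputable def centralizerGfxEquiv [Fintype F] (hn : 2 ≤ n) (hσ : orderOf σ = 2)
    (hq : ∀ a, σ a = a ^ q) :
    ↥(Cfsg.inndiagPSL n F ⊓ Subgroup.centralizer {gfx n σ}) ≃* Cfsg.PGU n F q :=
  ((MulEquiv.subgroupCongr ((range_guHom q).trans (map_GU σ q hn hσ hq))).symm.trans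
    (QuotientGroup.quotientKerEquivRange (guHom n F q)).symm).trans
    (QuotientGroup.quotientMulEquivOfEq (ker_guHom q hn))

end Cfsg.Agent.Helper14.AutPSL
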