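import Mathlib
import Cfsg.Agent.Helper37.AutUS
import Cfsg.Agent.Helper14.AutNF

/-!
Helper14: automorphisms of `PSU_n(q)`, part A.  The composition law of helper37's standard
automorphisms `pstd g σ`, the homomorphism `GU → Aut(PSU)`, the statement predicates.
-/

set_option autoImplicit false
set_option linter.unusedSectionVars false
set_option linter.unusedVariables false

namespace Cfsg.Agent.Helper14.AutPSU

open Matrix Cfsg.Agent.Helper13 Cfsg.Agent.Helper37.AutU Cfsg.Agent.Helper14.AutPSL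

variable {F : Type*} [Field F] [Fintype F] {q n : ℕ}

/-- entrywise field automorphism on `GU` -/
def guMap (σ : F ≃+* F) : Cfsg.GU n F q →* Cfsg.GU n F q where
  toFun g := ⟨glMap σ (g : GL (Fin n) F), fun u v => isU_map (isU_gm g) σ u v⟩
  map_one' := by
    apply Subtype.ext
    show glMap σ 1 = 1
    exact map_one _
  map_mul' a b := by
    apply Subtype.ext
    show glMap σ (a.1 * b.1) = glMap σ a.1 * glMap σ b.1
    exact map_mul _ _ _

theorem gm_guMap (σ : F ≃+* F) (g : Cfsg.GU n F q) : gm (guMap σ g) = (gm g).map σ := rfl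

theorem guMap_mul_apply (σ τ : F ≃+* F) (g : Cfsg.GU n F q) :
    guMap (σ * τ) g = guMap σ (guMap τ g) := by
  apply Subtype.ext
  apply Units.ext
  show (gm g).map (σ * τ) = ((gm g).map τ).map σ
  ext i j
  rfl

theorem guMap_one_apply (g : Cfsg.GU n F q) : guMap (1 : F ≃+* F) g = g := by
  apply Subtype.ext
  apply Units.ext
  show (gm g).map (1 : F ≃+* F) = gm g
  ext i j
  rfl

/-- composition law of the standard automorphisms -/
theorem pstd_mul (g g' : Cfsg.GU n F q) (σ σ' : F ≃+* F) :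
    (pstd g σ : MulAut (Cfsg.PSU n F q)) * pstd g' σ' = pstd (g * guMap σ g') (σ * σ') := by
  ext x
  obtain ⟨A, rfl⟩ := pr_surjective x
  rw [MulAut.mul_apply, pstd_pr, pstd_pr, pstd_pr]
  congr 1
  apply suMat_injective
  rw [suMat_stdSU, suMat_stdSU, suMat_stdSU, _root_.mul_inv_rev, gm_mul, gm_mul, ← map_inv,
    gm_guMap, gm_guMap, Matrix.map_mul, Matrix.map_mul]
  have h : ((suMat A).map σ').map σ = (suMat A).map (σ * σ') := by
    ext i j
    rfl
  rw [h]
  simp only [Matrix.mul_assoc]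

theorem pstd_one_one : (pstd (1 : Cfsg.GU n F q) (1 : F ≃+* F) : MulAut (Cfsg.PSU n F q)) = 1 := by
  ext x
  obtain ⟨A, rfl⟩ := pr_surjective x
  rw [pstd_pr, MulAut.one_apply]
  congr 1
  apply suMat_injective
  rw [suMat_stdSU, inv_one, gm_one, Matrix.one_mul, Matrix.mul_one]
  ext i j
  rfl

/-- `GU → Aut(PSU)` -/
noncomputable def pstdHom (n : ℕ) (F : Type*) [Field F] [Fintype F] (q : ℕ) :
    Cfsg.GU n F q →* MulAut (Cfsg.PSU n F q) where
  toFun g := pstd g (1 : F ≃+* F)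
  map_one' := pstd_one_one
  map_mul' a b := by
    rw [pstd_mul, guMap_one_apply, mul_one]

theorem pstdHom_apply (g : Cfsg.GU n F q) : pstdHom n F q g = pstd g (1 : F ≃+* F) := rfl

/-- the standard field automorphisms, as a homomorphism -/
noncomputable def fldHom (n : ℕ) (F : Type*) [Field F] [Fintype F] (q : ℕ) :
    (F ≃+* F) →* MulAut (Cfsg.PSU n F q) where
  toFun σ := pstd (1 : Cfsg.GU n F q) σ
  map_one' := pstd_one_one
  map_mul' a b := by
    rw [pstd_mul, map_one, mul_one]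

theorem fldHom_apply (σ : F ≃+* F) : fldHom n F q σ = pstd (1 : Cfsg.GU n F q) σ := rfl

theorem pstd_eq_mul (g : Cfsg.GU n F q) (σ : F ≃+* F) :
    (pstd g σ : MulAut (Cfsg.PSU n F q)) = pstdHom n F q g * fldHom n F q σ := by
  rw [pstdHom_apply, fldHom_apply, pstd_mul, map_one, mul_one, one_mul]

/-- conjugating an inner-diagonal automorphism by a field automorphism -/
theorem fldHom_mul_pstdHom (σ : F ≃+* F) (g : Cfsg.GU n F q) :
    fldHom n F q σ * pstdHom n F q g = pstdHom n F q (guMap σ g) * fldHom n F q σ := by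
  rw [pstdHom_apply, fldHom_apply, pstdHom_apply, pstd_mul, pstd_mul, map_one, one_mul, mul_one,
    mul_one, one_mul]

theorem isInnerDiagonal_iff (β : Cfsg.PSU n F q ≃* Cfsg.PSU n F q) :
    Cfsg.IsInnerDiagonalAutPSU β ↔ ∃ g : Cfsg.GU n F q, β = pstdHom n F q g := by
  constructor
  · rintro ⟨g, hg, h⟩
    refine ⟨⟨g, hg⟩, ?_⟩
    ext x
    obtain ⟨A, rfl⟩ := pr_surjective x
    rw [pstdHom_apply, pstd_pr]
    apply h
    have h1 := suMat_stdSU (⟨g, hg⟩ : Cfsg.GU n F q) (1 : F ≃+* F) A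
    have : (suMat A).map (1 : F ≃+* F) = suMat A := by
      ext i j
      rfl
    rw [this] at h1
    exact h1
  · rintro ⟨g, rfl⟩
    exact pstd_isInnerDiagonal g

theorem isFieldAutOf_iff (σ : F ≃+* F) (β : Cfsg.PSU n F q ≃* Cfsg.PSU n F q) :
    Cfsg.IsFieldAutPSUOf σ β ↔ β = fldHom n F q σ := by
  constructor
  · intro h
    ext x
    obtain ⟨A, rfl⟩ := pr_surjective x
    rw [fldHom_apply, pstd_pr]
    apply h
    have h1 := suMat_stdSU (1 : Cfsg.GU n F q) σ A
    rw [inv_one, gm_one, Matrix.one_mul, Matrix.mul_one] at h1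
    exact h1
  · rintro rfl
    exact pstd_isFieldAut σ

theorem mem_inndiagPSU {β : MulAut (Cfsg.PSU n F q)} :
    β ∈ Cfsg.inndiagPSU n F q ↔ ∃ g : Cfsg.GU n F q, β = pstdHom n F q g := by
  have hset : {β : MulAut (Cfsg.PSU n F q) | Cfsg.IsInnerDiagonalAutPSU β} =
      ((pstdHom n F q).range : Set (MulAut (Cfsg.PSU n F q))) := by
    ext β
    constructor
    · intro h
      obtain ⟨g, hg⟩ := (isInnerDiagonal_iff β).mp h
      exact ⟨g, hg.symm⟩
    · rintro ⟨g, rfl⟩
      exact (isInnerDiagonal_iff _).mpr ⟨g, rfl⟩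
  unfold Cfsg.inndiagPSU Cfsg.autSubgroupOf
  rw [hset, Subgroup.closure_eq]
  constructor
  · rintro ⟨g, rfl⟩
    exact ⟨g, rfl⟩
  · rintro ⟨g, rfl⟩
    exact ⟨g, rfl⟩

theorem inndiagPSU_eq_range : Cfsg.inndiagPSU n F q = (pstdHom n F q).range := by
  ext β
  rw [mem_inndiagPSU]
  constructor
  · rintro ⟨g, rfl⟩
    exact ⟨g, rfl⟩
  · rintro ⟨g, rfl⟩
    exact ⟨g, rfl⟩

/-- the kernel statement for the standard automorphisms (proved elsewhere) -/
def KerHyp (n : ℕ) (F : Type*) [Field F] [Fintype F] (q : ℕ) : Prop :=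
  ∀ (g : Cfsg.GU n F q) (σ : F ≃+* F), (pstd g σ : MulAut (Cfsg.PSU n F q)) = 1 →
    σ = 1 ∧ ∃ z : F, gm g = z • (1 : Matrix (Fin n) (Fin n) F)

theorem pstd_eq_pstd_iff (hK : KerHyp n F q) (g g' : Cfsg.GU n F q) (σ σ' : F ≃+* F) :
    (pstd g σ : MulAut (Cfsg.PSU n F q)) = pstd g' σ' ↔
      σ = σ' ∧ ∃ z : F, gm g' = z • gm g := by
  constructor
  · intro h
    have h1 : (pstd g σ : MulAut (Cfsg.PSU n F q))⁻¹ * pstd g' σ' = 1 := by
      rw [h, inv_mul_cancel]
    have h2 : (pstd g σ : MulAut (Cfsg.PSU n F q))⁻¹ = pstd (guMap σ⁻¹ g⁻¹) σ⁻¹ := by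
      rw [inv_eq_iff_mul_eq_one, pstd_mul, ← guMap_mul_apply, mul_inv_cancel, guMap_one_apply,
        mul_inv_cancel, pstd_one_one]
    rw [h2, pstd_mul] at h1
    obtain ⟨hσ, z, hz⟩ := hK _ _ h1
    have hσ' : σ = σ' := by
      rw [inv_mul_eq_one] at hσ
      exact hσ
    refine ⟨hσ', σ z, ?_⟩
    rw [gm_mul, gm_guMap, gm_guMap] at hz
    have h3 := congrArg (fun M : Matrix (Fin n) (Fin n) F => M.map σ) hz
    beta_reduce at h3
    rw [Matrix.map_mul] at h3
    have e1 : ∀ M : Matrix (Fin n) (Fin n) F, (M.map (σ⁻¹ : F ≃+* F)).map σ = M := by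
      intro M
      ext i j
      show σ (σ⁻¹ (M i j)) = M i j
      exact σ.apply_symm_apply _
    rw [e1, e1] at h3
    have e2 : (z • (1 : Matrix (Fin n) (Fin n) F)).map σ = σ z • (1 : Matrix (Fin n) (Fin n) F) := by
      ext i j
      simp only [Matrix.map_apply, Matrix.smul_apply, Matrix.one_apply, smul_eq_mul]
      split_ifs <;> simp
    rw [e2] at h3
    calc gm g' = gm g * (gm g⁻¹ * gm g') := by
          rw [← Matrix.mul_assoc, gm_mul_inv, Matrix.one_mul]
      _ = σ z • gm g := by rw [h3, Matrix.mul_smul, Matrix.mul_one]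
  · rintro ⟨rfl, z, hz⟩
    ext x
    obtain ⟨A, rfl⟩ := pr_surjective x
    rw [pstd_pr, pstd_pr]
    congr 1
    apply suMat_injective
    rw [suMat_stdSU, suMat_stdSU]
    rcases Nat.eq_zero_or_pos n with hn | hn
    · subst hn
      exact Subsingleton.elim _ _
    have hz0 : z ≠ 0 := by
      rintro rfl
      rw [zero_smul] at hz
      have h1 := gm_mul_inv g'
      rw [hz, Matrix.zero_mul] at h1
      have h2 := congrFun (congrFun h1 ⟨0, hn⟩) ⟨0, hn⟩
      simp at h2
    have hinv : gm g'⁻¹ = z⁻¹ • gm g⁻¹ := by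
      have h1 : gm g' * (z⁻¹ • gm g⁻¹) = 1 := by
        rw [hz, Matrix.smul_mul, Matrix.mul_smul, smul_smul, mul_inv_cancel₀ hz0, one_smul,
          gm_mul_inv]
      calc gm g'⁻¹ = gm g'⁻¹ * (gm g' * (z⁻¹ • gm g⁻¹)) := by rw [h1, Matrix.mul_one]
        _ = z⁻¹ • gm g⁻¹ := by rw [← Matrix.mul_assoc, gm_inv_mul, Matrix.one_mul]
    rw [hz, hinv, Matrix.smul_mul, Matrix.smul_mul, Matrix.mul_smul, smul_smul,
      mul_inv_cancel₀ hz0, one_smul]

end Cfsg.Agent.Helper14.AutPSU
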