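import Mathlib
import Cfsg.Agent.Helper37.AutUT
import Cfsg.Agent.Helper14.PsuA
import Cfsg.Agent.Helper14.AutUnitary
import Cfsg.Agent.Helper14.AutFrob
import Cfsg.Agent.Helper45.GUBasic

/-!
Helper14: automorphisms of `PSU_n(q)`, part B.  The kernel statement from helper37's
`pstd_eq_id`, the involution `τ = (x ↦ x^q)` of `F`, and the graph automorphisms `pstd g τ`.
-/

set_option autoImplicit false
set_option linter.unusedSectionVars false
set_option linter.unusedVariables false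

namespace Cfsg.Agent.Helper14.AutPSU

open Matrix Cfsg.Agent.Helper13 Cfsg.Agent.Helper37.AutU Cfsg.Agent.Helper14.AutPSL

variable {F : Type*} [Field F] [Fintype F] {p f q n : ℕ}

theorem kerHyp_of_hyp (H : Hyp F p f q n) : KerHyp n F q := by
  intro g σ h
  have hid : ∀ x, pstd g σ x = x := fun x => by
    have := congrArg (fun β : MulAut (Cfsg.PSU n F q) => β x) h
    exact this
  obtain ⟨hσ, ζ, -, hζ⟩ := pstd_eq_id H g σ hid
  refine ⟨hσ, ζ, ?_⟩
  ext i j
  have h1 := congrFun (hζ (Pi.single j 1)) i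
  rw [Matrix.mulVec_single_one, Matrix.col_apply] at h1
  rw [h1, Matrix.smul_apply, Matrix.one_apply, Pi.smul_apply, Pi.single_apply]

/-- the standing hypotheses of helper37 from the hypotheses of the statements -/
theorem exists_hyp (hF : Fintype.card F = q ^ 2) (hn : 3 ≤ n) (h32 : ¬ (n = 3 ∧ q = 2)) :
    ∃ p f : ℕ, Hyp F p f q n := by
  obtain ⟨p, hchar, k, hp, hk⟩ := FiniteField.card' F
  have hq2 : q ^ 2 = p ^ (k : ℕ) := by rw [← hF, hk]
  have hdvd : q ∣ p ^ (k : ℕ) := by rw [← hq2]; exact dvd_pow_self q (by norm_num)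
  obtain ⟨f, -, hf⟩ := (Nat.dvd_prime_pow hp).mp hdvd
  have hq := two_le_of_card_eq_sq hF
  refine ⟨p, f, hp, hf, ?_, hF, hn, h32⟩
  by_contra h0
  have : f = 0 := by omega
  rw [this, pow_zero] at hf
  omega

section tau

variable (τ : F ≃+* F) (hτ : ∀ a, τ a = a ^ q)

include hτ in
theorem tau_mul_self (hF : Fintype.card F = q ^ 2) : τ * τ = 1 := by
  ext a
  show τ (τ a) = a
  rw [hτ, hτ, ← pow_mul, ← pow_two, ← hF, FiniteField.pow_card]

include hτ in
theorem tau_ne_one (hF : Fintype.card F = q ^ 2) : τ ≠ 1 := by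
  intro h1
  obtain ⟨γ, hγ0, hγ⟩ := exists_gen hF
  have hq := two_le_of_card_eq_sq hF
  have h2 : γ ^ q = γ := by
    rw [← hτ, h1]
    rfl
  have h3 : γ ^ (q - 1) = 1 := by
    have : γ ^ (q - 1) * γ = 1 * γ := by
      rw [← pow_succ, Nat.sub_add_cancel (by omega), h2, one_mul]
    exact mul_right_cancel₀ hγ0 this
  have h4 := hγ _ h3
  have h5 := Nat.le_of_dvd (by omega) h4
  have h6 : q - 1 < q ^ 2 - 1 := by
    have : q < q ^ 2 := by nlinarith
    omega
  omega

include hτ in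
theorem orderOf_tau (hF : Fintype.card F = q ^ 2) : orderOf τ = 2 := by
  apply orderOf_eq_prime
  · rw [pow_two]
    exact tau_mul_self τ hτ hF
  · exact tau_ne_one τ hτ hF

include hτ in
/-- an involution of `F` is `τ` -/
theorem eq_tau_of_orderOf (H : Hyp F p f q n) (σ : F ≃+* F) (hσ : orderOf σ = 2) : σ = τ := by
  have : Fact p.Prime := ⟨H.hp⟩
  have hF' : Fintype.card F = p ^ (2 * f) := by
    rw [H.hF, H.hq, ← pow_mul, mul_comm]
  have h1 := involution_eq_pow hF' σ hσ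
  ext a
  rw [h1, hτ, H.hq]
  congr 2
  omega

theorem exists_tau (hF : Fintype.card F = q ^ 2) : ∃ τ : F ≃+* F, ∀ a, τ a = a ^ q := by
  obtain ⟨bar, hbar⟩ := Cfsg.Agent.Helper45.GU.exists_bar hF
  have hbij : Function.Bijective bar := ⟨bar.injective,
    Finite.injective_iff_surjective.mp bar.injective⟩
  refine ⟨RingEquiv.ofBijective bar hbij, fun a => ?_⟩
  show bar a = a ^ q
  exact hbar a

include hτ in
theorem gm_transpose_mul_map (g : Cfsg.GU n F q) : (gm g)ᵀ * (gm g).map τ = 1 :=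
  (mem_GU_iff τ q hτ (g : GL (Fin n) F)).mp g.2

include hτ in
theorem gm_map_mul_transpose (g : Cfsg.GU n F q) : (gm g).map τ * (gm g)ᵀ = 1 :=
  _root_.mul_eq_one_comm.mp (gm_transpose_mul_map τ hτ g)

include hτ in
theorem gm_guMap_inv (g : Cfsg.GU n F q) : gm (guMap τ g⁻¹) = (gm g)ᵀ := by
  have h1 : gm (guMap τ g⁻¹) * gm (guMap τ g) = 1 := by
    rw [← gm_mul, ← map_mul, inv_mul_cancel, map_one, gm_one]
  rw [gm_guMap τ g] at h1
  calc gm (guMap τ g⁻¹) = gm (guMap τ g⁻¹) * ((gm g).map τ * (gm g)ᵀ) := by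
        rw [gm_map_mul_transpose τ hτ, Matrix.mul_one]
    _ = (gm g)ᵀ := by rw [← Matrix.mul_assoc, h1, Matrix.one_mul]

/-- conjugating a graph automorphism by an inner-diagonal one -/
theorem conj_gpu (h g : Cfsg.GU n F q) :
    pstdHom n F q h * pstd g τ * (pstdHom n F q h)⁻¹ = pstd (h * g * guMap τ h⁻¹) τ := by
  rw [← map_inv, pstdHom_apply, pstdHom_apply, pstd_mul, pstd_mul, guMap_one_apply, one_mul,
    mul_one]

include hτ in
theorem gm_conj (h g : Cfsg.GU n F q) :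
    gm (h * g * guMap τ h⁻¹) = gm h * gm g * (gm h)ᵀ := by
  rw [gm_mul, gm_mul, gm_guMap_inv τ hτ]

theorem isGraphAutClass_gpu (h3 : 3 ≤ n) (hτ2 : orderOf τ = 2) (g : Cfsg.GU n F q) :
    Cfsg.IsGraphAutClassPSU (pstd g τ : MulAut (Cfsg.PSU n F q)) := by
  refine ⟨h3, pstdHom n F q g, fldHom n F q τ, τ, ?_, ?_, ?_, pstd_eq_mul g τ⟩
  · rw [hτ2]
    exact even_two
  · exact (isInnerDiagonal_iff _).mpr ⟨g, rfl⟩
  · exact (isFieldAutOf_iff τ _).mpr rfl

include hτ in
theorem gpu_mul_self (hF : Fintype.card F = q ^ 2) (g : Cfsg.GU n F q) :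
    (pstd g τ : MulAut (Cfsg.PSU n F q)) * pstd g τ = pstdHom n F q (g * guMap τ g) := by
  rw [pstd_mul, tau_mul_self τ hτ hF, pstdHom_apply]

include hτ in
theorem orderOf_gpu (H : Hyp F p f q n) (g : Cfsg.GU n F q)
    (hg : (gm g)ᵀ = gm g ∨ (gm g)ᵀ = -gm g) :
    orderOf (pstd g τ : MulAut (Cfsg.PSU n F q)) = 2 := by
  have hK := kerHyp_of_hyp H
  apply orderOf_eq_prime
  · rw [pow_two, gpu_mul_self τ hτ H.hF, pstdHom_apply, ← pstd_one_one]
    apply Eq.symm
    rw [pstd_eq_pstd_iff hK]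
    refine ⟨rfl, ?_⟩
    rw [gm_one, gm_mul, gm_guMap]
    have h1 := gm_transpose_mul_map τ hτ g
    rcases hg with hg | hg
    · refine ⟨1, ?_⟩
      rw [hg] at h1
      rw [h1, one_smul]
    · refine ⟨-1, ?_⟩
      rw [hg, Matrix.neg_mul] at h1
      rw [neg_smul, one_smul, ← h1, neg_neg]
  · intro h1
    exact tau_ne_one τ hτ H.hF (hK _ _ h1).1

include hτ in
/-- involutory graph automorphisms are the `pstd g τ` with `g` symmetric or skew -/
theorem exists_gpu_of_isGraphAutClass (H : Hyp F p f q n) {γ : MulAut (Cfsg.PSU n F q)}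
    (hγ : Cfsg.IsGraphAutClassPSU γ) (h2 : orderOf γ = 2) :
    ∃ g : Cfsg.GU n F q, γ = pstd g τ ∧ ((gm g)ᵀ = gm g ∨ (gm g)ᵀ = -gm g) := by
  have hK := kerHyp_of_hyp H
  obtain ⟨-, δ, φ, σ, hσ, hδ, hφ, rfl⟩ := hγ
  obtain ⟨g, rfl⟩ := (isInnerDiagonal_iff δ).mp hδ
  rw [(isFieldAutOf_iff σ φ).mp hφ, ← pstd_eq_mul] at h2 ⊢
  have hsq : (pstd g σ : MulAut (Cfsg.PSU n F q)) * pstd g σ = 1 := by
    rw [← pow_two, ← h2]
    exact pow_orderOf_eq_one _
  rw [pstd_mul] at hsq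
  obtain ⟨hσσ, z, hz⟩ := hK _ _ hsq
  have hσ1 : σ ≠ 1 := by
    rintro rfl
    rw [orderOf_one] at hσ
    exact absurd hσ (by decide)
  have hσ2 : orderOf σ = 2 := by
    apply orderOf_eq_prime
    · rw [pow_two]
      exact hσσ
    · exact hσ1
  have hστ : σ = τ := eq_tau_of_orderOf τ hτ H σ hσ2
  subst hστ
  refine ⟨g, rfl, ?_⟩
  rw [gm_mul, gm_guMap] at hz
  -- `g * ḡ = z`, `ḡ = (gᵀ)⁻¹`, so `g = z gᵀ`
  have h1 : gm g = z • (gm g)ᵀ := by
    calc gm g = gm g * ((gm g).map σ * (gm g)ᵀ) := by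
          rw [gm_map_mul_transpose σ hτ, Matrix.mul_one]
      _ = z • (gm g)ᵀ := by rw [← Matrix.mul_assoc, hz, Matrix.smul_mul, Matrix.one_mul]
  have h3 := congrArg Matrix.transpose h1
  rw [Matrix.transpose_smul, Matrix.transpose_transpose] at h3
  have h4 : gm g = (z * z) • gm g := by
    rw [← smul_smul, ← h3, ← h1]
  have hne : ∃ i j, gm g i j ≠ 0 := by
    by_contra hcon
    push Not at hcon
    have h0 : gm g = 0 := by
      ext i j
      exact hcon i j
    have h5 := gm_mul_inv g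
    rw [h0, Matrix.zero_mul] at h5
    have hn := H.hn
    have h6 := congrFun (congrFun h5 ⟨0, by omega⟩) ⟨0, by omega⟩
    simp at h6
  obtain ⟨i, j, hij⟩ := hne
  have h5 := congrFun (congrFun h4 i) j
  rw [Matrix.smul_apply, smul_eq_mul] at h5
  have h6 : (z - 1) * (z + 1) = 0 := by
    have : (z * z - 1) * gm g i j = 0 := by
      rw [sub_mul, one_mul, ← h5, sub_self]
    rcases mul_eq_zero.mp this with h | h
    · linear_combination h
    · exact absurd h hij
  rcases mul_eq_zero.mp h6 with h | h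
  · left
    rw [h3, sub_eq_zero.mp h, one_smul]
  · right
    rw [h3, eq_neg_of_add_eq_zero_left h, neg_smul, one_smul]

end tau

end Cfsg.Agent.Helper14.AutPSU
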