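import Mathlib
import Cfsg.Agent.Helper14.AutInndiag

/-!
Helper14: graph automorphisms `c(g) ι` of `PSL_n(F)`: conjugation formula and the centraliser in the
inner-diagonal group.
-/

set_option autoImplicit false
set_option linter.unusedSectionVars false

namespace Cfsg.Agent.Helper14.AutPSL

open Matrix

variable {n : ℕ} {F : Type*} [Field F]

/-- the transpose of an invertible matrix -/
def glT (h : GL (Fin n) F) : GL (Fin n) F := glInvT h⁻¹

theorem glT_coe (h : GL (Fin n) F) :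
    ((glT h : GL (Fin n) F) : Matrix (Fin n) (Fin n) F) = (h : Matrix (Fin n) (Fin n) F)ᵀ := by
  unfold glT
  rw [glInvT_coe, inv_inv]

/-- the graph automorphism `c(g) ι` -/
def gph (g : GL (Fin n) F) : MulAut (Matrix.ProjectiveSpecialLinearGroup (Fin n) F) :=
  pslOf (slConj g) * pslOf slInvT

theorem conj_gph (h g : GL (Fin n) F) :
    pslOf (slConj h) * gph g * (pslOf (slConj h))⁻¹ = gph (h * g * glT h) := by
  unfold gph
  have e := conj_invT_conj (n := n) (F := F) h⁻¹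
  rw [slConj_inv, map_inv] at e
  rw [slConj_mul, slConj_mul, map_mul, map_mul]
  unfold glT
  rw [← e]
  group

theorem gph_eq_gph_iff (hn : 2 ≤ n) (g g' : GL (Fin n) F) :
    gph g = gph g' ↔ g⁻¹ * g' ∈ Subgroup.center (GL (Fin n) F) := by
  unfold gph
  rw [mul_left_inj, ← inndiagHom_apply, ← inndiagHom_apply, ← ker_inndiagHom hn, MonoidHom.mem_ker,
    map_mul, map_inv, inv_mul_eq_one]

theorem mem_center_iff_smul (z : GL (Fin n) F) :
    z ∈ Subgroup.center (GL (Fin n) F) ↔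
      ∃ μ : Fˣ, (z : Matrix (Fin n) (Fin n) F) = (μ : F) • (1 : Matrix (Fin n) (Fin n) F) := by
  rw [Matrix.GeneralLinearGroup.center_eq_range_scalar]
  constructor
  · rintro ⟨μ, rfl⟩
    refine ⟨μ, ?_⟩
    rw [Matrix.GeneralLinearGroup.coe_scalar, Matrix.scalar_apply, ← Matrix.smul_one_eq_diagonal]
  · rintro ⟨μ, hμ⟩
    refine ⟨μ, ?_⟩
    apply Units.ext
    rw [Matrix.GeneralLinearGroup.coe_scalar, Matrix.scalar_apply, ← Matrix.smul_one_eq_diagonal, hμ]

theorem gph_eq_gph_iff' (hn : 2 ≤ n) (g g' : GL (Fin n) F) :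
    gph g = gph g' ↔ ∃ μ : Fˣ, (g' : Matrix (Fin n) (Fin n) F) =
      (μ : F) • (g : Matrix (Fin n) (Fin n) F) := by
  rw [gph_eq_gph_iff hn, mem_center_iff_smul]
  constructor
  · rintro ⟨μ, hμ⟩
    refine ⟨μ, ?_⟩
    have h1 : (g' : Matrix (Fin n) (Fin n) F) =
        (g : Matrix (Fin n) (Fin n) F) * ((g⁻¹ * g' : GL (Fin n) F) : Matrix (Fin n) (Fin n) F) := by
      rw [← Units.val_mul, mul_inv_cancel_left]
    rw [h1, hμ, Matrix.mul_smul, Matrix.mul_one]
  · rintro ⟨μ, hμ⟩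
    refine ⟨μ, ?_⟩
    rw [Units.val_mul, hμ, Matrix.mul_smul, ← Units.val_mul, inv_mul_cancel, Units.val_one]

/-- the preimage in `GL_n` of the centraliser of `c(g) ι` -/
def simT (g : GL (Fin n) F) : Subgroup (GL (Fin n) F) :=
  (Cfsg.inndiagPSL n F ⊓ Subgroup.centralizer {gph g}).comap (inndiagHom n F)

theorem map_simT (g : GL (Fin n) F) :
    (simT g).map (inndiagHom n F) = Cfsg.inndiagPSL n F ⊓ Subgroup.centralizer {gph g} := by
  unfold simT
  rw [Subgroup.map_comap_eq, ← inndiagPSL_eq_range, ← inf_assoc, inf_idem]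

theorem mem_simT (hn : 2 ≤ n) (g h : GL (Fin n) F) :
    h ∈ simT g ↔ ∃ μ : Fˣ, (h : Matrix (Fin n) (Fin n) F) * (g : Matrix (Fin n) (Fin n) F) *
      (h : Matrix (Fin n) (Fin n) F)ᵀ = (μ : F) • (g : Matrix (Fin n) (Fin n) F) := by
  unfold simT
  rw [Subgroup.mem_comap, Subgroup.mem_inf, inndiagHom_apply, Subgroup.mem_centralizer_iff]
  have key : (∀ y ∈ ({gph g} : Set _), y * pslOf (slConj h) = pslOf (slConj h) * y) ↔
      gph g = gph (h * g * glT h) := by
    rw [← conj_gph]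
    constructor
    · intro hc
      rw [← hc _ (Set.mem_singleton _), mul_inv_cancel_right]
    · intro hc y hy
      rw [Set.mem_singleton_iff] at hy
      rw [hy]
      have := congrArg (· * pslOf (slConj h)) hc
      simp only [inv_mul_cancel_right] at this
      exact this
  rw [key, gph_eq_gph_iff' hn]
  constructor
  · rintro ⟨-, μ, hμ⟩
    refine ⟨μ, ?_⟩
    rw [← hμ, Units.val_mul, Units.val_mul, glT_coe]
  · rintro ⟨μ, hμ⟩
    refine ⟨mem_inndiagPSL.mpr ⟨h, rfl⟩, μ, ?_⟩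
    rw [← hμ, Units.val_mul, Units.val_mul, glT_coe]

end Cfsg.Agent.Helper14.AutPSL
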