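import Mathlib
import Cfsg.Agent.Helper14.AutDescent
import Cfsg.Agent.Helper14.AutGraph

/-!
Helper14: automorphisms of `PSU_n(q)`, part C.  Matrix computations for the descent from the
unitary group over `F` to the fixed field of the involution `τ`.

`B, B', Y, Y'` are invertible matrices with `Y B̄ = c B` and `Y' B̄' = c' B'` (so `c⁻¹ Y = B B̄⁻¹`
is a Lang cocycle).  For `h` with `h Y hᵀ = z Y'`, the matrix `B'⁻¹ h B` is `τ`-fixed up to a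
scalar iff `h` is a unitary similitude.
-/

set_option autoImplicit false
set_option linter.unusedSectionVars false
set_option linter.unusedVariables false

namespace Cfsg.Agent.Helper14.AutPSU

open Matrix Cfsg.Agent.Helper14.AutPSL

variable {F : Type*} [Field F] {n : ℕ} (τ : F ≃+* F)

local notation "Mat" => Matrix (Fin n) (Fin n) F

/-- `B̄ = c Y⁻¹ B` -/
theorem map_eq_of_lang {B Y : GL (Fin n) F} {c : F}
    (hY : (Y : Mat) * (B : Mat).map τ = c • (B : Mat)) :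
    (B : Mat).map τ = c • (((Y⁻¹ : GL (Fin n) F) : Mat) * (B : Mat)) := by
  calc (B : Mat).map τ = ((Y⁻¹ : GL (Fin n) F) : Mat) * ((Y : Mat) * (B : Mat).map τ) := by
        rw [Units.inv_mul_cancel_left]
    _ = c • (((Y⁻¹ : GL (Fin n) F) : Mat) * (B : Mat)) := by rw [hY, Matrix.mul_smul]

/-- `B̄⁻¹ = c⁻¹ B⁻¹ Y` -/
theorem map_inv_eq_of_lang {B Y : GL (Fin n) F} {c : F} (hc : c ≠ 0)
    (hY : (Y : Mat) * (B : Mat).map τ = c • (B : Mat)) :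
    ((B⁻¹ : GL (Fin n) F) : Mat).map τ = c⁻¹ • (((B⁻¹ : GL (Fin n) F) : Mat) * (Y : Mat)) := by
  have h1 : ((B⁻¹ : GL (Fin n) F) : Mat).map τ * (B : Mat).map τ = 1 := by
    rw [← Matrix.map_mul, Units.inv_mul]
    ext i j
    simp [Matrix.one_apply]
  have h2 : (B : Mat).map τ * ((glMap τ B)⁻¹ : GL (Fin n) F) = 1 := by
    rw [← glMap_coe τ B, Units.mul_inv]
  have h3 : (c⁻¹ • (((B⁻¹ : GL (Fin n) F) : Mat) * (Y : Mat))) * (B : Mat).map τ = 1 := by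
    rw [Matrix.smul_mul, Matrix.mul_assoc, hY, Matrix.mul_smul, smul_smul, inv_mul_cancel₀ hc,
      one_smul, Units.inv_mul]
  calc ((B⁻¹ : GL (Fin n) F) : Mat).map τ
      = ((B⁻¹ : GL (Fin n) F) : Mat).map τ * ((B : Mat).map τ * ((glMap τ B)⁻¹ : GL (Fin n) F)) := by
        rw [h2, Matrix.mul_one]
    _ = (c⁻¹ • (((B⁻¹ : GL (Fin n) F) : Mat) * (Y : Mat))) *
          ((B : Mat).map τ * ((glMap τ B)⁻¹ : GL (Fin n) F)) := by
        rw [← Matrix.mul_assoc, h1, ← Matrix.mul_assoc, h3]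
    _ = c⁻¹ • (((B⁻¹ : GL (Fin n) F) : Mat) * (Y : Mat)) := by rw [h2, Matrix.mul_one]

/-- descent: a unitary `h` with `h Y hᵀ = z Y'` gives `B'⁻¹ h B` fixed by `τ` up to a scalar -/
theorem descent_map {B B' Y Y' h : GL (Fin n) F} {c c' z : F} (hc' : c' ≠ 0) (hz : z ≠ 0)
    (hY : (Y : Mat) * (B : Mat).map τ = c • (B : Mat))
    (hY' : (Y' : Mat) * (B' : Mat).map τ = c' • (B' : Mat))
    (hh : (h : Mat)ᵀ * (h : Mat).map τ = 1)
    (hz' : (h : Mat) * (Y : Mat) * (h : Mat)ᵀ = z • (Y' : Mat)) :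
    (((B'⁻¹ : GL (Fin n) F) : Mat) * (h : Mat) * (B : Mat)).map τ =
      (c'⁻¹ * z⁻¹ * c) • (((B'⁻¹ : GL (Fin n) F) : Mat) * (h : Mat) * (B : Mat)) := by
  have e1 : (Y' : Mat) * (h : Mat).map τ = z⁻¹ • ((h : Mat) * (Y : Mat)) := by
    have : z • ((Y' : Mat) * (h : Mat).map τ) = (h : Mat) * (Y : Mat) := by
      rw [← Matrix.smul_mul, ← hz', Matrix.mul_assoc, hh, Matrix.mul_one]
    rw [← this, smul_smul, inv_mul_cancel₀ hz, one_smul]
  rw [Matrix.map_mul, Matrix.map_mul, map_eq_of_lang τ hY, map_inv_eq_of_lang τ hc' hY',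
    Matrix.smul_mul, Matrix.smul_mul, Matrix.mul_smul, smul_smul, Matrix.mul_assoc _ (Y' : Mat),
    e1, Matrix.mul_smul, Matrix.smul_mul, smul_smul]
  have e2 : ((B'⁻¹ : GL (Fin n) F) : Mat) * ((h : Mat) * (Y : Mat)) *
      (((Y⁻¹ : GL (Fin n) F) : Mat) * (B : Mat)) = ((B'⁻¹ : GL (Fin n) F) : Mat) * (h : Mat) * (B : Mat) := by
    simp only [Matrix.mul_assoc, Units.mul_inv_cancel_left]
  rw [e2]
  congr 1
  ring

/-- lifting: if `y = B' P B⁻¹` with `P` fixed by `τ` satisfies `y Y yᵀ = z Y'`, then `y` is a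
unitary similitude -/
theorem lift_map {B B' Y Y' P : GL (Fin n) F} {c c' z : F} (hc : c ≠ 0) (hz : z ≠ 0)
    (hY : (Y : Mat) * (B : Mat).map τ = c • (B : Mat))
    (hY' : (Y' : Mat) * (B' : Mat).map τ = c' • (B' : Mat))
    (hP : (P : Mat).map τ = (P : Mat))
    (hz' : ((B' : Mat) * (P : Mat) * ((B⁻¹ : GL (Fin n) F) : Mat)) * (Y : Mat) *
      ((B' : Mat) * (P : Mat) * ((B⁻¹ : GL (Fin n) F) : Mat))ᵀ = z • (Y' : Mat)) :
    ((B' : Mat) * (P : Mat) * ((B⁻¹ : GL (Fin n) F) : Mat))ᵀ *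
      ((B' : Mat) * (P : Mat) * ((B⁻¹ : GL (Fin n) F) : Mat)).map τ = (z * c' * c⁻¹) • (1 : Mat) := by
  obtain ⟨y, hy⟩ : ∃ y : GL (Fin n) F, y = B' * P * B⁻¹ := ⟨_, rfl⟩
  have hyc : (y : Mat) = (B' : Mat) * (P : Mat) * ((B⁻¹ : GL (Fin n) F) : Mat) := by
    rw [hy]; rfl
  rw [← hyc] at hz' ⊢
  -- `ȳ = (c'/c) Y'⁻¹ y Y`
  have e1 : (y : Mat).map τ = (c' * c⁻¹) • (((Y'⁻¹ : GL (Fin n) F) : Mat) * (y : Mat) * (Y : Mat)) := by
    rw [hyc, Matrix.map_mul, Matrix.map_mul, map_eq_of_lang τ hY', map_inv_eq_of_lang τ hc hY, hP,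
      Matrix.smul_mul, Matrix.smul_mul, Matrix.mul_smul, smul_smul]
    have e0 : ((Y'⁻¹ : GL (Fin n) F) : Mat) * (B' : Mat) * (P : Mat) *
        (((B⁻¹ : GL (Fin n) F) : Mat) * (Y : Mat)) =
        ((Y'⁻¹ : GL (Fin n) F) : Mat) * ((B' : Mat) * (P : Mat) * ((B⁻¹ : GL (Fin n) F) : Mat)) * (Y : Mat) := by
      simp only [Matrix.mul_assoc]
    rw [e0]
  -- `Y'⁻¹ y Y = z⁻¹ (yᵀ)⁻¹`
  have e2 : (y : Mat)ᵀ * (((Y'⁻¹ : GL (Fin n) F) : Mat) * (y : Mat) * (Y : Mat)) * (y : Mat)ᵀ =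
      z • (y : Mat)ᵀ := by
    calc (y : Mat)ᵀ * (((Y'⁻¹ : GL (Fin n) F) : Mat) * (y : Mat) * (Y : Mat)) * (y : Mat)ᵀ
        = (y : Mat)ᵀ * ((Y'⁻¹ : GL (Fin n) F) : Mat) * ((y : Mat) * (Y : Mat) * (y : Mat)ᵀ) := by
          simp only [Matrix.mul_assoc]
      _ = z • (y : Mat)ᵀ := by
          rw [hz', Matrix.mul_smul, Matrix.mul_assoc, Units.inv_mul, Matrix.mul_one]
  have e3 : (y : Mat)ᵀ * (((Y'⁻¹ : GL (Fin n) F) : Mat) * (y : Mat) * (Y : Mat)) = z • (1 : Mat) := by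
    have hT : (y : Mat)ᵀ * ((glT y)⁻¹ : GL (Fin n) F) = 1 := by
      rw [← glT_coe y, Units.mul_inv]
    calc (y : Mat)ᵀ * (((Y'⁻¹ : GL (Fin n) F) : Mat) * (y : Mat) * (Y : Mat))
        = (y : Mat)ᵀ * (((Y'⁻¹ : GL (Fin n) F) : Mat) * (y : Mat) * (Y : Mat)) *
            ((y : Mat)ᵀ * ((glT y)⁻¹ : GL (Fin n) F)) := by rw [hT, Matrix.mul_one]
      _ = z • (1 : Mat) := by
          rw [← Matrix.mul_assoc, e2, Matrix.smul_mul, hT]
  rw [e1, Matrix.mul_smul, e3, smul_smul]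
  congr 1
  ring

/-- a scalar `d` with `yᵀ ȳ = d` is fixed by `τ` -/
theorem tau_fixed_of_herm (hττ : ∀ a, τ (τ a) = a) (hn : 0 < n) {y : Mat} {d : F}
    (h : yᵀ * y.map τ = d • (1 : Mat)) : τ d = d := by
  have h1 : (yᵀ * y.map τ).map τ = (yᵀ * y.map τ)ᵀ := by
    rw [Matrix.map_mul, Matrix.transpose_mul, Matrix.transpose_transpose, Matrix.transpose_map]
    have : (y.map τ).map τ = y := by
      ext i j
      exact hττ _
    rw [this]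
  rw [h] at h1
  have h2 := congrFun (congrFun h1 ⟨0, hn⟩) ⟨0, hn⟩
  simpa using h2

end Cfsg.Agent.Helper14.AutPSU
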