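import Mathlib
import Cfsg.Agent.Helper37.LangC
import Cfsg.Agent.Helper14.AutNF

/-!
Helper14: the Lang–Steinberg theorem for `GL(κ, F)` with respect to a field automorphism, for a
general index type (after Helper37's `lang_GL` for `Fin n`).
-/

set_option autoImplicit false
set_option linter.unusedSectionVars false

namespace Cfsg.Agent.Helper14.AutPSp

open Matrix Cfsg.Agent.Helper14.AutPSL Cfsg.Agent.Helper37.Lang

variable {κ : Type*} [Fintype κ] [DecidableEq κ] {F : Type*} [Field F]

/-- the semilinear map `v ↦ g σ(v)` -/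
def semiK (g : Matrix κ κ F) (σ : F ≃+* F) : (κ → F) →+ (κ → F) :=
  AddMonoidHom.mk' (fun v => g *ᵥ (fun i => σ (v i))) (by
    intro a b
    rw [← mulVec_add]
    congr 1
    ext i
    simp)

theorem semiK_apply (g : Matrix κ κ F) (σ : F ≃+* F) (v : κ → F) :
    semiK g σ v = g *ᵥ (fun i => σ (v i)) := rfl

theorem semiK_smul (g : Matrix κ κ F) (σ : F ≃+* F) (c : F) (v : κ → F) :
    semiK g σ (c • v) = σ c • semiK g σ v := by
  rw [semiK_apply, semiK_apply, ← mulVec_smul]
  congr 1
  ext i
  simp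

theorem semiK_smul_left (c : F) (g : Matrix κ κ F) (σ : F ≃+* F) (v : κ → F) :
    semiK (c • g) σ v = c • semiK g σ v := by
  rw [semiK_apply, semiK_apply, Matrix.smul_mulVec]

theorem semiK_smul_iterate (μ : F) (g : Matrix κ κ F) (σ : F ≃+* F) (k : ℕ) (v : κ → F) :
    ((semiK (μ • g) σ)^[k]) v = nrm σ k μ • ((semiK g σ)^[k]) v := by
  induction k with
  | zero => simp [nrm_zero]
  | succ k ih =>
    rw [Function.iterate_succ_apply', ih, semiK_smul_left, semiK_smul, Function.iterate_succ_apply',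
      smul_smul, nrm_succ]

/-- the twisted power `g σ(g) ⋯ σ^{k-1}(g)` -/
def NrmK (σ : F ≃+* F) (g : GL κ F) : ℕ → GL κ F
  | 0 => 1
  | k + 1 => g * glMap σ (NrmK σ g k)

theorem NrmK_zero (σ : F ≃+* F) (g : GL κ F) : NrmK σ g 0 = 1 := rfl

theorem NrmK_succ (σ : F ≃+* F) (g : GL κ F) (k : ℕ) :
    NrmK σ g (k + 1) = g * glMap σ (NrmK σ g k) := rfl

theorem semiK_iterate (σ : F ≃+* F) (g : GL κ F) (k : ℕ) (v : κ → F) :
    ((semiK (g : Matrix κ κ F) σ)^[k]) v =
      ((NrmK σ g k : GL κ F) : Matrix κ κ F) *ᵥ (fun i => (σ ^ k) (v i)) := by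
  induction k with
  | zero => simp [NrmK]
  | succ k ih =>
    rw [Function.iterate_succ_apply', ih, semiK_apply]
    show _ = ((g * glMap σ (NrmK σ g k) : GL κ F) : Matrix κ κ F) *ᵥ _
    rw [Units.val_mul, ← mulVec_mulVec, glMap_coe]
    congr 1
    ext i
    simp only [mulVec, dotProduct, map_sum, map_mul, Matrix.map_apply]
    apply Finset.sum_congr rfl
    intro j _
    rw [pow_succ']
    rfl

/-- **Lang–Steinberg for `GL(κ, F)`** -/
theorem lang_GLK [Fintype F] (σ : F ≃+* F) {r : ℕ} (hr : orderOf σ = r) (hr0 : 0 < r)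
    (g : GL κ F) (hg : ∀ v, ((semiK (g : Matrix κ κ F) σ)^[r]) v = v) :
    ∃ h : GL κ F, g * glMap σ h = h := by
  classical
  have hsp := span_fixed_eq_top σ hr hr0 (semiK (g : Matrix κ κ F) σ)
    (semiK_smul _ σ) hg
  obtain ⟨b, hbs, hspan, hli⟩ := exists_linearIndependent F
    {v : κ → F | semiK (g : Matrix κ κ F) σ v = v}
  rw [hsp] at hspan
  have hli' : LinearIndependent F (Subtype.val : b → (κ → F)) := hli
  have htop : ⊤ ≤ Submodule.span F (Set.range (Subtype.val : b → (κ → F))) := by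
    rw [Subtype.range_coe, hspan]
  let Bs := Module.Basis.mk hli' htop
  haveI : Fintype b := Fintype.ofFinite b
  have hcard : Fintype.card b = Fintype.card κ := by
    have h1 := Module.finrank_eq_card_basis Bs
    rw [Module.finrank_fintype_fun_eq_card] at h1
    exact h1.symm
  let e : κ ≃ b := (Fintype.equivOfCardEq hcard).symm
  let h : Matrix κ κ F := Matrix.of (fun i j => (e j : κ → F) i)
  have hcol : ∀ j, h.col j = (e j : κ → F) := fun j => rfl
  have hliC : LinearIndependent F h.col := by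
    have := hli'.comp e e.injective
    exact this
  have hunit : IsUnit h := Matrix.linearIndependent_cols_iff_isUnit.mp hliC
  obtain ⟨hU, hhU⟩ := hunit
  refine ⟨hU, ?_⟩
  apply Units.ext
  rw [Units.val_mul, glMap_coe, hhU]
  ext i j
  have hfix : semiK (g : Matrix κ κ F) σ (e j : κ → F) = (e j : κ → F) :=
    hbs (e j).2
  have := congrFun hfix i
  rw [semiK_apply] at this
  rw [Matrix.mul_apply]
  exact this

end Cfsg.Agent.Helper14.AutPSp
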