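import Mathlib
import Cfsg.Agent.Helper14.PsuB
import Cfsg.Agent.Helper14.PsuC
import Cfsg.Agent.Helper14.SpF7
import Cfsg.Agent.Helper37.LangG
import Cfsg.Agent.Helper37.LangF
import Cfsg.Agent.Helper5.UnitaryCenter

/-!
Helper14: automorphisms of `PSU_n(q)`, part D.  The relation between a symmetric or skew unitary
matrix `g` and a symmetric or skew matrix `M₀` over the fixed field of `τ`; existence in both
directions (Lang for `GL_n`, hermitian matrices are `h h^*`).
-/

set_option autoImplicit false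
set_option linter.unusedSectionVars false
set_option linter.unusedVariables false

namespace Cfsg.Agent.Helper14.AutPSU

open Matrix Cfsg.Agent.Helper13 Cfsg.Agent.Helper37.AutU Cfsg.Agent.Helper14.AutPSL
  Cfsg.Agent.Helper37.Lang Cfsg.Agent.Helper14.AutPSp

variable {F : Type*} [Field F] {F₀ : Type*} [Field F₀] {p f q n : ℕ}
variable (i : F₀ →+* F) (τ : F ≃+* F)

local notation "Mat" => Matrix (Fin n) (Fin n) F
local notation "Mat₀" => Matrix (Fin n) (Fin n) F₀

/-- `GL_n(F₀) → GL_n(F)` -/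
def glI : GL (Fin n) F₀ →* GL (Fin n) F := Matrix.GeneralLinearGroup.map i

theorem glI_coe (M₀ : GL (Fin n) F₀) : ((glI i M₀ : GL (Fin n) F) : Mat) = (M₀ : Mat₀).map i := rfl

theorem glI_injective : Function.Injective (glI (n := n) i) := by
  intro a b h
  apply Units.ext
  have h1 := congrArg (fun k : GL (Fin n) F => (k : Mat)) h
  simp only [glI_coe] at h1
  ext x y
  have h2 := congrFun (congrFun h1 x) y
  simp only [Matrix.map_apply] at h2
  exact i.injective h2

/-- scalar multiple of an invertible matrix -/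
def scl (c : F) (hc : c ≠ 0) (A : GL (Fin n) F) : GL (Fin n) F :=
  ⟨c • (A : Mat), c⁻¹ • ((A⁻¹ : GL (Fin n) F) : Mat), by
    rw [Matrix.smul_mul, Matrix.mul_smul, smul_smul, mul_inv_cancel₀ hc, one_smul, Units.mul_inv], by
    rw [Matrix.smul_mul, Matrix.mul_smul, smul_smul, inv_mul_cancel₀ hc, one_smul, Units.inv_mul]⟩

theorem scl_coe (c : F) (hc : c ≠ 0) (A : GL (Fin n) F) : ((scl c hc A : GL (Fin n) F) : Mat) = c • (A : Mat) :=
  rfl

theorem map_tau_smul (c : F) (A : Mat) : (c • A).map τ = τ c • A.map τ := by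
  ext a b
  simp only [Matrix.map_apply, Matrix.smul_apply, smul_eq_mul, map_mul]

section descent

variable (hi : ∀ a : F, τ a = a ↔ a ∈ i.range)

include hi in
theorem map_i_fixed (A₀ : Mat₀) : (A₀.map i).map τ = A₀.map i := by
  ext a b
  simp only [Matrix.map_apply]
  exact (hi _).mpr ⟨_, rfl⟩

include hi in
theorem exists_map_eq (A : Mat) (hA : A.map τ = A) : ∃ A₀ : Mat₀, A₀.map i = A := by
  have hfix : ∀ a b, τ (A a b) = A a b := fun a b => congrFun (congrFun hA a) b
  choose M₀ hM₀ using fun a b => (hi _).mp (hfix a b)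
  refine ⟨Matrix.of M₀, ?_⟩
  ext a b
  rw [Matrix.map_apply, Matrix.of_apply, hM₀]

include hi in
theorem exists_glI_eq (P : GL (Fin n) F) (hP : (P : Mat).map τ = (P : Mat)) :
    ∃ P₀ : GL (Fin n) F₀, glI i P₀ = P := by
  classical
  obtain ⟨A₀, hA₀⟩ := exists_map_eq i τ hi (P : Mat) hP
  have hdet : A₀.det ≠ 0 := by
    intro h0
    have h1 : (P : Mat).det = 0 := by
      rw [← hA₀, ← RingHom.mapMatrix_apply, ← RingHom.map_det, h0, map_zero]
    exact ((Matrix.isUnit_iff_isUnit_det _).mp (Units.isUnit P)).ne_zero h1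
  refine ⟨Matrix.GeneralLinearGroup.mkOfDetNeZero A₀ hdet, ?_⟩
  apply Units.ext
  rw [glI_coe]
  exact hA₀

include hi in
theorem glI_fixed (M₀ : GL (Fin n) F₀) : ((glI i M₀ : GL (Fin n) F) : Mat).map τ = (glI i M₀ : GL (Fin n) F) := by
  rw [glI_coe]
  exact map_i_fixed i τ hi _

include hi in
theorem glI_inv_fixed (M₀ : GL (Fin n) F₀) :
    (((glI i M₀)⁻¹ : GL (Fin n) F) : Mat).map τ = ((glI i M₀)⁻¹ : GL (Fin n) F) := by
  rw [← map_inv]
  exact glI_fixed i τ hi _

end descent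

variable [Fintype F]

/-- the relation between a unitary matrix `g` and a matrix `M₀` over the fixed field -/
def Rel (g : Cfsg.GU n F q) (M₀ : GL (Fin n) F₀) : Prop :=
  ∃ (B Y : GL (Fin n) F) (k c : F), k ≠ 0 ∧ c ≠ 0 ∧ gm g = k • (Y : Mat) ∧
    (Y : Mat) = (B : Mat) * ((glI i M₀ : GL (Fin n) F) : Mat) * (B : Mat)ᵀ ∧
    (Y : Mat) * (B : Mat).map τ = c • (B : Mat)

theorem Rel.transpose_iff {g : Cfsg.GU n F q} {M₀ : GL (Fin n) F₀} (h : Rel (q := q) i τ g M₀) (e : F₀) :
    (gm g)ᵀ = i e • gm g ↔ (M₀ : Mat₀)ᵀ = e • (M₀ : Mat₀) := by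
  obtain ⟨B, Y, k, c, hk, hc, hg, hY, -⟩ := h
  have key : (gm g)ᵀ = i e • gm g ↔ ((glI i M₀ : GL (Fin n) F) : Mat)ᵀ = i e • ((glI i M₀ : GL (Fin n) F) : Mat) := by
    rw [hg, hY, Matrix.transpose_smul, Matrix.transpose_mul, Matrix.transpose_mul,
      Matrix.transpose_transpose, ← Matrix.mul_assoc]
    constructor
    · intro h1
      have h2 : (B : Mat) * ((glI i M₀ : GL (Fin n) F) : Mat)ᵀ * (B : Mat)ᵀ =
          (B : Mat) * (i e • ((glI i M₀ : GL (Fin n) F) : Mat)) * (B : Mat)ᵀ := by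
        have h3 := congrArg (fun X : Mat => k⁻¹ • X) h1
        simp only [smul_smul, inv_mul_cancel₀ hk, one_smul] at h3
        rw [h3, mul_comm, mul_assoc, mul_inv_cancel₀ hk, mul_one, Matrix.mul_smul, Matrix.smul_mul]
      have h4 := congrArg (fun X : Mat => ((B⁻¹ : GL (Fin n) F) : Mat) * X * ((glT B)⁻¹ : GL (Fin n) F)) h2
      beta_reduce at h4
      have hT : (B : Mat)ᵀ * ((glT B)⁻¹ : GL (Fin n) F) = 1 := by
        rw [← glT_coe B, Units.mul_inv]
      simp only [Matrix.mul_assoc, hT, Matrix.mul_one, Units.inv_mul_cancel_left] at h4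
      exact h4
    · intro h1
      rw [h1, Matrix.mul_smul, Matrix.smul_mul, smul_comm]
  rw [key, glI_coe, ← Matrix.transpose_map]
  constructor
  · intro h1
    ext a b
    have h2 := congrFun (congrFun h1 a) b
    simp only [Matrix.map_apply, Matrix.smul_apply, smul_eq_mul, ← map_mul] at h2
    exact i.injective h2
  · intro h1
    rw [h1]
    ext a b
    simp only [Matrix.map_apply, Matrix.smul_apply, smul_eq_mul, map_mul]

theorem Rel.symm_iff {g : Cfsg.GU n F q} {M₀ : GL (Fin n) F₀} (h : Rel (q := q) i τ g M₀) :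
    (gm g)ᵀ = gm g ↔ (M₀ : Mat₀)ᵀ = (M₀ : Mat₀) := by
  have := h.transpose_iff i τ 1
  rwa [map_one, one_smul, one_smul] at this

theorem Rel.skew_iff {g : Cfsg.GU n F q} {M₀ : GL (Fin n) F₀} (h : Rel (q := q) i τ g M₀) :
    (gm g)ᵀ = -gm g ↔ (M₀ : Mat₀)ᵀ = -(M₀ : Mat₀) := by
  have := h.transpose_iff i τ (-1)
  rwa [map_neg, map_one, neg_smul, one_smul, neg_smul, one_smul] at this

end Cfsg.Agent.Helper14.AutPSU
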