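import Mathlib
import Cfsg.Agent.Helper14.PsuD

/-!
Helper14: automorphisms of `PSU_n(q)`, part E.  Every symmetric or skew unitary matrix is related
to a matrix over the fixed field (Lang), and conversely (hermitian matrices are `h h^*`).
-/

set_option autoImplicit false
set_option linter.unusedSectionVars false
set_option linter.unusedVariables false

namespace Cfsg.Agent.Helper14.AutPSU

open Matrix Cfsg.Agent.Helper13 Cfsg.Agent.Helper37.AutU Cfsg.Agent.Helper14.AutPSL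
  Cfsg.Agent.Helper37.Lang Cfsg.Agent.Helper14.AutPSp

variable {F : Type*} [Field F] [Fintype F] {F₀ : Type*} [Field F₀] {p f q n : ℕ}
variable (i : F₀ →+* F) (τ : F ≃+* F)

local notation "Mat" => Matrix (Fin n) (Fin n) F
local notation "Mat₀" => Matrix (Fin n) (Fin n) F₀

theorem gl_ne_zero (hn : 0 < n) (A : GL (Fin n) F) : (A : Mat) ≠ 0 := by
  intro h0
  have h5 := Units.mul_inv A
  rw [h0, Matrix.zero_mul] at h5
  have h6 := congrFun (congrFun h5 ⟨0, hn⟩) ⟨0, hn⟩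
  simp at h6

/-- Lang: a symmetric or skew unitary matrix comes from a matrix over the fixed field -/
theorem exists_rel_of_transpose (hτ : ∀ a, τ a = a ^ q) (hF : Fintype.card F = q ^ 2)
    (hi : ∀ a : F, τ a = a ↔ a ∈ i.range) (hn : 0 < n)
    (g : Cfsg.GU n F q) (e : F) (he : e = 1 ∨ e = -1) (hg : (gm g)ᵀ = e • gm g) :
    ∃ M₀ : GL (Fin n) F₀, Rel (q := q) i τ g M₀ := by
  classical
  have hτ2 := orderOf_tau τ hτ hF
  have hττ' := tau_mul_self τ hτ hF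
  have hττ : ∀ a, τ (τ a) = a := fun a => by
    have := congrArg (fun s : F ≃+* F => s a) hττ'
    exact this
  have heτ : τ e = e := by
    rcases he with rfl | rfl
    · exact map_one τ
    · rw [map_neg, map_one]
  have hee : e * e = 1 := by
    rcases he with rfl | rfl <;> ring
  have he0 : e ≠ 0 := by
    intro h0
    rw [h0, mul_zero] at hee
    exact zero_ne_one hee
  obtain ⟨ζ, hζ0, hζ⟩ := exists_nrm_eq τ hτ2 (by norm_num) he0 heτ
  rw [nrm_two] at hζ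
  -- `G₁ = ζ g`
  obtain ⟨G₁, hG₁⟩ : ∃ G₁ : GL (Fin n) F, (G₁ : Mat) = ζ • gm g :=
    ⟨scl ζ hζ0 (g : GL (Fin n) F), rfl⟩
  have hgg : e • (gm g * (gm g).map τ) = 1 := by
    rw [← Matrix.smul_mul, ← hg]
    exact gm_transpose_mul_map τ hτ g
  have h1 : (G₁ : Mat) * (G₁ : Mat).map τ = 1 := by
    rw [hG₁, map_tau_smul, Matrix.smul_mul, Matrix.mul_smul, smul_smul, mul_comm (ζ) (τ ζ),
      mul_comm (τ ζ) ζ, hζ]
    exact hgg
  have h1' : (G₁ : Mat).map τ = ((G₁⁻¹ : GL (Fin n) F) : Mat) := by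
    calc (G₁ : Mat).map τ = ((G₁⁻¹ : GL (Fin n) F) : Mat) * ((G₁ : Mat) * (G₁ : Mat).map τ) := by
          rw [Units.inv_mul_cancel_left]
      _ = ((G₁⁻¹ : GL (Fin n) F) : Mat) := by rw [h1, Matrix.mul_one]
  have hL : ∀ v, ((semiK (G₁ : Mat) τ)^[2]) v = v := by
    intro v
    rw [Function.iterate_succ, Function.iterate_one, Function.comp_apply, semiK_apply, semiK_apply,
      map_mulVec' τ, Matrix.mulVec_mulVec, h1, Matrix.one_mulVec]
    ext j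
    exact hττ _
  obtain ⟨B, hB⟩ := lang_GLK τ hτ2 (by norm_num) G₁ hL
  have hB' : (G₁ : Mat) * (B : Mat).map τ = (1 : F) • (B : Mat) := by
    have := congrArg (fun k : GL (Fin n) F => (k : Mat)) hB
    rw [one_smul]
    exact this
  -- `M₁ = B⁻¹ G₁ B⁻ᵀ`
  obtain ⟨M₁, hM₁⟩ : ∃ M₁ : GL (Fin n) F, M₁ = B⁻¹ * G₁ * glT B⁻¹ := ⟨_, rfl⟩
  have hM₁c : (M₁ : Mat) = ((B⁻¹ : GL (Fin n) F) : Mat) * (G₁ : Mat) * ((B⁻¹ : GL (Fin n) F) : Mat)ᵀ := by
    rw [hM₁, Units.val_mul, Units.val_mul, glT_coe]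
  have hG₁T : (G₁ : Mat)ᵀ = e • (G₁ : Mat) := by
    rw [hG₁, Matrix.transpose_smul, hg, smul_comm]
  have hM₁τ : (M₁ : Mat).map τ = e • (M₁ : Mat) := by
    have hBi := map_inv_eq_of_lang τ one_ne_zero hB'
    rw [inv_one, one_smul] at hBi
    rw [hM₁c, Matrix.map_mul, Matrix.map_mul, Matrix.transpose_map, hBi, h1',
      Matrix.transpose_mul, hG₁T, Matrix.smul_mul, Matrix.mul_smul]
    congr 1
    simp only [Matrix.mul_assoc, Units.mul_inv_cancel_left]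
  obtain ⟨c, hc0, hcfix⟩ := exists_smul_fixed τ hM₁τ (gl_ne_zero hn M₁)
  obtain ⟨M₀, hM₀⟩ := exists_glI_eq i τ hi (scl c hc0 M₁) hcfix
  have hM₀c : ((glI i M₀ : GL (Fin n) F) : Mat) = c • (M₁ : Mat) := by
    rw [hM₀]; rfl
  refine ⟨M₀, B, scl c hc0 G₁, (c * ζ)⁻¹, c, inv_ne_zero (mul_ne_zero hc0 hζ0), hc0, ?_, ?_, ?_⟩
  · rw [scl_coe, hG₁, smul_smul, smul_smul, mul_assoc, inv_mul_cancel₀ (mul_ne_zero hc0 hζ0), one_smul]
  · rw [scl_coe, hM₀c, hM₁c, Matrix.mul_smul, Matrix.smul_mul]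
    congr 1
    have hT : ((B⁻¹ : GL (Fin n) F) : Mat)ᵀ * (B : Mat)ᵀ = 1 := by
      rw [← Matrix.transpose_mul, Units.mul_inv, Matrix.transpose_one]
    simp only [Matrix.mul_assoc, hT, Matrix.mul_one, Units.mul_inv_cancel_left]
  · rw [scl_coe, Matrix.smul_mul, hB', one_smul]

/-- conversely, every symmetric or skew matrix over the fixed field comes from a unitary matrix -/
theorem exists_rel_of_transpose' (hτ : ∀ a, τ a = a ^ q) (hF : Fintype.card F = q ^ 2)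
    (hi : ∀ a : F, τ a = a ↔ a ∈ i.range) (hn : 0 < n)
    (M₀ : GL (Fin n) F₀) (e : F₀) (he : e = 1 ∨ e = -1) (hM : (M₀ : Mat₀)ᵀ = e • (M₀ : Mat₀)) :
    ∃ g : Cfsg.GU n F q, Rel (q := q) i τ g M₀ := by
  classical
  have hτ2 := orderOf_tau τ hτ hF
  have hττ' := tau_mul_self τ hτ hF
  have hττ : ∀ a, τ (τ a) = a := fun a => by
    have := congrArg (fun s : F ≃+* F => s a) hττ'
    exact this
  obtain ⟨Mh, hMh⟩ : ∃ Mh : GL (Fin n) F, Mh = glI i M₀ := ⟨_, rfl⟩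
  have hMhτ : (Mh : Mat).map τ = (Mh : Mat) := by rw [hMh]; exact glI_fixed i τ hi M₀
  have hMhiτ : ((Mh⁻¹ : GL (Fin n) F) : Mat).map τ = ((Mh⁻¹ : GL (Fin n) F) : Mat) := by
    rw [hMh]; exact glI_inv_fixed i τ hi M₀
  have hee : i e * i e = 1 := by
    rcases he with rfl | rfl
    · rw [map_one, mul_one]
    · rw [map_neg, map_one]; ring
  have hMhT : (Mh : Mat)ᵀ = i e • (Mh : Mat) := by
    rw [hMh, glI_coe, ← Matrix.transpose_map, hM]
    ext a b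
    simp only [Matrix.map_apply, Matrix.smul_apply, smul_eq_mul, map_mul]
  -- `(Mh⁻¹)ᵀ = e Mh⁻¹`
  have hMhiT : ((Mh⁻¹ : GL (Fin n) F) : Mat)ᵀ = i e • ((Mh⁻¹ : GL (Fin n) F) : Mat) := by
    have h1 : ((Mh⁻¹ : GL (Fin n) F) : Mat)ᵀ * (Mh : Mat)ᵀ = 1 := by
      rw [← Matrix.transpose_mul, Units.mul_inv, Matrix.transpose_one]
    rw [hMhT, Matrix.mul_smul] at h1
    calc ((Mh⁻¹ : GL (Fin n) F) : Mat)ᵀ
        = (i e * i e) • (((Mh⁻¹ : GL (Fin n) F) : Mat)ᵀ * ((Mh : Mat) * ((Mh⁻¹ : GL (Fin n) F) : Mat))) := by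
          rw [hee, one_smul, Units.mul_inv, Matrix.mul_one]
      _ = i e • ((i e • (((Mh⁻¹ : GL (Fin n) F) : Mat)ᵀ * (Mh : Mat))) * ((Mh⁻¹ : GL (Fin n) F) : Mat)) := by
          rw [Matrix.smul_mul, smul_smul, Matrix.mul_assoc]
      _ = i e • ((Mh⁻¹ : GL (Fin n) F) : Mat) := by rw [h1, Matrix.one_mul]
  -- `c₁` with `τ c₁ = e c₁`
  obtain ⟨c₁, hc₁0, hc₁⟩ : ∃ c₁ : F, c₁ ≠ 0 ∧ τ c₁ = i e * c₁ := by
    rcases he with rfl | rfl
    · exact ⟨1, one_ne_zero, by rw [map_one, map_one, mul_one]⟩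
    · obtain ⟨c, hc0, hc⟩ := Cfsg.Agent.Helper5.exists_trace_zero hF
      exact ⟨c, hc0, by rw [hτ, hc, map_neg, map_one]; ring⟩
  -- the hermitian matrix `X = c₁ Mh⁻¹`
  obtain ⟨X, hX⟩ : ∃ X : GL (Fin n) F, X = scl c₁ hc₁0 Mh⁻¹ := ⟨_, rfl⟩
  have hXc : (X : Mat) = c₁ • ((Mh⁻¹ : GL (Fin n) F) : Mat) := by rw [hX]; rfl
  have hXct : ct τ (X : Mat) = (X : Mat) := by
    unfold ct
    rw [hXc, map_tau_smul, hMhiτ, Matrix.transpose_smul, hMhiT, smul_smul, hc₁]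
    congr 1
    calc i e * c₁ * i e = (i e * i e) * c₁ := by ring
      _ = c₁ := by rw [hee, one_mul]
  obtain ⟨h, hhu, hXh⟩ := exists_eq_mul_ct hττ (tau_ne_one τ hτ hF) (X : Mat) (Units.isUnit X) hXct
  obtain ⟨B, hB⟩ : ∃ B : GL (Fin n) F, (B : Mat) = hᵀ := by
    have hu : IsUnit hᵀ := by
      rw [Matrix.isUnit_iff_isUnit_det, Matrix.det_transpose, ← Matrix.isUnit_iff_isUnit_det]
      exact hhu
    exact ⟨hu.unit, rfl⟩
  have hBB : (B : Mat)ᵀ * (B : Mat).map τ = c₁ • ((Mh⁻¹ : GL (Fin n) F) : Mat) := by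
    rw [hB, Matrix.transpose_transpose, Matrix.transpose_map, ← hXc, hXh]
    rfl
  obtain ⟨Y, hY⟩ : ∃ Y : GL (Fin n) F, Y = B * Mh * glT B := ⟨_, rfl⟩
  have hYc : (Y : Mat) = (B : Mat) * (Mh : Mat) * (B : Mat)ᵀ := by
    rw [hY, Units.val_mul, Units.val_mul, glT_coe]
  have hYB : (Y : Mat) * (B : Mat).map τ = c₁ • (B : Mat) := by
    rw [hYc, Matrix.mul_assoc, hBB, Matrix.mul_smul, Matrix.mul_assoc, Units.mul_inv, Matrix.mul_one]
  -- `Yᵀ Ȳ = c₁²`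
  have hYT : (Y : Mat)ᵀ = i e • (Y : Mat) := by
    rw [hYc, Matrix.transpose_mul, Matrix.transpose_mul, Matrix.transpose_transpose, hMhT,
      Matrix.smul_mul, Matrix.mul_smul, Matrix.mul_assoc]
  have hBB' : ((B : Mat).map τ)ᵀ * (B : Mat) = (c₁ * i e) • ((Mh⁻¹ : GL (Fin n) F) : Mat) := by
    have h1 := congrArg Matrix.transpose hBB
    rw [Matrix.transpose_mul, Matrix.transpose_transpose, Matrix.transpose_smul, hMhiT,
      smul_smul] at h1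
    exact h1
  have hZ : (B : Mat) * (Mh : Mat) * ((B : Mat).map τ)ᵀ = (c₁ * i e) • (1 : Mat) := by
    have h1 : ((B : Mat) * (Mh : Mat) * ((B : Mat).map τ)ᵀ) * (B : Mat) = (c₁ * i e) • (B : Mat) := by
      rw [Matrix.mul_assoc, hBB', Matrix.mul_smul, Matrix.mul_assoc, Units.mul_inv, Matrix.mul_one]
    calc (B : Mat) * (Mh : Mat) * ((B : Mat).map τ)ᵀ
        = ((B : Mat) * (Mh : Mat) * ((B : Mat).map τ)ᵀ) * ((B : Mat) * ((B⁻¹ : GL (Fin n) F) : Mat)) := by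
          rw [Units.mul_inv, Matrix.mul_one]
      _ = (c₁ * i e) • (1 : Mat) := by
          rw [← Matrix.mul_assoc, h1, Matrix.smul_mul, Units.mul_inv]
  have hYτ : (Y : Mat).map τ = (B : Mat).map τ * (Mh : Mat) * ((B : Mat).map τ)ᵀ := by
    rw [hYc, Matrix.map_mul, Matrix.map_mul, hMhτ, Matrix.transpose_map]
  have hYY : (Y : Mat)ᵀ * (Y : Mat).map τ = (c₁ * c₁) • (1 : Mat) := by
    rw [hYT, Matrix.smul_mul, hYτ, hYc]
    have h1 : (B : Mat) * (Mh : Mat) * (B : Mat)ᵀ * ((B : Mat).map τ * (Mh : Mat) * ((B : Mat).map τ)ᵀ) =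
        (B : Mat) * (Mh : Mat) * ((B : Mat)ᵀ * (B : Mat).map τ) * (Mh : Mat) * ((B : Mat).map τ)ᵀ := by
      simp only [Matrix.mul_assoc]
    rw [h1, hBB, Matrix.mul_smul, Matrix.smul_mul, Matrix.smul_mul, Units.mul_inv_cancel_right, hZ,
      smul_smul, smul_smul]
    congr 1
    calc i e * c₁ * (c₁ * i e) = (i e * i e) * (c₁ * c₁) := by ring
      _ = c₁ * c₁ := by rw [hee, one_mul]
  have hl0 : (c₁ * c₁)⁻¹ ≠ 0 := inv_ne_zero (mul_ne_zero hc₁0 hc₁0)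
  have hlτ : τ (c₁ * c₁)⁻¹ = (c₁ * c₁)⁻¹ := by
    rw [map_inv₀, map_mul, hc₁]
    congr 1
    calc i e * c₁ * (i e * c₁) = (i e * i e) * (c₁ * c₁) := by ring
      _ = c₁ * c₁ := by rw [hee, one_mul]
  obtain ⟨k, hk0, hk⟩ := exists_nrm_eq τ hτ2 (by norm_num) hl0 hlτ
  rw [nrm_two] at hk
  have hgU : scl k hk0 Y ∈ Cfsg.GU n F q := by
    rw [mem_GU_iff τ q hτ, scl_coe, map_tau_smul, Matrix.transpose_smul, Matrix.smul_mul,
      Matrix.mul_smul, smul_smul, hYY, smul_smul, hk,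
      inv_mul_cancel₀ (mul_ne_zero hc₁0 hc₁0), one_smul]
  refine ⟨⟨scl k hk0 Y, hgU⟩, B, Y, k, c₁, hk0, hc₁0, rfl, ?_, hYB⟩
  rw [hYc, hMh]

end Cfsg.Agent.Helper14.AutPSU
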