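import Mathlib
import Cfsg.Agent.Helper14.PsuE

/-!
Helper14: automorphisms of `PSU_n(q)`, part F.  The descent step and the lifting step between
unitary congruences `h g hᵀ = z g'` and congruences `P₀ M₀ P₀ᵀ = w₀ M₀'` over the fixed field.
-/

set_option autoImplicit false
set_option linter.unusedSectionVars false
set_option linter.unusedVariables false

namespace Cfsg.Agent.Helper14.AutPSU

open Matrix Cfsg.Agent.Helper13 Cfsg.Agent.Helper37.AutU Cfsg.Agent.Helper14.AutPSL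
  Cfsg.Agent.Helper37.Lang Cfsg.Agent.Helper14.AutPSp

variable {F : Type*} [Field F] [Fintype F] {F₀ : Type*} [Field F₀] {p f q n : ℕ}
variable (i : F₀ →+* F) (τ : F ≃+* F)

local notation "Mat" => Matrix (Fin n) (Fin n) F
local notation "Mat₀" => Matrix (Fin n) (Fin n) F₀

/-- the relation `Rel` with its witnesses -/
structure RelW (g : Cfsg.GU n F q) (M₀ : GL (Fin n) F₀) (B Y : GL (Fin n) F) (k c : F) : Prop where
  hk : k ≠ 0
  hc : c ≠ 0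
  hg : gm g = k • (Y : Mat)
  hY : (Y : Mat) = (B : Mat) * ((glI i M₀ : GL (Fin n) F) : Mat) * (B : Mat)ᵀ
  hYB : (Y : Mat) * (B : Mat).map τ = c • (B : Mat)

theorem rel_iff (g : Cfsg.GU n F q) (M₀ : GL (Fin n) F₀) :
    Rel (q := q) i τ g M₀ ↔ ∃ (B Y : GL (Fin n) F) (k c : F), RelW (q := q) i τ g M₀ B Y k c := by
  constructor
  · rintro ⟨B, Y, k, c, h1, h2, h3, h4, h5⟩
    exact ⟨B, Y, k, c, h1, h2, h3, h4, h5⟩
  · rintro ⟨B, Y, k, c, h1, h2, h3, h4, h5⟩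
    exact ⟨B, Y, k, c, h1, h2, h3, h4, h5⟩

theorem map_i_mul (A B : Mat₀) : (A * B).map i = A.map i * B.map i := Matrix.map_mul

theorem map_i_injective {A B : Mat₀} (h : A.map i = B.map i) : A = B := by
  ext a b
  have h2 := congrFun (congrFun h a) b
  simp only [Matrix.map_apply] at h2
  exact i.injective h2

theorem map_i_smul (c : F₀) (A : Mat₀) : (c • A).map i = i c • A.map i := by
  ext a b
  simp only [Matrix.map_apply, Matrix.smul_apply, smul_eq_mul, map_mul]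

variable {i τ}

/-- `M̂ = B⁻¹ Y B⁻ᵀ` -/
theorem RelW.M_eq {g : Cfsg.GU n F q} {M₀ : GL (Fin n) F₀} {B Y : GL (Fin n) F} {k c : F}
    (R : RelW (q := q) i τ g M₀ B Y k c) :
    ((glI i M₀ : GL (Fin n) F) : Mat) =
      ((B⁻¹ : GL (Fin n) F) : Mat) * (Y : Mat) * ((B⁻¹ : GL (Fin n) F) : Mat)ᵀ := by
  have hT : (B : Mat)ᵀ * ((B⁻¹ : GL (Fin n) F) : Mat)ᵀ = 1 := by
    rw [← Matrix.transpose_mul, Units.inv_mul, Matrix.transpose_one]
  rw [R.hY]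
  simp only [Matrix.mul_assoc, hT, Matrix.mul_one, Units.inv_mul_cancel_left]

/-- the descent step -/
theorem descent_step (hτ : ∀ a, τ a = a ^ q) (hF : Fintype.card F = q ^ 2)
    (hi : ∀ a : F, τ a = a ↔ a ∈ i.range) (hn : 0 < n)
    {g g' : Cfsg.GU n F q} {M₀ M₀' : GL (Fin n) F₀} {B Y B' Y' : GL (Fin n) F} {k c k' c' : F}
    (R : RelW (q := q) i τ g M₀ B Y k c) (R' : RelW (q := q) i τ g' M₀' B' Y' k' c')
    (h : Cfsg.GU n F q) (z : F) (hz : gm h * gm g * (gm h)ᵀ = z • gm g') :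
    ∃ (P₀ : GL (Fin n) F₀) (w₀ : F₀) (ν : F), w₀ ≠ 0 ∧ ν ≠ 0 ∧
      gm h = ν • ((B' : Mat) * ((glI i P₀ : GL (Fin n) F) : Mat) * ((B⁻¹ : GL (Fin n) F) : Mat)) ∧
      (P₀ : Mat₀) * (M₀ : Mat₀) * (P₀ : Mat₀)ᵀ = w₀ • (M₀' : Mat₀) := by
  classical
  have hz0 : z ≠ 0 := by
    rintro rfl
    rw [zero_smul] at hz
    have h1 : gm h * gm g * (gm h)ᵀ = (((h : GL (Fin n) F) * (g : GL (Fin n) F) * glT (h : GL (Fin n) F) :
        GL (Fin n) F) : Mat) := by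
      rw [Units.val_mul, Units.val_mul, glT_coe]
    rw [h1] at hz
    exact gl_ne_zero hn _ hz
  -- `h Y hᵀ = z₁ Y'`
  have hz1 : gm h * (Y : Mat) * (gm h)ᵀ = (k⁻¹ * z * k') • (Y' : Mat) := by
    rw [R.hg, R'.hg, Matrix.mul_smul, Matrix.smul_mul, smul_smul] at hz
    have := congrArg (fun X : Mat => k⁻¹ • X) hz
    simp only [smul_smul, inv_mul_cancel₀ R.hk, one_smul] at this
    rw [this, mul_assoc]
  have hz10 : k⁻¹ * z * k' ≠ 0 := mul_ne_zero (mul_ne_zero (inv_ne_zero R.hk) hz0) R'.hk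
  have hy₀ := descent_map τ (h := (h : GL (Fin n) F)) R'.hc hz10 R.hYB R'.hYB
    (gm_transpose_mul_map τ hτ h) hz1
  obtain ⟨y₀, hy₀d⟩ : ∃ y₀ : GL (Fin n) F, y₀ = B'⁻¹ * (h : GL (Fin n) F) * B := ⟨_, rfl⟩
  have hy₀c : (y₀ : Mat) = ((B'⁻¹ : GL (Fin n) F) : Mat) * gm h * (B : Mat) := by
    rw [hy₀d]; rfl
  rw [← hy₀c] at hy₀
  obtain ⟨μ, hμ0, hμfix⟩ := exists_smul_fixed τ hy₀ (gl_ne_zero hn y₀)
  obtain ⟨P₀, hP₀⟩ := exists_glI_eq i τ hi (scl μ hμ0 y₀) hμfix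
  have hP₀c : ((glI i P₀ : GL (Fin n) F) : Mat) = μ • (y₀ : Mat) := by rw [hP₀]; rfl
  -- `P̂₀ M̂ P̂₀ᵀ = w M̂'`
  have hT : (B : Mat)ᵀ * ((B⁻¹ : GL (Fin n) F) : Mat)ᵀ = 1 := by
    rw [← Matrix.transpose_mul, Units.inv_mul, Matrix.transpose_one]
  have hyMy : (y₀ : Mat) * ((glI i M₀ : GL (Fin n) F) : Mat) * (y₀ : Mat)ᵀ =
      (k⁻¹ * z * k') • ((glI i M₀' : GL (Fin n) F) : Mat) := by
    rw [R'.M_eq, R.M_eq, hy₀c, Matrix.transpose_mul, Matrix.transpose_mul]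
    have e1 : ((B'⁻¹ : GL (Fin n) F) : Mat) * gm h * (B : Mat) *
        (((B⁻¹ : GL (Fin n) F) : Mat) * (Y : Mat) * ((B⁻¹ : GL (Fin n) F) : Mat)ᵀ) *
        ((B : Mat)ᵀ * ((gm h)ᵀ * ((B'⁻¹ : GL (Fin n) F) : Mat)ᵀ)) =
        ((B'⁻¹ : GL (Fin n) F) : Mat) * (gm h * (Y : Mat) * (gm h)ᵀ) * ((B'⁻¹ : GL (Fin n) F) : Mat)ᵀ := by
      have hT' : ((B⁻¹ : GL (Fin n) F) : Mat)ᵀ * (B : Mat)ᵀ = 1 := by
        rw [← Matrix.transpose_mul, Units.mul_inv, Matrix.transpose_one]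
      simp only [Matrix.mul_assoc, Units.mul_inv_cancel_left]
      rw [← Matrix.mul_assoc (((B⁻¹ : GL (Fin n) F) : Mat)ᵀ) ((B : Mat)ᵀ), hT', Matrix.one_mul]
    rw [e1, hz1, Matrix.mul_smul, Matrix.smul_mul]
  obtain ⟨w, hw⟩ : ∃ w : F, w = μ * μ * (k⁻¹ * z * k') := ⟨_, rfl⟩
  have hw0 : w ≠ 0 := by
    rw [hw]
    exact mul_ne_zero (mul_ne_zero hμ0 hμ0) hz10
  have hPMP : ((glI i P₀ : GL (Fin n) F) : Mat) * ((glI i M₀ : GL (Fin n) F) : Mat) *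
      ((glI i P₀ : GL (Fin n) F) : Mat)ᵀ = w • ((glI i M₀' : GL (Fin n) F) : Mat) := by
    rw [hP₀c, Matrix.transpose_smul, Matrix.smul_mul, Matrix.smul_mul, Matrix.mul_smul, smul_smul,
      hyMy, smul_smul, hw]
  have hwτ : τ w = w := by
    have h1 := congrArg (fun X : Mat => X.map τ) hPMP
    simp only [Matrix.map_mul, Matrix.transpose_map, map_tau_smul, glI_fixed i τ hi] at h1
    rw [hPMP] at h1
    have hne := gl_ne_zero hn (glI i M₀')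
    obtain ⟨a, b, hab⟩ : ∃ a b, ((glI i M₀' : GL (Fin n) F) : Mat) a b ≠ 0 := by
      by_contra hcon
      push Not at hcon
      apply hne
      ext a b
      exact hcon a b
    have h2 := congrFun (congrFun h1 a) b
    simp only [Matrix.smul_apply, smul_eq_mul] at h2
    exact (mul_right_cancel₀ hab h2).symm
  obtain ⟨w₀, hw₀⟩ := (hi w).mp hwτ
  have hw₀0 : w₀ ≠ 0 := by
    rintro rfl
    rw [map_zero] at hw₀
    exact hw0 hw₀.symm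
  refine ⟨P₀, w₀, μ⁻¹, hw₀0, inv_ne_zero hμ0, ?_, ?_⟩
  · rw [hP₀c, Matrix.mul_smul, Matrix.smul_mul, smul_smul, inv_mul_cancel₀ hμ0, one_smul, hy₀c]
    simp only [Matrix.mul_assoc, Units.mul_inv, Matrix.mul_one, Units.mul_inv_cancel_left]
  · apply map_i_injective i
    rw [map_i_mul, map_i_mul, Matrix.transpose_map, map_i_smul, hw₀]
    exact hPMP

/-- the effect of a lifted congruence -/
theorem lift_conj
    {g g' : Cfsg.GU n F q} {M₀ M₀' : GL (Fin n) F₀} {B Y B' Y' : GL (Fin n) F} {k c k' c' : F}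
    (R : RelW (q := q) i τ g M₀ B Y k c) (R' : RelW (q := q) i τ g' M₀' B' Y' k' c')
    (P₀ : GL (Fin n) F₀) (w₀ : F₀)
    (hP : (P₀ : Mat₀) * (M₀ : Mat₀) * (P₀ : Mat₀)ᵀ = w₀ • (M₀' : Mat₀))
    (h : Cfsg.GU n F q) (ν : F)
    (hh : gm h = ν • ((B' : Mat) * ((glI i P₀ : GL (Fin n) F) : Mat) * ((B⁻¹ : GL (Fin n) F) : Mat))) :
    gm h * gm g * (gm h)ᵀ = (ν * ν * k * i w₀ * k'⁻¹) • gm g' := by
  have hP' : ((glI i P₀ : GL (Fin n) F) : Mat) * ((glI i M₀ : GL (Fin n) F) : Mat) *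
      ((glI i P₀ : GL (Fin n) F) : Mat)ᵀ = i w₀ • ((glI i M₀' : GL (Fin n) F) : Mat) := by
    have h1 := congrArg (fun X : Mat₀ => X.map i) hP
    simp only [map_i_mul, map_i_smul, Matrix.transpose_map] at h1
    exact h1
  have hT' : ((B⁻¹ : GL (Fin n) F) : Mat)ᵀ * (B : Mat)ᵀ = 1 := by
    rw [← Matrix.transpose_mul, Units.mul_inv, Matrix.transpose_one]
  have e1 : ((B' : Mat) * ((glI i P₀ : GL (Fin n) F) : Mat) * ((B⁻¹ : GL (Fin n) F) : Mat)) * (Y : Mat) *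
      ((B' : Mat) * ((glI i P₀ : GL (Fin n) F) : Mat) * ((B⁻¹ : GL (Fin n) F) : Mat))ᵀ =
      i w₀ • (Y' : Mat) := by
    rw [R.hY, R'.hY, Matrix.transpose_mul, Matrix.transpose_mul]
    have e2 : (B' : Mat) * ((glI i P₀ : GL (Fin n) F) : Mat) * ((B⁻¹ : GL (Fin n) F) : Mat) *
        ((B : Mat) * ((glI i M₀ : GL (Fin n) F) : Mat) * (B : Mat)ᵀ) *
        (((B⁻¹ : GL (Fin n) F) : Mat)ᵀ * (((glI i P₀ : GL (Fin n) F) : Mat)ᵀ * (B' : Mat)ᵀ)) =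
        (B' : Mat) * (((glI i P₀ : GL (Fin n) F) : Mat) * ((glI i M₀ : GL (Fin n) F) : Mat) *
          ((glI i P₀ : GL (Fin n) F) : Mat)ᵀ) * (B' : Mat)ᵀ := by
      have hT : (B : Mat)ᵀ * ((B⁻¹ : GL (Fin n) F) : Mat)ᵀ = 1 := by
        rw [← Matrix.transpose_mul, Units.inv_mul, Matrix.transpose_one]
      simp only [Matrix.mul_assoc, Units.inv_mul_cancel_left]
      rw [← Matrix.mul_assoc ((B : Mat)ᵀ) (((B⁻¹ : GL (Fin n) F) : Mat)ᵀ), hT, Matrix.one_mul]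
    rw [e2, hP', Matrix.mul_smul, Matrix.smul_mul]
  rw [hh, R.hg, R'.hg, Matrix.transpose_smul, Matrix.smul_mul, Matrix.smul_mul, Matrix.mul_smul,
    Matrix.mul_smul, Matrix.smul_mul, e1, smul_smul, smul_smul, smul_smul, smul_smul]
  congr 1
  field_simp [R'.hk]

/-- the lifting step -/
theorem lift_step (hτ : ∀ a, τ a = a ^ q) (hF : Fintype.card F = q ^ 2)
    (hi : ∀ a : F, τ a = a ↔ a ∈ i.range) (hn : 0 < n)
    {g g' : Cfsg.GU n F q} {M₀ M₀' : GL (Fin n) F₀} {B Y B' Y' : GL (Fin n) F} {k c k' c' : F}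
    (R : RelW (q := q) i τ g M₀ B Y k c) (R' : RelW (q := q) i τ g' M₀' B' Y' k' c')
    (P₀ : GL (Fin n) F₀) (w₀ : F₀) (hw₀ : w₀ ≠ 0)
    (hP : (P₀ : Mat₀) * (M₀ : Mat₀) * (P₀ : Mat₀)ᵀ = w₀ • (M₀' : Mat₀)) :
    ∃ (h : Cfsg.GU n F q) (ν : F), ν ≠ 0 ∧
      gm h = ν • ((B' : Mat) * ((glI i P₀ : GL (Fin n) F) : Mat) * ((B⁻¹ : GL (Fin n) F) : Mat)) := by
  classical
  have hτ2 := orderOf_tau τ hτ hF
  have hττ' := tau_mul_self τ hτ hF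
  have hττ : ∀ a, τ (τ a) = a := fun a => by
    have := congrArg (fun s : F ≃+* F => s a) hττ'
    exact this
  have hP' : ((glI i P₀ : GL (Fin n) F) : Mat) * ((glI i M₀ : GL (Fin n) F) : Mat) *
      ((glI i P₀ : GL (Fin n) F) : Mat)ᵀ = i w₀ • ((glI i M₀' : GL (Fin n) F) : Mat) := by
    have h1 := congrArg (fun X : Mat₀ => X.map i) hP
    simp only [map_i_mul, map_i_smul, Matrix.transpose_map] at h1
    exact h1
  have hiw : i w₀ ≠ 0 := by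
    intro h0
    exact hw₀ (i.injective (by rw [h0, map_zero]))
  have e1 : ((B' : Mat) * ((glI i P₀ : GL (Fin n) F) : Mat) * ((B⁻¹ : GL (Fin n) F) : Mat)) * (Y : Mat) *
      ((B' : Mat) * ((glI i P₀ : GL (Fin n) F) : Mat) * ((B⁻¹ : GL (Fin n) F) : Mat))ᵀ =
      i w₀ • (Y' : Mat) := by
    rw [R.hY, R'.hY, Matrix.transpose_mul, Matrix.transpose_mul]
    have e2 : (B' : Mat) * ((glI i P₀ : GL (Fin n) F) : Mat) * ((B⁻¹ : GL (Fin n) F) : Mat) *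
        ((B : Mat) * ((glI i M₀ : GL (Fin n) F) : Mat) * (B : Mat)ᵀ) *
        (((B⁻¹ : GL (Fin n) F) : Mat)ᵀ * (((glI i P₀ : GL (Fin n) F) : Mat)ᵀ * (B' : Mat)ᵀ)) =
        (B' : Mat) * (((glI i P₀ : GL (Fin n) F) : Mat) * ((glI i M₀ : GL (Fin n) F) : Mat) *
          ((glI i P₀ : GL (Fin n) F) : Mat)ᵀ) * (B' : Mat)ᵀ := by
      have hT : (B : Mat)ᵀ * ((B⁻¹ : GL (Fin n) F) : Mat)ᵀ = 1 := by
        rw [← Matrix.transpose_mul, Units.inv_mul, Matrix.transpose_one]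
      simp only [Matrix.mul_assoc, Units.inv_mul_cancel_left]
      rw [← Matrix.mul_assoc ((B : Mat)ᵀ) (((B⁻¹ : GL (Fin n) F) : Mat)ᵀ), hT, Matrix.one_mul]
    rw [e2, hP', Matrix.mul_smul, Matrix.smul_mul]
  have hl := lift_map τ R.hc hiw R.hYB R'.hYB (glI_fixed i τ hi P₀) e1
  obtain ⟨d, hd⟩ : ∃ d : F, d = i w₀ * c' * c⁻¹ := ⟨_, rfl⟩
  rw [← hd] at hl
  have hd0 : d ≠ 0 := by
    rw [hd]
    exact mul_ne_zero (mul_ne_zero hiw R'.hc) (inv_ne_zero R.hc)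
  have hdτ : τ d = d := tau_fixed_of_herm τ hττ hn hl
  have hdi0 : d⁻¹ ≠ 0 := inv_ne_zero hd0
  have hdiτ : τ d⁻¹ = d⁻¹ := by rw [map_inv₀, hdτ]
  obtain ⟨ν, hν0, hν⟩ := exists_nrm_eq τ hτ2 (by norm_num) hdi0 hdiτ
  rw [nrm_two] at hν
  obtain ⟨y, hy⟩ : ∃ y : GL (Fin n) F, y = B' * glI i P₀ * B⁻¹ := ⟨_, rfl⟩
  have hyc : (y : Mat) = (B' : Mat) * ((glI i P₀ : GL (Fin n) F) : Mat) * ((B⁻¹ : GL (Fin n) F) : Mat) := by
    rw [hy]; rfl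
  rw [← hyc] at hl ⊢
  have hgU : scl ν hν0 y ∈ Cfsg.GU n F q := by
    rw [mem_GU_iff τ q hτ, scl_coe, map_tau_smul, Matrix.transpose_smul, Matrix.smul_mul,
      Matrix.mul_smul, smul_smul, hl, smul_smul, hν, inv_mul_cancel₀ hd0, one_smul]
  exact ⟨⟨scl ν hν0 y, hgU⟩, ν, hν0, rfl⟩

end Cfsg.Agent.Helper14.AutPSU
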