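import Mathlib
import Cfsg.Agent.Helper37.LangB
import Cfsg.Agent.Helper37.LangF

/-!
Helper14: automorphisms of `PSU_n(q)`, part J.  Field theory: for a finite field `F` with an
involution `τ` and an automorphism `σ` commuting with it, whose fixed field `i(F₀)` is not fixed
by `τ`: the norm-one group `U = {u | u τ(u) = 1}` has trivial Tate cohomology for `⟨σ⟩`.
-/

set_option autoImplicit false
set_option linter.unusedSectionVars false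
set_option linter.unusedVariables false

namespace Cfsg.Agent.Helper14.AutPSU

open Cfsg.Agent.Helper37.Lang

variable {F : Type*} [Field F] [Fintype F] {F₀ : Type*} [Field F₀] [Fintype F₀]
variable (σ τ : F ≃+* F) (i : F₀ →+* F) (τ₀ : F₀ ≃+* F₀)

theorem nrm_comm (hcomm : ∀ a, σ (τ a) = τ (σ a)) (k : ℕ) (u : F) :
    nrm σ k (τ u) = τ (nrm σ k u) := by
  induction k with
  | zero => rw [nrm_zero, nrm_zero, map_one]
  | succ k ih => rw [nrm_succ, nrm_succ, ih, hcomm, map_mul]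

variable {σ τ i τ₀}

/-- `Ĥ⁰(σ, U) = 0`: a `σ`-fixed norm-one element is the `σ`-norm of a norm-one element -/
theorem exists_unitary_nrm_eq (hcomm : ∀ a, σ (τ a) = τ (σ a)) (hττ : ∀ a, τ (τ a) = a)
    {r : ℕ} (hr : orderOf σ = r) (hr0 : 0 < r)
    (hi : ∀ a : F, σ a = a ↔ a ∈ i.range) (hτ₀ : orderOf τ₀ = 2)
    (hcompat : ∀ x, τ (i x) = i (τ₀ x))
    {z : F} (hz : z * τ z = 1) (hσz : σ z = z) :
    ∃ μ : F, μ * τ μ = 1 ∧ nrm σ r μ = z := by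
  obtain ⟨z₀, rfl⟩ := (hi z).mp hσz
  have hz₀ : nrm τ₀ 2 z₀ = 1 := by
    rw [nrm_two]
    apply i.injective
    rw [map_mul, ← hcompat, hz, map_one]
  obtain ⟨t₀, ht₀0, ht₀⟩ := hilbert90 τ₀ hτ₀ (by norm_num) hz₀
  have ht0 : i t₀ ≠ 0 := by
    intro h0
    exact ht₀0 (i.injective (by rw [h0, map_zero]))
  have htσ : σ (i t₀) = i t₀ := (hi _).mpr ⟨_, rfl⟩
  obtain ⟨u, hu0, hu⟩ := exists_nrm_eq σ hr hr0 ht0 htσ
  have hτu0 : τ u ≠ 0 := fun h0 => hu0 ((map_eq_zero τ).mp h0)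
  refine ⟨u / τ u, ?_, ?_⟩
  · rw [map_div₀, hττ]
    field_simp
  · rw [div_eq_mul_inv, nrm_mul, nrm_inv, nrm_comm σ τ hcomm, hu, hcompat]
    have h1 : i z₀ * i (τ₀ t₀) = i t₀ := by rw [← map_mul, ht₀]
    have h2 : i (τ₀ t₀) ≠ 0 := by
      intro h0
      rw [h0, mul_zero] at h1
      exact ht0 h1.symm
    rw [← h1, mul_assoc, mul_inv_cancel₀ h2, mul_one]

/-- `H¹(σ, U) = 0`: Hilbert 90 inside the norm-one group -/
theorem exists_unitary_hilbert90 (hcomm : ∀ a, σ (τ a) = τ (σ a)) (hττ : ∀ a, τ (τ a) = a)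
    {r : ℕ} (hr : orderOf σ = r) (hr0 : 0 < r)
    (hi : ∀ a : F, σ a = a ↔ a ∈ i.range) (hτ₀ : orderOf τ₀ = 2)
    (hcompat : ∀ x, τ (i x) = i (τ₀ x))
    {ζ : F} (hζ : ζ * τ ζ = 1) (hnζ : nrm σ r ζ = 1) :
    ∃ ν : F, ν * τ ν = 1 ∧ ζ * σ ν = ν := by
  obtain ⟨ν₁, hν₁0, hν₁⟩ := hilbert90 σ hr hr0 hnζ
  have hζ0 : ζ ≠ 0 := by
    rintro rfl
    rw [zero_mul] at hζ
    exact zero_ne_one hζ
  -- `d = ν₁ τ(ν₁)` is fixed by `σ` and `τ`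
  have hdσ : σ (ν₁ * τ ν₁) = ν₁ * τ ν₁ := by
    have h1 : σ ν₁ = ζ⁻¹ * ν₁ := (eq_inv_mul_iff_mul_eq₀ hζ0).mpr hν₁
    rw [map_mul, hcomm, h1, map_mul, map_inv₀]
    have hτζ0 : τ ζ ≠ 0 := fun h0 => hζ0 ((map_eq_zero τ).mp h0)
    calc ζ⁻¹ * ν₁ * ((τ ζ)⁻¹ * τ ν₁) = (ζ * τ ζ)⁻¹ * (ν₁ * τ ν₁) := by
          rw [_root_.mul_inv_rev]; ring
      _ = ν₁ * τ ν₁ := by rw [hζ, inv_one, one_mul]
  obtain ⟨d₀, hd₀⟩ := (hi _).mp hdσ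
  have hτν₁0 : τ ν₁ ≠ 0 := fun h0 => hν₁0 ((map_eq_zero τ).mp h0)
  have hd0 : ν₁ * τ ν₁ ≠ 0 := mul_ne_zero hν₁0 hτν₁0
  have hd₀0 : d₀ ≠ 0 := by
    rintro rfl
    rw [map_zero] at hd₀
    exact hd0 hd₀.symm
  have hd₀τ : τ₀ d₀ = d₀ := by
    apply i.injective
    rw [← hcompat, hd₀, map_mul, hττ, mul_comm]
  obtain ⟨s₀, hs₀0, hs₀⟩ := exists_nrm_eq τ₀ hτ₀ (by norm_num) (inv_ne_zero hd₀0)
    (by rw [map_inv₀, hd₀τ])
  rw [nrm_two] at hs₀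
  refine ⟨ν₁ * i s₀, ?_, ?_⟩
  · rw [map_mul, hcompat]
    calc ν₁ * i s₀ * (τ ν₁ * i (τ₀ s₀)) = (ν₁ * τ ν₁) * i (s₀ * τ₀ s₀) := by
          rw [map_mul]; ring
      _ = 1 := by rw [hs₀, ← hd₀, ← map_mul, mul_inv_cancel₀ hd₀0, map_one]
  · rw [map_mul, (hi (i s₀)).mpr ⟨_, rfl⟩, ← mul_assoc, hν₁]

end Cfsg.Agent.Helper14.AutPSU
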