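import Mathlib
import Cfsg.Agent.Helper14.PsuF
import Cfsg.Agent.Helper14.PsuJ

/-!
Helper14: automorphisms of `PSU_n(q)`, part K.  Field automorphisms `σ` of odd order: the data
(`F₀ ≅` fixed field of `σ`, `τ₀` its involution), the inclusion `GU_n(F₀) → GU_n(F)`, and
Lang's theorem for `GU_n` with respect to `σ`.
-/

set_option autoImplicit false
set_option linter.unusedSectionVars false
set_option linter.unusedVariables false

namespace Cfsg.Agent.Helper14.AutPSU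

open Matrix Cfsg.Agent.Helper13 Cfsg.Agent.Helper37.AutU Cfsg.Agent.Helper14.AutPSL
  Cfsg.Agent.Helper37.Lang Cfsg.Agent.Helper14.AutPSp

variable {F : Type*} [Field F] [Fintype F] {F₀ : Type*} [Field F₀] [Fintype F₀] {q q₀ n r : ℕ}

local notation "Mat" => Matrix (Fin n) (Fin n) F
local notation "Mat₀" => Matrix (Fin n) (Fin n) F₀

/-- the data for a field automorphism `σ` of `F` (`|F| = q²`) with fixed field `i(F₀)`,
`|F₀| = q₀²`, on which `τ` induces `τ₀` -/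
structure FldData (q q₀ : ℕ) (σ τ : F ≃+* F) (i : F₀ →+* F) (τ₀ : F₀ ≃+* F₀) (r : ℕ) : Prop where
  hτ : ∀ a, τ a = a ^ q
  hτ₀ : ∀ a, τ₀ a = a ^ q₀
  hF : Fintype.card F = q ^ 2
  hF₀ : Fintype.card F₀ = q₀ ^ 2
  hr : orderOf σ = r
  hr0 : 0 < r
  hi : ∀ a : F, σ a = a ↔ a ∈ i.range
  hcompat : ∀ x, τ (i x) = i (τ₀ x)

variable {σ τ : F ≃+* F} {i : F₀ →+* F} {τ₀ : F₀ ≃+* F₀}

theorem FldData.hcomm (D : FldData q q₀ σ τ i τ₀ r) (a : F) : σ (τ a) = τ (σ a) := by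
  rw [D.hτ, D.hτ, map_pow]

theorem FldData.hττ (D : FldData q q₀ σ τ i τ₀ r) (a : F) : τ (τ a) = a := by
  have := congrArg (fun s : F ≃+* F => s a) (tau_mul_self τ D.hτ D.hF)
  exact this

theorem FldData.hτ₀τ₀ (D : FldData q q₀ σ τ i τ₀ r) (a : F₀) : τ₀ (τ₀ a) = a := by
  have := congrArg (fun s : F₀ ≃+* F₀ => s a) (tau_mul_self τ₀ D.hτ₀ D.hF₀)
  exact this

theorem FldData.orderOf_τ₀ (D : FldData q q₀ σ τ i τ₀ r) : orderOf τ₀ = 2 :=
  orderOf_tau τ₀ D.hτ₀ D.hF₀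

theorem FldData.map_i_tau (D : FldData q q₀ σ τ i τ₀ r) (A₀ : Mat₀) :
    (A₀.map i).map τ = (A₀.map τ₀).map i := by
  ext a b
  simp only [Matrix.map_apply]
  exact D.hcompat _

/-- `GU_n(F₀) → GU_n(F)` -/
def guI (D : FldData q q₀ σ τ i τ₀ r) : Cfsg.GU n F₀ q₀ →* Cfsg.GU n F q where
  toFun g := ⟨glI i (g : GL (Fin n) F₀), by
    rw [mem_GU_iff τ q D.hτ, glI_coe, D.map_i_tau, ← Matrix.transpose_map, ← Matrix.map_mul,
      (mem_GU_iff τ₀ q₀ D.hτ₀ (g : GL (Fin n) F₀)).mp g.2]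
    ext a b
    simp [Matrix.one_apply]⟩
  map_one' := by
    apply Subtype.ext
    exact map_one _
  map_mul' a b := by
    apply Subtype.ext
    exact map_mul _ _ _

theorem gm_guI (D : FldData q q₀ σ τ i τ₀ r) (g : Cfsg.GU n F₀ q₀) :
    gm (guI D g) = (gm g).map i := rfl

theorem guMap_guI (D : FldData q q₀ σ τ i τ₀ r) (g : Cfsg.GU n F₀ q₀) :
    guMap σ (guI D g) = guI D g := by
  apply Subtype.ext
  apply Units.ext
  show (gm (guI D g)).map σ = gm (guI D g)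
  rw [gm_guI]
  exact map_i_fixed i σ D.hi _

/-- descent of `σ`-fixed unitary matrices -/
theorem exists_guI_eq (D : FldData q q₀ σ τ i τ₀ r) (g : Cfsg.GU n F q) (hg : guMap σ g = g) :
    ∃ g₀ : Cfsg.GU n F₀ q₀, guI D g₀ = g := by
  have hfix : (gm g).map σ = gm g := by
    have := congrArg gm hg
    exact this
  obtain ⟨P₀, hP₀⟩ := exists_glI_eq i σ D.hi (g : GL (Fin n) F) hfix
  have hP₀c : ((P₀ : GL (Fin n) F₀) : Mat₀).map i = gm g := by
    rw [← glI_coe, hP₀]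
  have hmem : P₀ ∈ Cfsg.GU n F₀ q₀ := by
    rw [mem_GU_iff τ₀ q₀ D.hτ₀]
    apply map_i_injective i
    rw [map_i_mul, Matrix.transpose_map, ← D.map_i_tau, hP₀c, gm_transpose_mul_map τ D.hτ g]
    ext a b
    simp [Matrix.one_apply]
  refine ⟨⟨P₀, hmem⟩, ?_⟩
  apply Subtype.ext
  exact hP₀

/-- **Lang's theorem for `GU_n`** with respect to `σ` -/
theorem lang_GU (D : FldData q q₀ σ τ i τ₀ r) (g : Cfsg.GU n F q)
    (hg : ∀ v, ((semiK (gm g) σ)^[r]) v = v) :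
    ∃ h : Cfsg.GU n F q, g * guMap σ h = h := by
  classical
  obtain ⟨b, hb⟩ := lang_GLK σ D.hr D.hr0 (g : GL (Fin n) F) hg
  have hbc : gm g * (b : Mat).map σ = (b : Mat) := by
    have := congrArg (fun k : GL (Fin n) F => (k : Mat)) hb
    exact this
  obtain ⟨K, hK⟩ : ∃ K : GL (Fin n) F, K = glT b * glMap τ b := ⟨_, rfl⟩
  have hKc : (K : Mat) = (b : Mat)ᵀ * (b : Mat).map τ := by
    rw [hK, Units.val_mul, glT_coe]; rfl
  have hcommM : ∀ X : Mat, (X.map τ).map σ = (X.map σ).map τ := by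
    intro X
    ext a c
    simp only [Matrix.map_apply]
    exact D.hcomm _
  -- `K` is fixed by `σ`
  have hKσ : (K : Mat).map σ = (K : Mat) := by
    have h1 : (K : Mat) = ((b : Mat).map σ)ᵀ * (gm g)ᵀ * ((gm g).map τ * ((b : Mat).map σ).map τ) := by
      rw [hKc, ← Matrix.transpose_mul, ← Matrix.map_mul, hbc]
    have h2 : ((b : Mat).map σ)ᵀ * (gm g)ᵀ * ((gm g).map τ * ((b : Mat).map σ).map τ) =
        ((b : Mat).map σ)ᵀ * ((gm g)ᵀ * (gm g).map τ) * ((b : Mat).map σ).map τ := by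
      simp only [Matrix.mul_assoc]
    rw [h2, gm_transpose_mul_map τ D.hτ g, Matrix.mul_one] at h1
    calc (K : Mat).map σ = ((b : Mat)ᵀ * (b : Mat).map τ).map σ := by rw [hKc]
      _ = ((b : Mat).map σ)ᵀ * ((b : Mat).map σ).map τ := by
          rw [Matrix.map_mul, Matrix.transpose_map, hcommM]
      _ = (K : Mat) := h1.symm
  obtain ⟨K₀, hK₀⟩ := exists_glI_eq i σ D.hi K hKσ
  have hK₀c : ((K₀ : GL (Fin n) F₀) : Mat₀).map i = (K : Mat) := by
    rw [← glI_coe, hK₀]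
  -- `K₀` is hermitian
  have hKct : ct τ (K : Mat) = (K : Mat) := by
    unfold ct
    rw [hKc, Matrix.map_mul, Matrix.transpose_mul, Matrix.transpose_map, Matrix.transpose_transpose]
    congr 1
    ext a c
    simp only [Matrix.map_apply, Matrix.transpose_apply]
    exact D.hττ _
  have hK₀ct : ct τ₀ ((K₀ : GL (Fin n) F₀) : Mat₀) = ((K₀ : GL (Fin n) F₀) : Mat₀) := by
    apply map_i_injective i
    unfold ct
    rw [Matrix.transpose_map, ← D.map_i_tau, hK₀c]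
    exact hKct
  obtain ⟨a₀, ha₀u, ha₀⟩ := exists_eq_mul_ct D.hτ₀τ₀ (tau_ne_one τ₀ D.hτ₀ D.hF₀)
    ((K₀ : GL (Fin n) F₀) : Mat₀) (Units.isUnit K₀) hK₀ct
  -- `A = î(a₀)ᵀ`
  obtain ⟨A, hA⟩ : ∃ A : GL (Fin n) F, (A : Mat) = (a₀.map i)ᵀ := by
    have hu : IsUnit (a₀.map i)ᵀ := by
      rw [Matrix.isUnit_iff_isUnit_det, Matrix.det_transpose, ← RingHom.mapMatrix_apply,
        ← RingHom.map_det]
      exact ((Matrix.isUnit_iff_isUnit_det _).mp ha₀u).map i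
    exact ⟨hu.unit, rfl⟩
  have hAσ : glMap σ A = A := by
    apply Units.ext
    show (A : Mat).map σ = (A : Mat)
    rw [hA, Matrix.transpose_map, map_i_fixed i σ D.hi]
  have hAK : (A : Mat)ᵀ * (A : Mat).map τ = (K : Mat) := by
    rw [hA, Matrix.transpose_transpose, Matrix.transpose_map, D.map_i_tau, ← Matrix.transpose_map,
      ← hK₀c, ha₀, map_i_mul]
    rfl
  obtain ⟨h, hh⟩ : ∃ h : GL (Fin n) F, h = b * A⁻¹ := ⟨_, rfl⟩
  have hhU : h ∈ Cfsg.GU n F q := by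
    rw [mem_GU_iff τ q D.hτ, hh, Units.val_mul, Matrix.transpose_mul, Matrix.map_mul]
    have e1 : ((A⁻¹ : GL (Fin n) F) : Mat)ᵀ * (b : Mat)ᵀ * ((b : Mat).map τ * ((A⁻¹ : GL (Fin n) F) : Mat).map τ) =
        ((A⁻¹ : GL (Fin n) F) : Mat)ᵀ * ((b : Mat)ᵀ * (b : Mat).map τ) * ((A⁻¹ : GL (Fin n) F) : Mat).map τ := by
      simp only [Matrix.mul_assoc]
    rw [e1, ← hKc, ← hAK]
    have e2 : ((A⁻¹ : GL (Fin n) F) : Mat)ᵀ * ((A : Mat)ᵀ * (A : Mat).map τ) * ((A⁻¹ : GL (Fin n) F) : Mat).map τ =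
        (((A⁻¹ : GL (Fin n) F) : Mat)ᵀ * (A : Mat)ᵀ) * ((A : Mat).map τ * ((A⁻¹ : GL (Fin n) F) : Mat).map τ) := by
      simp only [Matrix.mul_assoc]
    rw [e2, ← Matrix.transpose_mul, ← Matrix.map_mul, Units.mul_inv, Matrix.transpose_one, Matrix.one_mul]
    ext a c
    simp [Matrix.one_apply]
  refine ⟨⟨h, hhU⟩, ?_⟩
  apply Subtype.ext
  show (g : GL (Fin n) F) * glMap σ h = h
  have e3 : glMap σ h = glMap σ b * A⁻¹ := by
    rw [hh]
    have : glMap σ (b * A⁻¹) = glMap σ b * (glMap σ A)⁻¹ := by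
      show Matrix.GeneralLinearGroup.map _ (b * A⁻¹) = _
      rw [map_mul, map_inv]
      rfl
    rw [this, hAσ]
  rw [e3, ← mul_assoc, hb, hh]

end Cfsg.Agent.Helper14.AutPSU
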