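import Mathlib
import Cfsg.Agent.Helper14.PsuK
import Cfsg.Agent.Helper14.AutTransport

/-!
Helper14: automorphisms of `PSU_n(q)`, part L.  Elements of prime order in the coset
`Inndiag · x` of a field automorphism `x` of odd order are `Inndiag`-conjugate to `x` (S2711).
-/

set_option autoImplicit false
set_option linter.unusedSectionVars false
set_option linter.unusedVariables false

namespace Cfsg.Agent.Helper14.AutPSU

open Matrix Cfsg.Agent.Helper13 Cfsg.Agent.Helper37.AutU Cfsg.Agent.Helper14.AutPSL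
  Cfsg.Agent.Helper37.Lang Cfsg.Agent.Helper14.AutPSp

variable {F : Type*} [Field F] [Fintype F] {F₀ : Type*} [Field F₀] [Fintype F₀] {p f q q₀ n r : ℕ}

local notation "Mat" => Matrix (Fin n) (Fin n) F

/-- the twisted power in `GU` -/
def NrmU (σ : F ≃+* F) (g : Cfsg.GU n F q) : ℕ → Cfsg.GU n F q
  | 0 => 1
  | k + 1 => g * guMap σ (NrmU σ g k)

theorem NrmU_coe (σ : F ≃+* F) (g : Cfsg.GU n F q) (k : ℕ) :
    ((NrmU σ g k : Cfsg.GU n F q) : GL (Fin n) F) = NrmK σ (g : GL (Fin n) F) k := by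
  induction k with
  | zero => rfl
  | succ k ih =>
    show (g : GL (Fin n) F) * glMap σ (NrmU σ g k : GL (Fin n) F) = (g : GL (Fin n) F) * glMap σ (NrmK σ g k)
    rw [ih]

theorem pow_pstd (σ : F ≃+* F) (g : Cfsg.GU n F q) (k : ℕ) :
    (pstd g σ : MulAut (Cfsg.PSU n F q)) ^ k = pstd (NrmU σ g k) (σ ^ k) := by
  induction k with
  | zero =>
    rw [pow_zero, pow_zero]
    exact pstd_one_one.symm
  | succ k ih =>
    rw [pow_succ', ih, pstd_mul, pow_succ']
    rfl

/-- `Inndiag(PSU)` is normal in `Aut(PSU)` -/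
theorem inndiagPSU_normal (H : Hyp F p f q n) : (Cfsg.inndiagPSU n F q).Normal := by
  constructor
  intro x hx α
  obtain ⟨h, rfl⟩ := mem_inndiagPSU.mp hx
  obtain ⟨g, σ, rfl⟩ := aut_eq_pstd H α
  have h1 : (pstd g σ : MulAut (Cfsg.PSU n F q)) * pstdHom n F q h * (pstd g σ)⁻¹ =
      pstdHom n F q (g * guMap σ h * g⁻¹) := by
    rw [pstd_eq_mul g σ, map_mul, map_mul, map_inv]
    have := fldHom_mul_pstdHom (n := n) (q := q) σ h
    calc pstdHom n F q g * fldHom n F q σ * pstdHom n F q h * (pstdHom n F q g * fldHom n F q σ)⁻¹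
        = pstdHom n F q g * (fldHom n F q σ * pstdHom n F q h) * (fldHom n F q σ)⁻¹ *
            (pstdHom n F q g)⁻¹ := by group
      _ = _ := by rw [this]; group
  rw [h1]
  exact mem_inndiagPSU.mpr ⟨_, rfl⟩

theorem fldHom_injective (hK : KerHyp n F q) : Function.Injective (fldHom n F q) := by
  rw [injective_iff_map_eq_one]
  intro σ hσ
  rw [fldHom_apply] at hσ
  exact (hK _ _ hσ).1

theorem orderOf_fldHom (hK : KerHyp n F q) (σ : F ≃+* F) : orderOf (fldHom n F q σ) = orderOf σ :=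
  orderOf_injective (fldHom n F q) (fldHom_injective hK) σ

/-- a scalar element of `GU` -/
def scU (τ : F ≃+* F) (hτ : ∀ a, τ a = a ^ q) (μ : F) (hμ : μ * τ μ = 1) : Cfsg.GU n F q :=
  ⟨scl μ (by rintro rfl; rw [zero_mul] at hμ; exact zero_ne_one hμ) 1, by
    rw [mem_GU_iff τ q hτ, scl_coe, Units.val_one, map_tau_smul, Matrix.transpose_smul,
      Matrix.transpose_one, Matrix.smul_mul, Matrix.mul_smul, smul_smul, Matrix.one_mul, hμ,
      one_smul]
    ext a b
    simp [Matrix.one_apply]⟩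

theorem gm_scU (τ : F ≃+* F) (hτ : ∀ a, τ a = a ^ q) (μ : F) (hμ : μ * τ μ = 1) :
    gm (scU (n := n) τ hτ μ hμ) = μ • (1 : Mat) := rfl

variable {σ τ : F ≃+* F} {i : F₀ →+* F} {τ₀ : F₀ ≃+* F₀}

/-- the Lang step: an element of order dividing `r` in the coset of a field automorphism of order
`r` is conjugate to it -/
theorem psu_field_case (H : Hyp F p f q n) (D : FldData q q₀ σ τ i τ₀ r) (g : Cfsg.GU n F q)
    (hord : (pstd g σ : MulAut (Cfsg.PSU n F q)) ^ r = 1) :
    ∃ h : Cfsg.GU n F q, (pstd g σ : MulAut (Cfsg.PSU n F q)) =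
      pstdHom n F q h * fldHom n F q σ * (pstdHom n F q h)⁻¹ := by
  have hK := kerHyp_of_hyp H
  have hn0 : 0 < n := by have := H.hn; omega
  have hσr : σ ^ r = 1 := by rw [← D.hr]; exact pow_orderOf_eq_one σ
  rw [pow_pstd, hσr] at hord
  obtain ⟨-, z, hz⟩ := hK _ _ hord
  have hiter : ∀ v, ((semiK (gm g) σ)^[r]) v = z • v := by
    intro v
    rw [semiK_iterate, ← NrmU_coe]
    show gm (NrmU σ g r) *ᵥ _ = _
    rw [hz, hσr, Matrix.smul_mulVec, Matrix.one_mulVec]
    rfl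
  have hz0 : z ≠ 0 := by
    rintro rfl
    rw [zero_smul] at hz
    exact gl_ne_zero hn0 _ hz
  -- `z` is unitary
  have hzU : z * τ z = 1 := by
    have h1 := gm_transpose_mul_map τ D.hτ (NrmU σ g r)
    rw [hz, map_tau_smul, Matrix.transpose_smul, Matrix.transpose_one, Matrix.smul_mul,
      Matrix.mul_smul, smul_smul, Matrix.one_mul] at h1
    have h2 := congrFun (congrFun h1 ⟨0, hn0⟩) ⟨0, hn0⟩
    simp only [Matrix.smul_apply, Matrix.map_apply, Matrix.one_apply_eq, map_one, smul_eq_mul,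
      mul_one] at h2
    exact h2
  -- `z` is fixed by `σ`
  have hσz : σ z = z := by
    obtain ⟨T, hT⟩ : ∃ T, T = semiK (gm g) σ := ⟨_, rfl⟩
    obtain ⟨v₀, hv₀⟩ : ∃ v₀ : Fin n → F, v₀ = Pi.single ⟨0, hn0⟩ 1 := ⟨_, rfl⟩
    have hv₀0 : v₀ ≠ 0 := by
      intro h0
      have := congrFun h0 ⟨0, hn0⟩
      rw [hv₀, Pi.single_eq_same] at this
      exact one_ne_zero this
    rw [← hT] at hiter
    have hTv : T v₀ ≠ 0 := by
      intro h0
      have h1 : (T^[r]) v₀ = 0 := by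
        obtain ⟨k, rfl⟩ : ∃ k, r = k + 1 := ⟨r - 1, by have := D.hr0; omega⟩
        rw [Function.iterate_succ_apply, h0]
        exact iterate_map_zero T k
      rw [hiter] at h1
      rcases smul_eq_zero.mp h1 with h | h
      · exact hz0 h
      · exact hv₀0 h
    have h1 : (T^[r]) (T v₀) = T ((T^[r]) v₀) := by
      rw [← Function.iterate_succ_apply, Function.iterate_succ_apply']
    rw [hiter, hiter, hT, semiK_smul] at h1
    have h2 : (z - σ z) • semiK (gm g) σ v₀ = 0 := by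
      rw [sub_smul, h1, sub_self]
    rcases smul_eq_zero.mp h2 with h | h
    · exact (sub_eq_zero.mp h).symm
    · rw [← hT] at h
      exact absurd h hTv
  have hziU : z⁻¹ * τ z⁻¹ = 1 := by
    rw [map_inv₀, ← _root_.mul_inv_rev, mul_comm, hzU, inv_one]
  obtain ⟨μ, hμU, hμ⟩ := exists_unitary_nrm_eq D.hcomm D.hττ D.hr D.hr0 D.hi D.orderOf_τ₀ D.hcompat
    hziU (by rw [map_inv₀, hσz])
  obtain ⟨g', hg'⟩ : ∃ g' : Cfsg.GU n F q, g' = scU τ D.hτ μ hμU * g := ⟨_, rfl⟩
  have hg'c : gm g' = μ • gm g := by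
    rw [hg', gm_mul, gm_scU, Matrix.smul_mul, Matrix.one_mul]
  have hg'iter : ∀ v, ((semiK (gm g') σ)^[r]) v = v := by
    intro v
    rw [hg'c, semiK_smul_iterate, hiter, hμ, smul_smul, inv_mul_cancel₀ hz0, one_smul]
  obtain ⟨h, hh⟩ := lang_GU D g' hg'iter
  refine ⟨h, ?_⟩
  have h3 : g' = h * (guMap σ h)⁻¹ := by
    rw [eq_mul_inv_iff_mul_eq, hh]
  have h4 : (pstd g σ : MulAut (Cfsg.PSU n F q)) = pstd g' σ := by
    rw [pstd_eq_pstd_iff hK]
    exact ⟨rfl, μ, hg'c⟩
  have h5 := fldHom_mul_pstdHom (n := n) (q := q) σ h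
  rw [h4, pstd_eq_mul, h3, map_mul, map_inv]
  calc pstdHom n F q h * (pstdHom n F q (guMap σ h))⁻¹ * fldHom n F q σ
      = pstdHom n F q h * ((pstdHom n F q (guMap σ h))⁻¹ * (pstdHom n F q (guMap σ h) * fldHom n F q σ) *
          (pstdHom n F q h)⁻¹) := by
        rw [← h5]; group
    _ = _ := by group

end Cfsg.Agent.Helper14.AutPSU
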