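import Mathlib
import Cfsg.Agent.Helper14.PsuL

/-!
Helper14: automorphisms of `PSU_n(q)`, part M.  Construction of the field data for an automorphism
of odd order, and S2711.
-/

set_option autoImplicit false
set_option linter.unusedSectionVars false
set_option linter.unusedVariables false

namespace Cfsg.Agent.Helper14.AutPSU

open Matrix Cfsg.Agent.Helper13 Cfsg.Agent.Helper37.AutU Cfsg.Agent.Helper14.AutPSL
  Cfsg.Agent.Helper37.Lang Cfsg.Agent.Helper14.AutPSp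

variable {F : Type*} [Field F] [Fintype F] {p f q n r : ℕ}

theorem pow_pow_odd {K : Type*} [Field K] [Fintype K] {q₀ : ℕ} (hK : Fintype.card K = q₀ ^ 2)
    (x : K) (k : ℕ) : x ^ (q₀ ^ (2 * k + 1)) = x ^ q₀ := by
  induction k with
  | zero => simp
  | succ k ih =>
    have h1 : q₀ ^ (2 * (k + 1) + 1) = q₀ ^ 2 * q₀ ^ (2 * k + 1) := by ring
    rw [h1, pow_mul, ← hK, FiniteField.pow_card, ih]

/-- arithmetic of the order of `σ` -/
theorem fld_arith (H : Hyp F p f q n) (σ : F ≃+* F) (hr : orderOf σ = r) (hro : Odd r) :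
    r ∣ f ∧ q = (p ^ (f / r)) ^ r ∧
      ∀ [Fintype (fixF σ)], Fintype.card (fixF σ) = (p ^ (f / r)) ^ 2 := by
  classical
  have : Fact p.Prime := ⟨H.hp⟩
  have hft : Fintype (fixF σ) := Fintype.ofFinite _
  have hF' : Fintype.card F = p ^ (2 * f) := by
    rw [H.hF, H.hq, ← pow_mul, mul_comm]
  obtain ⟨hdvd, hcard⟩ := card_fixF σ hF'
  rw [hr] at hdvd hcard
  have hcop : Nat.Coprime r 2 := Nat.Coprime.symm (Nat.coprime_two_left.mpr hro)
  have hrf : r ∣ f := hcop.dvd_of_dvd_mul_left hdvd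
  refine ⟨hrf, ?_, ?_⟩
  · rw [H.hq, ← pow_mul, Nat.div_mul_cancel hrf]
  · intro inst
    rw [← pow_mul, mul_comm, ← Nat.mul_div_assoc 2 hrf, ← hcard]
    convert rfl

/-- the field data for an automorphism of odd order -/
theorem exists_fldData (H : Hyp F p f q n) (τ : F ≃+* F) (hτ : ∀ a, τ a = a ^ q) (σ : F ≃+* F)
    (hr : orderOf σ = r) (hro : Odd r) (F₀ : Type*) [Field F₀] [Fintype F₀]
    (hF₀ : Fintype.card F₀ = p ^ (2 * (f / r))) :
    ∃ (i : F₀ →+* F) (τ₀ : F₀ ≃+* F₀), FldData q (p ^ (f / r)) σ τ i τ₀ r := by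
  classical
  have hft : Fintype (fixF σ) := Fintype.ofFinite _
  obtain ⟨hrf, hqq, hcard⟩ := fld_arith H σ hr hro
  have hF₀' : Fintype.card F₀ = (p ^ (f / r)) ^ 2 := by rw [hF₀, ← pow_mul, mul_comm]
  obtain ⟨e⟩ : Nonempty (F₀ ≃+* fixF σ) := ⟨FiniteField.ringEquivOfCardEq (by rw [hcard, hF₀'])⟩
  obtain ⟨i, hidef⟩ : ∃ i : F₀ →+* F, i = (fixF σ).subtype.comp (e : F₀ →+* fixF σ) := ⟨_, rfl⟩
  have hi : ∀ a : F, σ a = a ↔ a ∈ i.range := by
    intro a
    rw [← mem_fixF, hidef]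
    constructor
    · intro ha
      exact ⟨e.symm ⟨a, ha⟩, by simp⟩
    · rintro ⟨b, rfl⟩
      exact (e b).2
  obtain ⟨τ₀, hτ₀⟩ := exists_tau hF₀'
  have hr0 : 0 < r := hro.pos
  refine ⟨i, τ₀, hτ, hτ₀, H.hF, hF₀', hr, hr0, hi, ?_⟩
  intro x
  obtain ⟨k, hk⟩ := hro
  have h1 := pow_pow_odd hF₀' x k
  rw [← hk] at h1
  rw [hτ, hτ₀, ← map_pow, hqq, h1]

/-- transfer of conjugacy along conjugation by an arbitrary element -/
theorem transfer_conj {X : Type*} [Group X] (Hs : Subgroup X) [hHn : Hs.Normal] (α x δ : X)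
    (h : ∃ k ∈ Hs, (α * δ * α⁻¹) * (α * x * α⁻¹) = k * (α * x * α⁻¹) * k⁻¹) :
    Cfsg.IsConjUnder Hs x (δ * x) := by
  obtain ⟨k, hk, hkeq⟩ := h
  refine ⟨α⁻¹ * k * α, ?_, ?_⟩
  · have := hHn.conj_mem k hk α⁻¹
    rwa [inv_inv] at this
  · have h1 : δ * x = α⁻¹ * ((α * δ * α⁻¹) * (α * x * α⁻¹)) * α := by group
    rw [h1, hkeq]
    group

theorem pow_conj_eq_one' {G : Type*} [Group G] (α y : G) {r : ℕ} (h : orderOf y = r) :
    (α * y * α⁻¹) ^ r = 1 := by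
  rw [conj_pow, ← h, pow_orderOf_eq_one, mul_one, mul_inv_cancel]

/-- S2711 -/
theorem psu_coset_conj [Fact p.Prime] (hq : q = p ^ f) (hf : 1 ≤ f) (hF : Fintype.card F = q ^ 2)
    (hn : 3 ≤ n) (hs : ¬ (n = 3 ∧ q = 2)) (x δ : MulAut (Cfsg.PSU n F q))
    (hx : Cfsg.IsFieldAutClassPSU x) (hr : r.Prime) (hxr : orderOf x = r)
    (hδ : δ ∈ Cfsg.inndiagPSU n F q) :
    orderOf (δ * x) = r ↔ Cfsg.IsConjUnder (Cfsg.inndiagPSU n F q) x (δ * x) := by
  classical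
  have H : Hyp F p f q n := ⟨Fact.out, hq, hf, hF, hn, hs⟩
  have hK := kerHyp_of_hyp H
  have hHn : (Cfsg.inndiagPSU n F q).Normal := inndiagPSU_normal H
  constructor
  · intro hord
    obtain ⟨α, φ, σ, hσ1, hσodd, hφ, hconj⟩ := hx
    rw [(isFieldAutOf_iff σ φ).mp hφ] at hconj
    have hσr : orderOf σ = r := by
      rw [← orderOf_fldHom (n := n) hK σ, ← hconj, ← hxr]
      exact orderOf_injective (MulAut.conj α).toMonoidHom (MulAut.conj α).injective x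
    rw [hσr] at hσodd
    obtain ⟨τ, hτ⟩ := exists_tau hF
    have hft : Fintype (fixF σ) := Fintype.ofFinite _
    obtain ⟨hrf, hqq, hcard⟩ := fld_arith H σ hσr hσodd
    obtain ⟨i, τ₀, D⟩ := exists_fldData H τ hτ σ hσr hσodd (fixF σ)
      (by rw [hcard, ← pow_mul, mul_comm])
    obtain ⟨g, hg⟩ := mem_inndiagPSU.mp (hHn.conj_mem δ hδ α)
    have hprod : (α * δ * α⁻¹) * (α * x * α⁻¹) = pstd g σ := by
      rw [hg, hconj, ← pstd_eq_mul]
    have hpow : (pstd g σ : MulAut (Cfsg.PSU n F q)) ^ r = 1 := by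
      rw [← hprod]
      have : (α * δ * α⁻¹) * (α * x * α⁻¹) = α * (δ * x) * α⁻¹ := by group
      rw [this]
      exact pow_conj_eq_one' α (δ * x) hord
    obtain ⟨h, hh⟩ := psu_field_case H D g hpow
    apply transfer_conj (Cfsg.inndiagPSU n F q) α x δ
    refine ⟨pstdHom n F q h, mem_inndiagPSU.mpr ⟨h, rfl⟩, ?_⟩
    rw [hprod, hh, hconj]
  · rintro ⟨h, -, heq⟩
    rw [heq, ← hxr]
    exact (MulAut.conj h).orderOf_eq x

end Cfsg.Agent.Helper14.AutPSU
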