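import Mathlib
import Cfsg.Agent.Helper14.PsuM

/-!
Helper14: local balance for `PSU_n(q)` (S2687), part (U-B1): a semilinear map `x ↦ G ρ(x)` of
`F^n` having every isotropic vector of the subfield space `F₀^n` as an eigenvector is a scalar,
and `ρ` is trivial on `F₀` (for `n ≥ 3`).
-/

set_option autoImplicit false
set_option linter.unusedSectionVars false
set_option linter.unusedVariables false

namespace Cfsg.Agent.Helper14.LBU

open Matrix Cfsg.Agent.Helper13 Cfsg.Agent.Helper37.AutU Cfsg.Agent.Helper14.AutPSL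
  Cfsg.Agent.Helper14.AutPSU Cfsg.Agent.Helper14.AutPSp

variable {F : Type*} [Field F] {F₀ : Type*} [Field F₀] [Fintype F₀] {q₀ n : ℕ}

/-- an element not fixed by the Frobenius `x ↦ x^q₀` -/
theorem exists_frob_ne (hF₀ : Fintype.card F₀ = q₀ ^ 2) : ∃ t : F₀, t ^ q₀ ≠ t := by
  obtain ⟨τ₀, hτ₀⟩ := exists_tau hF₀
  have hne := tau_ne_one τ₀ hτ₀ hF₀
  by_contra hcon
  apply hne
  ext a
  rw [hτ₀]
  by_contra h
  exact hcon ⟨a, h⟩

/-- two distinct elements of norm `-1` -/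
theorem exists_two_norm (hF₀ : Fintype.card F₀ = q₀ ^ 2) :
    ∃ c c' : F₀, c * c ^ q₀ = -1 ∧ c' * c' ^ q₀ = -1 ∧ c ≠ c' := by
  obtain ⟨c, hc⟩ := exists_norm_eq_of_fixed hF₀ (a := (-1 : F₀))
    (by rw [frob_neg' hF₀, one_pow])
  obtain ⟨t, ht⟩ := exists_frob_ne hF₀
  have ht0 : t ≠ 0 := by
    rintro rfl
    apply ht
    have hq := two_le_of_card_eq_sq hF₀
    rw [zero_pow (by omega)]
  have hc0 : c ≠ 0 := by
    rintro rfl
    rw [zero_mul] at hc
    exact one_ne_zero (neg_eq_zero.mp hc.symm)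
  refine ⟨c, c * (t ^ q₀ / t), hc, ?_, ?_⟩
  · have h1 : (c * (t ^ q₀ / t)) ^ q₀ = c ^ q₀ * (t / t ^ q₀) := by
      rw [mul_pow, div_pow, frob_frob hF₀]
    rw [h1]
    have htq : t ^ q₀ ≠ 0 := pow_ne_zero _ ht0
    calc c * (t ^ q₀ / t) * (c ^ q₀ * (t / t ^ q₀)) = (c * c ^ q₀) * ((t ^ q₀ / t) * (t / t ^ q₀)) := by
          ring
      _ = -1 := by
          rw [hc]
          field_simp
  · intro h
    have h2 : c * 1 = c * (t ^ q₀ / t) := by rw [mul_one]; exact h
    have h3 := mul_left_cancel₀ hc0 h2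
    apply ht
    field_simp at h3
    exact h3.symm

/-- existence of an element of given norm `-1 - N(c)` -/
theorem exists_norm_compl (hF₀ : Fintype.card F₀ = q₀ ^ 2) (c : F₀) :
    ∃ c' : F₀, c * c ^ q₀ + c' * c' ^ q₀ = -1 := by
  obtain ⟨c', hc'⟩ := exists_norm_eq_of_fixed hF₀ (a := -1 - c * c ^ q₀) (by
    have h1 : (-1 - c * c ^ q₀ : F₀) = -1 + -(c * c ^ q₀) := by ring
    rw [h1, frob_add hF₀, frob_neg' hF₀, frob_neg' hF₀, one_pow, mul_pow, frob_frob hF₀]
    ring)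
  exact ⟨c', by rw [hc']; ring⟩

/-- the three-term isotropic vectors -/
theorem semi_three (i : F₀ →+* F) (G : Matrix (Fin n) (Fin n) F) (ρ : F ≃+* F)
    (h : ∀ v₀ : Fin n → F₀, v₀ ≠ 0 → Cfsg.hermForm n F₀ q₀ v₀ v₀ = 0 →
      ∃ a : F, semi G ρ (fun k => i (v₀ k)) = a • (fun k => i (v₀ k)))
    {a b d : Fin n} (hab : a ≠ b) (had : a ≠ d) (hbd : b ≠ d) {c c' : F₀}
    (hcc : c * c ^ q₀ + c' * c' ^ q₀ = -1) :
    ∃ l : F, ∀ k, G k a + ρ (i c) * G k b + ρ (i c') * G k d =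
      l * ((if k = a then 1 else 0) + i c * (if k = b then 1 else 0)
        + i c' * (if k = d then 1 else 0)) := by
  classical
  obtain ⟨v₀, hv₀⟩ : ∃ v₀ : Fin n → F₀,
      v₀ = Pi.single a 1 + c • Pi.single b 1 + c' • Pi.single d 1 := ⟨_, rfl⟩
  have hva : v₀ a = 1 := by
    rw [hv₀]
    simp [hab, had]
  have hv0 : v₀ ≠ 0 := by
    intro h0
    rw [h0] at hva
    exact zero_ne_one hva
  have hiso : Cfsg.hermForm n F₀ q₀ v₀ v₀ = 0 := by
    rw [hv₀]
    simp only [hermForm_add_left, hermForm_smul_left, hermForm_single_left, Pi.add_apply,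
      Pi.smul_apply, Pi.single_apply, smul_eq_mul, if_true, if_neg hab, if_neg hab.symm,
      if_neg had, if_neg had.symm, if_neg hbd, if_neg hbd.symm, mul_zero, add_zero, zero_add,
      mul_one, one_pow]
    linear_combination hcc
  obtain ⟨l, hl⟩ := h v₀ hv0 hiso
  refine ⟨l, fun k => ?_⟩
  have hvec : (fun j => ρ (i (v₀ j))) =
      Pi.single a 1 + ρ (i c) • Pi.single b 1 + ρ (i c') • Pi.single d 1 := by
    ext j
    rw [hv₀]
    simp only [Pi.add_apply, Pi.smul_apply, Pi.single_apply, smul_eq_mul, map_add, map_mul]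
    split_ifs <;> simp
  have h1 := congrFun hl k
  unfold semi at h1
  rw [hvec, Matrix.mulVec_add, Matrix.mulVec_add, Matrix.mulVec_smul, Matrix.mulVec_smul,
    Matrix.mulVec_single_one, Matrix.mulVec_single_one, Matrix.mulVec_single_one] at h1
  simp only [Pi.add_apply, Pi.smul_apply, Matrix.col_apply, smul_eq_mul] at h1
  rw [h1, hv₀]
  simp only [Pi.add_apply, Pi.smul_apply, Pi.single_apply, smul_eq_mul, map_add, map_mul]
  split_ifs <;> simp

/-- **the eigenvector lemma** -/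
theorem scalar_of_eigen (hF₀ : Fintype.card F₀ = q₀ ^ 2) (hn : 3 ≤ n) (i : F₀ →+* F)
    (G : Matrix (Fin n) (Fin n) F) (hG : G ≠ 0) (ρ : F ≃+* F)
    (h : ∀ v₀ : Fin n → F₀, v₀ ≠ 0 → Cfsg.hermForm n F₀ q₀ v₀ v₀ = 0 →
      ∃ a : F, semi G ρ (fun k => i (v₀ k)) = a • (fun k => i (v₀ k))) :
    (∀ c : F₀, ρ (i c) = i c) ∧ ∃ ζ : F, G = ζ • (1 : Matrix (Fin n) (Fin n) F) := by
  classical
  have hthird : ∀ a b : Fin n, ∃ d : Fin n, d ≠ a ∧ d ≠ b := by
    intro a b
    by_contra hcon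
    push Not at hcon
    have hsub : (Finset.univ : Finset (Fin n)) ⊆ {a, b} := by
      intro d _
      by_cases hda : d = a
      · simp [hda]
      · simp [hcon d hda]
    have := Finset.card_le_card hsub
    have h2 : ({a, b} : Finset (Fin n)).card ≤ 2 := Finset.card_le_two
    rw [Finset.card_univ, Fintype.card_fin] at this
    omega
  -- off-diagonal entries vanish
  have hoff : ∀ k b : Fin n, k ≠ b → G k b = 0 := by
    intro k b hkb
    obtain ⟨a, hak, hab⟩ := hthird k b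
    obtain ⟨c₁, c₂, hc₁, hc₂, hne⟩ := exists_two_norm hF₀
    obtain ⟨l₁, h₁⟩ := semi_three i G ρ h hab hak hkb.symm (c := c₁) (c' := 0)
      (by rw [hc₁]; simp)
    obtain ⟨l₂, h₂⟩ := semi_three i G ρ h hab hak hkb.symm (c := c₂) (c' := 0)
      (by rw [hc₂]; simp)
    have e₁ := h₁ k
    have e₂ := h₂ k
    simp only [if_neg hak.symm, if_neg hkb, map_zero, zero_mul, mul_zero, add_zero, if_true,
      mul_one] at e₁ e₂
    have h3 : (ρ (i c₁) - ρ (i c₂)) * G k b = 0 := by linear_combination e₁ - e₂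
    rcases mul_eq_zero.mp h3 with h4 | h4
    · exfalso
      apply hne
      apply i.injective
      apply ρ.injective
      exact sub_eq_zero.mp h4
    · exact h4
  -- diagonal entries
  have hdiag : ∀ a b : Fin n, a ≠ b → ∀ c : F₀, ρ (i c) * G b b = G a a * i c := by
    intro a b hab c
    obtain ⟨d, hda, hdb⟩ := hthird a b
    obtain ⟨c', hcc⟩ := exists_norm_compl hF₀ c
    obtain ⟨l, hl⟩ := semi_three i G ρ h hab hda.symm hdb.symm hcc
    have e₁ := hl a
    have e₂ := hl b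
    simp only [if_true, if_neg hab, if_neg hab.symm, if_neg hda.symm, if_neg hdb.symm,
      hoff a b hab, hoff a d hda.symm, hoff b a hab.symm, hoff b d hdb.symm, mul_zero, add_zero,
      zero_add, mul_one] at e₁ e₂
    rw [e₂, ← e₁]
  have hn0 : 0 < n := by omega
  have hall : ∀ b : Fin n, G b b = G ⟨0, hn0⟩ ⟨0, hn0⟩ := by
    intro b
    by_cases hb : (⟨0, hn0⟩ : Fin n) = b
    · rw [← hb]
    · have := hdiag ⟨0, hn0⟩ b hb 1
      rw [map_one, map_one, one_mul, mul_one] at this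
      exact this
  have hGeq : G = G ⟨0, hn0⟩ ⟨0, hn0⟩ • (1 : Matrix (Fin n) (Fin n) F) := by
    ext k j
    rw [Matrix.smul_apply, Matrix.one_apply, smul_eq_mul]
    by_cases hkj : k = j
    · rw [if_pos hkj, mul_one, hkj, hall j]
    · rw [if_neg hkj, mul_zero, hoff k j hkj]
  have hζ : G ⟨0, hn0⟩ ⟨0, hn0⟩ ≠ 0 := by
    intro h0
    apply hG
    rw [hGeq, h0, zero_smul]
  refine ⟨fun c => ?_, _, hGeq⟩
  obtain ⟨b, hb, -⟩ := hthird ⟨0, hn0⟩ ⟨0, hn0⟩
  have := hdiag ⟨0, hn0⟩ b hb.symm c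
  rw [hall b, mul_comm] at this
  exact mul_left_cancel₀ hζ this

end Cfsg.Agent.Helper14.LBU
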