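import Mathlib
import Cfsg.Agent.Helper14.PsuM
import Cfsg.Agent.S0282

/-!
Helper14: local balance for `PSU_n(q)` (S2687), part (U-R): the standing hypotheses from
simplicity, the normal form of an automorphism of prime order which is not inner-diagonal, its
conjugacy to a standard field automorphism (odd order), and the first clause of the criterion.
-/

set_option autoImplicit false
set_option linter.unusedSectionVars false
set_option linter.unusedVariables false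

namespace Cfsg.Agent.Helper14.LBU

open Matrix Cfsg.Agent.Helper13 Cfsg.Agent.Helper37.AutU Cfsg.Agent.Helper14.AutPSL
  Cfsg.Agent.Helper14.AutPSU Cfsg.Agent.Helper14.AutPSp

variable {F : Type*} [Field F] [Fintype F] {p f q n : ℕ}

/-- a simple `PSU_n(q)` is not `PSU_3(2)` -/
theorem not_three_two (hF : Fintype.card F = q ^ 2) (hK : IsSimpleGroup (Cfsg.PSU n F q)) :
    ¬ (n = 3 ∧ q = 2) := by
  rintro ⟨rfl, rfl⟩
  obtain ⟨hcard, hsolv⟩ := Cfsg.Agent.S0282.result (F := F) (by rw [hF]; norm_num)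
  have hcomm := (IsSimpleGroup.comm_iff_isSolvable (G := Cfsg.PSU 3 F 2)).mpr hsolv
  let _ : CommGroup (Cfsg.PSU 3 F 2) := { (inferInstance : Group (Cfsg.PSU 3 F 2)) with
    mul_comm := hcomm }
  have hprime := IsSimpleGroup.prime_card (α := Cfsg.PSU 3 F 2)
  rw [hcard] at hprime
  norm_num at hprime

/-- the standing hypotheses, with the characteristic as the prime -/
theorem exists_hyp_char (r : ℕ) [hr : CharP F r] (hF : Fintype.card F = q ^ 2) (hn : 3 ≤ n)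
    (h32 : ¬ (n = 3 ∧ q = 2)) : ∃ f : ℕ, Hyp F r f q n := by
  obtain ⟨p, hchar, k, hp, hk⟩ := FiniteField.card' F
  have hpr : p = r := CharP.eq F hchar hr
  subst hpr
  have hq2 : q ^ 2 = p ^ (k : ℕ) := by rw [← hF, hk]
  have hdvd : q ∣ p ^ (k : ℕ) := by rw [← hq2]; exact dvd_pow_self q (by norm_num)
  obtain ⟨f, -, hf⟩ := (Nat.dvd_prime_pow hp).mp hdvd
  have hq := two_le_of_card_eq_sq hF
  refine ⟨f, hp, hf, ?_, hF, hn, h32⟩
  by_contra h0
  have : f = 0 := by omega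
  rw [this, pow_zero] at hf
  omega

/-- the standing hypotheses from simplicity -/
theorem exists_hyp_of_simple (r : ℕ) [CharP F r] (hF : Fintype.card F = q ^ 2) (hn : 3 ≤ n)
    (hK : IsSimpleGroup (Cfsg.PSU n F q)) : ∃ f : ℕ, Hyp F r f q n :=
  exists_hyp_char r hF hn (not_three_two hF hK)

/-- normal form: an automorphism of prime order `ℓ` which is not inner-diagonal is `pstd g σ`
with `σ` of order `ℓ` -/
theorem exists_pstd (H : Hyp F p f q n) {ℓ : ℕ} (hℓ : ℓ.Prime) (β : MulAut (Cfsg.PSU n F q))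
    (hord : orderOf β = ℓ) (hnot : ¬ Cfsg.IsInnerDiagonalAutPSU β) :
    ∃ (g : Cfsg.GU n F q) (σ : F ≃+* F), β = pstd g σ ∧ orderOf σ = ℓ := by
  have hK := kerHyp_of_hyp H
  obtain ⟨g, σ, hβ⟩ := aut_eq_pstd H β
  refine ⟨g, σ, hβ, ?_⟩
  have hpow : (pstd g σ : MulAut (Cfsg.PSU n F q)) ^ ℓ = 1 := by
    rw [← hβ, ← hord]
    exact pow_orderOf_eq_one β
  rw [pow_pstd] at hpow
  obtain ⟨hσ, -⟩ := hK _ _ hpow
  have hdvd : orderOf σ ∣ ℓ := orderOf_dvd_of_pow_eq_one hσ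
  rcases (Nat.dvd_prime hℓ).mp hdvd with h1 | h1
  · exfalso
    apply hnot
    rw [orderOf_eq_one_iff] at h1
    rw [hβ, h1]
    exact pstd_isInnerDiagonal g
  · exact h1

/-- odd prime order: conjugate under `Inndiag` to the standard field automorphism -/
theorem exists_conj_std (H : Hyp F p f q n) {ℓ : ℕ} (hℓ : ℓ.Prime) (hodd : ℓ ≠ 2)
    (β : MulAut (Cfsg.PSU n F q)) (hord : orderOf β = ℓ)
    (hnot : ¬ Cfsg.IsInnerDiagonalAutPSU β) :
    ∃ (h : Cfsg.GU n F q) (σ : F ≃+* F), orderOf σ = ℓ ∧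
      β = pstdHom n F q h * fldHom n F q σ * (pstdHom n F q h)⁻¹ := by
  classical
  obtain ⟨g, σ, hβ, hσ⟩ := exists_pstd H hℓ β hord hnot
  have hoddℓ : Odd ℓ := hℓ.odd_of_ne_two hodd
  obtain ⟨τ, hτ⟩ := exists_tau H.hF
  have hft : Fintype (fixF σ) := Fintype.ofFinite _
  obtain ⟨hrf, hqq, hcard⟩ := fld_arith H σ hσ hoddℓ
  obtain ⟨i, τ₀, D⟩ := exists_fldData H τ hτ σ hσ hoddℓ (fixF σ)
    (by rw [hcard, ← pow_mul, mul_comm])
  have hpow : (pstd g σ : MulAut (Cfsg.PSU n F q)) ^ ℓ = 1 := by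
    rw [← hβ, ← hord]
    exact pow_orderOf_eq_one β
  obtain ⟨h, hh⟩ := psu_field_case H D g hpow
  exact ⟨h, σ, hσ, by rw [hβ, hh]⟩

/-- order two: `β = pstd g τ` with `τ` the involution `x ↦ x^q` -/
theorem exists_pstd_tau (H : Hyp F p f q n) (τ : F ≃+* F) (hτ : ∀ a, τ a = a ^ q)
    (β : MulAut (Cfsg.PSU n F q)) (hord : orderOf β = 2)
    (hnot : ¬ Cfsg.IsInnerDiagonalAutPSU β) :
    ∃ g : Cfsg.GU n F q, β = pstd g τ := by
  obtain ⟨g, σ, hβ, hσ⟩ := exists_pstd H Nat.prime_two β hord hnot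
  refine ⟨g, ?_⟩
  rw [hβ, eq_tau_of_orderOf τ hτ H σ hσ]

/-- the first clause of the criterion always holds -/
theorem first_clause (H : Hyp F p f q n) (β : MulAut (Cfsg.PSU n F q)) :
    ∃ γ φ : MulAut (Cfsg.PSU n F q), Cfsg.IsInnerDiagonalAutPSU γ ∧
      (∃ σ : F ≃+* F, Cfsg.IsFieldAutPSUOf σ φ) ∧ β = φ.trans γ := by
  obtain ⟨g, σ, hβ⟩ := aut_eq_pstd H β
  refine ⟨pstd g (RingEquiv.refl F), pstd (1 : Cfsg.GU n F q) σ, pstd_isInnerDiagonal g,
    ⟨σ, pstd_isFieldAut σ⟩, ?_⟩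
  rw [hβ, pstd_eq_mul, pstdHom_apply, fldHom_apply]
  rfl

end Cfsg.Agent.Helper14.LBU
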