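import Mathlib
import Cfsg.Agent.Helper14.AutSplit

/-!
Helper14: field automorphisms of prime order of `PSL_n(q)`: centraliser in the inner-diagonal group
and class splitting.
-/

set_option autoImplicit false
set_option linter.unusedSectionVars false

namespace Cfsg.Agent.Helper14.AutPSL

open Matrix

theorem Inn_normal (G : Type*) [Group G] : (Cfsg.Inn G).Normal := by
  constructor
  rintro _ ⟨y, rfl⟩ β
  refine ⟨β y, ?_⟩
  ext z
  simp only [MulAut.conj_apply, MulAut.mul_apply, MulAut.inv_apply, map_mul, map_inv,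
    MulEquiv.apply_symm_apply]

variable {n : ℕ} {F : Type*} [Field F]

theorem card_Pσ_index [Fintype F] (σ : F ≃+* F) [Fintype (fixF σ)] :
    (Pσ n σ).index = Nat.gcd n ((Fintype.card F - 1) / (Fintype.card (fixF σ) - 1)) := by
  unfold Pσ
  rw [index_pow_sup, Nat.card_units, Nat.card_eq_fintype_card]
  congr 2
  have hinj : Function.Injective (Units.map ((fixF σ).subtype : fixF σ →* F)) := by
    apply Units.map_injective
    exact Subtype.val_injective
  have h1 : Nat.card ((Units.map ((fixF σ).subtype : fixF σ →* F)).range) = Nat.card (fixF σ)ˣ :=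
    Nat.card_congr (MonoidHom.ofInjective hinj).symm.toEquiv
  rw [h1, Nat.card_units, Nat.card_eq_fintype_card]

/-- field automorphisms of prime order -/
theorem field_aut_main [Fintype F] {p f : ℕ} [hp : Fact p.Prime]
    (hF : Fintype.card F = p ^ f) (hf : 1 ≤ f) (hn : 2 ≤ n)
    (x α : MulAut (Matrix.ProjectiveSpecialLinearGroup (Fin n) F)) (σ : F ≃+* F)
    (hx₀ : α * x * α⁻¹ = pslOf (slField σ)) {r : ℕ} (hxr : orderOf x = r)
    (F₀ : Type*) [Field F₀] [Fintype F₀] (hF₀ : Fintype.card F₀ = p ^ (f / r)) :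
    r ∣ f ∧ Nonempty (↥(Cfsg.inndiagPSL n F ⊓ Subgroup.centralizer {x}) ≃*
      Matrix.ProjGenLinGroup (Fin n) F₀) ∧
    Cfsg.splitClassCount (Cfsg.inndiagPSL n F)
      (Cfsg.Inn (Matrix.ProjectiveSpecialLinearGroup (Fin n) F)) x =
      Nat.gcd n ((p ^ f - 1) / (p ^ (f / r) - 1)) := by
  classical
  have hft : Fintype (fixF σ) := Fintype.ofFinite _
  have hord : orderOf σ = r := by
    rw [← orderOf_fieldAut (n := n) hn σ, ← hx₀, ← hxr]
    exact orderOf_injective (MulAut.conj α).toMonoidHom (MulAut.conj α).injective x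
  obtain ⟨hdvd, hcard⟩ := card_fixF σ hF
  rw [hord] at hdvd hcard
  have hHn : (Cfsg.inndiagPSL n F).Normal := inndiag_normal hF hf hn
  have hKn : (Cfsg.Inn (Matrix.ProjectiveSpecialLinearGroup (Fin n) F)).Normal := Inn_normal _
  refine ⟨hdvd, ?_, ?_⟩
  · have e1 := centralizerConjEquiv (Cfsg.inndiagPSL n F) α x
    rw [hx₀] at e1
    have e2 := centralizerFieldEquiv (n := n) σ hn
    have e3 : Matrix.ProjGenLinGroup (Fin n) (fixF σ) ≃* Matrix.ProjGenLinGroup (Fin n) F₀ :=
      pglCongr (FiniteField.ringEquivOfCardEq (by rw [hcard, hF₀]))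
    exact ⟨(e1.trans e2).trans e3⟩
  · rw [← splitClassCount_conj _ _ α x, hx₀, splitClassCount_field σ hn, card_Pσ_index, hF, hcard]

end Cfsg.Agent.Helper14.AutPSL
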