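import Mathlib
import Cfsg.Prelude.Def_LieTypeDatum
import Cfsg.Agent.Helper14.AutGraph
import Cfsg.Agent.Helper14.AutTransport

/-!
Helper14: the centraliser of the graph automorphism `c(g) ι` in the inner-diagonal group of
`PSL_n(F)` is the projective similarity group of the bilinear form with Gram matrix `g`.
-/

set_option autoImplicit false
set_option linter.unusedSectionVars false

namespace Cfsg.Agent.Helper14.AutPSL

open Matrix

variable {n : ℕ} {F : Type*} [Field F] {κ : Type} [Fintype κ] [DecidableEq κ]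

/-- the bilinear form with Gram matrix `M` -/
def gramForm (M : Matrix κ κ F) (u v : κ → F) : F := u ⬝ᵥ (M *ᵥ v)

theorem gramForm_mulVec (M k : Matrix κ κ F) (u v : κ → F) :
    gramForm M (k *ᵥ u) (k *ᵥ v) = gramForm (kᵀ * M * k) u v := by
  unfold gramForm
  rw [← Matrix.vecMul_transpose, ← Matrix.dotProduct_mulVec, Matrix.mulVec_mulVec,
    Matrix.mulVec_mulVec, Matrix.mul_assoc]

theorem gramForm_single (M : Matrix κ κ F) (i j : κ) :
    gramForm M (Pi.single i 1) (Pi.single j 1) = M i j := by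
  unfold gramForm
  rw [Matrix.mulVec_single_one, single_dotProduct, one_mul, Matrix.col_apply]

theorem gramForm_smul (c : F) (M : Matrix κ κ F) (u v : κ → F) :
    gramForm (c • M) u v = c * gramForm M u v := by
  unfold gramForm
  rw [Matrix.smul_mulVec, dotProduct_smul, smul_eq_mul]

theorem gramForm_ext {M M' : Matrix κ κ F} (h : ∀ u v, gramForm M u v = gramForm M' u v) :
    M = M' := by
  ext i j
  rw [← gramForm_single M, ← gramForm_single M', h]

theorem mem_similarityGroup_gram (M : Matrix κ κ F) (k : GL κ F) :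
    k ∈ Cfsg.Geo.similarityGroup (gramForm M) ↔
      ∃ c : Fˣ, (k : Matrix κ κ F)ᵀ * M * (k : Matrix κ κ F) = (c : F) • M := by
  constructor
  · rintro ⟨c, hc⟩
    refine ⟨c, gramForm_ext ?_⟩
    intro u v
    rw [← gramForm_mulVec, hc, gramForm_smul]
  · rintro ⟨c, hc⟩
    refine ⟨c, ?_⟩
    intro u v
    rw [gramForm_mulVec, hc, gramForm_smul]

/-- reindexing `GL` -/
def glReindex (e : κ ≃ Fin n) : GL κ F ≃* GL (Fin n) F :=
  Units.mapEquiv (Matrix.reindexAlgEquiv F F e).toMulEquiv

theorem glReindex_coe (e : κ ≃ Fin n) (k : GL κ F) :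
    ((glReindex e k : GL (Fin n) F) : Matrix (Fin n) (Fin n) F) =
      Matrix.reindexAlgEquiv F F e (k : Matrix κ κ F) := rfl

/-- inverse transpose as an automorphism of `GL` -/
def glInvTEquiv : GL κ F ≃* GL κ F where
  toFun := glInvT
  invFun := glInvT
  left_inv k := by
    apply Units.ext
    rw [glInvT_coe, glInvT_inv_coe, Matrix.transpose_transpose]
  right_inv k := by
    apply Units.ext
    rw [glInvT_coe, glInvT_inv_coe, Matrix.transpose_transpose]
  map_mul' a b := by
    apply Units.ext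
    rw [Units.val_mul, glInvT_coe, glInvT_coe, glInvT_coe, _root_.mul_inv_rev, Units.val_mul,
      Matrix.transpose_mul]

/-- `k ↦` the reindexed inverse transpose -/
def Egr (e : κ ≃ Fin n) : GL κ F ≃* GL (Fin n) F := (glInvTEquiv (F := F)).trans (glReindex e)

theorem Egr_coe (e : κ ≃ Fin n) (k : GL κ F) :
    ((Egr e k : GL (Fin n) F) : Matrix (Fin n) (Fin n) F) =
      Matrix.reindexAlgEquiv F F e (((k⁻¹ : GL κ F) : Matrix κ κ F)ᵀ) := rfl

theorem reindex_transpose (e : κ ≃ Fin n) (A : Matrix κ κ F) :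
    (Matrix.reindexAlgEquiv F F e A)ᵀ = Matrix.reindexAlgEquiv F F e Aᵀ := by
  rw [Matrix.coe_reindexAlgEquiv, Matrix.transpose_reindex]

theorem Egr_mem_simT_iff (hn : 2 ≤ n) (e : κ ≃ Fin n) (M k : GL κ F) :
    Egr e k ∈ simT (glReindex e M) ↔ k ∈ Cfsg.Geo.similarityGroup (gramForm (M : Matrix κ κ F)) := by
  rw [← inv_mem_iff (x := k), mem_similarityGroup_gram, mem_simT hn]
  have h1 : ∀ μ : Fˣ, ((Egr e k : GL (Fin n) F) : Matrix (Fin n) (Fin n) F) *
      ((glReindex e M : GL (Fin n) F) : Matrix (Fin n) (Fin n) F) *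
      ((Egr e k : GL (Fin n) F) : Matrix (Fin n) (Fin n) F)ᵀ =
        (μ : F) • ((glReindex e M : GL (Fin n) F) : Matrix (Fin n) (Fin n) F) ↔
      ((k⁻¹ : GL κ F) : Matrix κ κ F)ᵀ * (M : Matrix κ κ F) * ((k⁻¹ : GL κ F) : Matrix κ κ F) =
        (μ : F) • (M : Matrix κ κ F) := by
    intro μ
    rw [Egr_coe, glReindex_coe, reindex_transpose, Matrix.transpose_transpose, ← map_mul, ← map_mul,
      ← map_smul]
    exact (Matrix.reindexAlgEquiv F F e).injective.eq_iff
  constructor
  · rintro ⟨μ, hμ⟩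
    exact ⟨μ, (h1 μ).mp hμ⟩
  · rintro ⟨μ, hμ⟩
    exact ⟨μ, (h1 μ).mpr hμ⟩

theorem map_similarityGroup (hn : 2 ≤ n) (e : κ ≃ Fin n) (M : GL κ F) :
    (Cfsg.Geo.similarityGroup (gramForm (M : Matrix κ κ F))).map (Egr e).toMonoidHom =
      simT (glReindex e M) := by
  ext h
  constructor
  · rintro ⟨k, hk, rfl⟩
    exact (Egr_mem_simT_iff hn e M k).mpr hk
  · intro hh
    refine ⟨(Egr e).symm h, ?_, (Egr e).apply_symm_apply h⟩
    apply (Egr_mem_simT_iff hn e M _).mp
    rw [(Egr e).apply_symm_apply]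
    exact hh

theorem geoScalars_eq_center' :
    Cfsg.Geo.scalars κ F = Subgroup.center (GL κ F) := by
  rw [Matrix.GeneralLinearGroup.center_eq_range_scalar]
  rfl

/-- similarities of the form with Gram matrix `M` act on `PSL_n` -/
def graphCentHom (e : κ ≃ Fin n) (M : GL κ F) :
    ↥(Cfsg.Geo.similarityGroup (gramForm (M : Matrix κ κ F))) →*
    MulAut (Matrix.SpecialLinearGroup (Fin n) F ⧸
      Subgroup.center (Matrix.SpecialLinearGroup (Fin n) F)) :=
  (inndiagHom n F).comp ((Egr e).toMonoidHom.comp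
    (Cfsg.Geo.similarityGroup (gramForm (M : Matrix κ κ F))).subtype)

theorem range_graphCentHom (hn : 2 ≤ n) (e : κ ≃ Fin n) (M : GL κ F) :
    (graphCentHom e M).range =
      Cfsg.inndiagPSL n F ⊓ Subgroup.centralizer {gph (glReindex e M)} := by
  unfold graphCentHom
  rw [MonoidHom.range_comp, MonoidHom.range_comp, Subgroup.range_subtype,
    map_similarityGroup hn, map_simT]

theorem ker_graphCentHom (hn : 2 ≤ n) (e : κ ≃ Fin n) (M : GL κ F) :
    (graphCentHom e M).ker =
      (Cfsg.Geo.scalars κ F).subgroupOf (Cfsg.Geo.similarityGroup (gramForm (M : Matrix κ κ F))) := by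
  ext k
  rw [MonoidHom.mem_ker, Subgroup.mem_subgroupOf, geoScalars_eq_center']
  have h1 : graphCentHom e M k = inndiagHom n F (Egr e (k : GL κ F)) := rfl
  rw [h1, ← MonoidHom.mem_ker, ker_inndiagHom hn, ← map_center_of_mulEquiv (Egr (F := F) e)]
  exact Subgroup.mem_map_iff_mem (Egr (F := F) e).injective

/-- the centraliser of `c(g) ι` in the inner-diagonal group -/
noncomputable def graphCentEquiv (hn : 2 ≤ n) (e : κ ≃ Fin n) (M : GL κ F) :
    ↥(Cfsg.inndiagPSL n F ⊓ Subgroup.centralizer {gph (glReindex e M)}) ≃*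
      Cfsg.projQuot (Cfsg.Geo.similarityGroup (gramForm (M : Matrix κ κ F))) :=
  ((MulEquiv.subgroupCongr (range_graphCentHom hn e M)).symm.trans
    (QuotientGroup.quotientKerEquivRange (graphCentHom e M)).symm).trans
    (QuotientGroup.quotientMulEquivOfEq (ker_graphCentHom hn e M))

end Cfsg.Agent.Helper14.AutPSL
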