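import Mathlib

set_option autoImplicit false

namespace Cfsg.Agent.Helper14

open Module Matrix

section Discr

variable {F V : Type*} [Field F] [AddCommGroup V] [Module F V]

/-- Gram determinants with respect to two bases differ by a non-zero square. -/
theorem det_gram_base_change {ι ι' : Type*} [Fintype ι] [DecidableEq ι] [Fintype ι']
    [DecidableEq ι'] (b : Basis ι F V) (c : Basis ι' F V) (B : LinearMap.BilinForm F V) :
    ∃ s : F, s ≠ 0 ∧
      (LinearMap.BilinForm.toMatrix c B).det = s * s * (LinearMap.BilinForm.toMatrix b B).det := by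
  let e : ι' ≃ ι := c.indexEquiv b
  let c' : Basis ι F V := c.reindex e
  have h1 := LinearMap.BilinForm.toMatrix_mul_basis_toMatrix b c' B
  have h2 : LinearMap.BilinForm.toMatrix c' B
      = (LinearMap.BilinForm.toMatrix c B).submatrix e.symm e.symm := by
    ext i j
    simp [c', LinearMap.BilinForm.toMatrix_apply, Basis.reindex_apply]
  have hinv : Invertible (b.toMatrix c') := Basis.invertibleToMatrix b c'
  have hdet : (b.toMatrix c').det ≠ 0 := by
    have := Matrix.isUnit_det_of_invertible (b.toMatrix c')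
    exact this.ne_zero
  refine ⟨(b.toMatrix c').det, hdet, ?_⟩
  have h3 := congrArg Matrix.det h1
  rw [Matrix.det_mul, Matrix.det_mul, Matrix.det_transpose, h2,
    Matrix.det_submatrix_equiv_self] at h3
  rw [← h3]
  ring

/-- The determinant of a matrix with a zero upper-left block. -/
theorem det_fromBlocks_zero₁₁' {r : Type*} [Fintype r] [DecidableEq r] (P S : Matrix r r F) :
    (Matrix.fromBlocks (0 : Matrix r r F) P Pᵀ S).det = (-1) ^ Fintype.card r * P.det * P.det := by
  have h1 : Matrix.fromBlocks (1 : Matrix r r F) (1 : Matrix r r F) (-1 : Matrix r r F) (0 : Matrix r r F) * Matrix.fromBlocks (0 : Matrix r r F) P Pᵀ S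
      = Matrix.fromBlocks Pᵀ (P + S) (0 : Matrix r r F) (-P) := by
    rw [Matrix.fromBlocks_multiply]
    simp
  have h2 : (Matrix.fromBlocks (1 : Matrix r r F) (1 : Matrix r r F) (-1 : Matrix r r F) (0 : Matrix r r F)).det = 1 := by
    have h3 : Matrix.fromBlocks (1 : Matrix r r F) (1 : Matrix r r F) (-1 : Matrix r r F) (0 : Matrix r r F)
        = Matrix.fromBlocks (1 : Matrix r r F) (0 : Matrix r r F) (-1 : Matrix r r F) (1 : Matrix r r F) * Matrix.fromBlocks (1 : Matrix r r F) (1 : Matrix r r F) (0 : Matrix r r F) (1 : Matrix r r F) := by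
      rw [Matrix.fromBlocks_multiply]
      simp
    rw [h3, Matrix.det_mul, Matrix.det_fromBlocks_zero₁₂, Matrix.det_fromBlocks_zero₂₁]
    simp
  have h4 := congrArg Matrix.det h1
  rw [Matrix.det_mul, h2, one_mul, Matrix.det_fromBlocks_zero₂₁, Matrix.det_transpose,
    Matrix.det_neg] at h4
  rw [h4]
  ring

/-- A space with a totally isotropic subspace of half the dimension has Gram determinant
`(-1)^r` times a square, in a suitable basis. -/
theorem exists_basis_of_lagrangian [FiniteDimensional F V] (B : LinearMap.BilinForm F V)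
    (hS : B.IsSymm) (r : ℕ) (hV : finrank F V = 2 * r) (L : Submodule F V)
    (hL : finrank F L = r) (hL0 : ∀ x ∈ L, ∀ y ∈ L, B x y = 0) :
    ∃ (b : Basis (Fin r ⊕ Fin r) F V) (p : F),
      (LinearMap.BilinForm.toMatrix b B).det = (-1) ^ r * p * p := by
  obtain ⟨L', hc⟩ := Submodule.exists_isCompl L
  have hL' : finrank F L' = r := by
    have := Submodule.finrank_add_eq_of_isCompl hc
    omega
  let eL : Basis (Fin r) F L := Module.finBasisOfFinrankEq F L hL
  let eL' : Basis (Fin r) F L' := Module.finBasisOfFinrankEq F L' hL'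
  let b : Basis (Fin r ⊕ Fin r) F V := (eL.prod eL').map (Submodule.prodEquivOfIsCompl L L' hc)
  have hbl : ∀ i, b (Sum.inl i) = (eL i : V) := by
    intro i
    simp [b, Basis.map_apply, Submodule.coe_prodEquivOfIsCompl']
  have hbr : ∀ i, b (Sum.inr i) = (eL' i : V) := by
    intro i
    simp [b, Basis.map_apply, Submodule.coe_prodEquivOfIsCompl']
  let P : Matrix (Fin r) (Fin r) F := fun i j => B (eL i : V) (eL' j : V)
  let S : Matrix (Fin r) (Fin r) F := fun i j => B (eL' i : V) (eL' j : V)
  have hG : LinearMap.BilinForm.toMatrix b B = Matrix.fromBlocks (0 : Matrix (Fin r) (Fin r) F) P Pᵀ S := by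
    ext i j
    rw [LinearMap.BilinForm.toMatrix_apply]
    rcases i with i | i <;> rcases j with j | j
    · rw [hbl, hbl, Matrix.fromBlocks_apply₁₁]
      exact hL0 _ (eL i).2 _ (eL j).2
    · rw [hbl, hbr, Matrix.fromBlocks_apply₁₂]
    · rw [hbr, hbl, Matrix.fromBlocks_apply₂₁, Matrix.transpose_apply]
      exact hS.eq _ _
    · rw [hbr, hbr, Matrix.fromBlocks_apply₂₂]
  refine ⟨b, P.det, ?_⟩
  rw [hG, det_fromBlocks_zero₁₁', Fintype.card_fin]

end Discr

end Cfsg.Agent.Helper14
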