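import Mathlib
import Cfsg.Prelude.Def_Classical

set_option autoImplicit false

namespace Cfsg.Agent.Helper14

open Module

section PlusForm

variable (m : ℕ) (F : Type*) [Field F]

/-- The hyperbolic form `Σ x_i y_i` as a Mathlib quadratic form. -/
noncomputable def plusForm : QuadraticForm F (Fin m ⊕ Fin m → F) :=
  ∑ i : Fin m, QuadraticMap.proj (Sum.inl i) (Sum.inr i)

theorem plusForm_apply (v : Fin m ⊕ Fin m → F) : plusForm m F v = Cfsg.quadFormPlus m F v := by
  simp [plusForm, Cfsg.quadFormPlus, QuadraticMap.proj_apply]

theorem plusForm_polar (x y : Fin m ⊕ Fin m → F) :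
    QuadraticMap.polarBilin (plusForm m F) x y
      = ∑ i : Fin m, (x (Sum.inl i) * y (Sum.inr i) + y (Sum.inl i) * x (Sum.inr i)) := by
  rw [QuadraticMap.polarBilin_apply_apply, QuadraticMap.polar, plusForm_apply, plusForm_apply,
    plusForm_apply]
  simp only [Cfsg.quadFormPlus, Pi.add_apply]
  rw [← Finset.sum_sub_distrib, ← Finset.sum_sub_distrib]
  apply Finset.sum_congr rfl
  intro i _
  ring

theorem plusForm_nondegenerate : (QuadraticMap.polarBilin (plusForm m F)).Nondegenerate := by
  have hrefl : (QuadraticMap.polarBilin (plusForm m F)).IsRefl := by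
    intro x y hxy
    rw [QuadraticMap.polarBilin_apply_apply] at hxy ⊢
    rw [QuadraticMap.polar_comm]
    exact hxy
  apply (LinearMap.IsRefl.nondegenerate_iff_separatingLeft hrefl).mpr
  intro x hx
  funext j
  rcases j with j | j
  · have h := hx (Pi.single (Sum.inr j) 1)
    rw [plusForm_polar] at h
    simp only [Pi.single_apply, Sum.inr.injEq, reduceCtorEq, if_false, zero_mul, add_zero,
      mul_ite, mul_one, mul_zero] at h
    rw [Finset.sum_ite_eq' Finset.univ j (fun i => x (Sum.inl i))] at h
    simpa using h
  · have h := hx (Pi.single (Sum.inl j) 1)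
    rw [plusForm_polar] at h
    simp only [Pi.single_apply, Sum.inl.injEq, reduceCtorEq, if_false, mul_zero, zero_add,
      ite_mul, one_mul, zero_mul] at h
    rw [Finset.sum_ite_eq' Finset.univ j (fun i => x (Sum.inr i))] at h
    simpa using h

/-- The embedding of the first factor. -/
noncomputable def inlMap : (Fin m → F) →ₗ[F] (Fin m ⊕ Fin m → F) where
  toFun a := Sum.elim a 0
  map_add' a b := by
    funext j
    rcases j with j | j <;> simp
  map_smul' t a := by
    funext j
    rcases j with j | j <;> simp

theorem inlMap_injective : Function.Injective (inlMap m F) := by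
  intro a b h
  funext i
  have := congrFun h (Sum.inl i)
  simpa [inlMap] using this

theorem finrank_range_inlMap : finrank F (LinearMap.range (inlMap m F)) = m := by
  rw [LinearMap.finrank_range_of_inj (inlMap_injective m F), Module.finrank_fin_fun]

theorem plusForm_range_inlMap (w : Fin m ⊕ Fin m → F) (hw : w ∈ LinearMap.range (inlMap m F)) :
    plusForm m F w = 0 := by
  obtain ⟨a, rfl⟩ := hw
  rw [plusForm_apply]
  simp [Cfsg.quadFormPlus, inlMap]

theorem finrank_plus_space : finrank F (Fin m ⊕ Fin m → F) = 2 * m := by
  rw [Module.finrank_fintype_fun_eq_card, Fintype.card_sum, Fintype.card_fin]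
  ring

end PlusForm

end Cfsg.Agent.Helper14
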