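import Mathlib
import Cfsg.Agent.Helper14.Discr
import Cfsg.Agent.Helper14.PlusForm
import Cfsg.Agent.S0756

set_option autoImplicit false

namespace Cfsg.Agent.Helper14

open Module Matrix

/-- Gram determinant of a form in the normal form `⟨1, …, 1, d⟩`. -/
theorem det_gram_normal_form {F W : Type*} [Field F] [AddCommGroup W] [Module F W] {n : ℕ}
    (A : LinearMap.BilinForm F W) (e : Basis (Fin (n + 1)) F W)
    (h1 : ∀ i j, i ≠ j → A (e i) (e j) = 0) (h2' : ∀ i, i ≠ Fin.last n → A (e i) (e i) = 1) :
    (LinearMap.BilinForm.toMatrix e A).det = A (e (Fin.last n)) (e (Fin.last n)) := by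
  classical
  have hdiag : LinearMap.BilinForm.toMatrix e A
      = Matrix.diagonal (fun i => A (e i) (e i)) := by
    ext i j
    rw [LinearMap.BilinForm.toMatrix_apply, Matrix.diagonal_apply]
    by_cases hij : i = j
    · subst hij
      rw [if_pos rfl]
    · rw [if_neg hij, h1 i j hij]
  rw [hdiag, Matrix.det_diagonal, Fin.prod_univ_castSucc]
  have : ∏ i : Fin n, A (e i.castSucc) (e i.castSucc) = 1 := by
    apply Finset.prod_eq_one
    intro i _
    exact h2' _ (Fin.castSucc_ne_last i)
  rw [this, one_mul]

section DiscrIso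

variable {F : Type*} [Field F] [Fintype F]

/-- Over a finite field of odd order, two non-degenerate symmetric bilinear forms of the same
dimension whose Gram determinants agree up to squares are isometric. -/
theorem exists_isometry_of_disc {V V' : Type*} [AddCommGroup V] [Module F V]
    [FiniteDimensional F V] [AddCommGroup V'] [Module F V'] [FiniteDimensional F V']
    (h2 : (2 : F) ≠ 0) (B : LinearMap.BilinForm F V) (B' : LinearMap.BilinForm F V')
    (hS : B.IsSymm) (hS' : B'.IsSymm) (hnd : B.Nondegenerate) (hnd' : B'.Nondegenerate)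
    (n : ℕ) (hV : finrank F V = n + 1) (hV' : finrank F V' = n + 1)
    {ι ι' : Type*} [Fintype ι] [DecidableEq ι] [Fintype ι'] [DecidableEq ι']
    (b : Basis ι F V) (b' : Basis ι' F V')
    (hsq : IsSquare ((LinearMap.BilinForm.toMatrix b B).det *
      (LinearMap.BilinForm.toMatrix b' B').det)) :
    ∃ g : V' ≃ₗ[F] V, ∀ x y, B (g x) (g y) = B' x y := by
  classical
  obtain ⟨α, hα⟩ := FiniteField.exists_nonsquare (F := F)
    (Cfsg.Agent.Helper13.ringChar_ne_two_of_two_ne_zero h2)
  obtain ⟨c, ho, hn1, hl⟩ := Cfsg.Agent.S0756.result h2 B hS hnd hV α hα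
  obtain ⟨c', ho', hn1', hl'⟩ := Cfsg.Agent.S0756.result h2 B' hS' hnd' hV' α hα
  have hd := det_gram_normal_form B c ho hn1
  have hd' := det_gram_normal_form B' c' ho' hn1'
  obtain ⟨s, hs0, hs⟩ := det_gram_base_change b c B
  obtain ⟨s', hs'0, hs'⟩ := det_gram_base_change b' c' B'
  rw [hd] at hs
  rw [hd'] at hs'
  -- the last norms agree
  have hdd : B (c (Fin.last n)) (c (Fin.last n)) = B' (c' (Fin.last n)) (c' (Fin.last n)) := by
    have hprod : IsSquare (B (c (Fin.last n)) (c (Fin.last n)) *
        B' (c' (Fin.last n)) (c' (Fin.last n))) := by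
      obtain ⟨t, ht⟩ := hsq
      refine ⟨s * s' * t, ?_⟩
      rw [hs, hs']
      linear_combination (s * s * s' * s') * ht
    rcases hl with h | h <;> rcases hl' with h' | h'
    · rw [h, h']
    · exfalso
      rw [h, h', one_mul] at hprod
      exact hα hprod
    · exfalso
      rw [h, h', mul_one] at hprod
      exact hα hprod
    · rw [h, h']
  let g : V' ≃ₗ[F] V := c'.equiv c (Equiv.refl _)
  have hg : ∀ i, g (c' i) = c i := fun i => by simp [g]
  refine ⟨g, ?_⟩
  have hform : B.comp (g : V' →ₗ[F] V) (g : V' →ₗ[F] V) = B' := by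
    apply LinearMap.BilinForm.ext_basis c'
    intro i j
    rw [LinearMap.BilinForm.comp_apply]
    simp only [LinearEquiv.coe_coe, hg]
    by_cases hij : i = j
    · subst hij
      by_cases hil : i = Fin.last n
      · subst hil
        exact hdd
      · rw [hn1 i hil, hn1' i hil]
    · rw [ho i j hij, ho' i j hij]
  intro x y
  have := congrArg (fun A : LinearMap.BilinForm F V' => A x y) hform
  simpa [LinearMap.BilinForm.comp_apply] using this

end DiscrIso

end Cfsg.Agent.Helper14
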