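import Mathlib
import Cfsg.Agent.Helper14.DiscrIso

set_option autoImplicit false

namespace Cfsg.Agent.Helper14

open Module Matrix

section Model

variable (r : ℕ) (F : Type*) [Field F]

/-- Gram matrix of the hyperbolic model. -/
def hypMatrix : Matrix (Fin r ⊕ Fin r) (Fin r ⊕ Fin r) F :=
  Matrix.fromBlocks (0 : Matrix (Fin r) (Fin r) F) (1 : Matrix (Fin r) (Fin r) F)
    (1 : Matrix (Fin r) (Fin r) F)ᵀ (0 : Matrix (Fin r) (Fin r) F)

theorem hypMatrix_det : (hypMatrix r F).det = (-1) ^ r := by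
  rw [hypMatrix, det_fromBlocks_zero₁₁', Fintype.card_fin, Matrix.det_one, mul_one, mul_one]

/-- The hyperbolic model form. -/
noncomputable def hypForm : LinearMap.BilinForm F (Fin r ⊕ Fin r → F) :=
  Matrix.toBilin' (hypMatrix r F)

theorem hypForm_toMatrix :
    LinearMap.BilinForm.toMatrix (Pi.basisFun F (Fin r ⊕ Fin r)) (hypForm r F) = hypMatrix r F := by
  rw [LinearMap.BilinForm.toMatrix_basisFun, hypForm, LinearMap.BilinForm.toMatrix'_toBilin']

theorem hypForm_isSymm : (hypForm r F).IsSymm := by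
  constructor
  intro x y
  simp only [hypForm, Matrix.toBilin'_apply', hypMatrix, Matrix.transpose_one,
    Matrix.fromBlocks_mulVec, Matrix.zero_mulVec, Matrix.one_mulVec, zero_add, add_zero]
  rw [dotProduct_comm]
  simp only [dotProduct, Fintype.sum_sum_type, Sum.elim_inl, Sum.elim_inr, Function.comp]
  ring

theorem hypForm_nondegenerate : (hypForm r F).Nondegenerate := by
  rw [LinearMap.BilinForm.nondegenerate_iff_det_ne_zero (Pi.basisFun F (Fin r ⊕ Fin r)),
    hypForm_toMatrix, hypMatrix_det]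
  exact pow_ne_zero _ (neg_ne_zero.mpr one_ne_zero)

theorem hypForm_inlMap (a a' : Fin r → F) :
    hypForm r F (inlMap r F a) (inlMap r F a') = 0 := by
  simp only [hypForm, Matrix.toBilin'_apply', hypMatrix, Matrix.transpose_one,
    Matrix.fromBlocks_mulVec, Matrix.zero_mulVec, Matrix.one_mulVec, zero_add, add_zero]
  simp [inlMap, dotProduct, Fintype.sum_sum_type]

end Model

section ClaimB

variable {F V : Type*} [Field F] [Fintype F] [AddCommGroup V] [Module F V] [FiniteDimensional F V]

/-- Over a finite field of odd order: a non-degenerate symmetric form on a space of dimension `2r`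
(`r ≥ 1`) whose Gram determinant times `(-1)^r` is a square has a totally isotropic subspace of
dimension `r`. -/
theorem exists_lagrangian_of_disc (h2 : (2 : F) ≠ 0) (B : LinearMap.BilinForm F V)
    (hS : B.IsSymm) (hnd : B.Nondegenerate) (r : ℕ) (hr : 1 ≤ r) (hV : finrank F V = 2 * r)
    {ι : Type*} [Fintype ι] [DecidableEq ι] (b : Basis ι F V)
    (hsq : IsSquare ((-1) ^ r * (LinearMap.BilinForm.toMatrix b B).det)) :
    ∃ L : Submodule F V, finrank F L = r ∧ ∀ x ∈ L, ∀ y ∈ L, B x y = 0 := by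
  have hV1 : finrank F V = (2 * r - 1) + 1 := by omega
  have hV2 : finrank F (Fin r ⊕ Fin r → F) = (2 * r - 1) + 1 := by
    rw [finrank_plus_space]
    omega
  have hsq' : IsSquare ((LinearMap.BilinForm.toMatrix b B).det *
      (LinearMap.BilinForm.toMatrix (Pi.basisFun F (Fin r ⊕ Fin r)) (hypForm r F)).det) := by
    rw [hypForm_toMatrix, hypMatrix_det, mul_comm]
    exact hsq
  obtain ⟨g, hg⟩ := exists_isometry_of_disc h2 B (hypForm r F) hS (hypForm_isSymm r F) hnd
    (hypForm_nondegenerate r F) (2 * r - 1) hV1 hV2 b (Pi.basisFun F (Fin r ⊕ Fin r)) hsq'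
  refine ⟨(LinearMap.range (inlMap r F)).map (g : (Fin r ⊕ Fin r → F) →ₗ[F] V), ?_, ?_⟩
  · rw [LinearEquiv.finrank_map_eq, finrank_range_inlMap]
  · rintro x ⟨x', ⟨a, rfl⟩, rfl⟩ y ⟨y', ⟨a', rfl⟩, rfl⟩
    simp only [LinearEquiv.coe_coe]
    rw [hg, hypForm_inlMap]

end ClaimB

section Tensor

variable {F U W : Type*} [Field F] [AddCommGroup U] [Module F U] [AddCommGroup W] [Module F W]

/-- The Gram matrix of a tensor product form in the tensor product basis is the Kronecker
product of the Gram matrices. -/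
theorem toMatrix_tmul {ι κ : Type*} [Fintype ι] [DecidableEq ι] [Fintype κ] [DecidableEq κ]
    (b₁ : Basis ι F U) (b₂ : Basis κ F W) (B₁ : LinearMap.BilinForm F U)
    (B₂ : LinearMap.BilinForm F W) :
    LinearMap.BilinForm.toMatrix (b₁.tensorProduct b₂) (B₁.tmul B₂)
      = Matrix.kroneckerMap (fun x y => x * y) (LinearMap.BilinForm.toMatrix b₁ B₁)
          (LinearMap.BilinForm.toMatrix b₂ B₂) := by
  ext ⟨i, j⟩ ⟨i', j'⟩
  rw [LinearMap.BilinForm.toMatrix_apply, Basis.tensorProduct_apply, Basis.tensorProduct_apply,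
    LinearMap.BilinForm.tensorDistrib_tmul, Matrix.kroneckerMap_apply,
    LinearMap.BilinForm.toMatrix_apply, LinearMap.BilinForm.toMatrix_apply, smul_eq_mul, mul_comm]

end Tensor

end Cfsg.Agent.Helper14
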