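import Mathlib
import Cfsg.Agent.Helper14.AutGraph2
import Cfsg.Agent.Helper14.DiscrLagr

/-!
Helper14: symmetric Gram matrices in odd characteristic: similarities of a quadratic form are the
similarities of its polar Gram matrix; congruence of symmetric matrices with the same discriminant;
the Gram matrices of the plus and minus forms.
-/

set_option autoImplicit false
set_option linter.unusedSectionVars false

namespace Cfsg.Agent.Helper14.AutPSL

open Matrix Cfsg.Agent.Helper14

variable {F : Type*} [Field F] {κ : Type} [Fintype κ] [DecidableEq κ]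

theorem gramForm_add_left (M : Matrix κ κ F) (u u' v : κ → F) :
    gramForm M (u + u') v = gramForm M u v + gramForm M u' v := by
  unfold gramForm
  rw [add_dotProduct]

theorem gramForm_add_right (M : Matrix κ κ F) (u v v' : κ → F) :
    gramForm M u (v + v') = gramForm M u v + gramForm M u v' := by
  unfold gramForm
  rw [Matrix.mulVec_add, dotProduct_add]

theorem gramForm_symm {M : Matrix κ κ F} (hM : Mᵀ = M) (u v : κ → F) :
    gramForm M u v = gramForm M v u := by
  unfold gramForm
  rw [Matrix.dotProduct_mulVec, ← Matrix.mulVec_transpose, hM, dotProduct_comm]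

theorem gramForm_polar {M : Matrix κ κ F} (hM : Mᵀ = M) (u v : κ → F) :
    2 * gramForm M u v = gramForm M (u + v) (u + v) - gramForm M u u - gramForm M v v := by
  rw [gramForm_add_left, gramForm_add_right, gramForm_add_right, gramForm_symm hM v u]
  ring

/-- in odd characteristic, the similarities of a quadratic form are those of its polar form -/
theorem quadSim_eq_sim (h2 : (2 : F) ≠ 0) (Q : (κ → F) → F) (M : Matrix κ κ F) (hM : Mᵀ = M)
    (hQ : ∀ v, 2 * Q v = gramForm M v v) :
    Cfsg.Geo.quadSimilarityGroup Q = Cfsg.Geo.similarityGroup (gramForm M) := by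
  ext k
  constructor
  · rintro ⟨c, hc⟩
    refine ⟨c, ?_⟩
    intro u v
    apply mul_left_cancel₀ h2
    rw [gramForm_polar hM, ← Matrix.mulVec_add, ← hQ, ← hQ, ← hQ, hc, hc, hc]
    have := gramForm_polar hM u v
    rw [← hQ, ← hQ, ← hQ] at this
    linear_combination (-(c : F)) * this
  · rintro ⟨c, hc⟩
    refine ⟨c, ?_⟩
    intro v
    apply mul_left_cancel₀ h2
    rw [hQ, hc, ← hQ]
    ring

/-- symmetric invertible matrices over a finite field of odd order with the same discriminant are
congruent -/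
theorem exists_congr_of_disc [Fintype F] (h2 : (2 : F) ≠ 0) (hκ : 0 < Fintype.card κ)
    (A A' : Matrix κ κ F) (hA : Aᵀ = A) (hA' : A'ᵀ = A') (hd : A.det ≠ 0) (hd' : A'.det ≠ 0)
    (hsq : IsSquare (A.det * A'.det)) :
    ∃ P : GL κ F, (P : Matrix κ κ F) * A * (P : Matrix κ κ F)ᵀ = A' := by
  have hS : ∀ {M : Matrix κ κ F}, Mᵀ = M → (Matrix.toBilin' M).IsSymm := by
    intro M hM
    constructor
    intro x y
    simp only [Matrix.toBilin'_apply']
    exact gramForm_symm hM x y
  have hN : ∀ {M : Matrix κ κ F}, M.det ≠ 0 → (Matrix.toBilin' M).Nondegenerate := by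
    intro M hM
    rw [LinearMap.BilinForm.nondegenerate_iff_det_ne_zero (Pi.basisFun F κ),
      LinearMap.BilinForm.toMatrix_basisFun, LinearMap.BilinForm.toMatrix'_toBilin']
    exact hM
  have hrk : Module.finrank F (κ → F) = (Fintype.card κ - 1) + 1 := by
    rw [Module.finrank_pi]
    omega
  obtain ⟨g, hg⟩ := exists_isometry_of_disc h2 (Matrix.toBilin' A) (Matrix.toBilin' A') (hS hA)
    (hS hA') (hN hd) (hN hd') (Fintype.card κ - 1) hrk hrk (Pi.basisFun F κ) (Pi.basisFun F κ)
    (by
      rw [LinearMap.BilinForm.toMatrix_basisFun, LinearMap.BilinForm.toMatrix'_toBilin',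
        LinearMap.BilinForm.toMatrix'_toBilin']
      exact hsq)
  obtain ⟨G, hGdef⟩ : ∃ G : Matrix κ κ F, G = LinearMap.toMatrix' (g : (κ → F) →ₗ[F] (κ → F)) :=
    ⟨_, rfl⟩
  have hG : ∀ x, g x = G *ᵥ x := by
    intro x
    rw [hGdef, ← Matrix.toLin'_apply, Matrix.toLin'_toMatrix']
    rfl
  have key : Gᵀ * A * G = A' := by
    apply gramForm_ext
    intro u v
    rw [← gramForm_mulVec, ← hG, ← hG]
    have := hg u v
    simp only [Matrix.toBilin'_apply'] at this
    exact this
  have hdet : G.det ≠ 0 := by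
    intro h0
    apply hd'
    rw [← key, Matrix.det_mul, Matrix.det_mul, h0, mul_zero]
  refine ⟨Matrix.GeneralLinearGroup.mkOfDetNeZero Gᵀ (by rwa [Matrix.det_transpose]), ?_⟩
  show Gᵀ * A * Gᵀᵀ = A'
  rw [Matrix.transpose_transpose, key]

/-! ### the plus form -/

theorem hypMatrix_transpose (m : ℕ) : (hypMatrix m F)ᵀ = hypMatrix m F := by
  unfold hypMatrix
  rw [Matrix.fromBlocks_transpose]
  simp

theorem two_mul_quadFormPlus (m : ℕ) (v : Fin m ⊕ Fin m → F) :
    2 * Cfsg.quadFormPlus m F v = gramForm (hypMatrix m F) v v := by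
  unfold gramForm hypMatrix Cfsg.quadFormPlus
  simp only [Matrix.transpose_one]
  rw [show v = Sum.elim (fun i => v (Sum.inl i)) (fun i => v (Sum.inr i)) from by
    funext i; cases i <;> rfl]
  rw [Matrix.fromBlocks_mulVec]
  simp only [Matrix.zero_mulVec, Matrix.one_mulVec, zero_add, add_zero, dotProduct,
    Fintype.sum_sum_type, Sum.elim_inl, Sum.elim_inr]
  rw [Finset.mul_sum, ← Finset.sum_add_distrib]
  apply Finset.sum_congr rfl
  intro i _
  simp only [Function.comp_apply, Sum.elim_inl, Sum.elim_inr]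
  ring

/-! ### the minus form -/

/-- Gram matrix of the polar form of `quadFormMinus m F a b` -/
def minusMatrix (m : ℕ) (a b : F) :
    Matrix ((Fin m ⊕ Fin m) ⊕ Fin 2) ((Fin m ⊕ Fin m) ⊕ Fin 2) F :=
  Matrix.fromBlocks (hypMatrix m F) 0 0 !![2, a; a, 2 * b]

theorem minusMatrix_transpose (m : ℕ) (a b : F) : (minusMatrix m a b)ᵀ = minusMatrix m a b := by
  unfold minusMatrix
  rw [Matrix.fromBlocks_transpose, hypMatrix_transpose, Matrix.transpose_zero, Matrix.transpose_zero]
  congr 1
  ext i j
  fin_cases i <;> fin_cases j <;> rfl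

theorem minusMatrix_det (m : ℕ) (a b : F) :
    (minusMatrix m a b).det = (-1) ^ m * (4 * b - a ^ 2) := by
  unfold minusMatrix
  rw [Matrix.det_fromBlocks_zero₂₁, hypMatrix_det, Matrix.det_fin_two_of]
  ring

theorem two_mul_quadFormMinus (m : ℕ) (a b : F) (v : (Fin m ⊕ Fin m) ⊕ Fin 2 → F) :
    2 * Cfsg.quadFormMinus m F a b v = gramForm (minusMatrix m a b) v v := by
  have h1 := two_mul_quadFormPlus (F := F) m (fun i => v (Sum.inl i))
  unfold gramForm minusMatrix Cfsg.quadFormMinus
  unfold gramForm Cfsg.quadFormPlus at h1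
  rw [show v = Sum.elim (fun i => v (Sum.inl i)) (fun i => v (Sum.inr i)) from by
    funext i; cases i <;> rfl]
  rw [Matrix.fromBlocks_mulVec]
  simp only [Matrix.zero_mulVec, zero_add, add_zero, Sum.elim_inl, Sum.elim_inr]
  rw [sumElim_dotProduct_sumElim]
  have e1 : ((Sum.elim (fun i => v (Sum.inl i)) (fun i => v (Sum.inr i)) :
      (Fin m ⊕ Fin m) ⊕ Fin 2 → F) ∘ Sum.inl) = fun i => v (Sum.inl i) := by
    funext i; rfl
  have e2 : ((Sum.elim (fun i => v (Sum.inl i)) (fun i => v (Sum.inr i)) :
      (Fin m ⊕ Fin m) ⊕ Fin 2 → F) ∘ Sum.inr) = fun i => v (Sum.inr i) := by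
    funext i; rfl
  rw [e1, e2, ← h1]
  simp only [dotProduct, Fin.sum_univ_two, Matrix.mulVec, Matrix.of_apply, Matrix.cons_val_zero,
    Matrix.cons_val_one, Matrix.cons_val', Matrix.cons_val_fin_one]
  ring

end Cfsg.Agent.Helper14.AutPSL
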