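import Mathlib
import Cfsg.Agent.Helper14.AutGraph3
import Cfsg.Agent.Helper14.AutFieldMain

/-!
Helper14: the centraliser of the inverse-transpose automorphism of `PSL_n(q)`, `q` odd, in the
inner-diagonal group.
-/

set_option autoImplicit false
set_option linter.unusedSectionVars false

namespace Cfsg.Agent.Helper14.AutPSL

open Matrix Cfsg.Agent.Helper14

variable {n : ℕ} {F : Type*} [Field F] {κ : Type} [Fintype κ] [DecidableEq κ]

theorem invT_eq_gph_one :
    (pslOf slInvT : MulAut (Matrix.ProjectiveSpecialLinearGroup (Fin n) F)) =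
      gph (1 : GL (Fin n) F) := by
  unfold gph
  rw [slConj_one, map_one, one_mul]

theorem exists_prime_pow_card [Fintype F] :
    ∃ (p f : ℕ), p.Prime ∧ 1 ≤ f ∧ Fintype.card F = p ^ f := by
  obtain ⟨k, hp, hk⟩ := FiniteField.card F (ringChar F)
  exact ⟨ringChar F, k, hp, k.pos, hk⟩

theorem inndiag_normal' [Fintype F] (hn : 2 ≤ n) : (Cfsg.inndiagPSL n F).Normal := by
  obtain ⟨p, f, hp, hf, hF⟩ := exists_prime_pow_card (F := F)
  haveI : Fact p.Prime := ⟨hp⟩
  exact inndiag_normal hF hf hn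

/-- if `g` is congruent to `g'` then the centralisers of `c(g) ι` and `c(g') ι` in the
inner-diagonal group are isomorphic -/
theorem centralizer_gph_congr [Fintype F] (hn : 2 ≤ n) (P g g' : GL (Fin n) F)
    (hP : (P : Matrix (Fin n) (Fin n) F) * (g : Matrix (Fin n) (Fin n) F) *
      (P : Matrix (Fin n) (Fin n) F)ᵀ = (g' : Matrix (Fin n) (Fin n) F)) :
    Nonempty (↥(Cfsg.inndiagPSL n F ⊓ Subgroup.centralizer {gph g}) ≃*
      ↥(Cfsg.inndiagPSL n F ⊓ Subgroup.centralizer {gph g'})) := by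
  have hHn : (Cfsg.inndiagPSL n F).Normal := inndiag_normal' hn
  have hPg : P * g * glT P = g' := by
    apply Units.ext
    rw [Units.val_mul, Units.val_mul, glT_coe]
    exact hP
  have e1 := centralizerConjEquiv (Cfsg.inndiagPSL n F) (pslOf (slConj P)) (gph g)
  rw [conj_gph, hPg] at e1
  exact ⟨e1⟩

theorem isConjUnder_gph_congr (P g g' : GL (Fin n) F)
    (hP : (P : Matrix (Fin n) (Fin n) F) * (g : Matrix (Fin n) (Fin n) F) *
      (P : Matrix (Fin n) (Fin n) F)ᵀ = (g' : Matrix (Fin n) (Fin n) F)) :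
    Cfsg.IsConjUnder (Cfsg.inndiagPSL n F) (gph g) (gph g') := by
  have hPg : P * g * glT P = g' := by
    apply Units.ext
    rw [Units.val_mul, Units.val_mul, glT_coe]
    exact hP
  refine ⟨pslOf (slConj P), mem_inndiagPSL.mpr ⟨P, rfl⟩, ?_⟩
  rw [conj_gph, hPg]

/-- the centraliser of `c(g) ι` for the Gram matrix of a quadratic form in odd characteristic -/
theorem centralizer_gph_quad (h2 : (2 : F) ≠ 0) (hn : 2 ≤ n) (e : κ ≃ Fin n)
    (Q : (κ → F) → F) (M : GL κ F) (hM : (M : Matrix κ κ F)ᵀ = (M : Matrix κ κ F))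
    (hQ : ∀ v, 2 * Q v = gramForm (M : Matrix κ κ F) v v) :
    Nonempty (↥(Cfsg.inndiagPSL n F ⊓ Subgroup.centralizer {gph (glReindex e M)}) ≃*
      Cfsg.PGO F Q) := by
  have e2 := graphCentEquiv hn e M
  rw [← quadSim_eq_sim h2 Q _ hM hQ] at e2
  exact ⟨e2⟩

/-- the centraliser of the inverse-transpose automorphism, `q` odd: `PGO(Q)` for any quadratic form
`Q` of square discriminant -/
theorem centralizer_invT_quad [Fintype F] (h2 : (2 : F) ≠ 0) (hn : 2 ≤ n) (e : κ ≃ Fin n)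
    (Q : (κ → F) → F) (M : Matrix κ κ F) (hM : Mᵀ = M) (hd : M.det ≠ 0)
    (hQ : ∀ v, 2 * Q v = gramForm M v v) (hsq : IsSquare M.det) :
    Nonempty (↥(Cfsg.inndiagPSL n F ⊓ Subgroup.centralizer
      {(pslOf slInvT : MulAut (Matrix.ProjectiveSpecialLinearGroup (Fin n) F))}) ≃*
      Cfsg.PGO F Q) := by
  obtain ⟨Mg, hMg⟩ : ∃ Mg : GL κ F, (Mg : Matrix κ κ F) = M :=
    ⟨Matrix.GeneralLinearGroup.mkOfDetNeZero M hd, rfl⟩
  have hgc : ((glReindex e Mg : GL (Fin n) F) : Matrix (Fin n) (Fin n) F) =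
      Matrix.reindexAlgEquiv F F e M := by rw [glReindex_coe, hMg]
  have hgT : ((glReindex e Mg : GL (Fin n) F) : Matrix (Fin n) (Fin n) F)ᵀ =
      ((glReindex e Mg : GL (Fin n) F) : Matrix (Fin n) (Fin n) F) := by
    rw [hgc, reindex_transpose, hM]
  have hgdet : ((glReindex e Mg : GL (Fin n) F) : Matrix (Fin n) (Fin n) F).det = M.det := by
    rw [hgc, Matrix.coe_reindexAlgEquiv, Matrix.reindex_apply, Matrix.det_submatrix_equiv_self]
  obtain ⟨P, hP⟩ := exists_congr_of_disc h2 (by rw [Fintype.card_fin]; omega)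
    ((glReindex e Mg : GL (Fin n) F) : Matrix (Fin n) (Fin n) F) 1 hgT Matrix.transpose_one
    (by rw [hgdet]; exact hd) (by rw [Matrix.det_one]; exact one_ne_zero)
    (by rw [hgdet, Matrix.det_one, mul_one]; exact hsq)
  obtain ⟨e1⟩ := centralizer_gph_congr hn P (glReindex e Mg) 1 (by rw [hP]; rfl)
  obtain ⟨e2⟩ := centralizer_gph_quad h2 hn e Q Mg (by rw [hMg]; exact hM) (by rw [hMg]; exact hQ)
  rw [invT_eq_gph_one]
  exact ⟨e1.symm.trans e2⟩

end Cfsg.Agent.Helper14.AutPSL
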