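import Mathlib
import Cfsg.Agent.Helper14.AutGraph4
import Cfsg.Agent.Helper14.AutCount

/-!
Helper14: involutory graph automorphisms `c(g) ι` of `PSL_n(F)`: `g` is symmetric or skew; conjugacy
under the inner-diagonal group is congruence up to scalars.
-/

set_option autoImplicit false
set_option linter.unusedSectionVars false

namespace Cfsg.Agent.Helper14.AutPSL

open Matrix Cfsg.Agent.Helper14

variable {n : ℕ} {F : Type*} [Field F]

theorem isGraphAutClass_gph (h3 : 3 ≤ n) (g : GL (Fin n) F) : Cfsg.IsGraphAutClassPSL (gph g) :=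
  ⟨h3, pslOf (slConj g), pslOf slInvT, isInnerDiagonal_pslOf_slConj g,
    isInverseTranspose_pslOf_slInvT, rfl⟩

theorem exists_gph_of_isGraphAutClass {γ : MulAut (Matrix.ProjectiveSpecialLinearGroup (Fin n) F)}
    (hγ : Cfsg.IsGraphAutClassPSL γ) : ∃ g : GL (Fin n) F, γ = gph g := by
  obtain ⟨-, δ, ι, hδ, hι, rfl⟩ := hγ
  obtain ⟨g, rfl⟩ := (isInnerDiagonal_iff δ).mp hδ
  rw [(isInverseTranspose_iff ι).mp hι]
  exact ⟨g, rfl⟩

theorem gph_mul_gph (g : GL (Fin n) F) :
    gph g * gph g = pslOf (slConj (g * glInvT g)) := by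
  unfold gph
  have e := conj_invT_conj (n := n) (F := F) g
  have hsq : (pslOf slInvT : MulAut (Matrix.ProjectiveSpecialLinearGroup (Fin n) F)) *
      pslOf slInvT = 1 := by
    rw [← map_mul, slInvT_sq, map_one]
  rw [slConj_mul, map_mul, ← e]
  have hinv : (pslOf slInvT : MulAut (Matrix.ProjectiveSpecialLinearGroup (Fin n) F))⁻¹ =
      pslOf slInvT := inv_eq_of_mul_eq_one_left hsq
  rw [hinv]
  calc pslOf (slConj g) * pslOf slInvT * (pslOf (slConj g) * pslOf slInvT)
      = pslOf (slConj g) * (pslOf slInvT * pslOf (slConj g) * pslOf slInvT) := by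
        simp only [mul_assoc]

theorem gph_ne_one [Finite F] (h3 : 3 ≤ n) (g : GL (Fin n) F) : gph g ≠ 1 := by
  intro h
  have := invT_not_semilinear h3 g 1 (1 : F ≃+* F) 1
  apply this
  rw [slField_one, map_one, mul_one, slConj_one, map_one, mul_one]
  exact h

theorem mul_glInvT_coe_transpose (g : GL (Fin n) F) :
    ((g * glInvT g : GL (Fin n) F) : Matrix (Fin n) (Fin n) F)ᵀ =
      ((g⁻¹ : GL (Fin n) F) : Matrix (Fin n) (Fin n) F) * (g : Matrix (Fin n) (Fin n) F)ᵀ := by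
  rw [Units.val_mul, glInvT_coe, Matrix.transpose_mul, Matrix.transpose_transpose]

/-- `c(g) ι` squares to one iff `gᵀ` is a scalar multiple of `g` -/
theorem gph_sq_eq_one_iff (hn : 2 ≤ n) (g : GL (Fin n) F) :
    gph g * gph g = 1 ↔ ∃ l : Fˣ, (g : Matrix (Fin n) (Fin n) F)ᵀ =
      (l : F) • (g : Matrix (Fin n) (Fin n) F) := by
  rw [gph_mul_gph, ← inndiagHom_apply, ← MonoidHom.mem_ker, ker_inndiagHom hn, mem_center_iff_smul]
  constructor
  · rintro ⟨l, hl⟩
    refine ⟨l, ?_⟩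
    have h1 := congrArg Matrix.transpose hl
    rw [mul_glInvT_coe_transpose, Matrix.transpose_smul, Matrix.transpose_one] at h1
    have h2 := congrArg (fun X => (g : Matrix (Fin n) (Fin n) F) * X) h1
    beta_reduce at h2
    rw [← Matrix.mul_assoc, ← Units.val_mul, mul_inv_cancel, Units.val_one, Matrix.one_mul,
      Matrix.mul_smul, Matrix.mul_one] at h2
    exact h2
  · rintro ⟨l, hl⟩
    refine ⟨l, ?_⟩
    have h1 : ((g * glInvT g : GL (Fin n) F) : Matrix (Fin n) (Fin n) F)ᵀ =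
        (l : F) • (1 : Matrix (Fin n) (Fin n) F) := by
      rw [mul_glInvT_coe_transpose, hl, Matrix.mul_smul, ← Units.val_mul, inv_mul_cancel,
        Units.val_one]
    have h2 := congrArg Matrix.transpose h1
    rw [Matrix.transpose_transpose, Matrix.transpose_smul, Matrix.transpose_one] at h2
    exact h2

theorem orderOf_gph_eq_two [Finite F] (h3 : 3 ≤ n) (g : GL (Fin n) F) (l : Fˣ)
    (hg : (g : Matrix (Fin n) (Fin n) F)ᵀ = (l : F) • (g : Matrix (Fin n) (Fin n) F)) :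
    orderOf (gph g) = 2 := by
  apply orderOf_eq_prime
  · rw [pow_two]
    exact (gph_sq_eq_one_iff (by omega) g).mpr ⟨l, hg⟩
  · exact gph_ne_one h3 g

/-- an involutory `c(g) ι` has `g` symmetric or skew -/
theorem symm_or_skew_of_orderOf_gph (hn : 2 ≤ n) (g : GL (Fin n) F) (h : orderOf (gph g) = 2) :
    (g : Matrix (Fin n) (Fin n) F)ᵀ = (g : Matrix (Fin n) (Fin n) F) ∨
      (g : Matrix (Fin n) (Fin n) F)ᵀ = -(g : Matrix (Fin n) (Fin n) F) := by
  have hsq : gph g * gph g = 1 := by rw [← pow_two, ← h]; exact pow_orderOf_eq_one _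
  obtain ⟨l, hl⟩ := (gph_sq_eq_one_iff hn g).mp hsq
  have h1 := congrArg Matrix.transpose hl
  rw [Matrix.transpose_transpose, Matrix.transpose_smul, hl, smul_smul] at h1
  -- some entry of `g` is nonzero
  have hne : ∃ i j, (g : Matrix (Fin n) (Fin n) F) i j ≠ 0 := by
    by_contra hcon
    push Not at hcon
    have h0 : (g : Matrix (Fin n) (Fin n) F) = 0 := by
      ext i j
      exact hcon i j
    have hu : IsUnit (g : Matrix (Fin n) (Fin n) F) := Units.isUnit g
    rw [h0] at hu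
    have : Nonempty (Fin n) := ⟨⟨0, by omega⟩⟩
    exact not_isUnit_zero hu
  obtain ⟨i, j, hij⟩ := hne
  have h2 := congrFun (congrFun h1 i) j
  rw [Matrix.smul_apply, smul_eq_mul] at h2
  have h3 : ((l : F) - 1) * ((l : F) + 1) = 0 := by
    have : ((l : F) * (l : F) - 1) * (g : Matrix (Fin n) (Fin n) F) i j = 0 := by
      rw [sub_mul, one_mul, ← h2, sub_self]
    rcases mul_eq_zero.mp this with h | h
    · linear_combination h
    · exact absurd h hij
  rcases mul_eq_zero.mp h3 with h | h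
  · left
    rw [hl, sub_eq_zero.mp h, one_smul]
  · right
    rw [hl, eq_neg_of_add_eq_zero_left h, neg_smul, one_smul]

/-- conjugacy under the inner-diagonal group is congruence up to scalars -/
theorem exists_congr_of_isConjUnder (hn : 2 ≤ n) {g g' : GL (Fin n) F}
    (h : Cfsg.IsConjUnder (Cfsg.inndiagPSL n F) (gph g) (gph g')) :
    ∃ (P : GL (Fin n) F) (μ : Fˣ), (g' : Matrix (Fin n) (Fin n) F) =
      (μ : F) • ((P : Matrix (Fin n) (Fin n) F) * (g : Matrix (Fin n) (Fin n) F) *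
        (P : Matrix (Fin n) (Fin n) F)ᵀ) := by
  obtain ⟨x, hx, hxe⟩ := h
  obtain ⟨P, rfl⟩ := mem_inndiagPSL.mp hx
  rw [conj_gph] at hxe
  obtain ⟨μ, hμ⟩ := (gph_eq_gph_iff' hn _ _).mp hxe.symm
  refine ⟨P, μ, ?_⟩
  rw [hμ, Units.val_mul, Units.val_mul, glT_coe]

theorem isConjUnder_gph_of_congr_smul (hn : 2 ≤ n) (P g g' : GL (Fin n) F) (μ : Fˣ)
    (hP : (g' : Matrix (Fin n) (Fin n) F) =
      (μ : F) • ((P : Matrix (Fin n) (Fin n) F) * (g : Matrix (Fin n) (Fin n) F) *
        (P : Matrix (Fin n) (Fin n) F)ᵀ)) :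
    Cfsg.IsConjUnder (Cfsg.inndiagPSL n F) (gph g) (gph g') := by
  refine ⟨pslOf (slConj P), mem_inndiagPSL.mpr ⟨P, rfl⟩, ?_⟩
  rw [conj_gph]
  apply Eq.symm
  rw [gph_eq_gph_iff' hn]
  refine ⟨μ, ?_⟩
  rw [hP, Units.val_mul, Units.val_mul, glT_coe]

theorem isConjUnder_symm {X : Type*} [Group X] {H : Subgroup X} {x y : X}
    (h : Cfsg.IsConjUnder H x y) : Cfsg.IsConjUnder H y x := by
  obtain ⟨a, ha, rfl⟩ := h
  refine ⟨a⁻¹, H.inv_mem ha, ?_⟩
  group

end Cfsg.Agent.Helper14.AutPSL
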