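import Mathlib
import Cfsg.Agent.Helper14.PsuF
import Cfsg.Agent.Helper14.AutGraph6

/-!
Helper14: automorphisms of `PSU_n(q)`, part G.  The bridge between involutory graph automorphisms
of `PSU_n(q)` and of `PSL_n(F₀)`, `|F₀| = q`: conjugacy classes and centralizers correspond.
-/

set_option autoImplicit false
set_option linter.unusedSectionVars false
set_option linter.unusedVariables false

namespace Cfsg.Agent.Helper14.AutPSU

open Matrix Cfsg.Agent.Helper13 Cfsg.Agent.Helper37.AutU Cfsg.Agent.Helper14.AutPSL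
  Cfsg.Agent.Helper37.Lang Cfsg.Agent.Helper14.AutPSp

variable {F : Type*} [Field F] [Fintype F] {F₀ : Type*} [Field F₀] {p f q n : ℕ}
variable {i : F₀ →+* F} {τ : F ≃+* F}

local notation "Mat" => Matrix (Fin n) (Fin n) F
local notation "Mat₀" => Matrix (Fin n) (Fin n) F₀

/-- two elements of `GU` with proportional matrices induce the same automorphism -/
theorem pstdHom_eq_of_smul {h h' : Cfsg.GU n F q} {z : F} (hz : gm h' = z • gm h) :
    pstdHom n F q h = pstdHom n F q h' := by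
  rw [pstdHom_apply, pstdHom_apply]
  ext x
  obtain ⟨A, rfl⟩ := pr_surjective x
  rw [pstd_pr, pstd_pr]
  congr 1
  apply suMat_injective
  rw [suMat_stdSU, suMat_stdSU]
  rcases Nat.eq_zero_or_pos n with hn | hn
  · subst hn
    exact Subsingleton.elim _ _
  have hz0 : z ≠ 0 := by
    rintro rfl
    rw [zero_smul] at hz
    exact gl_ne_zero hn (h' : GL (Fin n) F) hz
  have hinv : gm h'⁻¹ = z⁻¹ • gm h⁻¹ := by
    have h1 : gm h' * (z⁻¹ • gm h⁻¹) = 1 := by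
      rw [hz, Matrix.smul_mul, Matrix.mul_smul, smul_smul, mul_inv_cancel₀ hz0, one_smul,
        gm_mul_inv]
    calc gm h'⁻¹ = gm h'⁻¹ * (gm h' * (z⁻¹ • gm h⁻¹)) := by rw [h1, Matrix.mul_one]
      _ = z⁻¹ • gm h⁻¹ := by rw [← Matrix.mul_assoc, gm_inv_mul, Matrix.one_mul]
  rw [hz, hinv, Matrix.smul_mul, Matrix.smul_mul, Matrix.mul_smul, smul_smul,
    mul_inv_cancel₀ hz0, one_smul]

/-- conjugacy of graph automorphisms of `PSU_n(q)` under `Inndiag` is conjugacy of the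
corresponding graph automorphisms of `PSL_n(F₀)` -/
theorem isConjUnder_gpu_iff (H : Hyp F p f q n) (hτ : ∀ a, τ a = a ^ q)
    (hi : ∀ a : F, τ a = a ↔ a ∈ i.range)
    {g g' : Cfsg.GU n F q} {M₀ M₀' : GL (Fin n) F₀}
    (hR : Rel (q := q) i τ g M₀) (hR' : Rel (q := q) i τ g' M₀') :
    Cfsg.IsConjUnder (Cfsg.inndiagPSU n F q) (pstd g τ : MulAut (Cfsg.PSU n F q)) (pstd g' τ) ↔
      Cfsg.IsConjUnder (Cfsg.inndiagPSL n F₀) (gph M₀) (gph M₀') := by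
  have hK := kerHyp_of_hyp H
  have hn0 : 0 < n := by have := H.hn; omega
  have hn2 : 2 ≤ n := by have := H.hn; omega
  obtain ⟨B, Y, k, c, R⟩ := (rel_iff i τ g M₀).mp hR
  obtain ⟨B', Y', k', c', R'⟩ := (rel_iff i τ g' M₀').mp hR'
  constructor
  · rintro ⟨x, hx, hxe⟩
    obtain ⟨h, rfl⟩ := mem_inndiagPSU.mp hx
    rw [conj_gpu] at hxe
    obtain ⟨-, z, hz⟩ := (pstd_eq_pstd_iff hK _ _ _ _).mp hxe.symm
    rw [gm_conj τ hτ] at hz
    -- `g' = z (h g hᵀ)`, so `h g hᵀ = z⁻¹ g'`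
    have hz0 : z ≠ 0 := by
      rintro rfl
      rw [zero_smul] at hz
      exact gl_ne_zero hn0 (g' : GL (Fin n) F) hz
    have hz' : gm h * gm g * (gm h)ᵀ = z⁻¹ • gm g' := by
      rw [hz, smul_smul, inv_mul_cancel₀ hz0, one_smul]
    obtain ⟨P₀, w₀, ν, hw₀0, hν0, -, hP⟩ := descent_step hτ H.hF hi hn0 R R' h z⁻¹ hz'
    apply isConjUnder_gph_of_congr_smul hn2 P₀ M₀ M₀' (Units.mk0 w₀ hw₀0)⁻¹
    rw [hP, Units.val_inv_eq_inv_val, Units.val_mk0, smul_smul, inv_mul_cancel₀ hw₀0, one_smul]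
  · intro hc
    obtain ⟨P₀, μ, hP⟩ := exists_congr_of_isConjUnder hn2 hc
    have hμ0 : (μ : F₀) ≠ 0 := μ.ne_zero
    have hP' : (P₀ : Mat₀) * (M₀ : Mat₀) * (P₀ : Mat₀)ᵀ = (μ : F₀)⁻¹ • (M₀' : Mat₀) := by
      rw [hP, smul_smul, inv_mul_cancel₀ hμ0, one_smul]
    obtain ⟨h, ν, hν0, hh⟩ := lift_step hτ H.hF hi hn0 R R' P₀ (μ : F₀)⁻¹ (inv_ne_zero hμ0) hP'
    have hconj := lift_conj R R' P₀ (μ : F₀)⁻¹ hP' h ν hh
    refine ⟨pstdHom n F q h, mem_inndiagPSU.mpr ⟨h, rfl⟩, ?_⟩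
    rw [conj_gpu]
    apply Eq.symm
    rw [pstd_eq_pstd_iff hK]
    refine ⟨rfl, ?_⟩
    rw [gm_conj τ hτ, hconj]
    have hne : ν * ν * k * i (μ : F₀)⁻¹ * k'⁻¹ ≠ 0 := by
      refine mul_ne_zero (mul_ne_zero (mul_ne_zero (mul_ne_zero hν0 hν0) R.hk) ?_) (inv_ne_zero R'.hk)
      intro h0
      exact inv_ne_zero hμ0 (i.injective (by rw [h0, map_zero]))
    exact ⟨(ν * ν * k * i (μ : F₀)⁻¹ * k'⁻¹)⁻¹, by rw [smul_smul, inv_mul_cancel₀ hne, one_smul]⟩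

end Cfsg.Agent.Helper14.AutPSU
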