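import Mathlib
import Cfsg.Agent.Helper14.PsuG

/-!
Helper14: automorphisms of `PSU_n(q)`, part H.  Centralizers of involutory graph automorphisms:
`C_{Inndiag(PSU_n(q))}(pstd g τ) ≃* C_{Inndiag(PSL_n(F₀))}(gph M₀)` for related `g`, `M₀`.
-/

set_option autoImplicit false
set_option linter.unusedSectionVars false
set_option linter.unusedVariables false

namespace Cfsg.Agent.Helper14.AutPSU

open Matrix Cfsg.Agent.Helper13 Cfsg.Agent.Helper37.AutU Cfsg.Agent.Helper14.AutPSL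
  Cfsg.Agent.Helper37.Lang Cfsg.Agent.Helper14.AutPSp

/-- two homomorphisms with the same kernel have isomorphic ranges -/
noncomputable def rangeEquivOfKerEq {G A₁ A₂ : Type*} [Group G] [Group A₁] [Group A₂]
    (φ₁ : G →* A₁) (φ₂ : G →* A₂) (h : φ₁.ker = φ₂.ker) : φ₁.range ≃* φ₂.range :=
  ((QuotientGroup.quotientKerEquivRange φ₁).symm.trans
    (QuotientGroup.quotientMulEquivOfEq h)).trans (QuotientGroup.quotientKerEquivRange φ₂)

theorem gl_ne_zero' {K : Type*} [Field K] {n : ℕ} (hn : 0 < n) (A : GL (Fin n) K) :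
    (A : Matrix (Fin n) (Fin n) K) ≠ 0 := by
  intro h0
  have h5 := Units.mul_inv A
  rw [h0, Matrix.zero_mul] at h5
  have h6 := congrFun (congrFun h5 ⟨0, hn⟩) ⟨0, hn⟩
  simp at h6

variable {F : Type*} [Field F] [Fintype F] {F₀ : Type*} [Field F₀] {p f q n : ℕ}
variable {i : F₀ →+* F} {τ : F ≃+* F}

local notation "Mat" => Matrix (Fin n) (Fin n) F
local notation "Mat₀" => Matrix (Fin n) (Fin n) F₀

section cent

variable (H : Hyp F p f q n) (hτ : ∀ a, τ a = a ^ q) (hi : ∀ a : F, τ a = a ↔ a ∈ i.range)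
  {g : Cfsg.GU n F q} {M₀ : GL (Fin n) F₀} {B Y : GL (Fin n) F} {k c : F}
  (R : RelW (q := q) i τ g M₀ B Y k c)

include H hτ hi R in
theorem exists_lift (P : ↥(simT M₀)) :
    ∃ (h : Cfsg.GU n F q), ∃ ν : F, ν ≠ 0 ∧
      gm h = ν • ((B : Mat) * ((glI i (P : GL (Fin n) F₀) : GL (Fin n) F) : Mat) *
        ((B⁻¹ : GL (Fin n) F) : Mat)) := by
  have hn0 : 0 < n := by have := H.hn; omega
  have hn2 : 2 ≤ n := by have := H.hn; omega
  obtain ⟨μ, hμ⟩ := (mem_simT hn2 M₀ (P : GL (Fin n) F₀)).mp P.2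
  exact lift_step hτ H.hF hi hn0 R R (P : GL (Fin n) F₀) (μ : F₀) μ.ne_zero hμ

/-- a chosen lift of a similitude of `M₀` to `GU` -/
noncomputable def liftFun (P : ↥(simT M₀)) : Cfsg.GU n F q :=
  Classical.choose (exists_lift H hτ hi R P)

theorem liftFun_spec (P : ↥(simT M₀)) :
    ∃ ν : F, ν ≠ 0 ∧
      gm (liftFun H hτ hi R P) = ν • ((B : Mat) * ((glI i (P : GL (Fin n) F₀) : GL (Fin n) F) : Mat) *
        ((B⁻¹ : GL (Fin n) F) : Mat)) :=
  Classical.choose_spec (exists_lift H hτ hi R P)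

/-- the action of the similitudes of `M₀` on `PSU_n(q)` -/
noncomputable def centHom : ↥(simT M₀) →* MulAut (Cfsg.PSU n F q) :=
  MonoidHom.mk' (fun P => pstdHom n F q (liftFun H hτ hi R P)) (by
    intro P P'
    rw [← map_mul]
    obtain ⟨ν, hν0, hν⟩ := liftFun_spec H hτ hi R P
    obtain ⟨ν', hν'0, hν'⟩ := liftFun_spec H hτ hi R P'
    obtain ⟨ν'', hν''0, hν''⟩ := liftFun_spec H hτ hi R (P * P')
    apply pstdHom_eq_of_smul (z := ν * ν' * ν''⁻¹)
    rw [gm_mul, hν, hν', hν'', Matrix.smul_mul, Matrix.mul_smul, smul_smul, smul_smul]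
    have e1 : ((B : Mat) * ((glI i (P : GL (Fin n) F₀) : GL (Fin n) F) : Mat) * ((B⁻¹ : GL (Fin n) F) : Mat)) *
        ((B : Mat) * ((glI i (P' : GL (Fin n) F₀) : GL (Fin n) F) : Mat) * ((B⁻¹ : GL (Fin n) F) : Mat)) =
        (B : Mat) * ((glI i ((P * P' : ↥(simT M₀)) : GL (Fin n) F₀) : GL (Fin n) F) : Mat) *
          ((B⁻¹ : GL (Fin n) F) : Mat) := by
      rw [Subgroup.coe_mul, map_mul, Units.val_mul]
      simp only [Matrix.mul_assoc, Units.inv_mul_cancel_left]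
    rw [e1]
    congr 1
    field_simp)

theorem centHom_apply (P : ↥(simT M₀)) :
    centHom H hτ hi R P = pstdHom n F q (liftFun H hτ hi R P) := rfl

include H in
theorem ker_centHom :
    (centHom H hτ hi R).ker = (Subgroup.center (GL (Fin n) F₀)).subgroupOf (simT M₀) := by
  have hK := kerHyp_of_hyp H
  have hn0 : 0 < n := by have := H.hn; omega
  ext P
  rw [MonoidHom.mem_ker, Subgroup.mem_subgroupOf, centHom_apply, mem_center_iff_smul]
  obtain ⟨ν, hν0, hν⟩ := liftFun_spec H hτ hi R P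
  constructor
  · intro h1
    rw [pstdHom_apply] at h1
    obtain ⟨-, z, hz⟩ := hK _ _ h1
    rw [hν] at hz
    -- `P̂ = (z/ν) • 1`
    have h2 : ((glI i (P : GL (Fin n) F₀) : GL (Fin n) F) : Mat) = (ν⁻¹ * z) • (1 : Mat) := by
      have h3 := congrArg (fun X : Mat => ν⁻¹ • (((B⁻¹ : GL (Fin n) F) : Mat) * X * (B : Mat))) hz
      simp only [Matrix.mul_smul, Matrix.smul_mul, smul_smul, inv_mul_cancel₀ hν0, one_smul,
        Matrix.mul_one, Units.inv_mul] at h3
      rw [← h3]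
      simp only [Matrix.mul_assoc, Units.inv_mul, Matrix.mul_one, Units.inv_mul_cancel_left]
    have h4 : i (((P : GL (Fin n) F₀) : Mat₀) ⟨0, hn0⟩ ⟨0, hn0⟩) = ν⁻¹ * z := by
      have := congrFun (congrFun h2 ⟨0, hn0⟩) ⟨0, hn0⟩
      rw [glI_coe, Matrix.map_apply, Matrix.smul_apply, Matrix.one_apply_eq, smul_eq_mul, mul_one] at this
      exact this
    have h5 : ((P : GL (Fin n) F₀) : Mat₀) = (((P : GL (Fin n) F₀) : Mat₀) ⟨0, hn0⟩ ⟨0, hn0⟩) • (1 : Mat₀) := by
      apply map_i_injective i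
      rw [map_i_smul, h4, ← glI_coe, h2]
      congr 1
      ext a b
      simp [Matrix.one_apply]
    have h6 : ((P : GL (Fin n) F₀) : Mat₀) ⟨0, hn0⟩ ⟨0, hn0⟩ ≠ 0 := by
      intro h0
      rw [h0, zero_smul] at h5
      exact gl_ne_zero' hn0 (P : GL (Fin n) F₀) h5
    exact ⟨Units.mk0 _ h6, h5⟩
  · rintro ⟨μ, hμ⟩
    have h1 : gm (liftFun H hτ hi R P) = (ν * i (μ : F₀)) • gm (1 : Cfsg.GU n F q) := by
      rw [hν, glI_coe, hμ, map_i_smul, gm_one, Matrix.mul_smul, Matrix.smul_mul, smul_smul]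
      congr 1
      have : (1 : Mat₀).map i = (1 : Mat) := by
        ext a b
        simp [Matrix.one_apply]
      rw [this, Matrix.mul_one, Units.mul_inv]
    rw [← pstdHom_eq_of_smul h1, map_one]

include H in
theorem range_centHom :
    (centHom H hτ hi R).range =
      Cfsg.inndiagPSU n F q ⊓ Subgroup.centralizer {(pstd g τ : MulAut (Cfsg.PSU n F q))} := by
  have hK := kerHyp_of_hyp H
  have hn0 : 0 < n := by have := H.hn; omega
  have hn2 : 2 ≤ n := by have := H.hn; omega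
  -- commuting with `pstd g τ` in terms of matrices
  have key : ∀ h : Cfsg.GU n F q,
      pstdHom n F q h ∈ Subgroup.centralizer {(pstd g τ : MulAut (Cfsg.PSU n F q))} ↔
      ∃ z : F, gm g = z • (gm h * gm g * (gm h)ᵀ) := by
    intro h
    rw [Subgroup.mem_centralizer_iff]
    have e1 : (∀ y ∈ ({(pstd g τ : MulAut (Cfsg.PSU n F q))} : Set _),
        y * pstdHom n F q h = pstdHom n F q h * y) ↔
        pstdHom n F q h * pstd g τ * (pstdHom n F q h)⁻¹ = pstd g τ := by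
      constructor
      · intro hc
        rw [← hc _ (Set.mem_singleton _), mul_inv_cancel_right]
      · intro hc y hy
        rw [Set.mem_singleton_iff] at hy
        rw [hy]
        have := congrArg (· * pstdHom n F q h) hc
        simp only [inv_mul_cancel_right] at this
        exact this.symm
    rw [e1, conj_gpu, pstd_eq_pstd_iff hK, gm_conj τ hτ]
    constructor
    · rintro ⟨-, z, hz⟩
      exact ⟨z, hz⟩
    · rintro ⟨z, hz⟩
      exact ⟨rfl, z, hz⟩
  ext x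
  rw [Subgroup.mem_inf]
  constructor
  · rintro ⟨P, rfl⟩
    rw [centHom_apply]
    refine ⟨mem_inndiagPSU.mpr ⟨_, rfl⟩, ?_⟩
    rw [key]
    obtain ⟨ν, hν0, hν⟩ := liftFun_spec H hτ hi R P
    obtain ⟨μ, hμ⟩ := (mem_simT hn2 M₀ (P : GL (Fin n) F₀)).mp P.2
    have hconj := lift_conj R R (P : GL (Fin n) F₀) (μ : F₀) hμ _ ν hν
    have hne : ν * ν * k * i (μ : F₀) * k⁻¹ ≠ 0 := by
      refine mul_ne_zero (mul_ne_zero (mul_ne_zero (mul_ne_zero hν0 hν0) R.hk) ?_) (inv_ne_zero R.hk)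
      intro h0
      exact μ.ne_zero (i.injective (by rw [h0, map_zero]))
    refine ⟨(ν * ν * k * i (μ : F₀) * k⁻¹)⁻¹, ?_⟩
    rw [hconj, smul_smul, inv_mul_cancel₀ hne, one_smul]
  · rintro ⟨hx1, hx2⟩
    obtain ⟨h, rfl⟩ := mem_inndiagPSU.mp hx1
    obtain ⟨z, hz⟩ := (key h).mp hx2
    have hz0 : z ≠ 0 := by
      rintro rfl
      rw [zero_smul] at hz
      exact gl_ne_zero hn0 (g : GL (Fin n) F) hz
    have hz' : gm h * gm g * (gm h)ᵀ = z⁻¹ • gm g := by
      have := congrArg (fun X : Mat => z⁻¹ • X) hz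
      simp only [smul_smul, inv_mul_cancel₀ hz0, one_smul] at this
      exact this.symm
    obtain ⟨P₀, w₀, ν, hw₀0, hν0, hh, hP⟩ := descent_step hτ H.hF hi hn0 R R h z⁻¹ hz'
    have hPmem : P₀ ∈ simT M₀ := (mem_simT hn2 M₀ P₀).mpr ⟨Units.mk0 w₀ hw₀0, hP⟩
    refine ⟨⟨P₀, hPmem⟩, ?_⟩
    rw [centHom_apply]
    obtain ⟨ν', hν'0, hν'⟩ := liftFun_spec H hτ hi R ⟨P₀, hPmem⟩
    apply pstdHom_eq_of_smul (z := ν * ν'⁻¹)
    rw [hh, hν', smul_smul, mul_assoc ν, inv_mul_cancel₀ hν'0, mul_one]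

include H hτ hi R in
/-- the centralizers correspond -/
theorem nonempty_centralizer_equiv :
    Nonempty (↥(Cfsg.inndiagPSU n F q ⊓
        Subgroup.centralizer {(pstd g τ : MulAut (Cfsg.PSU n F q))}) ≃*
      ↥(Cfsg.inndiagPSL n F₀ ⊓ Subgroup.centralizer {gph M₀})) := by
  have hn2 : 2 ≤ n := by have := H.hn; omega
  obtain ⟨ψ, hψ⟩ : ∃ ψ : ↥(simT M₀) →* MulAut (Matrix.ProjectiveSpecialLinearGroup (Fin n) F₀),
      ψ = (inndiagHom n F₀).comp (simT M₀).subtype := ⟨_, rfl⟩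
  have hψr : ψ.range = Cfsg.inndiagPSL n F₀ ⊓ Subgroup.centralizer {gph M₀} := by
    rw [hψ, MonoidHom.range_comp, Subgroup.range_subtype, map_simT]
  have hψk : ψ.ker = (Subgroup.center (GL (Fin n) F₀)).subgroupOf (simT M₀) := by
    ext P
    rw [hψ, MonoidHom.mem_ker, Subgroup.mem_subgroupOf, MonoidHom.comp_apply, ← MonoidHom.mem_ker,
      ker_inndiagHom hn2]
    rfl
  have e := rangeEquivOfKerEq (centHom H hτ hi R) ψ (by rw [ker_centHom H hτ hi R, hψk])
  exact ⟨((MulEquiv.subgroupCongr (range_centHom H hτ hi R)).symm.trans e).trans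
    (MulEquiv.subgroupCongr hψr)⟩

end cent

/-- the centralizers correspond (in terms of `Rel`) -/
theorem nonempty_centralizer_equiv_of_rel (H : Hyp F p f q n) (hτ : ∀ a, τ a = a ^ q)
    (hi : ∀ a : F, τ a = a ↔ a ∈ i.range) {g : Cfsg.GU n F q} {M₀ : GL (Fin n) F₀}
    (hR : Rel (q := q) i τ g M₀) :
    Nonempty (↥(Cfsg.inndiagPSU n F q ⊓
        Subgroup.centralizer {(pstd g τ : MulAut (Cfsg.PSU n F q))}) ≃*
      ↥(Cfsg.inndiagPSL n F₀ ⊓ Subgroup.centralizer {gph M₀})) := by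
  obtain ⟨B, Y, k, c, R⟩ := (rel_iff i τ g M₀).mp hR
  exact nonempty_centralizer_equiv H hτ hi R

end Cfsg.Agent.Helper14.AutPSU
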