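import Mathlib
import Cfsg.Agent.Helper14.PsuM
import Cfsg.Agent.Helper14.PsuH

/-!
Helper14: automorphisms of `PSU_n(q)`, part N.  The centralizer in `Inndiag` of a standard field
automorphism of odd order is `PGU_n(q₀)`.
-/

set_option autoImplicit false
set_option linter.unusedSectionVars false
set_option linter.unusedVariables false

namespace Cfsg.Agent.Helper14.AutPSU

open Matrix Cfsg.Agent.Helper13 Cfsg.Agent.Helper37.AutU Cfsg.Agent.Helper14.AutPSL
  Cfsg.Agent.Helper37.Lang Cfsg.Agent.Helper14.AutPSp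

variable {F : Type*} [Field F] [Fintype F] {F₀ : Type*} [Field F₀] [Fintype F₀] {p f q q₀ n r : ℕ}
variable {σ τ : F ≃+* F} {i : F₀ →+* F} {τ₀ : F₀ ≃+* F₀}

local notation "Mat" => Matrix (Fin n) (Fin n) F
local notation "Mat₀" => Matrix (Fin n) (Fin n) F₀

/-- `GU_n(F₀) → Aut(PSU_n(F))` -/
noncomputable def fixHomU (D : FldData q q₀ σ τ i τ₀ r) :
    Cfsg.GU n F₀ q₀ →* MulAut (Cfsg.PSU n F q) :=
  (pstdHom n F q).comp (guI D)

theorem fixHomU_apply (D : FldData q q₀ σ τ i τ₀ r) (g₀ : Cfsg.GU n F₀ q₀) :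
    fixHomU D g₀ = pstdHom n F q (guI D g₀) := rfl

theorem ker_fixHomU (H : Hyp F p f q n) (D : FldData q q₀ σ τ i τ₀ r) :
    (fixHomU (n := n) D).ker = (Cfsg.Geo.scalars (Fin n) F₀).subgroupOf (Cfsg.GU n F₀ q₀) := by
  have hK := kerHyp_of_hyp H
  have hn0 : 0 < n := by have := H.hn; omega
  ext g₀
  rw [MonoidHom.mem_ker, Subgroup.mem_subgroupOf, fixHomU_apply, Cfsg.Geo.mem_scalars_iff]
  constructor
  · intro h1
    rw [pstdHom_apply] at h1
    obtain ⟨-, z, hz⟩ := hK _ _ h1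
    rw [gm_guI] at hz
    have h4 : i (gm g₀ ⟨0, hn0⟩ ⟨0, hn0⟩) = z := by
      have := congrFun (congrFun hz ⟨0, hn0⟩) ⟨0, hn0⟩
      rw [Matrix.map_apply, Matrix.smul_apply, Matrix.one_apply_eq, smul_eq_mul, mul_one] at this
      exact this
    have h5 : gm g₀ = (gm g₀ ⟨0, hn0⟩ ⟨0, hn0⟩) • (1 : Mat₀) := by
      apply map_i_injective i
      rw [map_i_smul, h4, hz]
      congr 1
      ext a b
      simp [Matrix.one_apply]
    have h6 : gm g₀ ⟨0, hn0⟩ ⟨0, hn0⟩ ≠ 0 := by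
      intro h0
      rw [h0, zero_smul] at h5
      exact gl_ne_zero' hn0 (g₀ : GL (Fin n) F₀) h5
    exact ⟨Units.mk0 _ h6, h5⟩
  · rintro ⟨μ, hμ⟩
    have h1 : gm (guI D g₀) = i (μ : F₀) • gm (1 : Cfsg.GU n F q) := by
      rw [gm_guI, gm_one]
      show ((g₀ : GL (Fin n) F₀) : Mat₀).map i = _
      rw [hμ, map_i_smul]
      congr 1
      ext a b
      simp [Matrix.one_apply]
    rw [← pstdHom_eq_of_smul h1, map_one]

theorem map_pow_eq_nrm_smul {g : Cfsg.GU n F q} {ζ : F} (hζ : (gm g).map σ = ζ • gm g) (k : ℕ) :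
    (gm g).map (σ ^ k) = nrm σ k ζ • gm g := by
  induction k with
  | zero =>
    rw [pow_zero, nrm_zero, one_smul]
    ext a b
    rfl
  | succ k ih =>
    have h1 : (gm g).map (σ ^ (k + 1)) = ((gm g).map (σ ^ k)).map σ := by
      rw [pow_succ']
      ext a b
      rfl
    rw [h1, ih, map_tau_smul, hζ, smul_smul, nrm_succ, mul_comm]

theorem range_fixHomU (H : Hyp F p f q n) (D : FldData q q₀ σ τ i τ₀ r) :
    (fixHomU (n := n) D).range =
      Cfsg.inndiagPSU n F q ⊓ Subgroup.centralizer {fldHom n F q σ} := by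
  have hK := kerHyp_of_hyp H
  have hn0 : 0 < n := by have := H.hn; omega
  have hσr : σ ^ r = 1 := by rw [← D.hr]; exact pow_orderOf_eq_one σ
  ext x
  rw [Subgroup.mem_inf, Subgroup.mem_centralizer_iff]
  constructor
  · rintro ⟨g₀, rfl⟩
    rw [fixHomU_apply]
    refine ⟨mem_inndiagPSU.mpr ⟨_, rfl⟩, ?_⟩
    intro y hy
    rw [Set.mem_singleton_iff] at hy
    rw [hy, fldHom_mul_pstdHom, guMap_guI]
  · rintro ⟨hx1, hx2⟩
    obtain ⟨g, rfl⟩ := mem_inndiagPSU.mp hx1
    have h1 := hx2 _ (Set.mem_singleton _)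
    rw [fldHom_mul_pstdHom, mul_left_inj] at h1
    rw [pstdHom_apply, pstdHom_apply, pstd_eq_pstd_iff hK] at h1
    obtain ⟨-, ζ, hζ⟩ := h1
    -- `σ(g) = ζ⁻¹ g`
    have hζ0 : ζ ≠ 0 := by
      rintro rfl
      rw [zero_smul] at hζ
      exact gl_ne_zero hn0 _ hζ
    have hζ' : (gm g).map σ = ζ⁻¹ • gm g := by
      have e : gm g = ζ • (gm g).map σ := hζ
      calc (gm g).map σ = ζ⁻¹ • (ζ • (gm g).map σ) := by
            rw [smul_smul, inv_mul_cancel₀ hζ0, one_smul]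
        _ = ζ⁻¹ • gm g := by rw [← e]
    -- `ζ⁻¹` is unitary
    have hU : ζ⁻¹ * τ ζ⁻¹ = 1 := by
      have h2 := gm_transpose_mul_map τ D.hτ (guMap σ g)
      rw [gm_guMap, hζ', map_tau_smul, Matrix.transpose_smul, Matrix.smul_mul, Matrix.mul_smul,
        smul_smul, gm_transpose_mul_map τ D.hτ g] at h2
      have h3 := congrFun (congrFun h2 ⟨0, hn0⟩) ⟨0, hn0⟩
      simp only [Matrix.smul_apply, Matrix.one_apply_eq, smul_eq_mul, mul_one] at h3
      exact h3
    have hN : nrm σ r ζ⁻¹ = 1 := by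
      have h2 := map_pow_eq_nrm_smul hζ' r
      rw [hσr] at h2
      have h3 : (gm g).map (1 : F ≃+* F) = gm g := by
        ext a b
        rfl
      rw [h3] at h2
      obtain ⟨a, b, hab⟩ : ∃ a b, gm g a b ≠ 0 := by
        by_contra hcon
        push Not at hcon
        apply gl_ne_zero hn0 (g : GL (Fin n) F)
        ext a b
        exact hcon a b
      have h4 := congrFun (congrFun h2 a) b
      rw [Matrix.smul_apply, smul_eq_mul] at h4
      have h5 : (nrm σ r ζ⁻¹ - 1) * gm g a b = 0 := by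
        rw [sub_mul, one_mul, ← h4, sub_self]
      rcases mul_eq_zero.mp h5 with h | h
      · exact sub_eq_zero.mp h
      · exact absurd h hab
    obtain ⟨ν, hνU, hν⟩ := exists_unitary_hilbert90 D.hcomm D.hττ D.hr D.hr0 D.hi D.orderOf_τ₀
      D.hcompat hU hN
    obtain ⟨g', hg'⟩ : ∃ g' : Cfsg.GU n F q, g' = scU τ D.hτ ν hνU * g := ⟨_, rfl⟩
    have hg'c : gm g' = ν • gm g := by
      rw [hg', gm_mul, gm_scU, Matrix.smul_mul, Matrix.one_mul]
    have hg'σ : guMap σ g' = g' := by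
      apply Subtype.ext
      apply Units.ext
      show (gm g').map σ = gm g'
      rw [hg'c, map_tau_smul, hζ', smul_smul, mul_comm, hν]
    obtain ⟨g₀, hg₀⟩ := exists_guI_eq D g' hg'σ
    refine ⟨g₀, ?_⟩
    rw [fixHomU_apply, hg₀]
    exact (pstdHom_eq_of_smul hg'c).symm

/-- the centralizer of the standard field automorphism -/
theorem nonempty_centralizer_fld_equiv (H : Hyp F p f q n) (D : FldData q q₀ σ τ i τ₀ r) :
    Nonempty (↥(Cfsg.inndiagPSU n F q ⊓ Subgroup.centralizer {fldHom n F q σ}) ≃*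
      Cfsg.PGU n F₀ q₀) :=
  ⟨((MulEquiv.subgroupCongr (range_fixHomU H D)).symm.trans
    (QuotientGroup.quotientKerEquivRange (fixHomU (n := n) D)).symm).trans
    (QuotientGroup.quotientMulEquivOfEq (ker_fixHomU H D))⟩

end Cfsg.Agent.Helper14.AutPSU
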