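import Mathlib
import Cfsg.Agent.Helper14.PsuN
import Cfsg.Agent.Helper14.SplitAbs
import Cfsg.Agent.Helper14.AutCyc
import Cfsg.Agent.Helper45.SUBasic

/-!
Helper14: automorphisms of `PSU_n(q)`, part O.  The preimage `N` of `Inn(PSU)` in `GU`, the
determinant `GU → U₁`, and the class splitting of a field automorphism (S2705).
-/

set_option autoImplicit false
set_option linter.unusedSectionVars false
set_option linter.unusedVariables false

namespace Cfsg.Agent.Helper14.AutPSU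

open Matrix Cfsg.Agent.Helper13 Cfsg.Agent.Helper37.AutU Cfsg.Agent.Helper14.AutPSL
  Cfsg.Agent.Helper37.Lang Cfsg.Agent.Helper14.AutPSp Cfsg.Agent.Helper14.SplitAbs

variable {F : Type*} [Field F] [Fintype F] {F₀ : Type*} [Field F₀] [Fintype F₀] {p f q q₀ n r : ℕ}

local notation "Mat" => Matrix (Fin n) (Fin n) F
local notation "UU" => Cfsg.Agent.Helper45.GU.U1

/-- the preimage of `Inn(PSU)` in `GU` -/
noncomputable def innU (n : ℕ) (F : Type*) [Field F] [Fintype F] (q : ℕ) : Subgroup (Cfsg.GU n F q) :=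
  (Cfsg.Inn (Cfsg.PSU n F q)).comap (pstdHom n F q)

instance innU_normal : (innU n F q).Normal := by
  unfold innU
  infer_instance

theorem pstdHom_suGU (A : Cfsg.SU n F q) :
    pstdHom n F q (suGU A) = MulAut.conj (pr A) := by
  ext x
  rw [pstdHom_apply]
  exact pstd_suGU A x

theorem inn_le_range : Cfsg.Inn (Cfsg.PSU n F q) ≤ (pstdHom n F q).range := by
  rintro _ ⟨y, rfl⟩
  obtain ⟨A, rfl⟩ := pr_surjective y
  exact ⟨suGU A, pstdHom_suGU A⟩

theorem map_innU : (innU n F q).map (pstdHom n F q) = Cfsg.Inn (Cfsg.PSU n F q) := by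
  unfold innU
  rw [Subgroup.map_comap_eq, inf_eq_right]
  exact inn_le_range

theorem ker_le_innU : (pstdHom n F q).ker ≤ innU n F q := by
  intro g hg
  show pstdHom n F q g ∈ Cfsg.Inn (Cfsg.PSU n F q)
  rw [MonoidHom.mem_ker.mp hg]
  exact Subgroup.one_mem _

section det

variable (τ : F ≃+* F) (hτ : ∀ a, τ a = a ^ q)

/-- the determinant `GU → U₁` -/
noncomputable def detUU : Cfsg.GU n F q →* UU F q :=
  Cfsg.Agent.Helper45.GU.detU n (τ : F →+* F) hτ

theorem detUU_coe (g : Cfsg.GU n F q) : (((detUU τ hτ g : UU F q) : Fˣ) : F) = (gm g).det := rfl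

theorem detUU_surjective (hn : 1 ≤ n) : Function.Surjective (detUU (n := n) τ hτ) :=
  Cfsg.Agent.Helper45.GU.detU_surjective n (τ : F →+* F) hτ hn

include hτ in
theorem mem_UU_iff (u : Fˣ) : u ∈ UU F q ↔ (u : F) * τ (u : F) = 1 :=
  Cfsg.Agent.Helper45.GU.mem_U1_iff (τ : F →+* F) hτ u

theorem ker_detUU_le : (detUU (n := n) τ hτ).ker ≤ innU n F q := by
  intro g hg
  have hdet : (gm g).det = 1 := by
    rw [← detUU_coe τ hτ, MonoidHom.mem_ker.mp hg]
    rfl
  obtain ⟨A, hA⟩ : ∃ A : Cfsg.SU n F q, suMat A = gm g :=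
    ⟨⟨⟨gm g, hdet⟩, fun u v => g.2 u v⟩, rfl⟩
  have hg' : g = suGU A := by
    apply Subtype.ext
    apply Units.ext
    exact hA.symm
  show pstdHom n F q g ∈ Cfsg.Inn (Cfsg.PSU n F q)
  rw [hg', pstdHom_suGU]
  exact ⟨_, rfl⟩

theorem map_innU_detUU (H : Hyp F p f q n) :
    (innU n F q).map (detUU τ hτ) = (powMonoidHom n : UU F q →* UU F q).range := by
  have hK := kerHyp_of_hyp H
  have hn0 : 0 < n := by have := H.hn; omega
  ext u
  constructor
  · rintro ⟨g, hg, rfl⟩
    obtain ⟨y, hy⟩ := hg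
    obtain ⟨A, rfl⟩ := pr_surjective y
    have hy' : MulAut.conj (pr A) = pstdHom n F q g := hy
    rw [← pstdHom_suGU, pstdHom_apply, pstdHom_apply, pstd_eq_pstd_iff hK] at hy'
    obtain ⟨-, z, hz⟩ := hy'
    rw [gm_suGU] at hz
    -- `z` is unitary
    have hzU : z * τ z = 1 := by
      have h2 := gm_transpose_mul_map τ hτ g
      have hA := gm_transpose_mul_map τ hτ (suGU A)
      rw [gm_suGU] at hA
      rw [hz, map_tau_smul, Matrix.transpose_smul, Matrix.smul_mul, Matrix.mul_smul, smul_smul,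
        hA] at h2
      have h3 := congrFun (congrFun h2 ⟨0, hn0⟩) ⟨0, hn0⟩
      simp only [Matrix.smul_apply, Matrix.one_apply_eq, smul_eq_mul, mul_one] at h3
      exact h3
    have hz0 : z ≠ 0 := by
      rintro rfl
      rw [zero_mul] at hzU
      exact zero_ne_one hzU
    have hzmem : Units.mk0 z hz0 ∈ UU F q := (mem_UU_iff τ hτ _).mpr hzU
    refine ⟨⟨Units.mk0 z hz0, hzmem⟩, ?_⟩
    apply Subtype.ext
    apply Units.ext
    rw [powMonoidHom_apply, detUU_coe, hz, Matrix.det_smul, Fintype.card_fin, det_suMat, mul_one]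
    rfl
  · rintro ⟨u, rfl⟩
    have huU : ((u : Fˣ) : F) * τ ((u : Fˣ) : F) = 1 := (mem_UU_iff τ hτ _).mp u.2
    refine ⟨scU τ hτ ((u : Fˣ) : F) huU, ?_, ?_⟩
    · show pstdHom n F q (scU τ hτ ((u : Fˣ) : F) huU) ∈ Cfsg.Inn (Cfsg.PSU n F q)
      have h1 : gm (scU (n := n) τ hτ ((u : Fˣ) : F) huU) = ((u : Fˣ) : F) • gm (1 : Cfsg.GU n F q) := by
        rw [gm_scU, gm_one]
      rw [← pstdHom_eq_of_smul h1, map_one]
      exact Subgroup.one_mem _
    · apply Subtype.ext
      apply Units.ext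
      rw [powMonoidHom_apply, detUU_coe, gm_scU, Matrix.det_smul, Fintype.card_fin, Matrix.det_one,
        mul_one]
      rfl

end det

end Cfsg.Agent.Helper14.AutPSU
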