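import Mathlib
import Cfsg.Agent.Helper14.LBUb
import Cfsg.Agent.Helper14.PsuO
import Cfsg.Agent.Helper37.AutUU
import Cfsg.Agent.Helper37.BalA

/-!
Helper14: local balance for `PSU_n(q)` (S2687), part (U-B): an automorphism of `PSU_n(F)`
commuting with the image of the subfield group `SU_n(F₀)` (`F₀` the fixed field of the field
automorphism `σ` of odd order) is a power of the standard field automorphism `fldHom σ`.
-/

set_option autoImplicit false
set_option linter.unusedSectionVars false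
set_option linter.unusedVariables false

namespace Cfsg.Agent.Helper14.LBU

open Matrix Cfsg.Agent.Helper13 Cfsg.Agent.Helper37.AutU Cfsg.Agent.Helper14.AutPSL
  Cfsg.Agent.Helper14.AutPSU Cfsg.Agent.Helper14.AutPSp

variable {F : Type*} [Field F] [Fintype F] {F₀ : Type*} [Field F₀] [Fintype F₀]
  {p f q q₀ n r : ℕ} {σ τ : F ≃+* F} {i : F₀ →+* F} {τ₀ : F₀ ≃+* F₀}

theorem FldData_pow_q (D : FldData q q₀ σ τ i τ₀ r) (x : F₀) : (i x) ^ q = i (x ^ q₀) := by
  rw [← D.hτ, D.hcompat, D.hτ₀]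

/-- the inclusion of the subfield space is isometric -/
theorem herm_incl (D : FldData q q₀ σ τ i τ₀ r) (u v : Fin n → F₀) :
    Cfsg.hermForm n F q (fun k => i (u k)) (fun k => i (v k)) = i (Cfsg.hermForm n F₀ q₀ u v) := by
  unfold Cfsg.hermForm
  rw [map_sum]
  apply Finset.sum_congr rfl
  intro k _
  rw [FldData_pow_q D, map_mul]

/-- the image of a transvection of the subfield group -/
theorem guI_tvElt (D : FldData q q₀ σ τ i τ₀ r) (v₀ : Fin n → F₀) (κ₀ : F₀)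
    (hv₀ : Cfsg.hermForm n F₀ q₀ v₀ v₀ = 0) (hκ₀ : κ₀ + κ₀ ^ q₀ = 0)
    (hv : Cfsg.hermForm n F q (fun k => i (v₀ k)) (fun k => i (v₀ k)) = 0)
    (hκ : i κ₀ + (i κ₀) ^ q = 0) :
    guI D (suGU (tvElt D.hF₀ v₀ κ₀ hv₀ hκ₀)) =
      suGU (tvElt D.hF (fun k => i (v₀ k)) (i κ₀) hv hκ) := by
  apply Subtype.ext
  apply Units.ext
  show gm (guI D (suGU (tvElt D.hF₀ v₀ κ₀ hv₀ hκ₀))) =
    gm (suGU (tvElt D.hF (fun k => i (v₀ k)) (i κ₀) hv hκ))
  rw [gm_guI, gm_suGU, gm_suGU, suMat_tvElt, suMat_tvElt]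
  ext a b
  unfold Cfsg.unitaryTransvection
  rw [Matrix.map_apply, Matrix.add_apply, Matrix.add_apply, Matrix.smul_apply, Matrix.smul_apply,
    Matrix.vecMulVec_apply, Matrix.vecMulVec_apply, map_add, smul_eq_mul, smul_eq_mul, map_mul,
    map_mul, FldData_pow_q D]
  congr 1
  by_cases hab : a = b
  · rw [hab, Matrix.one_apply_eq, Matrix.one_apply_eq, map_one]
  · rw [Matrix.one_apply_ne hab, Matrix.one_apply_ne hab, map_zero]

/-- **(U-B)**: the centraliser in `Aut(PSU_n(F))` of the subfield group `SU_n(F₀)` consists of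
powers of the standard field automorphism -/
theorem centralizer_subU_le (H : Hyp F p f q n) (D : FldData q q₀ σ τ i τ₀ r)
    (y : MulAut (Cfsg.PSU n F q))
    (hy : ∀ A₀ : Cfsg.SU n F₀ q₀, y * fixHomU D (suGU A₀) = fixHomU D (suGU A₀) * y) :
    y ∈ Subgroup.zpowers (fldHom n F q σ) := by
  have hZ := center_psu_eq_bot H (F := F) (n := n)
  have hn0 : 0 < n := by have := H.hn; omega
  obtain ⟨g, ρ, rfl⟩ := aut_eq_pstd H y
  -- fixed elements
  have hfixk : ∀ k : Cfsg.PSU n F q,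
      (pstd g ρ : MulAut (Cfsg.PSU n F q)) * MulAut.conj k = MulAut.conj k * pstd g ρ →
      pstd g ρ k = k := by
    intro k hk
    have h1 : ∀ z, pstd g ρ k * pstd g ρ z * (pstd g ρ k)⁻¹ = k * pstd g ρ z * k⁻¹ := by
      intro z
      have := congrArg (fun β : MulAut (Cfsg.PSU n F q) => β z) hk
      simp only [MulAut.mul_apply, MulAut.conj_apply, map_mul, map_inv] at this
      exact this
    have h2 : k⁻¹ * pstd g ρ k ∈ Subgroup.center (Cfsg.PSU n F q) := by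
      rw [Subgroup.mem_center_iff]
      intro w
      obtain ⟨z, rfl⟩ := (pstd g ρ).surjective w
      have := h1 z
      calc pstd g ρ z * (k⁻¹ * pstd g ρ k)
          = k⁻¹ * (k * pstd g ρ z * k⁻¹) * pstd g ρ k := by group
        _ = k⁻¹ * (pstd g ρ k * pstd g ρ z * (pstd g ρ k)⁻¹) * pstd g ρ k := by rw [this]
        _ = k⁻¹ * pstd g ρ k * pstd g ρ z := by group
    rw [hZ, Subgroup.mem_bot, inv_mul_eq_one] at h2
    exact h2.symm
  -- isotropic vectors of the subfield space are eigenvectors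
  have heig : ∀ v₀ : Fin n → F₀, v₀ ≠ 0 → Cfsg.hermForm n F₀ q₀ v₀ v₀ = 0 →
      ∃ a : F, semi (gm g) ρ (fun k => i (v₀ k)) = a • (fun k => i (v₀ k)) := by
    intro v₀ hv₀0 hv₀
    obtain ⟨κ₀, hκ₀0, hκ₀⟩ := Cfsg.Agent.Helper5.exists_trace_zero D.hF₀ (F := F₀)
    have hκ₀' : κ₀ + κ₀ ^ q₀ = 0 := by rw [hκ₀]; ring
    have hv : Cfsg.hermForm n F q (fun k => i (v₀ k)) (fun k => i (v₀ k)) = 0 := by
      rw [herm_incl D, hv₀, map_zero]
    have hκ : i κ₀ + (i κ₀) ^ q = 0 := by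
      rw [FldData_pow_q D, ← map_add, hκ₀', map_zero]
    have hv0 : (fun k => i (v₀ k)) ≠ 0 := by
      intro h0
      apply hv₀0
      ext k
      have h1 : i (v₀ k) = 0 := congrFun h0 k
      exact i.injective (by rw [h1, Pi.zero_apply, map_zero])
    have hκ0 : i κ₀ ≠ 0 := by
      intro h0
      exact hκ₀0 (i.injective (by rw [h0, map_zero]))
    have hcomm := hy (tvElt D.hF₀ v₀ κ₀ hv₀ hκ₀')
    rw [fixHomU_apply, guI_tvElt D v₀ κ₀ hv₀ hκ₀' hv hκ, pstdHom_suGU] at hcomm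
    have hfix := hfixk _ hcomm
    have hT : IsTv (tvElt D.hF (fun k => i (v₀ k)) (i κ₀) hv hκ) (fun k => i (v₀ k)) (i κ₀) := rfl
    have h1 := hT.std g ρ
    have h2 : (pr (stdSU g ρ (tvElt D.hF (fun k => i (v₀ k)) (i κ₀) hv hκ)) : Cfsg.PSU n F q) =
        pr (tvElt D.hF (fun k => i (v₀ k)) (i κ₀) hv hκ) := by rw [← pstd_pr, hfix]
    have hv' : Cfsg.hermForm n F q (semi (gm g) ρ (fun k => i (v₀ k)))
        (semi (gm g) ρ (fun k => i (v₀ k))) = 0 := by
      rw [herm_semi (isU_gm g), hv, map_zero]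
    have h3 := InX.lift_unique H hv' hv h1 hT h2
    rw [h3] at h1
    obtain ⟨a, -, ha⟩ := hT.center_eq H.hF h1 hv0 hκ0
    exact ⟨a, ha⟩
  obtain ⟨hρ, ζ, hζ⟩ := scalar_of_eigen D.hF₀ H.hn i (gm g)
    (gl_ne_zero hn0 (g : GL (Fin n) F)) ρ heig
  have hρmem : ρ ∈ Subgroup.zpowers σ := by
    apply Cfsg.Agent.Helper37.Bal.mem_zpowers_of_fixF σ ρ
    intro c hc
    obtain ⟨c₀, rfl⟩ := (D.hi c).mp hc
    exact hρ c₀
  have hg1 : pstdHom n F q (1 : Cfsg.GU n F q) = pstdHom n F q g :=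
    pstdHom_eq_of_smul (z := ζ) (by rw [gm_one]; exact hζ)
  have hy' : (pstd g ρ : MulAut (Cfsg.PSU n F q)) = fldHom n F q ρ := by
    rw [pstd_eq_mul, ← hg1, map_one, one_mul]
  rw [hy']
  obtain ⟨k, rfl⟩ := Subgroup.mem_zpowers_iff.mp hρmem
  rw [map_zpow]
  exact Subgroup.zpow_mem_zpowers _ k

end Cfsg.Agent.Helper14.LBU
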