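import Mathlib
import Cfsg.Prelude.Def_LieTypeDatum

/-!
Helper14: `|PGO(Q)| ≤ |O(Q)|` and `|Sp_{2m}(q)| ≤ 2 |PGSp_{2m}(q)|`.
-/

set_option autoImplicit false
set_option linter.unusedSectionVars false

namespace Cfsg.Agent.Helper14.AutPSL

open Matrix

variable {F : Type*} [Field F] {κ : Type} [Fintype κ] [DecidableEq κ]

section PGOcard

variable (Q : (κ → F) → F) (v₀ : κ → F) (hv₀ : Q v₀ ≠ 0)

include hv₀ in
theorem mult_unique {k : GL κ F} {c c' : Fˣ}
    (hc : ∀ v, Q ((k : Matrix κ κ F) *ᵥ v) = (c : F) * Q v)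
    (hc' : ∀ v, Q ((k : Matrix κ κ F) *ᵥ v) = (c' : F) * Q v) : c = c' := by
  apply Units.ext
  have := (hc v₀).symm.trans (hc' v₀)
  exact mul_right_cancel₀ hv₀ this

theorem simMult_spec (k : ↥(Cfsg.Geo.quadSimilarityGroup Q)) :
    ∀ v, Q (((k : GL κ F) : Matrix κ κ F) *ᵥ v) =
      ((Classical.choose (k.2 : ∃ c : Fˣ, ∀ v, Q (((k : GL κ F) : Matrix κ κ F) *ᵥ v) =
        (c : F) * Q v) : Fˣ) : F) * Q v :=
  Classical.choose_spec (k.2 : ∃ c : Fˣ, ∀ v, Q (((k : GL κ F) : Matrix κ κ F) *ᵥ v) =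
        (c : F) * Q v)

/-- the multiplier of a similarity -/
noncomputable def simMult : ↥(Cfsg.Geo.quadSimilarityGroup Q) →* Fˣ where
  toFun k := Classical.choose (k.2 : ∃ c : Fˣ, ∀ v, Q (((k : GL κ F) : Matrix κ κ F) *ᵥ v) =
        (c : F) * Q v)
  map_one' := by
    apply mult_unique Q v₀ hv₀ (simMult_spec Q 1)
    intro v
    simp
  map_mul' k k' := by
    apply mult_unique Q v₀ hv₀ (simMult_spec Q (k * k'))
    intro v
    rw [Subgroup.coe_mul, Units.val_mul, ← Matrix.mulVec_mulVec, simMult_spec Q k,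
      simMult_spec Q k', Units.val_mul, mul_assoc]

theorem simMult_eq {k : ↥(Cfsg.Geo.quadSimilarityGroup Q)} {c : Fˣ}
    (hc : ∀ v, Q (((k : GL κ F) : Matrix κ κ F) *ᵥ v) = (c : F) * Q v) :
    simMult Q v₀ hv₀ k = c :=
  mult_unique Q v₀ hv₀ (simMult_spec Q k) hc

theorem mem_isometryGroup_iff (k : GL κ F) :
    k ∈ Cfsg.isometryGroup F Q ↔ ∀ v, Q ((k : Matrix κ κ F) *ᵥ v) = Q v := by
  constructor
  · intro h v
    exact h v v
  · intro h u v
    exact h u

theorem isometryGroup_le : Cfsg.isometryGroup F Q ≤ Cfsg.Geo.quadSimilarityGroup Q := by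
  intro k hk
  refine ⟨1, ?_⟩
  intro v
  rw [(mem_isometryGroup_iff Q k).mp hk v, Units.val_one, one_mul]

theorem ker_simMult :
    (simMult Q v₀ hv₀).ker = (Cfsg.isometryGroup F Q).subgroupOf (Cfsg.Geo.quadSimilarityGroup Q) := by
  ext k
  rw [MonoidHom.mem_ker, Subgroup.mem_subgroupOf, mem_isometryGroup_iff]
  constructor
  · intro h v
    have := simMult_spec Q k v
    have h' : (Classical.choose (k.2 : ∃ c : Fˣ, ∀ v, Q (((k : GL κ F) : Matrix κ κ F) *ᵥ v) =
        (c : F) * Q v) : Fˣ) = 1 := h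
    rw [h', Units.val_one, one_mul] at this
    exact this
  · intro h
    apply simMult_eq
    intro v
    rw [h v, Units.val_one, one_mul]

theorem card_scalars [Nonempty κ] [Fintype F] :
    Nat.card (Cfsg.Geo.scalars κ F) = Nat.card Fˣ := by
  unfold Cfsg.Geo.scalars
  have hinj : Function.Injective
      (Units.map ((Matrix.scalar κ : F →+* Matrix κ κ F).toMonoidHom)) := by
    apply Units.map_injective
    intro a b hab
    exact (Matrix.scalar_inj (n := κ)).mp hab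
  exact Nat.card_congr (MonoidHom.ofInjective hinj).symm.toEquiv

include hv₀ in
/-- `|PGO(Q)| ≤ |O(Q)|` for a homogeneous form -/
theorem card_PGO_le [Nonempty κ] [Fintype F]
    (hhom : ∀ (c : F) (v : κ → F), Q (c • v) = c ^ 2 * Q v) :
    Nat.card (Cfsg.PGO F Q) ≤ Nat.card (Cfsg.isometryGroup F Q) := by
  have hZle : Cfsg.Geo.scalars κ F ≤ Cfsg.Geo.quadSimilarityGroup Q := by
    intro z hz
    obtain ⟨c, hc⟩ := (Cfsg.Geo.mem_scalars_iff z).mp hz
    refine ⟨c ^ 2, ?_⟩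
    intro v
    rw [hc, Matrix.smul_mulVec, Matrix.one_mulVec, hhom, Units.val_pow_eq_pow_val]
  have h1 := Subgroup.card_eq_card_quotient_mul_card_subgroup
    ((Cfsg.Geo.scalars κ F).subgroupOf (Cfsg.Geo.quadSimilarityGroup Q))
  have h2 : Nat.card ((Cfsg.Geo.scalars κ F).subgroupOf (Cfsg.Geo.quadSimilarityGroup Q)) =
      Nat.card Fˣ := by
    rw [← card_scalars (κ := κ) (F := F)]
    exact Nat.card_congr (Subgroup.subgroupOfEquivOfLe hZle).toEquiv
  have h3 := Subgroup.card_mul_index (simMult Q v₀ hv₀).ker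
  rw [Subgroup.index_ker, ker_simMult] at h3
  have h4 : Nat.card ((Cfsg.isometryGroup F Q).subgroupOf (Cfsg.Geo.quadSimilarityGroup Q)) =
      Nat.card (Cfsg.isometryGroup F Q) :=
    Nat.card_congr (Subgroup.subgroupOfEquivOfLe (isometryGroup_le Q)).toEquiv
  have h5 : Nat.card (simMult Q v₀ hv₀).range ≤ Nat.card Fˣ :=
    Nat.card_le_card_of_injective _ Subtype.val_injective
  have hpos : 0 < Nat.card Fˣ := Nat.card_pos
  rw [h2] at h1
  rw [h4] at h3
  have h6 : Nat.card (Cfsg.PGO F Q) * Nat.card Fˣ ≤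
      Nat.card (Cfsg.isometryGroup F Q) * Nat.card Fˣ := by
    calc Nat.card (Cfsg.PGO F Q) * Nat.card Fˣ
        = Nat.card ↥(Cfsg.Geo.quadSimilarityGroup Q) := h1.symm
      _ = Nat.card (Cfsg.isometryGroup F Q) * Nat.card (simMult Q v₀ hv₀).range := h3.symm
      _ ≤ Nat.card (Cfsg.isometryGroup F Q) * Nat.card Fˣ := Nat.mul_le_mul_left _ h5
  exact Nat.le_of_mul_le_mul_right h6 hpos

end PGOcard

end Cfsg.Agent.Helper14.AutPSL
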