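import Mathlib
import Cfsg.Agent.Helper14.AutGraph11
import Cfsg.Agent.S0245
import Cfsg.Agent.S0287
import Cfsg.Agent.S0288

/-!
Helper14: `|Sp_{2m}(q)| ≤ 2 |PGSp_{2m}(q)|`, and `PGO^±_{2m}(q)` is not isomorphic to `PGSp_{2m}(q)`.
-/

set_option autoImplicit false
set_option linter.unusedSectionVars false

namespace Cfsg.Agent.Helper14.AutPSL

open Matrix

variable {F : Type*} [Field F] {m : ℕ}

/-- `Sp → GL` -/
def spToGL : ↥(Matrix.symplecticGroup (Fin m) F) →* GL (Fin m ⊕ Fin m) F :=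
  (Units.map (Matrix.symplecticGroup (Fin m) F).subtype).comp toUnits.toMonoidHom

theorem spToGL_coe (s : ↥(Matrix.symplecticGroup (Fin m) F)) :
    ((spToGL s : GL (Fin m ⊕ Fin m) F) : Matrix (Fin m ⊕ Fin m) (Fin m ⊕ Fin m) F) =
      (s : Matrix (Fin m ⊕ Fin m) (Fin m ⊕ Fin m) F) := rfl

theorem spToGL_mem (s : ↥(Matrix.symplecticGroup (Fin m) F)) : spToGL s ∈ Cfsg.GSp m F := by
  refine ⟨1, fun u v => ?_⟩
  have h1 := SymplecticGroup.mem_iff'.mp s.2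
  rw [spToGL_coe, Units.val_one, one_mul]
  unfold Cfsg.sympForm
  rw [← Matrix.vecMul_transpose, ← Matrix.dotProduct_mulVec, Matrix.mulVec_mulVec,
    Matrix.mulVec_mulVec, h1]

/-- `Sp → PGSp` -/
def spToPGSp : ↥(Matrix.symplecticGroup (Fin m) F) →* Cfsg.PGSp m F :=
  (QuotientGroup.mk' _).comp (spToGL.codRestrict (Cfsg.GSp m F) spToGL_mem)

theorem mem_ker_spToPGSp (s : ↥(Matrix.symplecticGroup (Fin m) F)) :
    s ∈ (spToPGSp (F := F) (m := m)).ker ↔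
      ∃ c : Fˣ, (s : Matrix (Fin m ⊕ Fin m) (Fin m ⊕ Fin m) F) =
        (c : F) • (1 : Matrix (Fin m ⊕ Fin m) (Fin m ⊕ Fin m) F) := by
  rw [MonoidHom.mem_ker]
  unfold spToPGSp
  rw [MonoidHom.comp_apply, QuotientGroup.mk'_apply, QuotientGroup.eq_one_iff,
    Subgroup.mem_subgroupOf, Cfsg.Geo.mem_scalars_iff]
  rfl

theorem sq_eq_one_of_smul_mem (hm : 1 ≤ m) (c : F)
    (h : (c • (1 : Matrix (Fin m ⊕ Fin m) (Fin m ⊕ Fin m) F)) ∈ Matrix.symplecticGroup (Fin m) F) :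
    c ^ 2 = 1 := by
  rw [SymplecticGroup.mem_iff, Matrix.transpose_smul, Matrix.transpose_one, Matrix.smul_mul,
    Matrix.one_mul, Matrix.mul_smul, Matrix.mul_one, smul_smul] at h
  have h1 := congrFun (congrFun h (Sum.inl ⟨0, by omega⟩)) (Sum.inr ⟨0, by omega⟩)
  unfold Matrix.J at h1
  rw [Matrix.smul_apply, Matrix.fromBlocks_apply₁₂, Matrix.neg_apply, Matrix.one_apply_eq,
    smul_eq_mul] at h1
  linear_combination -h1

theorem card_sp_le [Fintype F] (hm : 1 ≤ m) :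
    Nat.card (Matrix.symplecticGroup (Fin m) F) ≤ 2 * Nat.card (Cfsg.PGSp m F) := by
  classical
  have h1 := Subgroup.card_mul_index (spToPGSp (F := F) (m := m)).ker
  rw [Subgroup.index_ker] at h1
  have h2 : Nat.card (spToPGSp (F := F) (m := m)).range ≤ Nat.card (Cfsg.PGSp m F) :=
    Nat.card_le_card_of_injective _ Subtype.val_injective
  have h3 : Nat.card (spToPGSp (F := F) (m := m)).ker ≤ 2 := by
    let i₀ : Fin m ⊕ Fin m := Sum.inl ⟨0, by omega⟩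
    have hval : ∀ s : (spToPGSp (F := F) (m := m)).ker,
        ((s : ↥(Matrix.symplecticGroup (Fin m) F)) :
          Matrix (Fin m ⊕ Fin m) (Fin m ⊕ Fin m) F) i₀ i₀ ∈ ({1, -1} : Finset F) := by
      intro s
      obtain ⟨c, hc⟩ := (mem_ker_spToPGSp s.1).mp s.2
      have hmem := s.1.2
      rw [hc] at hmem
      have hsq := sq_eq_one_of_smul_mem hm (c : F) hmem
      rw [hc, Matrix.smul_apply, Matrix.one_apply_eq, smul_eq_mul, mul_one, Finset.mem_insert,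
        Finset.mem_singleton]
      exact sq_eq_one_iff.mp hsq
    let f : (spToPGSp (F := F) (m := m)).ker → ↥({1, -1} : Finset F) := fun s => ⟨_, hval s⟩
    have hf : Function.Injective f := by
      intro s s' hss
      have hent : ((s : ↥(Matrix.symplecticGroup (Fin m) F)) :
          Matrix (Fin m ⊕ Fin m) (Fin m ⊕ Fin m) F) i₀ i₀ =
          ((s' : ↥(Matrix.symplecticGroup (Fin m) F)) :
          Matrix (Fin m ⊕ Fin m) (Fin m ⊕ Fin m) F) i₀ i₀ := congrArg Subtype.val hss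
      obtain ⟨c, hc⟩ := (mem_ker_spToPGSp s.1).mp s.2
      obtain ⟨c', hc'⟩ := (mem_ker_spToPGSp s'.1).mp s'.2
      rw [hc, hc', Matrix.smul_apply, Matrix.smul_apply, Matrix.one_apply_eq, smul_eq_mul,
        smul_eq_mul, mul_one, mul_one] at hent
      apply Subtype.ext
      apply Subtype.ext
      rw [hc, hc', hent]
    calc Nat.card (spToPGSp (F := F) (m := m)).ker
        ≤ Nat.card ↥({1, -1} : Finset F) := Nat.card_le_card_of_injective f hf
      _ = ({1, -1} : Finset F).card := by rw [Nat.card_eq_fintype_card, Fintype.card_coe]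
      _ ≤ 2 := Finset.card_le_two
  calc Nat.card (Matrix.symplecticGroup (Fin m) F)
      = Nat.card (spToPGSp (F := F) (m := m)).ker * Nat.card (spToPGSp (F := F) (m := m)).range :=
        h1.symm
    _ ≤ 2 * Nat.card (Cfsg.PGSp m F) := Nat.mul_le_mul h3 h2

/-! ### the numerical comparison -/

theorem num_aux (x : ℕ) (hx : 3 ≤ x) : 4 * (x + 1) < x * (x ^ 2 - 1) := by
  obtain ⟨y, rfl⟩ : ∃ y, x = y + 3 := ⟨x - 3, by omega⟩
  have : (y + 3) ^ 2 - 1 = y ^ 2 + 6 * y + 8 := by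
    apply Nat.sub_eq_of_eq_add
    ring
  rw [this]
  nlinarith

theorem prod_pos_aux (q k : ℕ) (hq : 2 ≤ q) :
    0 < ∏ i ∈ Finset.range k, (q ^ (2 * (i + 1)) - 1) := by
  apply Finset.prod_pos
  intro i _
  have : 2 ^ (2 * (i + 1)) ≤ q ^ (2 * (i + 1)) := Nat.pow_le_pow_left hq _
  have h2 : 2 ≤ 2 ^ (2 * (i + 1)) := by
    calc 2 = 2 ^ 1 := by norm_num
      _ ≤ 2 ^ (2 * (i + 1)) := Nat.pow_le_pow_right (by norm_num) (by omega)
  omega

theorem num_ineq (q m : ℕ) (hq : 3 ≤ q) (hm : 2 ≤ m) (c : ℕ) (hc : c ≤ q ^ m + 1) :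
    2 * (2 * q ^ (m * (m - 1)) * c * ∏ i ∈ Finset.range (m - 1), (q ^ (2 * (i + 1)) - 1)) <
      q ^ (m ^ 2) * ∏ i ∈ Finset.range m, (q ^ (2 * (i + 1)) - 1) := by
  have hP := prod_pos_aux q (m - 1) (by omega)
  obtain ⟨P, hPdef⟩ : ∃ P, P = ∏ i ∈ Finset.range (m - 1), (q ^ (2 * (i + 1)) - 1) := ⟨_, rfl⟩
  rw [← hPdef] at hP ⊢
  have hm1 : m = (m - 1) + 1 := by omega
  have hprod : ∏ i ∈ Finset.range m, (q ^ (2 * (i + 1)) - 1) = P * (q ^ (2 * m) - 1) := by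
    conv_lhs => rw [hm1]
    rw [Finset.prod_range_succ, ← hPdef, ← hm1]
  rw [hprod]
  have hx : 3 ≤ q ^ m := by
    calc 3 ≤ q := hq
      _ = q ^ 1 := (pow_one q).symm
      _ ≤ q ^ m := Nat.pow_le_pow_right (by omega) (by omega)
  have hpow : q ^ (m ^ 2) = q ^ (m * (m - 1)) * q ^ m := by
    rw [← pow_add]
    congr 1
    obtain ⟨k, rfl⟩ : ∃ k, m = k + 1 := ⟨m - 1, by omega⟩
    simp only [Nat.add_sub_cancel]
    ring
  have hx2 : q ^ (2 * m) = (q ^ m) ^ 2 := by rw [← pow_mul, mul_comm]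
  rw [hpow, hx2]
  obtain ⟨x, hxdef⟩ : ∃ x, x = q ^ m := ⟨_, rfl⟩
  rw [← hxdef] at hx hc ⊢
  obtain ⟨A, hAdef⟩ : ∃ A, A = q ^ (m * (m - 1)) := ⟨_, rfl⟩
  have hA : 0 < A := by rw [hAdef]; exact Nat.pow_pos (by omega)
  rw [← hAdef]
  have h1 := num_aux x hx
  have h2 : 4 * c < x * (x ^ 2 - 1) := lt_of_le_of_lt (Nat.mul_le_mul_left 4 hc) h1
  calc 2 * (2 * A * c * P) = (A * P) * (4 * c) := by ring
    _ < (A * P) * (x * (x ^ 2 - 1)) := Nat.mul_lt_mul_of_pos_left h2 (Nat.mul_pos hA hP)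
    _ = A * x * (P * (x ^ 2 - 1)) := by ring

/-! ### `PGO^±` is not `PGSp` -/

theorem three_le_card_of_odd [Fintype F] (hodd : Odd (Fintype.card F)) : 3 ≤ Fintype.card F := by
  have h1 : 1 < Fintype.card F := Fintype.one_lt_card
  obtain ⟨k, hk⟩ := hodd
  omega

theorem quadFormPlus_smul (c : F) (v : Fin m ⊕ Fin m → F) :
    Cfsg.quadFormPlus m F (c • v) = c ^ 2 * Cfsg.quadFormPlus m F v := by
  unfold Cfsg.quadFormPlus
  rw [Finset.mul_sum]
  apply Finset.sum_congr rfl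
  intro i _
  simp only [Pi.smul_apply, smul_eq_mul]
  ring

theorem quadFormMinus_smul (a b c : F) (v : (Fin m ⊕ Fin m) ⊕ Fin 2 → F) :
    Cfsg.quadFormMinus m F a b (c • v) = c ^ 2 * Cfsg.quadFormMinus m F a b v := by
  unfold Cfsg.quadFormMinus
  rw [mul_add, Finset.mul_sum]
  congr 1
  · apply Finset.sum_congr rfl
    intro i _
    simp only [Pi.smul_apply, smul_eq_mul]
    ring
  · simp only [Pi.smul_apply, smul_eq_mul]
    ring

theorem not_PGO_plus_equiv_PGSp [Fintype F] (hodd : Odd (Fintype.card F)) (hm : 2 ≤ m) :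
    ¬ Nonempty (Cfsg.PGO F (Cfsg.quadFormPlus m F) ≃* Cfsg.PGSp m F) := by
  rintro ⟨e⟩
  have hq := three_le_card_of_odd hodd
  have hcard := Nat.card_congr e.toEquiv
  have : Nonempty (Fin m ⊕ Fin m) := ⟨Sum.inl ⟨0, by omega⟩⟩
  let i₀ : Fin m := ⟨0, by omega⟩
  have hv₀ : Cfsg.quadFormPlus m F (Sum.elim (Pi.single i₀ 1) (Pi.single i₀ 1)) ≠ 0 := by
    unfold Cfsg.quadFormPlus
    simp only [Sum.elim_inl, Sum.elim_inr]
    rw [Finset.sum_eq_single i₀]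
    · simp
    · intro j _ hj
      rw [Pi.single_eq_of_ne hj, zero_mul]
    · intro h
      exact absurd (Finset.mem_univ _) h
  have h1 := card_PGO_le (Cfsg.quadFormPlus m F) _ hv₀ quadFormPlus_smul
  have h2 := card_sp_le (F := F) (m := m) (by omega)
  have h3 := Cfsg.Agent.S0287.result (F := F) rfl m (by omega)
  have h4 := Cfsg.Agent.S0245.result (F := F) rfl m
  have h5 := num_ineq (Fintype.card F) m hq hm (Fintype.card F ^ m - 1) (by omega)
  rw [← h3, ← h4] at h5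
  omega

theorem not_PGO_minus_equiv_PGSp [Fintype F] (hodd : Odd (Fintype.card F)) (hm : 2 ≤ m) (a b : F)
    (hab : ∀ z₁ z₂ : F, z₁ ^ 2 + a * z₁ * z₂ + b * z₂ ^ 2 = 0 → z₁ = 0 ∧ z₂ = 0) :
    ¬ Nonempty (Cfsg.PGO F (Cfsg.quadFormMinus (m - 1) F a b) ≃* Cfsg.PGSp m F) := by
  rintro ⟨e⟩
  have hq := three_le_card_of_odd hodd
  have hcard := Nat.card_congr e.toEquiv
  have : Nonempty ((Fin (m - 1) ⊕ Fin (m - 1)) ⊕ Fin 2) := ⟨Sum.inr 0⟩
  have hv₀ : Cfsg.quadFormMinus (m - 1) F a b (Sum.elim 0 (Pi.single 0 1)) ≠ 0 := by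
    unfold Cfsg.quadFormMinus
    simp
  have h1 := card_PGO_le (Cfsg.quadFormMinus (m - 1) F a b) _ hv₀ (quadFormMinus_smul a b)
  have h2 := card_sp_le (F := F) (m := m) (by omega)
  have h3 := Cfsg.Agent.S0288.result (F := F) rfl m (by omega) a b hab
  have h4 := Cfsg.Agent.S0245.result (F := F) rfl m
  have h5 := num_ineq (Fintype.card F) m hq hm (Fintype.card F ^ m + 1) le_rfl
  rw [← h3, ← h4] at h5
  omega

end Cfsg.Agent.Helper14.AutPSL
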