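import Mathlib
import Cfsg.Agent.Helper5.AutSpP
import Cfsg.Agent.Helper14.AutDescent
import Cfsg.Agent.Helper14.AutGraph12

/-!
Helper14: automorphisms of `PSp_{2m}(q)` induced by semilinear similitudes: composition law, the
homomorphism `GSp → Aut(PSp)`, standard field automorphisms, and the named subgroups.
-/

set_option autoImplicit false
set_option linter.unusedSectionVars false

namespace Cfsg.Agent.Helper14.AutPSp

open Matrix Cfsg.Agent.Helper13 Cfsg.Agent.Helper94.SpRoot Cfsg.Agent.Helper14.AutPSL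
  Cfsg.Agent.Helper5.AutSp

variable {F : Type*} [Field F] {m : ℕ}

local notation "Vec" => (Fin m ⊕ Fin m → F)
local notation "Mat" => Matrix (Fin m ⊕ Fin m) (Fin m ⊕ Fin m) F
local notation "Sp" => Matrix.symplecticGroup (Fin m) F
local notation "B" => Cfsg.sympForm m F

theorem glMap_mem_GSp (σ : F ≃+* F) {M : GL (Fin m ⊕ Fin m) F} (hM : M ∈ Cfsg.GSp m F) :
    glMap σ M ∈ Cfsg.GSp m F := by
  obtain ⟨c, hc⟩ := hM
  refine ⟨Units.map (σ : F →* F) c, ?_⟩
  intro u v
  have hu : u = fun i => σ (σ.symm (u i)) := by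
    funext i
    rw [σ.apply_symm_apply]
  have hv : v = fun i => σ (σ.symm (v i)) := by
    funext i
    rw [σ.apply_symm_apply]
  rw [glMap_coe, hu, hv, map_mulVec_equiv, map_mulVec_equiv, B_map, B_map, hc, map_mul]
  rfl

theorem glMap_refl (M : GL (Fin m ⊕ Fin m) F) : glMap (RingEquiv.refl F) M = M := by
  apply Units.ext
  rw [glMap_coe]
  ext i j
  rfl

theorem glMap_mul' (σ : F ≃+* F) (M M' : GL (Fin m ⊕ Fin m) F) :
    glMap σ (M * M') = glMap σ M * glMap σ M' := by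
  unfold glMap
  rw [map_mul]

/-- composition law -/
theorem semiAut_mul [Finite F] (M M' : GL (Fin m ⊕ Fin m) F) (hM : M ∈ Cfsg.GSp m F)
    (hM' : M' ∈ Cfsg.GSp m F) (σ σ' : F ≃+* F) :
    (semiAut M hM σ : MulAut (Cfsg.PSp m F)) * semiAut M' hM' σ' =
      semiAut (M * glMap σ M') (Subgroup.mul_mem _ hM (glMap_mem_GSp σ hM')) (σ * σ') := by
  apply MulEquiv.ext
  intro x
  obtain ⟨s, rfl⟩ := prj_surjective x
  rw [MulAut.mul_apply, semiAut_prj, semiAut_prj, semiAut_prj]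
  congr 1
  apply Subtype.ext
  rw [semiSpEquiv_coe, semiSpEquiv_coe, semiSpEquiv_coe, Matrix.map_mul, Matrix.map_mul,
    _root_.mul_inv_rev, Units.val_mul, Units.val_mul, glMap_inv_coe, glMap_coe]
  have h1 : ((s : Mat).map σ').map σ = (s : Mat).map (σ * σ') := by
    ext i j
    rfl
  rw [h1]
  simp only [Matrix.mul_assoc]

theorem semiAut_one [Finite F] :
    (semiAut (1 : GL (Fin m ⊕ Fin m) F) (Subgroup.one_mem _) (RingEquiv.refl F) :
      MulAut (Cfsg.PSp m F)) = 1 := by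
  apply MulEquiv.ext
  intro x
  obtain ⟨s, rfl⟩ := prj_surjective x
  rw [semiAut_prj, MulAut.one_apply]
  congr 1
  apply Subtype.ext
  rw [semiSpEquiv_coe, inv_one, Units.val_one, Matrix.one_mul, Matrix.mul_one]
  ext i j
  rfl

/-- `GSp → Aut(PSp)` -/
noncomputable def gspHom (m : ℕ) (F : Type*) [Field F] [Finite F] :
    ↥(Cfsg.GSp m F) →* MulAut (Cfsg.PSp m F) where
  toFun g := semiAut g.1 g.2 (RingEquiv.refl F)
  map_one' := semiAut_one
  map_mul' g g' := by
    show semiAut (g.1 * g'.1) _ (RingEquiv.refl F) = semiAut g.1 g.2 (RingEquiv.refl F) *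
      semiAut g'.1 g'.2 (RingEquiv.refl F)
    rw [semiAut_mul]
    have h1 : g.1 * glMap (RingEquiv.refl F) g'.1 = g.1 * g'.1 := by rw [glMap_refl]
    have h2 : (RingEquiv.refl F : F ≃+* F) * RingEquiv.refl F = RingEquiv.refl F := rfl
    rw [h2]
    exact (semiAut_congr h1 _ _ _).symm

theorem gspHom_apply [Finite F] (g : ↥(Cfsg.GSp m F)) :
    gspHom m F g = semiAut g.1 g.2 (RingEquiv.refl F) := rfl

/-- the standard field automorphism -/
noncomputable def spField [Finite F] (σ : F ≃+* F) : MulAut (Cfsg.PSp m F) :=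
  semiAut (1 : GL (Fin m ⊕ Fin m) F) (Subgroup.one_mem _) σ

theorem glMap_one' (σ : F ≃+* F) : glMap σ (1 : GL (Fin m ⊕ Fin m) F) = 1 := by
  unfold glMap
  rw [map_one]

theorem spField_mul [Finite F] (σ τ : F ≃+* F) :
    (spField σ : MulAut (Cfsg.PSp m F)) * spField τ = spField (σ * τ) := by
  unfold spField
  rw [semiAut_mul]
  exact semiAut_congr (by rw [glMap_one', mul_one]) _ _ _

theorem spField_one [Finite F] : (spField (1 : F ≃+* F) : MulAut (Cfsg.PSp m F)) = 1 :=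
  semiAut_one

theorem spField_pow [Finite F] (σ : F ≃+* F) (k : ℕ) :
    (spField σ : MulAut (Cfsg.PSp m F)) ^ k = spField (σ ^ k) := by
  induction k with
  | zero => rw [pow_zero, pow_zero, spField_one]
  | succ k ih => rw [pow_succ, ih, spField_mul, pow_succ]

/-- `σ` applied to a similitude -/
def gspMap (σ : F ≃+* F) (g : ↥(Cfsg.GSp m F)) : ↥(Cfsg.GSp m F) :=
  ⟨glMap σ g.1, glMap_mem_GSp σ g.2⟩

theorem gspHom_mul_spField [Finite F] (g : ↥(Cfsg.GSp m F)) (σ : F ≃+* F) :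
    gspHom m F g * spField σ = semiAut g.1 g.2 σ := by
  rw [gspHom_apply]
  unfold spField
  rw [semiAut_mul]
  have h2 : (RingEquiv.refl F : F ≃+* F) * σ = σ := rfl
  rw [h2]
  exact semiAut_congr (by rw [glMap_one', mul_one]) _ _ _

theorem spField_mul_gspHom [Finite F] (g : ↥(Cfsg.GSp m F)) (σ : F ≃+* F) :
    spField σ * gspHom m F g = gspHom m F (gspMap σ g) * spField σ := by
  rw [gspHom_mul_spField, gspHom_apply]
  unfold spField
  rw [semiAut_mul]
  have h2 : σ * (RingEquiv.refl F : F ≃+* F) = σ := rfl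
  rw [h2]
  exact semiAut_congr (by rw [one_mul]; rfl) _ _ _

theorem isInduced_iff [Finite F] {g : GL (Fin m ⊕ Fin m) F} (hg : g ∈ Cfsg.GSp m F) (σ : F ≃+* F)
    (β : Cfsg.PSp m F ≃* Cfsg.PSp m F) :
    Cfsg.IsInducedBySemilinearPSp g σ β ↔ β = semiAut g hg σ := by
  constructor
  · intro h
    apply MulEquiv.ext
    intro x
    obtain ⟨s, rfl⟩ := prj_surjective x
    rw [semiAut_prj]
    exact h s (semiSpEquiv g hg σ s) (semiSpEquiv_coe g hg σ s)
  · rintro rfl
    exact semiAut_isInduced g hg σ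

theorem isStdField_iff [Finite F] (σ : F ≃+* F) (β : Cfsg.PSp m F ≃* Cfsg.PSp m F) :
    Cfsg.IsStdFieldAutPSp σ β ↔ β = spField σ := by
  have hco : ∀ s : Sp, ((semiSpEquiv (1 : GL (Fin m ⊕ Fin m) F) (Subgroup.one_mem _) σ s : Sp) : Mat) =
      (s : Mat).map σ := by
    intro s
    rw [semiSpEquiv_coe, inv_one, Units.val_one, Matrix.one_mul, Matrix.mul_one]
  constructor
  · intro h
    apply MulEquiv.ext
    intro x
    obtain ⟨s, rfl⟩ := prj_surjective x
    unfold spField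
    rw [semiAut_prj]
    exact h s _ (hco s)
  · rintro rfl s s' hs
    show spField σ (prj s) = prj s'
    unfold spField
    rw [semiAut_prj]
    congr 1
    apply Subtype.ext
    rw [hco, hs]

theorem mem_inndiagPSp [Finite F] {β : MulAut (Cfsg.PSp m F)} :
    β ∈ Cfsg.inndiagPSp m F ↔ ∃ g : ↥(Cfsg.GSp m F), β = gspHom m F g := by
  have hset : {β : MulAut (Cfsg.PSp m F) | Cfsg.IsInnerDiagonalAutPSp β} =
      ((gspHom m F).range : Set (MulAut (Cfsg.PSp m F))) := by
    ext β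
    constructor
    · rintro ⟨g, hg, hβ⟩
      exact ⟨⟨g, hg⟩, ((isInduced_iff hg _ β).mp hβ).symm⟩
    · rintro ⟨g, rfl⟩
      exact ⟨g.1, g.2, semiAut_isInduced g.1 g.2 _⟩
  unfold Cfsg.inndiagPSp Cfsg.autSubgroupOf
  rw [hset, Subgroup.closure_eq]
  constructor
  · rintro ⟨g, rfl⟩
    exact ⟨g, rfl⟩
  · rintro ⟨g, rfl⟩
    exact ⟨g, rfl⟩

theorem inndiagPSp_eq_range [Finite F] : Cfsg.inndiagPSp m F = (gspHom m F).range := by
  ext β
  rw [mem_inndiagPSp]
  constructor
  · rintro ⟨g, rfl⟩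
    exact ⟨g, rfl⟩
  · rintro ⟨g, rfl⟩
    exact ⟨g, rfl⟩

end Cfsg.Agent.Helper14.AutPSp
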