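import Mathlib
import Cfsg.Agent.Helper14.SpF1

/-!
Helper14: `GSp → Aut(PSp)`: the image of `Sp` is `Inn`, the kernel is the scalars; the multiplier.
-/

set_option autoImplicit false
set_option linter.unusedSectionVars false

namespace Cfsg.Agent.Helper14.AutPSp

open Matrix Cfsg.Agent.Helper13 Cfsg.Agent.Helper94.SpRoot Cfsg.Agent.Helper14.AutPSL
  Cfsg.Agent.Helper5.AutSp

variable {F : Type*} [Field F] {m : ℕ}

local notation "Vec" => (Fin m ⊕ Fin m → F)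
local notation "Mat" => Matrix (Fin m ⊕ Fin m) (Fin m ⊕ Fin m) F
local notation "Sp" => Matrix.symplecticGroup (Fin m) F
local notation "B" => Cfsg.sympForm m F

/-- `Sp → GSp` -/
def spIncl : Sp →* ↥(Cfsg.GSp m F) := spToGL.codRestrict (Cfsg.GSp m F) spToGL_mem

theorem spIncl_coe (s : Sp) : (((spIncl s : ↥(Cfsg.GSp m F)) : GL (Fin m ⊕ Fin m) F) : Mat) = (s : Mat) :=
  rfl

theorem spIncl_inv_coe (s : Sp) :
    ((((spIncl s : ↥(Cfsg.GSp m F)) : GL (Fin m ⊕ Fin m) F)⁻¹ : GL (Fin m ⊕ Fin m) F) : Mat) =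
      ((s⁻¹ : Sp) : Mat) := by
  have : ((spIncl s : ↥(Cfsg.GSp m F)) : GL (Fin m ⊕ Fin m) F)⁻¹ =
      ((spIncl s⁻¹ : ↥(Cfsg.GSp m F)) : GL (Fin m ⊕ Fin m) F) := by
    rw [map_inv]; rfl
  rw [this, spIncl_coe]

theorem map_refl (A : Mat) : A.map (RingEquiv.refl F) = A := by
  ext i j; rfl

theorem gspHom_spIncl [Finite F] (s : Sp) : gspHom m F (spIncl s) = MulAut.conj (prj s) := by
  apply MulEquiv.ext
  intro x
  obtain ⟨t, rfl⟩ := prj_surjective x
  rw [gspHom_apply, semiAut_prj, MulAut.conj_apply, ← map_inv, ← map_mul, ← map_mul]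
  congr 1

/-- scalar similitudes -/
def gspScalar (a : Fˣ) : ↥(Cfsg.GSp m F) :=
  ⟨Matrix.GeneralLinearGroup.scalar (Fin m ⊕ Fin m) a, by
    refine ⟨a * a, fun u v => ?_⟩
    rw [Matrix.GeneralLinearGroup.coe_scalar, Matrix.scalar_apply, ← Matrix.smul_one_eq_diagonal,
      Matrix.smul_mulVec, Matrix.one_mulVec, Matrix.smul_mulVec, Matrix.one_mulVec,
      sympForm_smul_left, sympForm_smul_right, Units.val_mul, mul_assoc]⟩

theorem gspScalar_coe (a : Fˣ) :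
    (((gspScalar a : ↥(Cfsg.GSp m F)) : GL (Fin m ⊕ Fin m) F) : Mat) = (a : F) • (1 : Mat) := by
  show ((Matrix.GeneralLinearGroup.scalar (Fin m ⊕ Fin m) a : GL (Fin m ⊕ Fin m) F) : Mat) = _
  rw [Matrix.GeneralLinearGroup.coe_scalar, Matrix.scalar_apply, ← Matrix.smul_one_eq_diagonal]

theorem gspHom_gspScalar [Finite F] (a : Fˣ) : gspHom m F (gspScalar a) = 1 := by
  apply MulEquiv.ext
  intro x
  obtain ⟨t, rfl⟩ := prj_surjective x
  rw [gspHom_apply, semiAut_prj, MulAut.one_apply]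
  congr 1
  apply Subtype.ext
  rw [semiSpEquiv_coe, map_refl]
  have h1 : (((gspScalar a : ↥(Cfsg.GSp m F)) : GL (Fin m ⊕ Fin m) F) : Mat) * (t : Mat) =
      (t : Mat) * (((gspScalar a : ↥(Cfsg.GSp m F)) : GL (Fin m ⊕ Fin m) F) : Mat) := by
    rw [gspScalar_coe, Matrix.smul_mul, Matrix.mul_smul, Matrix.one_mul, Matrix.mul_one]
  rw [h1, Matrix.mul_assoc, ← Units.val_mul, mul_inv_cancel, Units.val_one, Matrix.mul_one]

theorem mem_ker_gspHom [Finite F] (hm : 2 ≤ m) (g : ↥(Cfsg.GSp m F)) :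
    g ∈ (gspHom m F).ker ↔ ∃ a : Fˣ, g = gspScalar a := by
  rw [MonoidHom.mem_ker]
  constructor
  · intro h
    obtain ⟨-, μ, hμ, hg⟩ := scalar_of_semiAut_eq hm g.2 (σ := RingEquiv.refl F) (by
      intro x
      have := DFunLike.congr_fun h x
      rw [gspHom_apply] at this
      exact this)
    refine ⟨Units.mk0 μ hμ, ?_⟩
    apply Subtype.ext
    apply Units.ext
    rw [hg, gspScalar_coe, Units.val_mk0]
  · rintro ⟨a, rfl⟩
    exact gspHom_gspScalar a

/-! ### the multiplier -/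

theorem gsp_mult_unique (hm : 1 ≤ m) {k : GL (Fin m ⊕ Fin m) F} {c c' : Fˣ}
    (hc : ∀ u v, B ((k : Mat) *ᵥ u) ((k : Mat) *ᵥ v) = (c : F) * B u v)
    (hc' : ∀ u v, B ((k : Mat) *ᵥ u) ((k : Mat) *ᵥ v) = (c' : F) * B u v) : c = c' := by
  obtain ⟨e, f, hef⟩ := exists_pair (F := F) hm
  apply Units.ext
  have := (hc e f).symm.trans (hc' e f)
  rw [hef, mul_one, mul_one] at this
  exact this

theorem gspMult_spec' (k : ↥(Cfsg.GSp m F)) :
    ∀ u v, B (((k : GL (Fin m ⊕ Fin m) F) : Mat) *ᵥ u) (((k : GL (Fin m ⊕ Fin m) F) : Mat) *ᵥ v) =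
      ((Classical.choose (k.2 : ∃ c : Fˣ, ∀ u v,
        B (((k : GL (Fin m ⊕ Fin m) F) : Mat) *ᵥ u) (((k : GL (Fin m ⊕ Fin m) F) : Mat) *ᵥ v) =
          (c : F) * B u v) : Fˣ) : F) * B u v :=
  Classical.choose_spec (k.2 : ∃ c : Fˣ, ∀ u v,
        B (((k : GL (Fin m ⊕ Fin m) F) : Mat) *ᵥ u) (((k : GL (Fin m ⊕ Fin m) F) : Mat) *ᵥ v) =
          (c : F) * B u v)

/-- the multiplier of a similitude -/
noncomputable def gspMult (hm : 1 ≤ m) : ↥(Cfsg.GSp m F) →* Fˣ where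
  toFun k := Classical.choose (k.2 : ∃ c : Fˣ, ∀ u v,
        B (((k : GL (Fin m ⊕ Fin m) F) : Mat) *ᵥ u) (((k : GL (Fin m ⊕ Fin m) F) : Mat) *ᵥ v) =
          (c : F) * B u v)
  map_one' := by
    apply gsp_mult_unique hm (gspMult_spec' 1)
    intro u v
    simp
  map_mul' k k' := by
    apply gsp_mult_unique hm (gspMult_spec' (k * k'))
    intro u v
    rw [Subgroup.coe_mul, Units.val_mul, ← Matrix.mulVec_mulVec, ← Matrix.mulVec_mulVec,
      gspMult_spec' k, gspMult_spec' k', Units.val_mul, mul_assoc]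

theorem gspMult_spec (hm : 1 ≤ m) (k : ↥(Cfsg.GSp m F)) (u v : Vec) :
    B (((k : GL (Fin m ⊕ Fin m) F) : Mat) *ᵥ u) (((k : GL (Fin m ⊕ Fin m) F) : Mat) *ᵥ v) =
      ((gspMult hm k : Fˣ) : F) * B u v := gspMult_spec' k u v

theorem gspMult_eq (hm : 1 ≤ m) {k : ↥(Cfsg.GSp m F)} {c : Fˣ}
    (hc : ∀ u v, B (((k : GL (Fin m ⊕ Fin m) F) : Mat) *ᵥ u)
      (((k : GL (Fin m ⊕ Fin m) F) : Mat) *ᵥ v) = (c : F) * B u v) :
    gspMult hm k = c :=
  gsp_mult_unique hm (gspMult_spec' k) hc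

theorem gspMult_scalar (hm : 1 ≤ m) (a : Fˣ) : gspMult hm (gspScalar a : ↥(Cfsg.GSp m F)) = a * a := by
  apply gspMult_eq
  intro u v
  rw [gspScalar_coe, Matrix.smul_mulVec, Matrix.one_mulVec, Matrix.smul_mulVec, Matrix.one_mulVec,
    sympForm_smul_left, sympForm_smul_right, Units.val_mul, mul_assoc]

theorem gspMult_spIncl (hm : 1 ≤ m) (s : Sp) : gspMult hm (spIncl s) = 1 := by
  apply gspMult_eq
  intro u v
  rw [spIncl_coe, Units.val_one, one_mul]
  exact sp_preserves s u v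

/-- `diag(ν, …, ν, 1, …, 1)` -/
def gspDiag (ν : Fˣ) : ↥(Cfsg.GSp m F) :=
  ⟨⟨Matrix.diagonal (Sum.elim (fun _ => (ν : F)) (fun _ => 1)),
    Matrix.diagonal (Sum.elim (fun _ => ((ν⁻¹ : Fˣ) : F)) (fun _ => 1)), by
      rw [Matrix.diagonal_mul_diagonal, ← Matrix.diagonal_one]
      congr 1
      funext i
      rcases i with i | i
      · simp
      · simp, by
      rw [Matrix.diagonal_mul_diagonal, ← Matrix.diagonal_one]
      congr 1
      funext i
      rcases i with i | i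
      · simp
      · simp⟩, by
    refine ⟨ν, fun u v => ?_⟩
    show B (Matrix.diagonal (Sum.elim (fun _ => (ν : F)) (fun _ => 1)) *ᵥ u)
      (Matrix.diagonal (Sum.elim (fun _ => (ν : F)) (fun _ => 1)) *ᵥ v) = _
    rw [sympForm_eq_sum, sympForm_eq_sum, Finset.mul_sum]
    apply Finset.sum_congr rfl
    intro i _
    simp only [Matrix.mulVec_diagonal, Sum.elim_inl, Sum.elim_inr]
    ring⟩

theorem gspDiag_coe (ν : Fˣ) :
    (((gspDiag ν : ↥(Cfsg.GSp m F)) : GL (Fin m ⊕ Fin m) F) : Mat) =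
      Matrix.diagonal (Sum.elim (fun _ => (ν : F)) (fun _ => 1)) := rfl

theorem gspMult_gspDiag (hm : 1 ≤ m) (ν : Fˣ) : gspMult hm (gspDiag ν : ↥(Cfsg.GSp m F)) = ν := by
  apply gspMult_eq
  intro u v
  rw [gspDiag_coe, sympForm_eq_sum, sympForm_eq_sum, Finset.mul_sum]
  apply Finset.sum_congr rfl
  intro i _
  simp only [Matrix.mulVec_diagonal, Sum.elim_inl, Sum.elim_inr]
  ring

theorem gspMult_surjective (hm : 1 ≤ m) : Function.Surjective (gspMult (F := F) hm) :=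
  fun ν => ⟨gspDiag ν, gspMult_gspDiag hm ν⟩

/-- the similitudes with square multiplier: `F^× · Sp` -/
noncomputable def gspN (hm : 1 ≤ m) : Subgroup ↥(Cfsg.GSp m F) :=
  ((powMonoidHom 2 : Fˣ →* Fˣ).range).comap (gspMult hm)

instance gspN_normal (hm : 1 ≤ m) : (gspN (F := F) hm).Normal := by
  unfold gspN
  infer_instance

theorem ker_gspMult_le (hm : 1 ≤ m) : (gspMult (F := F) hm).ker ≤ gspN hm := by
  intro g hg
  rw [MonoidHom.mem_ker] at hg
  unfold gspN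
  rw [Subgroup.mem_comap, hg]
  exact Subgroup.one_mem _

theorem map_gspN (hm : 1 ≤ m) :
    (gspN (F := F) hm).map (gspMult hm) = (powMonoidHom 2 : Fˣ →* Fˣ).range := by
  unfold gspN
  exact Subgroup.map_comap_eq_self_of_surjective (gspMult_surjective hm) _

theorem mem_gspN_iff (hm : 1 ≤ m) (g : ↥(Cfsg.GSp m F)) :
    g ∈ gspN hm ↔ ∃ (a : Fˣ) (s : Sp), g = gspScalar a * spIncl s := by
  unfold gspN
  rw [Subgroup.mem_comap]
  constructor
  · rintro ⟨a, ha⟩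
    rw [powMonoidHom_apply] at ha
    have h1 : gspMult hm ((gspScalar a)⁻¹ * g) = 1 := by
      rw [map_mul, map_inv, gspMult_scalar, ← ha, pow_two, inv_mul_cancel]
    have h2 : (((gspScalar a)⁻¹ * g : ↥(Cfsg.GSp m F)) : GL (Fin m ⊕ Fin m) F).1 ∈
        Matrix.symplecticGroup (Fin m) F := by
      rw [mem_symplecticGroup_iff_preserves]
      intro u v
      have := gspMult_spec hm ((gspScalar a)⁻¹ * g) u v
      rw [h1, Units.val_one, one_mul] at this
      exact this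
    refine ⟨a, ⟨_, h2⟩, ?_⟩
    have h3 : spIncl (⟨_, h2⟩ : Sp) = (gspScalar a)⁻¹ * g := by
      apply Subtype.ext
      apply Units.ext
      rfl
    rw [h3, mul_inv_cancel_left]
  · rintro ⟨a, s, rfl⟩
    rw [map_mul, gspMult_scalar, gspMult_spIncl, mul_one]
    exact ⟨a, by rw [powMonoidHom_apply, pow_two]⟩

theorem ker_gspHom_le [Finite F] (hm : 2 ≤ m) : (gspHom m F).ker ≤ gspN (by omega) := by
  intro g hg
  obtain ⟨a, rfl⟩ := (mem_ker_gspHom hm g).mp hg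
  rw [mem_gspN_iff]
  exact ⟨a, 1, by rw [map_one, mul_one]⟩

theorem map_gspN_gspHom [Finite F] (hm : 1 ≤ m) :
    (gspN (F := F) hm).map (gspHom m F) = Cfsg.Inn (Cfsg.PSp m F) := by
  ext β
  constructor
  · rintro ⟨g, hg, rfl⟩
    obtain ⟨a, s, rfl⟩ := (mem_gspN_iff hm g).mp hg
    rw [map_mul, gspHom_gspScalar, one_mul, gspHom_spIncl]
    exact ⟨_, rfl⟩
  · rintro ⟨y, rfl⟩
    obtain ⟨s, rfl⟩ := prj_surjective y
    refine ⟨spIncl s, ?_, gspHom_spIncl s⟩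
    show spIncl s ∈ gspN hm
    rw [mem_gspN_iff]
    exact ⟨1, s, by
      have : (gspScalar (1 : Fˣ) : ↥(Cfsg.GSp m F)) = 1 := by
        apply Subtype.ext
        apply Units.ext
        rw [gspScalar_coe, Units.val_one, one_smul]
        rfl
      rw [this, one_mul]⟩

end Cfsg.Agent.Helper14.AutPSp
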