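import Mathlib
import Cfsg.Agent.Helper14.SpF2
import Cfsg.Agent.Helper14.AutFieldMain

/-!
Helper14: `Inndiag(PSp_{2m}(q))` is normal in `Aut(PSp_{2m}(q))`; order of a standard field
automorphism.
-/

set_option autoImplicit false
set_option linter.unusedSectionVars false

namespace Cfsg.Agent.Helper14.AutPSp

open Matrix Cfsg.Agent.Helper13 Cfsg.Agent.Helper94.SpRoot Cfsg.Agent.Helper14.AutPSL
  Cfsg.Agent.Helper5.AutSp

variable {F : Type*} [Field F] {m : ℕ}

local notation "Vec" => (Fin m ⊕ Fin m → F)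
local notation "Mat" => Matrix (Fin m ⊕ Fin m) (Fin m ⊕ Fin m) F
local notation "Sp" => Matrix.symplecticGroup (Fin m) F
local notation "B" => Cfsg.sympForm m F

/-- the field automorphisms as a homomorphism -/
noncomputable def spFieldHom (m : ℕ) (F : Type*) [Field F] [Finite F] :
    (F ≃+* F) →* MulAut (Cfsg.PSp m F) where
  toFun σ := spField σ
  map_one' := spField_one
  map_mul' σ τ := (spField_mul σ τ).symm

theorem spFieldHom_injective [Finite F] (hm : 2 ≤ m) : Function.Injective (spFieldHom m F) := by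
  rw [injective_iff_map_eq_one]
  intro σ h
  have h1 : (spField σ : MulAut (Cfsg.PSp m F)) = 1 := h
  obtain ⟨hσ, -⟩ := scalar_of_semiAut_eq hm (Subgroup.one_mem (Cfsg.GSp m F)) (σ := σ) (by
    intro x
    have := DFunLike.congr_fun h1 x
    exact this)
  exact hσ

theorem orderOf_spField [Finite F] (hm : 2 ≤ m) (σ : F ≃+* F) :
    orderOf (spField σ : MulAut (Cfsg.PSp m F)) = orderOf σ :=
  orderOf_injective (spFieldHom m F) (spFieldHom_injective hm) σ

theorem inndiag_eq_Inn_of_char_two [Fintype F] (hm : 1 ≤ m) (h2 : ringChar F = 2) :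
    Cfsg.inndiagPSp m F = Cfsg.Inn (Cfsg.PSp m F) := by
  rw [inndiagPSp_eq_range, ← map_gspN_gspHom hm, MonoidHom.range_eq_map]
  congr 1
  rw [eq_comm, eq_top_iff]
  intro g _
  unfold gspN
  rw [Subgroup.mem_comap]
  obtain ⟨a, ha⟩ := FiniteField.isSquare_of_char_two h2 ((gspMult hm g : Fˣ) : F)
  have ha0 : a ≠ 0 := by
    rintro rfl
    rw [mul_zero] at ha
    exact (gspMult hm g).ne_zero ha
  refine ⟨Units.mk0 a ha0, ?_⟩
  apply Units.ext
  rw [powMonoidHom_apply, Units.val_pow_eq_pow_val, Units.val_mk0, ha, pow_two]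

theorem semiAut_eq_mul [Finite F] (M : GL (Fin m ⊕ Fin m) F) (hM : M ∈ Cfsg.GSp m F)
    (σ : F ≃+* F) : (semiAut M hM σ : MulAut (Cfsg.PSp m F)) = gspHom m F ⟨M, hM⟩ * spField σ :=
  (gspHom_mul_spField ⟨M, hM⟩ σ).symm

theorem inndiagPSp_normal [Fintype F] (hm : 2 ≤ m) : (Cfsg.inndiagPSp m F).Normal := by
  by_cases h2 : ringChar F = 2
  · rw [inndiag_eq_Inn_of_char_two (by omega) h2]
    exact Inn_normal _
  · obtain ⟨p, hpc⟩ := CharP.exists F
    have hp : Fact p.Prime := ⟨CharP.char_is_prime F p⟩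
    have hp2 : p ≠ 2 := by
      intro h
      apply h2
      rw [← h]
      exact ringChar.eq F p
    constructor
    intro δ hδ β
    obtain ⟨g, rfl⟩ := mem_inndiagPSp.mp hδ
    obtain ⟨M, hM, σ, rfl⟩ := exists_semiAut_eq (p := p) hm (fun _ => hp2) β
    rw [semiAut_eq_mul, _root_.mul_inv_rev, mem_inndiagPSp]
    refine ⟨⟨M, hM⟩ * gspMap σ g * ⟨M, hM⟩⁻¹, ?_⟩
    rw [map_mul, map_mul, map_inv]
    calc gspHom m F ⟨M, hM⟩ * spField σ * gspHom m F g * ((spField σ)⁻¹ * (gspHom m F ⟨M, hM⟩)⁻¹)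
        = gspHom m F ⟨M, hM⟩ * (spField σ * gspHom m F g) * (spField σ)⁻¹ *
            (gspHom m F ⟨M, hM⟩)⁻¹ := by group
      _ = _ := by
          rw [spField_mul_gspHom]
          group

end Cfsg.Agent.Helper14.AutPSp
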