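import Mathlib
import Cfsg.Agent.Helper14.SpF3

/-!
Helper14: similitudes over a subfield: `GSp_{2m}(F₀) → GSp_{2m}(F)` along a ring homomorphism
`i : F₀ →+* F` and descent of `σ`-fixed similitudes.
-/

set_option autoImplicit false
set_option linter.unusedSectionVars false

namespace Cfsg.Agent.Helper14.AutPSp

open Matrix Cfsg.Agent.Helper13 Cfsg.Agent.Helper94.SpRoot Cfsg.Agent.Helper14.AutPSL
  Cfsg.Agent.Helper5.AutSp

variable {F : Type*} [Field F] {m : ℕ}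

/-- matrix form of the similitude condition -/
theorem mem_GSp_iff_matrix (g : GL (Fin m ⊕ Fin m) F) :
    g ∈ Cfsg.GSp m F ↔ ∃ c : Fˣ,
      (g : Matrix (Fin m ⊕ Fin m) (Fin m ⊕ Fin m) F)ᵀ * Matrix.J (Fin m) F *
        (g : Matrix (Fin m ⊕ Fin m) (Fin m ⊕ Fin m) F) = (c : F) • Matrix.J (Fin m) F := by
  constructor
  · rintro ⟨c, hc⟩
    refine ⟨c, ?_⟩
    apply matrix_eq_of_dotProduct_mulVec
    intro u v
    rw [← sympForm_mulVec, hc, Matrix.smul_mulVec, dotProduct_smul, smul_eq_mul, sympForm_def]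
  · rintro ⟨c, hc⟩
    refine ⟨c, ?_⟩
    intro u v
    rw [sympForm_mulVec, hc, Matrix.smul_mulVec, dotProduct_smul, smul_eq_mul, sympForm_def]

theorem J_map {R S : Type*} [Field R] [Field S] (i : R →+* S) :
    (Matrix.J (Fin m) R).map i = Matrix.J (Fin m) S := by
  unfold Matrix.J
  rw [Matrix.fromBlocks_map]
  congr 1
  · exact Matrix.map_zero _ (map_zero i)
  · ext a b
    rw [Matrix.map_apply, Matrix.neg_apply, Matrix.neg_apply, map_neg, Matrix.one_apply,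
      Matrix.one_apply]
    split_ifs <;> simp
  · exact Matrix.map_one _ (map_zero i) (map_one i)
  · exact Matrix.map_zero _ (map_zero i)

section
variable {F₀ : Type*} [Field F₀] (i : F₀ →+* F)

theorem map_mem_GSp {g₀ : GL (Fin m ⊕ Fin m) F₀} (hg₀ : g₀ ∈ Cfsg.GSp m F₀) :
    Matrix.GeneralLinearGroup.map i g₀ ∈ Cfsg.GSp m F := by
  rw [mem_GSp_iff_matrix] at hg₀ ⊢
  obtain ⟨c, hc⟩ := hg₀
  refine ⟨Units.map (i : F₀ →* F) c, ?_⟩
  have h1 : ((Matrix.GeneralLinearGroup.map i g₀ : GL (Fin m ⊕ Fin m) F) :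
      Matrix (Fin m ⊕ Fin m) (Fin m ⊕ Fin m) F) = g₀.1.map i := rfl
  rw [h1, ← J_map i, ← Matrix.transpose_map, ← Matrix.map_mul, ← Matrix.map_mul, hc]
  ext a b
  simp only [Matrix.map_apply, Matrix.smul_apply, smul_eq_mul, map_mul]
  rfl

/-- `GSp(F₀) → GSp(F)` -/
def gspIncl : ↥(Cfsg.GSp m F₀) →* ↥(Cfsg.GSp m F) :=
  ((Matrix.GeneralLinearGroup.map i).comp (Cfsg.GSp m F₀).subtype).codRestrict (Cfsg.GSp m F)
    (fun g₀ => map_mem_GSp i g₀.2)

theorem gspIncl_coe (g₀ : ↥(Cfsg.GSp m F₀)) :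
    (((gspIncl i g₀ : ↥(Cfsg.GSp m F)) : GL (Fin m ⊕ Fin m) F) :
      Matrix (Fin m ⊕ Fin m) (Fin m ⊕ Fin m) F) = g₀.1.1.map i := rfl

theorem gspMult_gspIncl (hm : 1 ≤ m) (g₀ : ↥(Cfsg.GSp m F₀)) :
    gspMult hm (gspIncl i g₀) = Units.map (i : F₀ →* F) (gspMult hm g₀) := by
  apply gspMult_eq
  intro u v
  have h0 : ∀ u v, Cfsg.sympForm m F₀ (g₀.1.1 *ᵥ u) (g₀.1.1 *ᵥ v) =
      ((gspMult hm g₀ : F₀ˣ) : F₀) * Cfsg.sympForm m F₀ u v := gspMult_spec hm g₀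
  have h1 : g₀.1.1ᵀ * Matrix.J (Fin m) F₀ * g₀.1.1 =
      ((gspMult hm g₀ : F₀ˣ) : F₀) • Matrix.J (Fin m) F₀ := by
    apply matrix_eq_of_dotProduct_mulVec
    intro u v
    rw [← sympForm_mulVec, h0, Matrix.smul_mulVec, dotProduct_smul, smul_eq_mul, sympForm_def]
  rw [sympForm_mulVec, gspIncl_coe, ← J_map i, ← Matrix.transpose_map, ← Matrix.map_mul,
    ← Matrix.map_mul, h1, sympForm_def]
  have h2 : ((((gspMult hm g₀ : F₀ˣ) : F₀) • Matrix.J (Fin m) F₀).map i) =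
      (i ((gspMult hm g₀ : F₀ˣ) : F₀)) • (Matrix.J (Fin m) F₀).map i := by
    ext a b
    simp only [Matrix.map_apply, Matrix.smul_apply, smul_eq_mul, map_mul]
  rw [h2, Matrix.smul_mulVec, dotProduct_smul, smul_eq_mul, J_map]
  rfl

theorem gspIncl_injective : Function.Injective (gspIncl (m := m) i) := by
  intro g h hgh
  apply Subtype.ext
  apply Units.ext
  have h1 := congrArg (fun k : ↥(Cfsg.GSp m F) =>
    ((k : GL (Fin m ⊕ Fin m) F) : Matrix (Fin m ⊕ Fin m) (Fin m ⊕ Fin m) F)) hgh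
  simp only [gspIncl_coe] at h1
  ext a b
  have h2 := congrFun (congrFun h1 a) b
  simp only [Matrix.map_apply] at h2
  exact i.injective h2

variable (σ : F ≃+* F) (hi : ∀ a : F, σ a = a ↔ a ∈ i.range)

include hi in
theorem gspMap_gspIncl (g₀ : ↥(Cfsg.GSp m F₀)) : gspMap σ (gspIncl i g₀) = gspIncl i g₀ := by
  apply Subtype.ext
  apply Units.ext
  show (((gspIncl i g₀ : ↥(Cfsg.GSp m F)) : GL (Fin m ⊕ Fin m) F) :
      Matrix (Fin m ⊕ Fin m) (Fin m ⊕ Fin m) F).map σ = _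
  rw [gspIncl_coe]
  ext a b
  simp only [Matrix.map_apply]
  exact (hi _).mpr ⟨_, rfl⟩

include hi in
/-- descent of `σ`-fixed similitudes -/
theorem exists_gspIncl_eq (hm : 1 ≤ m) (g : ↥(Cfsg.GSp m F)) (hg : gspMap σ g = g) :
    ∃ g₀ : ↥(Cfsg.GSp m F₀), gspIncl i g₀ = g := by
  classical
  have hfix : ∀ a b, σ ((g : GL (Fin m ⊕ Fin m) F).1 a b) = (g : GL (Fin m ⊕ Fin m) F).1 a b := by
    intro a b
    have h1 := congrArg (fun k : ↥(Cfsg.GSp m F) =>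
      ((k : GL (Fin m ⊕ Fin m) F) : Matrix (Fin m ⊕ Fin m) (Fin m ⊕ Fin m) F)) hg
    exact congrFun (congrFun h1 a) b
  choose M₀ hM₀ using fun a b => (hi _).mp (hfix a b)
  have hmap : (Matrix.of M₀).map i = (g : GL (Fin m ⊕ Fin m) F).1 := by
    ext a b
    rw [Matrix.map_apply, Matrix.of_apply, hM₀]
  have hdet : (Matrix.of M₀).det ≠ 0 := by
    intro h0
    have h1 : ((g : GL (Fin m ⊕ Fin m) F).1).det = 0 := by
      rw [← hmap, ← RingHom.mapMatrix_apply, ← RingHom.map_det, h0, map_zero]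
    exact ((Matrix.isUnit_iff_isUnit_det _).mp (Units.isUnit (g : GL (Fin m ⊕ Fin m) F))).ne_zero h1
  obtain ⟨G₀, hG₀⟩ : ∃ G₀ : GL (Fin m ⊕ Fin m) F₀, G₀.1 = Matrix.of M₀ :=
    ⟨Matrix.GeneralLinearGroup.mkOfDetNeZero _ hdet, rfl⟩
  have hmem : G₀ ∈ Cfsg.GSp m F₀ := by
    obtain ⟨c, hc⟩ := (mem_GSp_iff_matrix _).mp g.2
    rw [← hmap, ← J_map i, ← Matrix.transpose_map, ← Matrix.map_mul, ← Matrix.map_mul] at hc
    -- the multiplier is fixed by `σ`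
    have hcfix : σ (c : F) = (c : F) := by
      have h1 := congrFun (congrFun hc (Sum.inr ⟨0, by omega⟩)) (Sum.inl ⟨0, by omega⟩)
      rw [Matrix.map_apply, Matrix.smul_apply, Matrix.map_apply] at h1
      have hJ : (Matrix.J (Fin m) F₀) (Sum.inr ⟨0, by omega⟩) (Sum.inl ⟨0, by omega⟩) = 1 := by
        unfold Matrix.J
        rw [Matrix.fromBlocks_apply₂₁, Matrix.one_apply_eq]
      rw [hJ, map_one, smul_eq_mul, mul_one] at h1
      rw [← h1]
      exact (hi _).mpr ⟨_, rfl⟩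
    obtain ⟨c₀, hc₀⟩ := (hi _).mp hcfix
    have hc₀0 : c₀ ≠ 0 := by
      rintro rfl
      rw [map_zero] at hc₀
      exact c.ne_zero hc₀.symm
    rw [mem_GSp_iff_matrix]
    refine ⟨Units.mk0 c₀ hc₀0, ?_⟩
    rw [hG₀, Units.val_mk0]
    ext a b
    apply i.injective
    have h1 := congrFun (congrFun hc a) b
    rw [Matrix.map_apply] at h1
    rw [h1, Matrix.smul_apply, Matrix.smul_apply, Matrix.map_apply, smul_eq_mul, smul_eq_mul,
      map_mul, hc₀]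
  refine ⟨⟨G₀, hmem⟩, ?_⟩
  apply Subtype.ext
  apply Units.ext
  rw [gspIncl_coe]
  show G₀.1.map i = _
  rw [hG₀, hmap]

end

end Cfsg.Agent.Helper14.AutPSp
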