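import Mathlib
import Cfsg.Agent.Helper14.SpF4

/-!
Helper14: the centraliser of a standard field automorphism in `Inndiag(PSp_{2m}(q))` is
`PGSp_{2m}` of the fixed field.
-/

set_option autoImplicit false
set_option linter.unusedSectionVars false

namespace Cfsg.Agent.Helper14.AutPSp

open Matrix Cfsg.Agent.Helper13 Cfsg.Agent.Helper94.SpRoot Cfsg.Agent.Helper14.AutPSL
  Cfsg.Agent.Helper5.AutSp

variable {F : Type*} [Field F] {m : ℕ} {F₀ : Type*} [Field F₀] (i : F₀ →+* F)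

/-- `GSp(F₀) → Aut(PSp(F))` -/
noncomputable def fixHomSp [Finite F] : ↥(Cfsg.GSp m F₀) →* MulAut (Cfsg.PSp m F) :=
  (gspHom m F).comp (gspIncl i)

theorem fixHomSp_apply [Finite F] (g₀ : ↥(Cfsg.GSp m F₀)) :
    fixHomSp i g₀ = gspHom m F (gspIncl i g₀) := rfl

theorem ker_fixHomSp [Finite F] (hm : 2 ≤ m) :
    (fixHomSp (m := m) i).ker =
      (Cfsg.Geo.scalars (Fin m ⊕ Fin m) F₀).subgroupOf (Cfsg.GSp m F₀) := by
  ext g₀
  rw [MonoidHom.mem_ker, fixHomSp_apply, ← MonoidHom.mem_ker, mem_ker_gspHom hm,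
    Subgroup.mem_subgroupOf, Cfsg.Geo.mem_scalars_iff]
  constructor
  · rintro ⟨a, ha⟩
    have h1 : g₀.1.1.map i = (a : F) • (1 : Matrix (Fin m ⊕ Fin m) (Fin m ⊕ Fin m) F) := by
      rw [← gspIncl_coe, ha, gspScalar_coe]
    have hent : ∀ x y, i (g₀.1.1 x y) = if x = y then (a : F) else 0 := by
      intro x y
      have := congrFun (congrFun h1 x) y
      rw [Matrix.map_apply, Matrix.smul_apply, Matrix.one_apply, smul_eq_mul, mul_ite, mul_one,
        mul_zero] at this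
      exact this
    obtain ⟨c₀, hc₀⟩ : ∃ c₀, c₀ = g₀.1.1 (Sum.inl ⟨0, by omega⟩) (Sum.inl ⟨0, by omega⟩) := ⟨_, rfl⟩
    have hic₀ : i c₀ = (a : F) := by
      rw [hc₀, hent, if_pos rfl]
    have hc₀0 : c₀ ≠ 0 := by
      rintro rfl
      rw [map_zero] at hic₀
      exact a.ne_zero hic₀.symm
    refine ⟨Units.mk0 c₀ hc₀0, ?_⟩
    ext x y
    apply i.injective
    rw [hent, Units.val_mk0, Matrix.smul_apply, Matrix.one_apply, smul_eq_mul, mul_ite, mul_one,
      mul_zero]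
    split_ifs
    · exact hic₀.symm
    · exact (map_zero i).symm
  · rintro ⟨c, hc⟩
    refine ⟨Units.map (i : F₀ →* F) c, ?_⟩
    apply Subtype.ext
    apply Units.ext
    rw [gspIncl_coe, gspScalar_coe, hc]
    ext x y
    rw [Matrix.map_apply, Matrix.smul_apply, Matrix.smul_apply, Matrix.one_apply, Matrix.one_apply,
      smul_eq_mul, smul_eq_mul, map_mul]
    split_ifs
    · rw [map_one]; rfl
    · rw [map_zero]; rfl

variable (σ : F ≃+* F) (hi : ∀ a : F, σ a = a ↔ a ∈ i.range)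

include hi in
theorem range_fixHomSp [Finite F] (hm : 2 ≤ m) :
    (fixHomSp (m := m) i).range = Cfsg.inndiagPSp m F ⊓
      Subgroup.centralizer {(spField σ : MulAut (Cfsg.PSp m F))} := by
  ext β
  rw [Subgroup.mem_inf, Subgroup.mem_centralizer_iff]
  constructor
  · rintro ⟨g₀, rfl⟩
    refine ⟨mem_inndiagPSp.mpr ⟨_, rfl⟩, ?_⟩
    intro y hy
    rw [Set.mem_singleton_iff] at hy
    rw [hy, fixHomSp_apply, spField_mul_gspHom, gspMap_gspIncl i σ hi]
  · rintro ⟨hβ, hc⟩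
    obtain ⟨g, rfl⟩ := mem_inndiagPSp.mp hβ
    have h1 := hc _ (Set.mem_singleton _)
    rw [spField_mul_gspHom] at h1
    have h2 : gspHom m F (gspMap σ g) = gspHom m F g := mul_right_cancel h1
    have h3 : g⁻¹ * gspMap σ g ∈ (gspHom m F).ker := by
      rw [MonoidHom.mem_ker, map_mul, map_inv, h2, inv_mul_cancel]
    obtain ⟨d, hd⟩ := (mem_ker_gspHom hm _).mp h3
    have h4 : (g.1.1).map σ = (d : F) • g.1.1 := by
      have h5 : gspMap σ g = g * gspScalar d := by rw [← hd, mul_inv_cancel_left]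
      have h6 := congrArg (fun k : ↥(Cfsg.GSp m F) =>
        ((k : GL (Fin m ⊕ Fin m) F) : Matrix (Fin m ⊕ Fin m) (Fin m ⊕ Fin m) F)) h5
      simp only [Subgroup.coe_mul, Units.val_mul, gspScalar_coe, Matrix.mul_smul,
        Matrix.mul_one] at h6
      exact h6
    have hg0 : g.1.1 ≠ 0 := by
      intro h0
      have h5 := gl_mul_inv g.1
      rw [h0, Matrix.zero_mul] at h5
      have := congrFun (congrFun h5 (Sum.inl ⟨0, by omega⟩)) (Sum.inl ⟨0, by omega⟩)
      simp at this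
    obtain ⟨μ, hμ, hfix⟩ := exists_smul_fixed σ h4 hg0
    obtain ⟨g', hg'⟩ : ∃ g' : ↥(Cfsg.GSp m F), g' = gspScalar (Units.mk0 μ hμ) * g := ⟨_, rfl⟩
    have hg'c : g'.1.1 = μ • g.1.1 := by
      rw [hg']
      show (gspScalar (Units.mk0 μ hμ) : ↥(Cfsg.GSp m F)).1.1 * g.1.1 = _
      rw [gspScalar_coe, Units.val_mk0, Matrix.smul_mul, Matrix.one_mul]
    have hfix' : gspMap σ g' = g' := by
      apply Subtype.ext
      apply Units.ext
      show g'.1.1.map σ = g'.1.1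
      rw [hg'c]
      exact hfix
    obtain ⟨g₀, hg₀⟩ := exists_gspIncl_eq i σ hi (by omega) g' hfix'
    refine ⟨g₀, ?_⟩
    rw [fixHomSp_apply, hg₀, hg', map_mul, gspHom_gspScalar, one_mul]

/-- the centraliser of a standard field automorphism in the inner-diagonal group -/
noncomputable def centralizerSpFieldEquiv [Finite F] (hm : 2 ≤ m) :
    ↥(Cfsg.inndiagPSp m F ⊓ Subgroup.centralizer {(spField σ : MulAut (Cfsg.PSp m F))}) ≃*
      Cfsg.PGSp m F₀ :=
  ((MulEquiv.subgroupCongr (range_fixHomSp i σ hi hm)).symm.trans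
    (QuotientGroup.quotientKerEquivRange (fixHomSp i)).symm).trans
    (QuotientGroup.quotientMulEquivOfEq (ker_fixHomSp i hm))

include hi in
theorem map_range_gspIncl [Finite F] (hm : 2 ≤ m) :
    ((gspIncl (m := m) i).range).map (gspHom m F) = (gspHom m F).range ⊓
      Subgroup.centralizer {(spField σ : MulAut (Cfsg.PSp m F))} := by
  rw [← inndiagPSp_eq_range, ← range_fixHomSp i σ hi hm]
  ext β
  constructor
  · rintro ⟨_, ⟨g₀, rfl⟩, rfl⟩
    exact ⟨g₀, rfl⟩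
  · rintro ⟨g₀, rfl⟩
    exact ⟨_, ⟨g₀, rfl⟩, rfl⟩

theorem map_range_gspMult (hm : 1 ≤ m) :
    ((gspIncl (m := m) i).range).map (gspMult hm) = (Units.map (i : F₀ →* F)).range := by
  ext ν
  constructor
  · rintro ⟨_, ⟨g₀, rfl⟩, rfl⟩
    exact ⟨_, (gspMult_gspIncl i hm g₀).symm⟩
  · rintro ⟨ν₀, rfl⟩
    refine ⟨_, ⟨gspDiag ν₀, rfl⟩, ?_⟩
    rw [gspMult_gspIncl, gspMult_gspDiag]

end Cfsg.Agent.Helper14.AutPSp
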