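import Mathlib
import Cfsg.Agent.Helper14.AutGraph6
import Cfsg.Agent.S0752

/-!
Helper14: an invertible skew-symmetric matrix in odd characteristic is congruent to a scalar
multiple of the standard symplectic matrix `J`.
-/

set_option autoImplicit false
set_option linter.unusedSectionVars false

namespace Cfsg.Agent.Helper14.AutPSL

open Matrix Cfsg.Agent.Helper14

variable {n : ℕ} {F : Type*} [Field F]

theorem mul_mul_apply_eq_gram {κ : Type} [Fintype κ] [DecidableEq κ] (G g : Matrix κ κ F)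
    (j j' : κ) :
    (Gᵀ * g * G) j j' = gramForm g (fun i => G i j) (fun i => G i j') := by
  rw [← gramForm_single (Gᵀ * g * G), ← gramForm_mulVec, Matrix.mulVec_single_one,
    Matrix.mulVec_single_one]
  rfl

theorem gramForm_self_of_skew {κ : Type} [Fintype κ] [DecidableEq κ] (h2 : (2 : F) ≠ 0)
    {g : Matrix κ κ F} (hg : gᵀ = -g) (x : κ → F) : gramForm g x x = 0 := by
  have h1 : gramForm g x x = -gramForm g x x := by
    conv_lhs => unfold gramForm
    rw [Matrix.dotProduct_mulVec, ← Matrix.mulVec_transpose, hg, Matrix.neg_mulVec, neg_dotProduct,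
      dotProduct_comm]
    rfl
  have h3 : 2 * gramForm g x x = 0 := by linear_combination h1
  rcases mul_eq_zero.mp h3 with h | h
  · exact absurd h h2
  · exact h

theorem exists_congr_J (h2 : (2 : F) ≠ 0) {m : ℕ} (e : Fin m ⊕ Fin m ≃ Fin n) (g : GL (Fin n) F)
    (hg : (g : Matrix (Fin n) (Fin n) F)ᵀ = -(g : Matrix (Fin n) (Fin n) F)) :
    ∃ Q : GL (Fin n) F, (Q : Matrix (Fin n) (Fin n) F) * (g : Matrix (Fin n) (Fin n) F) *
      (Q : Matrix (Fin n) (Fin n) F)ᵀ =
        -(Matrix.reindexAlgEquiv F F e (Matrix.J (Fin m) F)) := by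
  obtain ⟨B, hBdef⟩ : ∃ B : LinearMap.BilinForm F (Fin n → F),
      B = Matrix.toBilin' (g : Matrix (Fin n) (Fin n) F) := ⟨_, rfl⟩
  have hB : ∀ x y, B x y = gramForm (g : Matrix (Fin n) (Fin n) F) x y := by
    intro x y
    rw [hBdef, Matrix.toBilin'_apply']
    rfl
  have hA : B.IsAlt := by
    intro x
    rw [hB]
    exact gramForm_self_of_skew h2 hg x
  have hnd : B.Nondegenerate := by
    rw [LinearMap.BilinForm.nondegenerate_iff_det_ne_zero (Pi.basisFun F (Fin n)), hBdef,
      LinearMap.BilinForm.toMatrix_basisFun, LinearMap.BilinForm.toMatrix'_toBilin']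
    exact (Matrix.isUnit_iff_isUnit_det _).mp (Units.isUnit g) |>.ne_zero
  obtain ⟨m', k, b, h1, h2', h3, h4⟩ := Cfsg.Agent.S0752.result B hA
  -- no radical
  have hk : k = 0 := by
    by_contra hk0
    have j : Fin k := ⟨0, Nat.pos_of_ne_zero hk0⟩
    have h0 : b (Sum.inr j) = 0 := by
      apply hnd.1
      intro v
      exact h4 j v
    exact b.ne_zero _ h0
  subst hk
  have hcard : n = 2 * m := by
    have := Fintype.card_congr e
    rw [Fintype.card_sum, Fintype.card_fin, Fintype.card_fin] at this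
    omega
  have hm' : m' = m := by
    have h5 := Module.finrank_eq_card_basis b
    rw [Module.finrank_pi, Fintype.card_fin, Fintype.card_sum, Fintype.card_sum, Fintype.card_fin,
      Fintype.card_fin] at h5
    omega
  subst hm'
  -- the matrix of the basis
  obtain ⟨G, hGdef⟩ : ∃ G : Matrix (Fin n) (Fin n) F,
      G = fun i j => b (Sum.inl (e.symm j)) i := ⟨_, rfl⟩
  have hcol : ∀ j, (fun i => G i j) = b (Sum.inl (e.symm j)) := by
    intro j
    rw [hGdef]
  have hskew : ∀ x y, B y x = -B x y := fun x y => (hA.neg_eq x y).symm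
  have key : Gᵀ * (g : Matrix (Fin n) (Fin n) F) * G =
      -(Matrix.reindexAlgEquiv F F e (Matrix.J (Fin m') F)) := by
    ext j j'
    rw [mul_mul_apply_eq_gram, hcol, hcol, ← hB, Matrix.neg_apply, Matrix.coe_reindexAlgEquiv,
      Matrix.reindex_apply, Matrix.submatrix_apply]
    obtain ⟨a, ha⟩ : ∃ a, a = e.symm j := ⟨_, rfl⟩
    obtain ⟨a', ha'⟩ : ∃ a', a' = e.symm j' := ⟨_, rfl⟩
    rw [← ha, ← ha']
    unfold Matrix.J
    rcases a with i | i <;> rcases a' with i' | i'
    · rw [h2', Matrix.fromBlocks_apply₁₁, Matrix.zero_apply, neg_zero]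
    · rw [h1, Matrix.fromBlocks_apply₁₂, Matrix.neg_apply, Matrix.one_apply, neg_neg]
    · rw [hskew, h1, Matrix.fromBlocks_apply₂₁, Matrix.one_apply]
      simp only [eq_comm]
    · rw [h3, Matrix.fromBlocks_apply₂₂, Matrix.zero_apply, neg_zero]
  have hdet : G.det ≠ 0 := by
    intro h0
    have hJ : (-(Matrix.reindexAlgEquiv F F e (Matrix.J (Fin m') F))).det ≠ 0 := by
      rw [Matrix.det_neg, Matrix.coe_reindexAlgEquiv, Matrix.reindex_apply,
        Matrix.det_submatrix_equiv_self]
      exact mul_ne_zero (pow_ne_zero _ (neg_ne_zero.mpr one_ne_zero))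
        (Matrix.isUnit_det_J (Fin m') F).ne_zero
    apply hJ
    rw [← key, Matrix.det_mul, Matrix.det_mul, h0, mul_zero]
  refine ⟨Matrix.GeneralLinearGroup.mkOfDetNeZero Gᵀ (by rwa [Matrix.det_transpose]), ?_⟩
  show Gᵀ * (g : Matrix (Fin n) (Fin n) F) * Gᵀᵀ = _
  rw [Matrix.transpose_transpose, key]

end Cfsg.Agent.Helper14.AutPSL
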