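import Mathlib
import Cfsg.Agent.Helper14.AutGraph7

/-!
Helper14: an invertible alternating matrix of size `2m` over any field is congruent to the standard
symplectic matrix `J`.
-/

set_option autoImplicit false
set_option linter.unusedSectionVars false

namespace Cfsg.Agent.Helper14.AutPSp

open Matrix Cfsg.Agent.Helper14.AutPSL

variable {K : Type*} [Field K] {m : ℕ}

theorem exists_congr_J_alt (A : Matrix (Fin m ⊕ Fin m) (Fin m ⊕ Fin m) K)
    (hA : ∀ x : Fin m ⊕ Fin m → K, gramForm A x x = 0) (hdet : A.det ≠ 0) :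
    ∃ P : GL (Fin m ⊕ Fin m) K,
      (P : Matrix (Fin m ⊕ Fin m) (Fin m ⊕ Fin m) K)ᵀ * A *
        (P : Matrix (Fin m ⊕ Fin m) (Fin m ⊕ Fin m) K) = Matrix.J (Fin m) K := by
  classical
  obtain ⟨B, hBdef⟩ : ∃ B : LinearMap.BilinForm K (Fin m ⊕ Fin m → K),
      B = Matrix.toBilin' A := ⟨_, rfl⟩
  have hB : ∀ x y, B x y = gramForm A x y := by
    intro x y
    rw [hBdef, Matrix.toBilin'_apply']
    rfl
  have hAlt : B.IsAlt := by
    intro x
    rw [hB]
    exact hA x
  have hnd : B.Nondegenerate := by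
    rw [LinearMap.BilinForm.nondegenerate_iff_det_ne_zero (Pi.basisFun K (Fin m ⊕ Fin m)), hBdef,
      LinearMap.BilinForm.toMatrix_basisFun, LinearMap.BilinForm.toMatrix'_toBilin']
    exact hdet
  obtain ⟨m', k, b, h1, h2', h3, h4⟩ := Cfsg.Agent.S0752.result B hAlt
  have hk : k = 0 := by
    by_contra hk0
    have j : Fin k := ⟨0, Nat.pos_of_ne_zero hk0⟩
    have h0 : b (Sum.inr j) = 0 := by
      apply hnd.1
      intro v
      exact h4 j v
    exact b.ne_zero _ h0
  subst hk
  have hm' : m' = m := by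
    have h5 := Module.finrank_eq_card_basis b
    rw [Module.finrank_fintype_fun_eq_card, Fintype.card_sum, Fintype.card_sum, Fintype.card_sum,
      Fintype.card_fin, Fintype.card_fin, Fintype.card_fin] at h5
    omega
  subst hm'
  obtain ⟨G, hGdef⟩ : ∃ G : Matrix (Fin m' ⊕ Fin m') (Fin m' ⊕ Fin m') K,
      G = fun i j => b (Sum.inl (Sum.swap j)) i := ⟨_, rfl⟩
  have hcol : ∀ j, (fun i => G i j) = b (Sum.inl (Sum.swap j)) := by
    intro j
    rw [hGdef]
  have hskew : ∀ x y, B y x = -B x y := fun x y => (hAlt.neg_eq x y).symm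
  have key : Gᵀ * A * G = Matrix.J (Fin m') K := by
    ext j j'
    rw [mul_mul_apply_eq_gram, hcol, hcol, ← hB]
    unfold Matrix.J
    rcases j with i | i <;> rcases j' with i' | i'
    · rw [Sum.swap_inl, Sum.swap_inl, h3, Matrix.fromBlocks_apply₁₁, Matrix.zero_apply]
    · rw [Sum.swap_inl, Sum.swap_inr, hskew, h1, Matrix.fromBlocks_apply₁₂, Matrix.neg_apply,
        Matrix.one_apply]
      simp only [eq_comm]
    · rw [Sum.swap_inr, Sum.swap_inl, h1, Matrix.fromBlocks_apply₂₁, Matrix.one_apply]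
    · rw [Sum.swap_inr, Sum.swap_inr, h2', Matrix.fromBlocks_apply₂₂, Matrix.zero_apply]
  have hGdet : G.det ≠ 0 := by
    intro h0
    have hJ : (Matrix.J (Fin m') K).det ≠ 0 := (Matrix.isUnit_det_J (Fin m') K).ne_zero
    apply hJ
    rw [← key, Matrix.det_mul, Matrix.det_mul, h0, mul_zero]
  exact ⟨Matrix.GeneralLinearGroup.mkOfDetNeZero G hGdet, key⟩

end Cfsg.Agent.Helper14.AutPSp
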