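import Mathlib
import Cfsg.Agent.Helper14.SpF5
import Cfsg.Agent.Helper14.SpF7
import Cfsg.Agent.Helper14.SpF8

/-!
Helper14: the Lang–Steinberg theorem for `GSp_{2m}(F)` with respect to a field automorphism.
-/

set_option autoImplicit false
set_option linter.unusedSectionVars false

namespace Cfsg.Agent.Helper14.AutPSp

open Matrix Cfsg.Agent.Helper13 Cfsg.Agent.Helper94.SpRoot Cfsg.Agent.Helper14.AutPSL
  Cfsg.Agent.Helper5.AutSp Cfsg.Agent.Helper37.Lang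

variable {F : Type*} [Field F] {m : ℕ}

local notation "Mat" => Matrix (Fin m ⊕ Fin m) (Fin m ⊕ Fin m) F

theorem gramForm_map_subtype (σ : F ≃+* F) (M : Matrix (Fin m ⊕ Fin m) (Fin m ⊕ Fin m) (fixF σ))
    (x y : Fin m ⊕ Fin m → fixF σ) :
    ((gramForm M x y : fixF σ) : F) =
      gramForm (M.map (fixF σ).subtype) (fun a => (x a : F)) (fun a => (y a : F)) := by
  unfold gramForm
  simp only [dotProduct, Matrix.mulVec, Matrix.map_apply]
  push_cast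
  rfl

/-- **Lang–Steinberg for `GSp`** -/
theorem lang_GSp [Fintype F] (hm : 1 ≤ m) (σ : F ≃+* F) {r : ℕ} (hr : orderOf σ = r)
    (hr0 : 0 < r) (g : ↥(Cfsg.GSp m F))
    (hg : ∀ v, ((semiK (g.1 : Mat) σ)^[r]) v = v) :
    ∃ h : ↥(Cfsg.GSp m F), g * gspMap σ h = h := by
  classical
  obtain ⟨h, hh⟩ := lang_GLK σ hr hr0 g.1 hg
  obtain ⟨K, hKdef⟩ : ∃ K : Mat, K = (h : Mat)ᵀ * Matrix.J (Fin m) F * (h : Mat) := ⟨_, rfl⟩
  have hJσ : (Matrix.J (Fin m) F).map σ = Matrix.J (Fin m) F := J_map (σ : F →+* F)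
  obtain ⟨c, hc⟩ := (mem_GSp_iff_matrix _).mp (Subgroup.inv_mem _ g.2)
  have hσh : (h : Mat).map σ = ((g.1⁻¹ : GL (Fin m ⊕ Fin m) F) : Mat) * (h : Mat) := by
    have h1 : glMap σ h = g.1⁻¹ * h := eq_inv_mul_of_mul_eq hh
    have h2 := congrArg Units.val h1
    rw [glMap_coe, Units.val_mul] at h2
    exact h2
  have hK : K.map σ = (c : F) • K := by
    rw [hKdef, Matrix.map_mul, Matrix.map_mul, Matrix.transpose_map, hJσ, hσh,
      Matrix.transpose_mul]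
    calc (h : Mat)ᵀ * ((g.1⁻¹ : GL (Fin m ⊕ Fin m) F) : Mat)ᵀ * Matrix.J (Fin m) F *
          (((g.1⁻¹ : GL (Fin m ⊕ Fin m) F) : Mat) * (h : Mat))
        = (h : Mat)ᵀ * (((g.1⁻¹ : GL (Fin m ⊕ Fin m) F) : Mat)ᵀ * Matrix.J (Fin m) F *
          ((g.1⁻¹ : GL (Fin m ⊕ Fin m) F) : Mat)) * (h : Mat) := by
            simp only [Matrix.mul_assoc]
      _ = _ := by
          rw [hc, Matrix.mul_smul, Matrix.smul_mul]
  have hhdet : (h : Mat).det ≠ 0 :=
    ((Matrix.isUnit_iff_isUnit_det _).mp (Units.isUnit h)).ne_zero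
  have hKdet : K.det ≠ 0 := by
    rw [hKdef, Matrix.det_mul, Matrix.det_mul, Matrix.det_transpose]
    exact mul_ne_zero (mul_ne_zero hhdet (Matrix.isUnit_det_J (Fin m) F).ne_zero) hhdet
  have hK0 : K ≠ 0 := by
    intro h0
    apply hKdet
    rw [h0]
    have : Nonempty (Fin m ⊕ Fin m) := ⟨Sum.inl ⟨0, by omega⟩⟩
    exact Matrix.det_zero
  obtain ⟨μ₀, hμ₀, hfix⟩ := exists_smul_fixed σ hK hK0
  -- descend to the fixed field
  have hent : ∀ a b, (μ₀ • K) a b ∈ fixF σ := by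
    intro a b
    rw [mem_fixF]
    have := congrFun (congrFun hfix a) b
    rwa [Matrix.map_apply] at this
  obtain ⟨K₁, hK₁def⟩ : ∃ K₁ : Matrix (Fin m ⊕ Fin m) (Fin m ⊕ Fin m) (fixF σ),
      K₁ = fun a b => ⟨(μ₀ • K) a b, hent a b⟩ := ⟨_, rfl⟩
  have hK₁ : K₁.map (fixF σ).subtype = μ₀ • K := by
    ext a b
    rw [hK₁def]
    rfl
  have hA₁ : ∀ x : Fin m ⊕ Fin m → fixF σ, gramForm K₁ x x = 0 := by
    intro x
    apply Subtype.ext
    rw [gramForm_map_subtype, hK₁, gramForm_smul, hKdef]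
    have : gramForm ((h : Mat)ᵀ * Matrix.J (Fin m) F * (h : Mat)) (fun a => (x a : F))
        (fun a => (x a : F)) = Cfsg.sympForm m F ((h : Mat) *ᵥ fun a => (x a : F))
          ((h : Mat) *ᵥ fun a => (x a : F)) := by
      rw [sympForm_mulVec]
      rfl
    rw [this, sympForm_self, mul_zero]
    rfl
  have hdet₁ : K₁.det ≠ 0 := by
    intro h0
    have h1 : (K₁.map (fixF σ).subtype).det = 0 := by
      rw [← RingHom.mapMatrix_apply, ← RingHom.map_det, h0, map_zero]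
    rw [hK₁, Matrix.det_smul] at h1
    rcases mul_eq_zero.mp h1 with h | h
    · exact hμ₀ (pow_eq_zero_iff (by rw [Fintype.card_sum, Fintype.card_fin]; omega) |>.mp h)
    · exact hKdet h
  obtain ⟨P₁, hP₁⟩ := exists_congr_J_alt K₁ hA₁ hdet₁
  obtain ⟨a, hadef⟩ : ∃ a : GL (Fin m ⊕ Fin m) F, a = glIncl σ P₁ := ⟨_, rfl⟩
  have hafix : glMap σ a = a := by rw [hadef]; exact glIncl_fixed σ P₁
  have haK : (a : Mat)ᵀ * (μ₀ • K) * (a : Mat) = Matrix.J (Fin m) F := by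
    rw [hadef, glIncl_coe, ← hK₁, ← Matrix.transpose_map, ← Matrix.map_mul, ← Matrix.map_mul, hP₁]
    exact J_map (fixF σ).subtype
  have e1 : (a : Mat)ᵀ * K * (a : Mat) = μ₀⁻¹ • Matrix.J (Fin m) F := by
    have h5 := haK
    rw [Matrix.mul_smul, Matrix.smul_mul] at h5
    rw [← h5, smul_smul, inv_mul_cancel₀ hμ₀, one_smul]
  have hmem : h * a ∈ Cfsg.GSp m F := by
    rw [mem_GSp_iff_matrix]
    refine ⟨(Units.mk0 μ₀ hμ₀)⁻¹, ?_⟩
    rw [Units.val_mul, Matrix.transpose_mul, Units.val_inv_eq_inv_val, Units.val_mk0, ← e1, hKdef]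
    simp only [Matrix.mul_assoc]
  refine ⟨⟨h * a, hmem⟩, ?_⟩
  apply Subtype.ext
  show g.1 * glMap σ (h * a) = h * a
  rw [glMap_mul', hafix, ← mul_assoc, hh]

end Cfsg.Agent.Helper14.AutPSp
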