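import Mathlib
import Cfsg.Agent.Helper14.SpF9

/-!
Helper14: elements of prime order in the coset `Inndiag(T) x` of a field automorphism `x` of
`T = PSp_{2m}(q)`.
-/

set_option autoImplicit false
set_option linter.unusedSectionVars false

namespace Cfsg.Agent.Helper14.AutPSp

open Matrix Cfsg.Agent.Helper13 Cfsg.Agent.Helper94.SpRoot Cfsg.Agent.Helper14.AutPSL
  Cfsg.Agent.Helper5.AutSp Cfsg.Agent.Helper37.Lang

variable {F : Type*} [Field F] {m : ℕ}

local notation "Mat" => Matrix (Fin m ⊕ Fin m) (Fin m ⊕ Fin m) F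

/-- the twisted power in `GSp` -/
def NrmG (σ : F ≃+* F) (g : ↥(Cfsg.GSp m F)) : ℕ → ↥(Cfsg.GSp m F)
  | 0 => 1
  | k + 1 => g * gspMap σ (NrmG σ g k)

theorem NrmG_coe (σ : F ≃+* F) (g : ↥(Cfsg.GSp m F)) (k : ℕ) :
    ((NrmG σ g k : ↥(Cfsg.GSp m F)) : GL (Fin m ⊕ Fin m) F) = NrmK σ g.1 k := by
  induction k with
  | zero => rfl
  | succ k ih =>
    show g.1 * glMap σ (NrmG σ g k).1 = g.1 * glMap σ (NrmK σ g.1 k)
    rw [ih]

theorem pow_gspHom_spField [Finite F] (σ : F ≃+* F) (g : ↥(Cfsg.GSp m F)) (k : ℕ) :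
    (gspHom m F g * spField σ) ^ k = gspHom m F (NrmG σ g k) * spField (σ ^ k) := by
  induction k with
  | zero =>
    rw [pow_zero, pow_zero, spField_one, mul_one]
    exact (map_one _).symm
  | succ k ih =>
    rw [pow_succ', ih]
    show _ = gspHom m F (g * gspMap σ (NrmG σ g k)) * spField (σ ^ (k + 1))
    rw [map_mul, pow_succ', ← spField_mul]
    calc gspHom m F g * spField σ * (gspHom m F (NrmG σ g k) * spField (σ ^ k))
        = gspHom m F g * (spField σ * gspHom m F (NrmG σ g k)) * spField (σ ^ k) := by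
          simp only [mul_assoc]
      _ = _ := by
          rw [spField_mul_gspHom]
          simp only [mul_assoc]

theorem sp_field_case [Fintype F] (hm : 2 ≤ m) (σ : F ≃+* F) {r : ℕ} (hr0 : 0 < r)
    (hσ : orderOf σ = r) (g : ↥(Cfsg.GSp m F))
    (hord : (gspHom m F g * spField σ) ^ r = 1) :
    ∃ h : ↥(Cfsg.GSp m F), gspHom m F g * spField σ =
      gspHom m F h * spField σ * (gspHom m F h)⁻¹ := by
  have hσr : σ ^ r = 1 := by rw [← hσ]; exact pow_orderOf_eq_one σ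
  rw [pow_gspHom_spField, hσr, spField_one, mul_one] at hord
  obtain ⟨ν, hν⟩ := (mem_ker_gspHom hm _).mp (MonoidHom.mem_ker.mpr hord)
  have hiter : ∀ v, ((semiK (g.1 : Mat) σ)^[r]) v = (ν : F) • v := by
    intro v
    rw [semiK_iterate, ← NrmG_coe, hν, gspScalar_coe, hσr, Matrix.smul_mulVec, Matrix.one_mulVec]
    rfl
  have hl0 : (ν : F) ≠ 0 := ν.ne_zero
  -- `ν` is fixed by `σ`
  have hσl : σ (ν : F) = (ν : F) := by
    obtain ⟨T, hT⟩ : ∃ T, T = semiK (g.1 : Mat) σ := ⟨_, rfl⟩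
    obtain ⟨v₀, hv₀⟩ : ∃ v₀ : Fin m ⊕ Fin m → F, v₀ = Pi.single (Sum.inl ⟨0, by omega⟩) 1 :=
      ⟨_, rfl⟩
    have hv₀0 : v₀ ≠ 0 := by
      intro h0
      have := congrFun h0 (Sum.inl ⟨0, by omega⟩)
      rw [hv₀, Pi.single_eq_same] at this
      exact one_ne_zero this
    rw [← hT] at hiter
    have hTv : T v₀ ≠ 0 := by
      intro h0
      have h1 : (T^[r]) v₀ = 0 := by
        obtain ⟨k, rfl⟩ : ∃ k, r = k + 1 := ⟨r - 1, by omega⟩
        rw [Function.iterate_succ_apply, h0]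
        exact iterate_map_zero T k
      rw [hiter] at h1
      rcases smul_eq_zero.mp h1 with h | h
      · exact hl0 h
      · exact hv₀0 h
    have h1 : (T^[r]) (T v₀) = T ((T^[r]) v₀) := by
      rw [← Function.iterate_succ_apply, Function.iterate_succ_apply']
    rw [hiter, hiter, hT, semiK_smul] at h1
    have h2 : ((ν : F) - σ (ν : F)) • semiK (g.1 : Mat) σ v₀ = 0 := by
      rw [sub_smul, h1, sub_self]
    rcases smul_eq_zero.mp h2 with h | h
    · exact (sub_eq_zero.mp h).symm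
    · rw [← hT] at h
      exact absurd h hTv
  obtain ⟨μ, hμ0, hμ⟩ := exists_nrm_eq σ hσ hr0 (inv_ne_zero hl0)
    (by rw [map_inv₀, hσl])
  obtain ⟨g', hg'⟩ : ∃ g' : ↥(Cfsg.GSp m F), g' = gspScalar (Units.mk0 μ hμ0) * g := ⟨_, rfl⟩
  have hg'c : (g'.1 : Mat) = μ • (g.1 : Mat) := by
    rw [hg']
    show (gspScalar (Units.mk0 μ hμ0) : ↥(Cfsg.GSp m F)).1.1 * g.1.1 = _
    rw [gspScalar_coe, Units.val_mk0, Matrix.smul_mul, Matrix.one_mul]
  have hg'iter : ∀ v, ((semiK (g'.1 : Mat) σ)^[r]) v = v := by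
    intro v
    rw [hg'c, semiK_smul_iterate, hiter, hμ, smul_smul, inv_mul_cancel₀ hl0, one_smul]
  obtain ⟨h, hh⟩ := lang_GSp (by omega) σ hσ hr0 g' hg'iter
  refine ⟨h, ?_⟩
  have h3 : g' = h * (gspMap σ h)⁻¹ := by
    rw [eq_mul_inv_iff_mul_eq, hh]
  have h4 : gspHom m F g = gspHom m F g' := by
    rw [hg', map_mul, gspHom_gspScalar, one_mul]
  have h5 := spField_mul_gspHom h σ
  rw [h4, h3, map_mul, map_inv]
  calc gspHom m F h * (gspHom m F (gspMap σ h))⁻¹ * spField σ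
      = gspHom m F h * ((gspHom m F (gspMap σ h))⁻¹ * (gspHom m F (gspMap σ h) * spField σ) *
          (gspHom m F h)⁻¹) := by
        rw [← h5]; group
    _ = _ := by group

theorem pow_conj_eq_one_sp {G : Type*} [Group G] (α y : G) {r : ℕ} (h : orderOf y = r) :
    (α * y * α⁻¹) ^ r = 1 := by
  rw [conj_pow, ← h, pow_orderOf_eq_one, mul_one, mul_inv_cancel]

/-- transfer of the conclusion along conjugation by an arbitrary automorphism -/
theorem sp_transfer_conj [Fintype F] (hm : 2 ≤ m) (α x δ : MulAut (Cfsg.PSp m F))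
    (h : ∃ k ∈ Cfsg.inndiagPSp m F,
      (α * δ * α⁻¹) * (α * x * α⁻¹) = k * (α * x * α⁻¹) * k⁻¹) :
    Cfsg.IsConjUnder (Cfsg.inndiagPSp m F) x (δ * x) := by
  have hHn : (Cfsg.inndiagPSp m F).Normal := inndiagPSp_normal hm
  obtain ⟨k, hk, hkeq⟩ := h
  refine ⟨α⁻¹ * k * α, ?_, ?_⟩
  · have := hHn.conj_mem k hk α⁻¹
    rwa [inv_inv] at this
  · have h1 : δ * x = α⁻¹ * ((α * δ * α⁻¹) * (α * x * α⁻¹)) * α := by group
    rw [h1, hkeq]
    group

/-- S2713 -/
theorem sp_coset_conj [Fintype F] (hm : 2 ≤ m) (x δ : MulAut (Cfsg.PSp m F))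
    (hx : Cfsg.IsFieldAutClassPSp x) {r : ℕ} (hr : r.Prime)
    (hxr : orderOf x = r) (hδ : δ ∈ Cfsg.inndiagPSp m F) :
    orderOf (δ * x) = r ↔ Cfsg.IsConjUnder (Cfsg.inndiagPSp m F) x (δ * x) := by
  have hHn : (Cfsg.inndiagPSp m F).Normal := inndiagPSp_normal hm
  haveI := Fact.mk hr
  constructor
  · intro hord
    obtain ⟨α, σ, hσ1, hstd⟩ := hx
    have hx' : α * x * α⁻¹ = spField σ := (isStdField_iff σ _).mp hstd
    have hσ1' : σ ≠ 1 := hσ1
    have hσr : σ ^ r = 1 := by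
      apply spFieldHom_injective (m := m) hm
      show spField (σ ^ r) = spFieldHom m F 1
      rw [map_one, ← spField_pow, ← hx']
      exact pow_conj_eq_one_sp α x hxr
    have hσ : orderOf σ = r := orderOf_eq_prime hσr hσ1'
    obtain ⟨g, hg⟩ := mem_inndiagPSp.mp (hHn.conj_mem δ hδ α)
    have hprod : (α * δ * α⁻¹) * (α * x * α⁻¹) = gspHom m F g * spField σ := by
      rw [hg, hx']
    have hpow : (gspHom m F g * spField σ) ^ r = 1 := by
      rw [← hprod]
      have : (α * δ * α⁻¹) * (α * x * α⁻¹) = α * (δ * x) * α⁻¹ := by group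
      rw [this]
      exact pow_conj_eq_one_sp α (δ * x) hord
    obtain ⟨h, hh⟩ := sp_field_case hm σ hr.pos hσ g hpow
    apply sp_transfer_conj hm α x δ
    refine ⟨gspHom m F h, mem_inndiagPSp.mpr ⟨h, rfl⟩, ?_⟩
    rw [hprod, hh, hx']
  · rintro ⟨h, -, heq⟩
    rw [heq, ← hxr]
    exact (MulAut.conj h).orderOf_eq x

end Cfsg.Agent.Helper14.AutPSp
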