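import Mathlib
import Cfsg.Agent.Helper14.PsuO
import Cfsg.Agent.Helper14.AutTransport

/-!
Helper14: automorphisms of `PSU_n(q)`, part P.  Class splitting of a field automorphism of odd
prime order and the main theorem S2705.
-/

set_option autoImplicit false
set_option linter.unusedSectionVars false
set_option linter.unusedVariables false

namespace Cfsg.Agent.Helper14.AutPSU

open Matrix Cfsg.Agent.Helper13 Cfsg.Agent.Helper37.AutU Cfsg.Agent.Helper14.AutPSL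
  Cfsg.Agent.Helper37.Lang Cfsg.Agent.Helper14.AutPSp Cfsg.Agent.Helper14.SplitAbs

variable {F : Type*} [Field F] [Fintype F] {F₀ : Type*} [Field F₀] [Fintype F₀] {p f q q₀ n r : ℕ}
variable {σ τ : F ≃+* F} {i : F₀ →+* F} {τ₀ : F₀ ≃+* F₀}

local notation "Mat" => Matrix (Fin n) (Fin n) F
local notation "Mat₀" => Matrix (Fin n) (Fin n) F₀
local notation "UU" => Cfsg.Agent.Helper45.GU.U1

/-- the inclusion of norm-one groups -/
noncomputable def uuI (D : FldData q q₀ σ τ i τ₀ r) : ↥(UU F₀ q₀) →* ↥(UU F q) where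
  toFun u := ⟨Units.map (i : F₀ →* F) (u : F₀ˣ), by
    rw [mem_UU_iff τ D.hτ]
    have hu := (mem_UU_iff τ₀ D.hτ₀ (u : F₀ˣ)).mp u.2
    show i ((u : F₀ˣ) : F₀) * τ (i ((u : F₀ˣ) : F₀)) = 1
    rw [D.hcompat, ← map_mul, hu, map_one]⟩
  map_one' := by
    apply Subtype.ext
    exact map_one _
  map_mul' a b := by
    apply Subtype.ext
    exact map_mul _ _ _

theorem uuI_coe (D : FldData q q₀ σ τ i τ₀ r) (u : ↥(UU F₀ q₀)) :
    (((uuI D u : ↥(UU F q)) : Fˣ) : F) = i ((u : F₀ˣ) : F₀) := rfl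

theorem uuI_injective (D : FldData q q₀ σ τ i τ₀ r) : Function.Injective (uuI D) := by
  intro a b hab
  apply Subtype.ext
  apply Units.ext
  apply i.injective
  rw [← uuI_coe D, ← uuI_coe D, hab]

theorem detUU_guI (D : FldData q q₀ σ τ i τ₀ r) (g₀ : Cfsg.GU n F₀ q₀) :
    detUU τ D.hτ (guI D g₀) = uuI D (detUU τ₀ D.hτ₀ g₀) := by
  apply Subtype.ext
  apply Units.ext
  rw [detUU_coe, uuI_coe, detUU_coe, gm_guI, RingHom.map_det]
  rfl

theorem map_range_guI_detUU (D : FldData q q₀ σ τ i τ₀ r) (hn : 1 ≤ n) :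
    (guI (n := n) D).range.map (detUU τ D.hτ) = (uuI D).range := by
  ext u
  constructor
  · rintro ⟨_, ⟨g₀, rfl⟩, rfl⟩
    exact ⟨_, (detUU_guI D g₀).symm⟩
  · rintro ⟨u₀, rfl⟩
    obtain ⟨g₀, rfl⟩ := detUU_surjective (n := n) τ₀ D.hτ₀ hn u₀
    exact ⟨_, ⟨g₀, rfl⟩, detUU_guI D g₀⟩

theorem map_range_guI_pstdHom (H : Hyp F p f q n) (D : FldData q q₀ σ τ i τ₀ r) :
    (guI (n := n) D).range.map (pstdHom n F q) =
      (pstdHom n F q).range ⊓ Subgroup.centralizer {fldHom n F q σ} := by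
  rw [MonoidHom.map_range, ← inndiagPSU_eq_range]
  exact range_fixHomU H D

theorem splitClassCount_fld (H : Hyp F p f q n) (D : FldData q q₀ σ τ i τ₀ r) :
    Cfsg.splitClassCount (Cfsg.inndiagPSU n F q) (Cfsg.Inn (Cfsg.PSU n F q)) (fldHom n F q σ) =
      Nat.gcd n ((q + 1) / (q₀ + 1)) := by
  have hn1 : 1 ≤ n := by have := H.hn; omega
  rw [inndiagPSU_eq_range, ← map_innU,
    splitClassCount_abs (pstdHom n F q) (innU n F q) (guI (n := n) D).range ker_le_innU _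
      (map_range_guI_pstdHom H D),
    index_sup_map (detUU τ D.hτ) (detUU_surjective τ D.hτ hn1) _ _ (ker_detUU_le τ D.hτ),
    map_innU_detUU τ D.hτ H, map_range_guI_detUU D hn1, index_pow_sup,
    Cfsg.Agent.Helper45.GU.card_U1 D.hF]
  have h1 : Nat.card ((uuI D).range) = Nat.card ↥(UU F₀ q₀) :=
    Nat.card_congr (MonoidHom.ofInjective (uuI_injective D)).symm.toEquiv
  rw [h1, Cfsg.Agent.Helper45.GU.card_U1 D.hF₀]

/-- S2705 -/
theorem psu_field_aut_main [Fact p.Prime] (hq : q = p ^ f) (hf : 1 ≤ f)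
    (hF : Fintype.card F = q ^ 2) (hn : 3 ≤ n) (hs : ¬ (n = 3 ∧ q = 2))
    (x : MulAut (Cfsg.PSU n F q)) (hx : Cfsg.IsFieldAutClassPSU x) (hr : r.Prime) (hro : Odd r)
    (hxr : orderOf x = r) (F₀ : Type*) [Field F₀] [Fintype F₀]
    (hF₀ : Fintype.card F₀ = p ^ (2 * (f / r))) :
    r ∣ f ∧ Nonempty (↥(Cfsg.inndiagPSU n F q ⊓ Subgroup.centralizer {x}) ≃*
      Cfsg.PGU n F₀ (p ^ (f / r))) ∧
    Cfsg.splitClassCount (Cfsg.inndiagPSU n F q) (Cfsg.Inn (Cfsg.PSU n F q)) x =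
      Nat.gcd n ((q + 1) / (p ^ (f / r) + 1)) := by
  classical
  have H : Hyp F p f q n := ⟨Fact.out, hq, hf, hF, hn, hs⟩
  have hK := kerHyp_of_hyp H
  have hHn : (Cfsg.inndiagPSU n F q).Normal := inndiagPSU_normal H
  have hKn : (Cfsg.Inn (Cfsg.PSU n F q)).Normal := Inn_normal _
  obtain ⟨α, φ, σ, hσ1, hσodd, hφ, hconj⟩ := hx
  rw [(isFieldAutOf_iff σ φ).mp hφ] at hconj
  have hσr : orderOf σ = r := by
    rw [← orderOf_fldHom (n := n) hK σ, ← hconj, ← hxr]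
    exact orderOf_injective (MulAut.conj α).toMonoidHom (MulAut.conj α).injective x
  obtain ⟨τ, hτ⟩ := exists_tau hF
  obtain ⟨hrf, hqq, hcard⟩ := fld_arith H σ hσr hro
  obtain ⟨i, τ₀, D⟩ := exists_fldData H τ hτ σ hσr hro F₀ hF₀
  refine ⟨hrf, ?_, ?_⟩
  · have e1 := centralizerConjEquiv (Cfsg.inndiagPSU n F q) α x
    rw [hconj] at e1
    obtain ⟨e2⟩ := nonempty_centralizer_fld_equiv H D
    exact ⟨e1.trans e2⟩
  · rw [← splitClassCount_conj _ _ α x, hconj]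
    exact splitClassCount_fld H D

end Cfsg.Agent.Helper14.AutPSU
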