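import Mathlib
import Cfsg.Agent.Helper13.QFEDefs
import Cfsg.Agent.Helper13.QFEArith
import Cfsg.Agent.Helper44.OmegaIndex
import Cfsg.Agent.Helper44.QTypeAniso
import Cfsg.Agent.Helper44.OrthOddA
import Cfsg.Agent.Helper44.OrthRealizeE
import Cfsg.Agent.Helper45.QSimIDX
import Cfsg.Agent.Helper45.OmegaTrans2
import Cfsg.Agent.Helper99.OrthJTF
import Cfsg.Agent.Helper81.FExtK3

/-! piece (C1) of helper13's S5977/S5978 farm: conjugacy of the `θ`'s from an isometry of models -/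

set_option autoImplicit false

namespace Cfsg.Agent.Helper14.QFEC1

open Matrix Cfsg Cfsg.Geo QuadraticMap Polynomial
open Cfsg.Agent.Helper44 Cfsg.Agent.Helper44.QType Cfsg.Agent.Helper13.QFE

universe u

variable {F : Type u} [Field F] {ι : Type} [Fintype ι] [DecidableEq ι]

/-- (C1) -/
theorem conj_of_iso {Q : QuadraticForm F (ι → F)} {θ θ' : Matrix ι ι F} {L : Type*} [Field L]
    [Algebra F L] {s : L} {φ : L →ₗ[F] F} {n : ℕ} (M : LModel Q θ L s φ n)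
    (M' : LModel Q θ' L s φ n) (γ : (Fin n → L) ≃ₗ[L] (Fin n → L))
    (hγ : ∀ c, M'.QL (γ c) = M.QL c) :
    ∃ h : ↥(Cfsg.isometryGroup F ⇑Q),
      ((h : GL ι F) : Matrix ι ι F) * θ = θ' * ((h : GL ι F) : Matrix ι ι F) := by
  set gl : (ι → F) ≃ₗ[F] (ι → F) := M.Ψ.symm ≪≫ₗ (γ.restrictScalars F) ≪≫ₗ M'.Ψ with hgl
  have hglv : ∀ v, gl v = M'.Ψ (γ (M.Ψ.symm v)) := fun v => rfl
  have hiso : ∀ v, Q (gl v) = Q v := by
    intro v
    rw [hglv, M'.hQ, hγ, ← M.hQ, LinearEquiv.apply_symm_apply]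
  refine ⟨Cfsg.Agent.Helper45.OmegaParity.isoOfLin Q gl hiso, ?_⟩
  set h := Cfsg.Agent.Helper45.OmegaParity.isoOfLin Q gl hiso with hh
  have hmv : ∀ x, ((h : GL ι F) : Matrix ι ι F) *ᵥ x = gl x := fun x =>
    Cfsg.Agent.Helper45.OmegaParity.lin_isoOfLin Q gl hiso x
  apply Matrix.ext_of_mulVec_single
  intro i
  set x : ι → F := Pi.single i 1 with hx
  obtain ⟨c, hc⟩ : ∃ c, M.Ψ c = x := ⟨M.Ψ.symm x, LinearEquiv.apply_symm_apply _ _⟩
  rw [← Matrix.mulVec_mulVec, ← Matrix.mulVec_mulVec, hmv, hmv, ← hc, ← M.hs, hglv, hglv,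
    LinearEquiv.symm_apply_apply, LinearEquiv.symm_apply_apply, map_smul, M'.hs]
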