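import Mathlib
import Cfsg.Agent.Helper13.QFEDefs
import Cfsg.Agent.Helper13.QFEArith
import Cfsg.Agent.Helper44.OmegaIndex
import Cfsg.Agent.Helper44.QTypeAniso
import Cfsg.Agent.Helper44.OrthOddA
import Cfsg.Agent.Helper44.OrthRealizeE
import Cfsg.Agent.Helper45.QSimIDX
import Cfsg.Agent.Helper45.OmegaTrans2
import Cfsg.Agent.Helper45.C3SD
import Cfsg.Agent.Helper99.OrthJTF
import Cfsg.Agent.Helper81.FExtK3

/-! piece (E1) of helper13's S5977/S5978 farm: the generator `θ` of a quadratic field of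
self-adjoint matrices -/

set_option autoImplicit false

namespace Cfsg.Agent.Helper14.QFEE1

open Matrix Cfsg Cfsg.Geo QuadraticMap Polynomial
open Cfsg.Agent.Helper44 Cfsg.Agent.Helper44.QType Cfsg.Agent.Helper13.QFE

universe u

variable {F : Type u} [Field F] {ι : Type} [Fintype ι] [DecidableEq ι]

/-- (E1) -/
theorem exists_tdata (h2 : (2 : F) ≠ 0) (Q : QuadraticForm F (ι → F))
    (K : Subalgebra F (Matrix ι ι F)) (hK : IsFieldSubalgebra 2 K)
    (hKf : IsSelfAdjointFor (polar ⇑Q) K) :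
    ∃ (θ : Matrix ι ι F) (δ : F), θ ∈ K ∧ TData Q θ δ ∧
      ∀ k ∈ K, ∃ a b : F, k = a • (1 : Matrix ι ι F) + b • θ := by
  obtain ⟨k, hkK, hkns, hgen⟩ := Cfsg.Agent.Helper45.C3S.exists_generatorG K hK.finrank_eq
  obtain ⟨a, b, hab⟩ := hgen (k * k) (K.mul_mem hkK hkK)
  set θ : Matrix ι ι F := k - (b / 2) • (1 : Matrix ι ι F) with hθ
  set δ : F := a + b * b / 4 with hδ
  have hθK : θ ∈ K := K.sub_mem hkK (K.smul_mem K.one_mem _)
  have hk : k = θ + (b / 2) • (1 : Matrix ι ι F) := by rw [hθ]; abel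
  have hsq : θ * θ = δ • (1 : Matrix ι ι F) := by
    have h4 : (4 : F) ≠ 0 := by
      have : (4 : F) = 2 * 2 := by norm_num
      rw [this]; exact mul_ne_zero h2 h2
    rw [hθ, sub_mul, mul_sub, mul_sub, hab]
    simp only [Matrix.mul_smul, Matrix.smul_mul, mul_one, one_mul, smul_smul]
    rw [hδ]
    have e1 : (a + b * b / 4) • (1 : Matrix ι ι F) =
        a • (1 : Matrix ι ι F) + (b * b / 4) • (1 : Matrix ι ι F) := add_smul _ _ _
    have e2 : b • k = (b / 2) • k + (b / 2) • k := by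
      rw [← add_smul]; congr 1; field_simp; ring
    have e3 : (b * b / 4) • (1 : Matrix ι ι F) = (b / 2 * (b / 2)) • (1 : Matrix ι ι F) := by
      congr 1; field_simp; ring
    rw [e1, e2, e3]
    abel
  have hns : ¬ IsSquare δ := by
    rintro ⟨c, hc⟩
    have hm : ∀ t : F, θ + t • (1 : Matrix ι ι F) ≠ 0 := by
      intro t h0
      apply hkns (b / 2 - t)
      have hθt : θ = -(t • (1 : Matrix ι ι F)) := eq_neg_of_add_eq_zero_left h0
      rw [hk, sub_smul, hθt]
      abel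
    have hmK : ∀ t : F, θ + t • (1 : Matrix ι ι F) ∈ K := fun t =>
      K.add_mem hθK (K.smul_mem K.one_mem _)
    have hprod : (θ + (-c) • (1 : Matrix ι ι F)) * (θ + c • (1 : Matrix ι ι F)) = 0 := by
      rw [add_mul, mul_add, mul_add, hsq, hc]
      simp only [smul_mul_assoc, mul_smul_comm, mul_one, one_mul, smul_smul, neg_smul, neg_mul,
        mul_neg, smul_neg]
      abel
    obtain ⟨y, hyK, hy⟩ := hK.inv _ (hmK (-c)) (hm (-c))
    have hy' : y * (θ + (-c) • (1 : Matrix ι ι F)) = 1 := by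
      rw [← hK.comm _ (hmK (-c)) _ hyK]; exact hy
    apply hm c
    calc θ + c • (1 : Matrix ι ι F)
        = (y * (θ + (-c) • (1 : Matrix ι ι F))) * (θ + c • (1 : Matrix ι ι F)) := by
          rw [hy', one_mul]
      _ = 0 := by rw [mul_assoc, hprod, mul_zero]
  refine ⟨θ, δ, hθK, ⟨hns, hsq, fun u v => hKf θ hθK u v⟩, ?_⟩
  intro x hx
  obtain ⟨a', b', hx'⟩ := hgen x hx
  refine ⟨a' + b' * (b / 2), b', ?_⟩
  rw [hx', hk, smul_add, smul_smul, add_smul]
  abel

end Cfsg.Agent.Helper14.QFEE1
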