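import Mathlib
import Cfsg.Agent.Helper13.QFEDefs
import Cfsg.Agent.Helper13.QFEArith
import Cfsg.Agent.Helper44.OmegaIndex
import Cfsg.Agent.Helper44.QTypeAniso
import Cfsg.Agent.Helper44.OrthOddA
import Cfsg.Agent.Helper44.OrthRealizeE
import Cfsg.Agent.Helper44.CartanDieudonne
import Cfsg.Agent.Helper44.SpinorMain
import Cfsg.Agent.Helper45.QSimIDX
import Cfsg.Agent.Helper45.OmegaTrans2
import Cfsg.Agent.Helper45.OmegaParity
import Cfsg.Agent.Helper99.OrthJTF
import Cfsg.Agent.Helper81.FExtK3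

/-! piece (M6) of helper13's S5977/S5978 farm: an isometry of odd order moves a space of even
dimension -/

set_option autoImplicit false

namespace Cfsg.Agent.Helper14.QFEM6

open Matrix Cfsg Cfsg.Geo QuadraticMap Polynomial
open Cfsg.Agent.Helper44 Cfsg.Agent.Helper44.QType Cfsg.Agent.Helper13.QFE

universe u

variable {F : Type u} [Field F] {ι : Type} [Fintype ι] [DecidableEq ι]

/-- (M6) an isometry of odd order moves a space of even dimension -/
theorem even_rank_sub_one {L : Type*} [Field L] {κ : Type} [Fintype κ] [DecidableEq κ]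
    (QL : QuadraticForm L (κ → L)) (h2 : (2 : L) ≠ 0) (hnd : (polarBilin QL).Nondegenerate)
    (Y : GL κ L) (hY : Y ∈ Cfsg.isometryGroup L ⇑QL) (r : ℕ) (hr : Odd r) (hYr : Y ^ r = 1) :
    Even ((Y : Matrix κ κ L) - 1).rank := by
  set g : Cfsg.isometryGroup L ⇑QL := ⟨Y, hY⟩ with hg
  obtain ⟨vs, hvs, hgvs⟩ := Cfsg.Agent.Helper44.cartan_dieudonne QL h2 hnd g
  have hgr : g ^ r = 1 := by
    apply Subtype.ext
    rw [Subgroup.coe_pow, Subgroup.coe_one]
    exact hYr
  -- the number of reflections is even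
  have hdet : detHom ⇑QL g = (-1) ^ vs.length := by
    rw [hgvs]; exact detHom_prod_reflT QL vs hvs
  have hlen : Even vs.length := by
    by_contra hodd
    rw [Nat.not_even_iff_odd] at hodd
    have h1 : (detHom ⇑QL g) ^ r = 1 := by rw [← map_pow, hgr, map_one]
    rw [hdet, hodd.neg_one_pow, hr.neg_one_pow] at h1
    have h3 : ((-1 : Lˣ) : L) = ((1 : Lˣ) : L) := by rw [h1]
    apply h2
    have h4 : (-1 : L) = 1 := by simpa using h3
    linear_combination -h4
  have hfix := Cfsg.Agent.Helper45.OmegaParity.fixD_prod QL hnd vs hvs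
  rw [← hgvs] at hfix
  have hrk := Cfsg.Agent.Helper45.OmegaParity.rank_sub_one_add_fixD QL g
  have hlen0 : ((vs.length : ℕ) : ZMod 2) = 0 := (ZMod.natCast_eq_zero_iff_even).2 hlen
  rw [hlen0, add_zero] at hfix
  have hcast : ((((g.1 : Matrix κ κ L) - 1).rank : ℕ) : ZMod 2) +
      (Cfsg.Agent.Helper45.OmegaParity.fixD QL g : ZMod 2) = (Fintype.card κ : ZMod 2) := by
    rw [← Nat.cast_add, hrk]
  rw [hfix] at hcast
  have h0 : ((((g.1 : Matrix κ κ L) - 1).rank : ℕ) : ZMod 2) = 0 := by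
    have := add_right_cancel (b := (Fintype.card κ : ZMod 2)) (a := _) (c := 0)
      (by rw [hcast, zero_add])
    exact this
  exact (ZMod.natCast_eq_zero_iff_even).1 h0

end Cfsg.Agent.Helper14.QFEM6
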