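import Mathlib
import Cfsg.Agent.Helper13.SubOddDefs

/-!
# Piece (B1c) of #6941 (helper13, S5965): a block matrix with an irreducible cyclotomic factor is
not scalar

NOTE: the skeleton statement (without `hrF`) is false for `r = char F` (e.g. `F = F_2`, `r = 2`,
`n = 1`, `A = 1`, `g = X - 1`, `s = 0`); the hypothesis `hrF : (r : F) ≠ 0` is added.
-/

set_option autoImplicit false
set_option linter.unusedVariables false

namespace Cfsg.Agent.Helper14.SubOddB1c

open Matrix Polynomial Cfsg Cfsg.Geo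
open Cfsg.Agent.Helper43.PGLPrime (zp mult)
open Cfsg.Agent.Helper13.SubInv (subH)
open Cfsg.Agent.Helper13.SubOdd

variable {F : Type*} [Field F] {n : ℕ}

/-- (B1c), with the extra hypothesis `hrF` -/
theorem not_scalar_of_block [Fintype F] (r : ℕ) [Fact r.Prime]
    (h1 : ¬ r ∣ Fintype.card F - 1) (hrF : (r : F) ≠ 0) (hn : 0 < n)
    (A : Matrix (Fin n) (Fin n) F) (g : F[X]) (s : ℕ) (hg : g.Monic) (hgi : Irreducible g)
    (hgc : g ∣ cyclotomic r F) (hch : A.charpoly = g * (X - 1) ^ s) (z : F) :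
    A ≠ z • (1 : Matrix (Fin n) (Fin n) F) := by
  intro hA
  have hcp : A.charpoly = (X - C z) ^ n := by
    rw [hA, Matrix.smul_one_eq_diagonal, Matrix.charpoly_diagonal, Finset.prod_const,
      Finset.card_univ, Fintype.card_fin]
  have hdvd : g ∣ (X - C z) ^ n := by
    rw [← hcp, hch]
    exact dvd_mul_right _ _
  have hdvd1 : g ∣ X - C z := hgi.prime.dvd_of_dvd_pow hdvd
  have hass : Associated g (X - C z) := hgi.associated_of_dvd (irreducible_X_sub_C z) hdvd1
  have hroot : (cyclotomic r F).IsRoot z := dvd_iff_isRoot.mp (hass.symm.dvd.trans hgc)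
  have : NeZero (r : F) := ⟨hrF⟩
  have hprim : IsPrimitiveRoot z r := isRoot_cyclotomic_iff.mp hroot
  have hord : orderOf z = r := hprim.eq_orderOf.symm
  have hz0 : z ≠ 0 := hprim.ne_zero (Fact.out : r.Prime).ne_zero
  have hpow : z ^ (Fintype.card F - 1) = 1 := FiniteField.pow_card_sub_one_eq_one z hz0
  apply h1
  rw [← hord]
  exact orderOf_dvd_of_pow_eq_one hpow

end Cfsg.Agent.Helper14.SubOddB1c
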