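import Mathlib
import Cfsg.Agent.Helper13.SubOddDefs

/-!
# Piece (DIAG) of #6941 (helper13, S5965): the diagonal matrices `dg ζ a`
-/

set_option autoImplicit false

namespace Cfsg.Agent.Helper14.SubOddDIAG

open Matrix Polynomial Cfsg Cfsg.Geo
open Cfsg.Agent.Helper43.PGLPrime (zp mult)
open Cfsg.Agent.Helper13.SubInv (subH)
open Cfsg.Agent.Helper13.SubOdd

variable {F : Type*} [Field F] {n : ℕ}

/-- (DIAG1) -/
theorem mult_dg (r : ℕ) [Fact r.Prime] (ζ : F) (hζ : orderOf ζ = r) (a : Fin n → ZMod r)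
    (j : ZMod r) : mult ζ r (dg ζ a) j = cnt a j := by
  classical
  have hinj := Cfsg.Agent.Helper43.PGLPrime.zp_injective (F := F) hζ
  unfold mult dg cnt
  rw [Matrix.charpoly_diagonal, ← Polynomial.count_roots]
  have h1 : (∏ i : Fin n, (X - C (zp ζ r (a i))) : F[X]) =
      ((Finset.univ.val.map fun i : Fin n => zp ζ r (a i)).map fun t => X - C t).prod := by
    rw [Multiset.map_map]
    rfl
  rw [h1, Polynomial.roots_multiset_prod_X_sub_C, Multiset.count_map]
  rw [← Finset.filter_val, ← Finset.card_def]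
  congr 1
  ext i
  simp only [Finset.mem_filter, Finset.mem_univ, true_and]
  constructor
  · intro h
    exact (hinj h).symm
  · intro h
    rw [h]

/-- (DIAG2) -/
theorem dg_pow (r : ℕ) [Fact r.Prime] (ζ : F) (hζ : ζ ^ r = 1) (a : Fin n → ZMod r) :
    (dg ζ a) ^ r = 1 := by
  unfold dg
  rw [Matrix.diagonal_pow, ← Matrix.diagonal_one]
  congr 1
  funext i
  exact Cfsg.Agent.Helper43.PGLPrime.zp_pow hζ (a i)

/-- (DIAG3) -/
theorem det_dg (r : ℕ) [Fact r.Prime] (ζ : F) (hζ : ζ ^ r = 1) (a : Fin n → ZMod r) :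
    (dg ζ a).det = zp ζ r (∑ i, a i) := by
  classical
  unfold dg
  rw [Matrix.det_diagonal]
  have key : ∀ s : Finset (Fin n), ∏ i ∈ s, zp ζ r (a i) = zp ζ r (∑ i ∈ s, a i) := by
    intro s
    induction s using Finset.induction_on with
    | empty =>
      rw [Finset.prod_empty, Finset.sum_empty, Cfsg.Agent.Helper43.PGLPrime.zp_zero]
    | insert i s hi ih =>
      rw [Finset.prod_insert hi, Finset.sum_insert hi, ih,
        Cfsg.Agent.Helper43.PGLPrime.zp_add hζ]
  exact key Finset.univ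

/-- (DIAG4) -/
theorem dg_ne_smul (r : ℕ) [Fact r.Prime] (ζ : F) (hζ : orderOf ζ = r) (a : Fin n → ZMod r)
    (i i' : Fin n) (h : a i ≠ a i') (lam z : F) (hlam : lam ≠ 0) :
    lam • dg ζ a ≠ z • (1 : Matrix (Fin n) (Fin n) F) := by
  intro heq
  have hinj := Cfsg.Agent.Helper43.PGLPrime.zp_injective (F := F) hζ
  have h1 := congrFun (congrFun heq i) i
  have h2 := congrFun (congrFun heq i') i'
  simp only [dg, Matrix.smul_apply, Matrix.diagonal_apply_eq, Matrix.one_apply_eq, smul_eq_mul,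
    mul_one] at h1 h2
  have h3 : lam * zp ζ r (a i) = lam * zp ζ r (a i') := by rw [h1, h2]
  exact h (hinj (mul_left_cancel₀ hlam h3))

end Cfsg.Agent.Helper14.SubOddDIAG
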