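import Mathlib
import Cfsg.Agent.Helper13.USubDefs
import Cfsg.Agent.Helper48.SubOddK3
import Cfsg.Agent.Helper41.SubOddK3p
import Cfsg.Agent.Helper38.PGUExist

/-!
# Piece (UK3) of #7436 (helper13, S5982): if `charpoly (lam⁻¹ A)` is fixed by the twisted
reciprocal then the multiplicity function of `A` is invariant under an affine map
`j ↦ -q₀ j + c` of `ZMod r`.
-/

set_option autoImplicit false
set_option linter.unusedSectionVars false
set_option linter.unusedVariables false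

namespace Cfsg.Agent.Helper14.USubUK3

open Matrix Polynomial Cfsg Cfsg.Geo
open Cfsg.Agent.Helper43.PGLPrime (zp mult)
open Cfsg.Agent.Helper43.GUPrime (utilde)

variable {F : Type*} [Field F] {n : ℕ}

/-- the twisted reciprocal of a linear factor -/
theorem utilde_X_sub_C_gen (bar : F →+* F) (d : F) (hd : d ≠ 0) :
    utilde bar (X - C d : F[X]) = X - C (bar d)⁻¹ := by
  have hbd : bar d ≠ 0 := (map_ne_zero bar).mpr hd
  have h := Cfsg.Agent.Helper38.PGU.star_X_pow_sub_C (K := F) one_pos (bar d) hbd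
  rw [pow_one] at h
  unfold utilde
  rw [Polynomial.map_sub, Polynomial.map_X, Polynomial.map_C, h]

/-- root multiplicities do not decrease under the twisted reciprocal -/
theorem rootMultiplicity_le_utilde (bar : F →+* F) (f : F[X]) (hf : utilde bar f ≠ 0) (t : F)
    (ht : t ≠ 0) : f.rootMultiplicity t ≤ (utilde bar f).rootMultiplicity (bar t)⁻¹ := by
  rw [Polynomial.le_rootMultiplicity_iff hf, ← utilde_X_sub_C_gen bar t ht,
    ← Cfsg.Agent.Helper43.GUPrime.utilde_pow]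
  exact Cfsg.Agent.Helper43.GUPrime.utilde_dvd bar (Polynomial.pow_rootMultiplicity_dvd f t)

/-- (UK3) -/
theorem mult_affine_of_utilde [Fintype F] (q₀ : ℕ) (hF : Fintype.card F = q₀ ^ 2)
    (bar : F →+* F) (hbar : ∀ a, bar a = a ^ q₀) (hn : 0 < n) (r : ℕ) [Fact r.Prime]
    (hrF : (r : F) ≠ 0) (ζ : F) (hζ : orderOf ζ = r) (A : Matrix (Fin n) (Fin n) F)
    (hA : A ^ r = 1) (lam : F) (hlam : lam ≠ 0)
    (h : utilde bar (lam⁻¹ • A).charpoly = (lam⁻¹ • A).charpoly) :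
    ∃ c : ZMod r, ∀ j : ZMod r, mult ζ r A (-(q₀ : ZMod r) * j + c) = mult ζ r A j := by
  classical
  have hr : r.Prime := Fact.out
  have : NeZero r := ⟨hr.ne_zero⟩
  have hζr : ζ ^ r = 1 := by rw [← hζ]; exact pow_orderOf_eq_one ζ
  have hbar2 : ∀ t : F, bar (bar t) = t := by
    intro t
    rw [hbar, hbar, ← pow_mul, ← pow_two, ← hF, FiniteField.pow_card]
  set τ : F → F := fun t => (bar t)⁻¹ with hτ
  have hττ : ∀ t, τ (τ t) = t := by
    intro t
    simp only [hτ]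
    rw [map_inv₀, inv_inv, hbar2]
  have hτ0 : ∀ t, t ≠ 0 → τ t ≠ 0 := fun t ht => inv_ne_zero ((map_ne_zero bar).mpr ht)
  have hτmul : ∀ a b, τ (a * b) = τ a * τ b := by
    intro a b
    simp only [hτ]
    rw [map_mul, mul_inv]
  set ψ : F[X] := (lam⁻¹ • A).charpoly with hψ
  have hψ0 : ψ ≠ 0 := (Matrix.charpoly_monic _).ne_zero
  have hle : ∀ t : F, t ≠ 0 → ψ.rootMultiplicity t ≤ ψ.rootMultiplicity (τ t) := by
    intro t ht
    have := rootMultiplicity_le_utilde bar ψ (by rw [h]; exact hψ0) t ht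
    rwa [h] at this
  have hmultτ : ∀ t : F, t ≠ 0 → ψ.rootMultiplicity (τ t) = ψ.rootMultiplicity t := by
    intro t ht
    apply le_antisymm
    · have := hle (τ t) (hτ0 t ht)
      rwa [hττ] at this
    · exact hle t ht
  have hlam' : lam⁻¹ ≠ 0 := inv_ne_zero hlam
  have hψscale : ψ = A.charpoly.scaleRoots lam⁻¹ :=
    Cfsg.Agent.Helper43.PGLPrime.charpoly_smul A lam⁻¹ hlam'
  have hroot : ∀ t : F, ψ.rootMultiplicity (lam⁻¹ * t) = A.charpoly.rootMultiplicity t := by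
    intro t
    rw [hψscale, rootMultiplicity_scaleRoots _ (IsRegular.of_ne_zero hlam').left]
  have hmult : ∀ j : ZMod r, ψ.rootMultiplicity (lam⁻¹ * zp ζ r j) = mult ζ r A j :=
    fun j => hroot _
  have hzp0 : ∀ j : ZMod r, zp ζ r j ≠ 0 :=
    fun j => Cfsg.Agent.Helper43.PGLPrime.zp_ne_zero hr.ne_zero hζr j
  have hτzp : ∀ j : ZMod r, τ (zp ζ r j) = zp ζ r (-(q₀ : ZMod r) * j) := by
    intro j
    simp only [hτ]
    rw [hbar, Cfsg.Agent.Helper41.SubOddDETM.zp_pow_eq hζr]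
    apply inv_eq_of_mul_eq_one_right
    rw [← Cfsg.Agent.Helper43.PGLPrime.zp_add hζr, neg_mul, add_neg_cancel,
      Cfsg.Agent.Helper43.PGLPrime.zp_zero]
  -- a root
  obtain ⟨hprod, hsum⟩ := Cfsg.Agent.Helper43.PGLPrime.charpoly_eq_prod hr hζ hrF A hA
  obtain ⟨j0, hj0⟩ : ∃ j0 : ZMod r, 0 < mult ζ r A j0 := by
    by_contra hcon
    push Not at hcon
    have : ∑ j : ZMod r, mult ζ r A j = 0 :=
      Finset.sum_eq_zero fun j _ => Nat.le_zero.1 (hcon j)
    omega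
  set μ : F := τ lam⁻¹ * lam with hμ
  have hτlam : τ lam⁻¹ = lam⁻¹ * μ := by
    rw [hμ, mul_comm (τ lam⁻¹) lam, ← mul_assoc, inv_mul_cancel₀ hlam, one_mul]
  have hτt : ∀ j : ZMod r,
      τ (lam⁻¹ * zp ζ r j) = lam⁻¹ * (μ * zp ζ r (-(q₀ : ZMod r) * j)) := by
    intro j
    rw [hτmul, hτzp, hτlam, mul_assoc]
  have hne : ∀ j : ZMod r, lam⁻¹ * zp ζ r j ≠ 0 := fun j => mul_ne_zero hlam' (hzp0 j)
  have hch0 : A.charpoly ≠ 0 := (Matrix.charpoly_monic A).ne_zero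
  have hpos : 0 < A.charpoly.rootMultiplicity (μ * zp ζ r (-(q₀ : ZMod r) * j0)) := by
    rw [← hroot, ← hτt, hmultτ _ (hne j0), hmult]
    exact hj0
  have hisroot : A.charpoly.IsRoot (μ * zp ζ r (-(q₀ : ZMod r) * j0)) :=
    (Polynomial.rootMultiplicity_pos hch0).1 hpos
  have hsf : Squarefree (X ^ r - 1 : F[X]) :=
    ((X_pow_sub_one_separable_iff).mpr hrF).squarefree
  have hAh : aeval A (X ^ r - 1 : F[X]) = 0 := by
    rw [map_sub, map_pow, aeval_X, map_one, hA, sub_self]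
  have h1 := Cfsg.Agent.Helper43.PGLPrime.isRoot_of_isRoot_charpoly A _ hsf hAh _ hisroot
  rw [IsRoot.def, eval_sub, eval_pow, eval_X, eval_one, sub_eq_zero] at h1
  obtain ⟨j1, hj1⟩ := Cfsg.Agent.Helper43.PGLPrime.eq_zp_of_pow_eq_one hζ _ h1
  -- `μ = zp c`
  set c : ZMod r := j1 - (-(q₀ : ZMod r) * j0) with hc
  have hμc : μ = zp ζ r c := by
    have h2 : zp ζ r c * zp ζ r (-(q₀ : ZMod r) * j0) = zp ζ r j1 := by
      rw [← Cfsg.Agent.Helper43.PGLPrime.zp_add hζr, hc, sub_add_cancel]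
    exact mul_right_cancel₀ (hzp0 _) (by rw [hj1, h2])
  refine ⟨c, fun j => ?_⟩
  have h4 : lam⁻¹ * zp ζ r (-(q₀ : ZMod r) * j + c) = τ (lam⁻¹ * zp ζ r j) := by
    rw [hτt, hμc, ← Cfsg.Agent.Helper43.PGLPrime.zp_add hζr, add_comm]
  rw [← hmult, h4, hmultτ _ (hne j), hmult]

end Cfsg.Agent.Helper14.USubUK3
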