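import Mathlib
import Cfsg.Agent.Helper13.USubDefs
import Cfsg.Agent.Helper41.SubOddK3p
import Cfsg.Agent.Helper14.USubUK3

/-!
# Piece (UK3p) of #7436 (helper13, S5982): a multiplicity function invariant under `j ↦ -q₀ j`
gives a characteristic polynomial fixed by the twisted reciprocal.
-/

set_option autoImplicit false
set_option linter.unusedSectionVars false
set_option linter.unusedVariables false

namespace Cfsg.Agent.Helper14.USubUK3p

open Matrix Polynomial Cfsg Cfsg.Geo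
open Cfsg.Agent.Helper43.PGLPrime (zp mult)
open Cfsg.Agent.Helper43.GUPrime (utilde)

variable {F : Type*} [Field F] {n : ℕ}

/-- (UK3p) -/
theorem utilde_of_mult_invariant [Fintype F] (q₀ : ℕ) (hF : Fintype.card F = q₀ ^ 2)
    (bar : F →+* F) (hbar : ∀ a, bar a = a ^ q₀) (r : ℕ) [Fact r.Prime] (hrF : (r : F) ≠ 0)
    (ζ : F) (hζ : orderOf ζ = r) (A : Matrix (Fin n) (Fin n) F) (hA : A ^ r = 1)
    (h : ∀ j : ZMod r, mult ζ r A (-(q₀ : ZMod r) * j) = mult ζ r A j) :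
    utilde bar A.charpoly = A.charpoly := by
  classical
  have hr : r.Prime := Fact.out
  have : NeZero r := ⟨hr.ne_zero⟩
  have hζr : ζ ^ r = 1 := by rw [← hζ]; exact pow_orderOf_eq_one ζ
  obtain ⟨p, hp⟩ := CharP.exists F
  have hpp : p.Prime := CharP.char_is_prime F p
  have : Fact p.Prime := ⟨hpp⟩
  obtain ⟨k, -, hcard⟩ := FiniteField.card F p
  -- `q₀` is a power of `p`
  obtain ⟨a, -, hq₀⟩ : ∃ a, a ≤ (k : ℕ) ∧ q₀ = p ^ a := by
    apply (Nat.dvd_prime_pow hpp).1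
    rw [← hcard, hF, pow_two]
    exact Dvd.intro _ rfl
  -- `r ≠ p`
  have hrp : r ≠ p := by
    intro hrp
    apply hrF
    rw [hrp]; exact CharP.cast_eq_zero F p
  have hcop : Nat.Coprime q₀ r := by
    rw [hq₀]
    exact Nat.Coprime.pow_left _ ((Nat.coprime_primes hpp hr).mpr (Ne.symm hrp))
  have hzp0 : ∀ j : ZMod r, zp ζ r j ≠ 0 :=
    fun j => Cfsg.Agent.Helper43.PGLPrime.zp_ne_zero hr.ne_zero hζr j
  have hτzp : ∀ j : ZMod r, (bar (zp ζ r j))⁻¹ = zp ζ r (-(q₀ : ZMod r) * j) := by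
    intro j
    rw [hbar, Cfsg.Agent.Helper41.SubOddDETM.zp_pow_eq hζr]
    apply inv_eq_of_mul_eq_one_right
    rw [← Cfsg.Agent.Helper43.PGLPrime.zp_add hζr, neg_mul, add_neg_cancel,
      Cfsg.Agent.Helper43.PGLPrime.zp_zero]
  obtain ⟨hch, -⟩ := Cfsg.Agent.Helper43.PGLPrime.charpoly_eq_prod hr hζ hrF A hA
  conv_lhs => rw [hch]
  rw [← Cfsg.Agent.Helper43.GUPrime.utildeHom_apply, map_prod]
  simp only [map_pow, Cfsg.Agent.Helper43.GUPrime.utildeHom_apply,
    fun j => Cfsg.Agent.Helper14.USubUK3.utilde_X_sub_C_gen bar (zp ζ r j) (hzp0 j), hτzp]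
  conv_rhs => rw [hch]
  refine Fintype.prod_equiv (Units.mulLeft (-(ZMod.unitOfCoprime q₀ hcop))) _ _ fun j => ?_
  rw [Units.mulLeft_apply, Units.val_neg, ZMod.coe_unitOfCoprime, h]

end Cfsg.Agent.Helper14.USubUK3p
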