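import Cfsg.Agent.Helper85.A7Defs

/-!
# S0984 sub-tree LOC, piece (G5b) for helper85: two commuting involutions acting on a group of
order 9
-/

set_option autoImplicit false

namespace Cfsg.Agent.Helper14.A7

open Cfsg Cfsg.Agent.Helper85.A7
open scoped ComplexConjugate

universe u

variable {G : Type u} [Group G]

/-- the elements of `R` commuting with `t` -/
def fixR (R : Subgroup G) (t : G) : Subgroup G := R ⊓ Subgroup.centralizer {t}

theorem mem_fixR (R : Subgroup G) (t x : G) : x ∈ fixR R t ↔ x ∈ R ∧ t * x = x * t := by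
  unfold fixR
  rw [Subgroup.mem_inf, Subgroup.mem_centralizer_singleton_iff]
  constructor
  · rintro ⟨h1, h2⟩; exact ⟨h1, h2.symm⟩
  · rintro ⟨h1, h2⟩; exact ⟨h1, h2.symm⟩

section nine

variable [Finite G] (R : Subgroup G) (hR : Nat.card R = 9)
include hR

theorem comm_of_card_nine : ∀ x ∈ R, ∀ y ∈ R, x * y = y * x := by
  intro x hx y hy
  haveI : Fact (Nat.Prime 3) := ⟨by norm_num⟩
  have h := IsPGroup.commutative_of_card_eq_prime_sq (p := 3) (G := R) (by rw [hR]; norm_num)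
    ⟨x, hx⟩ ⟨y, hy⟩
  have := congrArg Subtype.val h
  simpa using this

theorem pow_nine_eq_one {x : G} (hx : x ∈ R) : x ^ 9 = 1 := by
  have h : (⟨x, hx⟩ : R) ^ Nat.card R = 1 := pow_card_eq_one'
  rw [hR] at h
  have := congrArg Subtype.val h
  simpa using this

theorem eq_one_of_eq_inv {x : G} (hx : x ∈ R) (h : x = x⁻¹) : x = 1 := by
  have h2 : x * x = 1 := by
    calc x * x = x⁻¹ * x := by rw [← h]
      _ = 1 := inv_mul_cancel x
  have h9 := pow_nine_eq_one R hR hx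
  have : x ^ 9 = (x * x) ^ 4 * x := by
    rw [← pow_two, ← pow_mul, ← pow_succ]
  rw [this, h2, one_pow, one_mul] at h9
  exact h9

/-- subgroups of `R` have order 1, 3 or 9 -/
theorem card_le_cases (K : Subgroup G) (hK : K ≤ R) :
    Nat.card K = 1 ∨ Nat.card K = 3 ∨ Nat.card K = 9 := by
  have hdvd : Nat.card K ∣ 9 := by
    rw [← hR]; exact Subgroup.card_dvd_of_le hK
  have hle : Nat.card K ≤ 9 := Nat.le_of_dvd (by norm_num) hdvd
  have hpos : 0 < Nat.card K := Nat.card_pos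
  interval_cases h : Nat.card K <;> simp_all

omit hR in
/-- a subgroup of order 3 of `R` is generated by each of its nonidentity elements, which have
order 3 -/
theorem zpowers_eq_of_card_three (K : Subgroup G) (hK3 : Nat.card K = 3) {c : G} (hc : c ∈ K)
    (hc1 : c ≠ 1) : orderOf c = 3 ∧ Subgroup.zpowers c = K := by
  have h3 : c ^ 3 = 1 := by
    have h : (⟨c, hc⟩ : K) ^ Nat.card K = 1 := pow_card_eq_one'
    rw [hK3] at h
    have := congrArg Subtype.val h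
    simpa using this
  have hord : orderOf c = 3 := orderOf_eq_prime h3 hc1
  refine ⟨hord, ?_⟩
  apply Subgroup.eq_of_le_of_card_ge
  · rw [Subgroup.zpowers_le]; exact hc
  · rw [Nat.card_zpowers, hord, hK3]

theorem card_fixR_ne_nine (t : G) (hnc : ∃ r ∈ R, t * r ≠ r * t) : Nat.card (fixR R t) ≠ 9 := by
  intro h9
  obtain ⟨r, hr, hne⟩ := hnc
  have hle : fixR R t ≤ R := inf_le_left
  have heq : fixR R t = R := Subgroup.eq_of_le_of_card_ge hle (by rw [h9, hR])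
  have : r ∈ fixR R t := by rw [heq]; exact hr
  rw [mem_fixR] at this
  exact hne this.2

theorem card_fixR_eq_three (t : G) (hnc : ∃ r ∈ R, t * r ≠ r * t) (hf : fixR R t ≠ ⊥) :
    Nat.card (fixR R t) = 3 := by
  rcases card_le_cases R hR (fixR R t) inf_le_left with h | h | h
  · exact absurd (Subgroup.card_eq_one.1 h) hf
  · exact h
  · exact absurd h (card_fixR_ne_nine R hR t hnc)

/-- an involution normalizing `R` without nonidentity fixed points inverts `R` -/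
theorem inverts_of_fixR_eq_bot (t : G) (ht : t * t = 1) (htR : ∀ r ∈ R, t * r * t⁻¹ ∈ R)
    (hfix : fixR R t = ⊥) : ∀ r ∈ R, t * r * t⁻¹ = r⁻¹ := by
  intro r hr
  have hcomm := comm_of_card_nine R hR
  have htinv : t⁻¹ = t := inv_eq_of_mul_eq_one_right ht
  obtain ⟨r', hr'⟩ : ∃ r' : G, r' = t * r * t⁻¹ := ⟨_, rfl⟩
  have hr'R : r' ∈ R := by rw [hr']; exact htR r hr
  have h1 : t * r = r' * t := by rw [hr']; group
  have h2 : t * r' = r * t := by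
    rw [hr', htinv]
    calc t * (t * r * t) = (t * t) * r * t := by group
      _ = r * t := by rw [ht, one_mul]
  have hmem : r * r' ∈ fixR R t := by
    rw [mem_fixR]
    refine ⟨R.mul_mem hr hr'R, ?_⟩
    calc t * (r * r') = (t * r) * r' := by group
      _ = r' * (t * r') := by rw [h1]; group
      _ = r' * r * t := by rw [h2]; group
      _ = r * r' * t := by rw [hcomm r' hr'R r hr]
  rw [hfix, Subgroup.mem_bot] at hmem
  rw [← hr']
  exact eq_inv_of_mul_eq_one_right hmem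

omit hR in
theorem centralizes_of_inverts (t t' : G) (h : ∀ r ∈ R, t * r * t⁻¹ = r⁻¹)
    (h' : ∀ r ∈ R, t' * r * t'⁻¹ = r⁻¹) : ∀ r ∈ R, (t * t') * r = r * (t * t') := by
  intro r hr
  have h1 := h' r hr
  have h2 := h r⁻¹ (R.inv_mem hr)
  have h3 : (t * t') * r * (t * t')⁻¹ = r := by
    calc (t * t') * r * (t * t')⁻¹ = t * (t' * r * t'⁻¹) * t⁻¹ := by group
      _ = r := by rw [h1, h2, inv_inv]
  calc (t * t') * r = ((t * t') * r * (t * t')⁻¹) * (t * t') := by group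
    _ = r * (t * t') := by rw [h3]

/-- the key step: two commuting involutions with nontrivial fixed points on `R` -/
theorem klein_key (t1 t2 t3 : G) (ht1 : t1 * t1 = 1) (ht2 : t2 * t2 = 1)
    (h12 : t1 * t2 = t2 * t1) (ht3 : t3 = t1 * t2)
    (h1R : ∀ r ∈ R, t1 * r * t1⁻¹ ∈ R) (h2R : ∀ r ∈ R, t2 * r * t2⁻¹ ∈ R)
    (hnc1 : ∃ r ∈ R, t1 * r ≠ r * t1) (hnc2 : ∃ r ∈ R, t2 * r ≠ r * t2)
    (hnc3 : ∃ r ∈ R, t3 * r ≠ r * t3)
    (hf1 : fixR R t1 ≠ ⊥) (hf2 : fixR R t2 ≠ ⊥) :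
    ∃ c1 c2 : G, c1 ∈ R ∧ c2 ∈ R ∧ orderOf c1 = 3 ∧ orderOf c2 = 3 ∧ t1 * c1 = c1 * t1 ∧
      t2 * c2 = c2 * t2 ∧ c2 ∉ Subgroup.zpowers c1 ∧ Subgroup.zpowers c1 = fixR R t1 ∧
      Subgroup.zpowers c2 = fixR R t2 := by
  have hcomm := comm_of_card_nine R hR
  have hC1 := card_fixR_eq_three R hR t1 hnc1 hf1
  have hC2 := card_fixR_eq_three R hR t2 hnc2 hf2
  obtain ⟨⟨c1, hc1⟩, hc1ne⟩ := (Subgroup.ne_bot_iff_exists_ne_one).1 hf1
  obtain ⟨⟨c2, hc2⟩, hc2ne⟩ := (Subgroup.ne_bot_iff_exists_ne_one).1 hf2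
  have hc1ne' : c1 ≠ 1 := fun h => hc1ne (Subtype.ext h)
  have hc2ne' : c2 ≠ 1 := fun h => hc2ne (Subtype.ext h)
  obtain ⟨ho1, hz1⟩ := zpowers_eq_of_card_three (fixR R t1) hC1 hc1 hc1ne'
  obtain ⟨ho2, hz2⟩ := zpowers_eq_of_card_three (fixR R t2) hC2 hc2 hc2ne'
  have hc1' := (mem_fixR R t1 c1).1 hc1
  have hc2' := (mem_fixR R t2 c2).1 hc2
  refine ⟨c1, c2, hc1'.1, hc2'.1, ho1, ho2, hc1'.2, hc2'.2, ?_, hz1, hz2⟩
  intro hmem
  -- then the two fixed subgroups coincide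
  rw [hz1] at hmem
  have hz2' := (zpowers_eq_of_card_three (fixR R t1) hC1 hmem hc2ne').2
  have hCC : fixR R t2 = fixR R t1 := by rw [← hz2, hz2']
  -- conjugation automorphisms
  set σ1 := MulAut.conj t1 with hσ1
  set σ2 := MulAut.conj t2 with hσ2
  have hs1 : ∀ x, σ1 (σ1 x) = x := by
    intro x
    rw [← MulAut.mul_apply, ← map_mul, ht1, map_one, MulAut.one_apply]
  have hs2 : ∀ x, σ2 (σ2 x) = x := by
    intro x
    rw [← MulAut.mul_apply, ← map_mul, ht2, map_one, MulAut.one_apply]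
  have hs12 : ∀ x, σ1 (σ2 x) = σ2 (σ1 x) := by
    intro x
    rw [← MulAut.mul_apply, ← MulAut.mul_apply, ← map_mul, ← map_mul, h12]
  have hσ1R : ∀ x ∈ R, σ1 x ∈ R := fun x hx => by rw [hσ1, MulAut.conj_apply]; exact h1R x hx
  have hσ2R : ∀ x ∈ R, σ2 x ∈ R := fun x hx => by rw [hσ2, MulAut.conj_apply]; exact h2R x hx
  have hfix1 : ∀ x, x ∈ fixR R t1 ↔ x ∈ R ∧ σ1 x = x := by
    intro x
    rw [mem_fixR, hσ1, MulAut.conj_apply, mul_inv_eq_iff_eq_mul]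
  have hfix2 : ∀ x, x ∈ fixR R t2 ↔ x ∈ R ∧ σ2 x = x := by
    intro x
    rw [mem_fixR, hσ2, MulAut.conj_apply, mul_inv_eq_iff_eq_mul]
  have hfix3 : ∀ x, x ∈ fixR R t3 ↔ x ∈ R ∧ σ1 (σ2 x) = x := by
    intro x
    rw [mem_fixR, ht3, hσ1, hσ2, MulAut.conj_apply, MulAut.conj_apply]
    have e : t1 * (t2 * x * t2⁻¹) * t1⁻¹ = (t1 * t2) * x * (t1 * t2)⁻¹ := by group
    rw [e, mul_inv_eq_iff_eq_mul]
  -- an element outside `C`
  obtain ⟨r, hr, hrC⟩ : ∃ r ∈ R, r ∉ fixR R t1 := by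
    by_contra hcon
    push Not at hcon
    have hle : R ≤ fixR R t1 := fun x hx => hcon x hx
    have := Subgroup.card_le_of_le hle
    rw [hR, hC1] at this
    norm_num at this
  obtain ⟨d, hd⟩ : ∃ d : G, d = r * (σ1 r)⁻¹ := ⟨_, rfl⟩
  have hdR : d ∈ R := by rw [hd]; exact R.mul_mem hr (R.inv_mem (hσ1R r hr))
  have hσ1d : σ1 d = d⁻¹ := by
    rw [hd, map_mul, map_inv, hs1, mul_inv_rev, inv_inv]
  have hd1 : d ≠ 1 := by
    intro h1
    apply hrC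
    rw [hfix1]
    refine ⟨hr, ?_⟩
    rw [hd, mul_inv_eq_one] at h1
    exact h1.symm
  have hdC : d ∉ fixR R t1 := by
    intro h1
    rw [hfix1] at h1
    apply hd1
    apply eq_one_of_eq_inv R hR hdR
    rw [← hσ1d, h1.2]
  obtain ⟨e, he⟩ : ∃ e : G, e = d * σ2 d := ⟨_, rfl⟩
  have heR : e ∈ R := by rw [he]; exact R.mul_mem hdR (hσ2R d hdR)
  have hσ2e : σ2 e = e := by
    rw [he, map_mul, hs2, hcomm _ (hσ2R d hdR) _ hdR]
  have heC : e ∈ fixR R t1 := by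
    rw [← hCC, hfix2]; exact ⟨heR, hσ2e⟩
  have hσ1e : σ1 e = e⁻¹ := by
    rw [he, map_mul, hs12, hσ1d, map_inv, mul_inv_rev, hcomm _ (R.inv_mem (hσ2R d hdR)) _
      (R.inv_mem hdR)]
  have he1 : e = 1 := by
    apply eq_one_of_eq_inv R hR heR
    rw [← hσ1e, ((hfix1 e).1 heC).2]
  have hσ2d : σ2 d = d⁻¹ := by
    rw [he] at he1
    exact eq_inv_of_mul_eq_one_right he1
  have hd3 : d ∈ fixR R t3 := by
    rw [hfix3]
    refine ⟨hdR, ?_⟩
    rw [hσ2d, map_inv, hσ1d, inv_inv]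
  have hC3 : fixR R t1 ≤ fixR R t3 := by
    intro x hx
    have hx2 : x ∈ fixR R t2 := by rw [hCC]; exact hx
    rw [hfix1] at hx
    rw [hfix2] at hx2
    rw [hfix3]
    exact ⟨hx.1, by rw [hx2.2, hx.2]⟩
  have hK3 : Nat.card (fixR R t3) = 3 := by
    rcases card_le_cases R hR (fixR R t3) inf_le_left with h | h | h
    · exfalso
      have := Subgroup.card_le_of_le hC3
      rw [h, hC1] at this
      norm_num at this
    · exact h
    · exact absurd h (card_fixR_ne_nine R hR t3 hnc3)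
  have : fixR R t1 = fixR R t3 := Subgroup.eq_of_le_of_card_ge hC3 (by rw [hK3, hC1])
  apply hdC
  rw [this]
  exact hd3

end nine

theorem conj_mem_fixR (R : Subgroup G) (s t c : G) (hst : s * t = t * s)
    (hsR : ∀ r ∈ R, s * r * s⁻¹ ∈ R) (hc : c ∈ fixR R t) : s * c * s⁻¹ ∈ fixR R t := by
  rw [mem_fixR] at hc ⊢
  refine ⟨hsR c hc.1, ?_⟩
  have hst' : t * s⁻¹ = s⁻¹ * t := by
    calc t * s⁻¹ = s⁻¹ * (s * t) * s⁻¹ := by group
      _ = s⁻¹ * (t * s) * s⁻¹ := by rw [hst]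
      _ = s⁻¹ * t := by group
  calc t * (s * c * s⁻¹) = (t * s) * c * s⁻¹ := by group
    _ = (s * t) * c * s⁻¹ := by rw [hst]
    _ = s * (t * c) * s⁻¹ := by group
    _ = s * (c * t) * s⁻¹ := by rw [hc.2]
    _ = s * c * (t * s⁻¹) := by group
    _ = s * c * (s⁻¹ * t) := by rw [hst']
    _ = s * c * s⁻¹ * t := by group

/-- (G5b) the Klein case: two commuting involutions normalizing `R`, none of `s1, s2, s1 s2`
centralizing `R` -/
theorem klein_decomposition [Finite G] (R : Subgroup G) (hR : Nat.card R = 9) (s1 s2 : G)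
    (h1 : orderOf s1 = 2) (h2 : orderOf s2 = 2) (h12 : s1 * s2 = s2 * s1) (hne : s1 ≠ s2)
    (h1R : ∀ r ∈ R, s1 * r * s1⁻¹ ∈ R) (h2R : ∀ r ∈ R, s2 * r * s2⁻¹ ∈ R)
    (hnc1 : ∃ r ∈ R, s1 * r ≠ r * s1) (hnc2 : ∃ r ∈ R, s2 * r ≠ r * s2)
    (hnc3 : ∃ r ∈ R, (s1 * s2) * r ≠ r * (s1 * s2)) :
    ∃ t1 t2 c1 c2 : G, t1 ∈ ({s1, s2, s1 * s2} : Set G) ∧ t2 ∈ ({s1, s2, s1 * s2} : Set G) ∧
      c1 ∈ R ∧ c2 ∈ R ∧ orderOf c1 = 3 ∧ orderOf c2 = 3 ∧ t1 * c1 = c1 * t1 ∧ t2 * c2 = c2 * t2 ∧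
      c2 ∉ Subgroup.zpowers c1 ∧
      (∀ r ∈ R, r * c1 = c1 * r) ∧ (∀ r ∈ R, r * c2 = c2 * r) ∧
      s1 * c1 * s1⁻¹ ∈ Subgroup.zpowers c1 ∧ s2 * c1 * s2⁻¹ ∈ Subgroup.zpowers c1 ∧
      s1 * c2 * s1⁻¹ ∈ Subgroup.zpowers c2 ∧ s2 * c2 * s2⁻¹ ∈ Subgroup.zpowers c2 := by
  have hcomm := comm_of_card_nine R hR
  have hs1 : s1 * s1 = 1 := by
    have := pow_orderOf_eq_one s1
    rw [h1, pow_two] at this
    exact this
  have hs2 : s2 * s2 = 1 := by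
    have := pow_orderOf_eq_one s2
    rw [h2, pow_two] at this
    exact this
  obtain ⟨s3, hs3def⟩ : ∃ s3 : G, s3 = s1 * s2 := ⟨_, rfl⟩
  have hs3 : s3 * s3 = 1 := by
    rw [hs3def]
    calc s1 * s2 * (s1 * s2) = s1 * (s2 * s1) * s2 := by group
      _ = s1 * (s1 * s2) * s2 := by rw [← h12]
      _ = (s1 * s1) * (s2 * s2) := by group
      _ = 1 := by rw [hs1, hs2, one_mul]
  have h3R : ∀ r ∈ R, s3 * r * s3⁻¹ ∈ R := by
    intro r hr
    have := h1R _ (h2R r hr)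
    have e : s3 * r * s3⁻¹ = s1 * (s2 * r * s2⁻¹) * s1⁻¹ := by rw [hs3def]; group
    rw [e]; exact this
  have h13 : s1 * s3 = s3 * s1 := by
    rw [hs3def]
    calc s1 * (s1 * s2) = s1 * (s2 * s1) := by rw [h12]
      _ = s1 * s2 * s1 := by group
  have h23 : s2 * s3 = s3 * s2 := by
    rw [hs3def]
    calc s2 * (s1 * s2) = (s2 * s1) * s2 := by group
      _ = s1 * s2 * s2 := by rw [← h12]
  have e23 : s2 * s3 = s1 := by
    rw [h23, hs3def, mul_assoc, hs2, mul_one]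
  have e13 : s1 * s3 = s2 := by
    rw [hs3def, ← mul_assoc, hs1, one_mul]
  have hnc3' : ∃ r ∈ R, s3 * r ≠ r * s3 := by rw [hs3def]; exact hnc3
  have hmem1 : s1 ∈ ({s1, s2, s1 * s2} : Set G) := by simp
  have hmem2 : s2 ∈ ({s1, s2, s1 * s2} : Set G) := by simp
  have hmem3 : s3 ∈ ({s1, s2, s1 * s2} : Set G) := by rw [hs3def]; simp
  -- builder
  have build : ∀ t1 t2 : G, t1 ∈ ({s1, s2, s1 * s2} : Set G) → t2 ∈ ({s1, s2, s1 * s2} : Set G) →
      s1 * t1 = t1 * s1 → s2 * t1 = t1 * s2 → s1 * t2 = t2 * s1 → s2 * t2 = t2 * s2 →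
      (∃ c1 c2 : G, c1 ∈ R ∧ c2 ∈ R ∧ orderOf c1 = 3 ∧ orderOf c2 = 3 ∧ t1 * c1 = c1 * t1 ∧
        t2 * c2 = c2 * t2 ∧ c2 ∉ Subgroup.zpowers c1 ∧ Subgroup.zpowers c1 = fixR R t1 ∧
        Subgroup.zpowers c2 = fixR R t2) →
      ∃ t1 t2 c1 c2 : G, t1 ∈ ({s1, s2, s1 * s2} : Set G) ∧ t2 ∈ ({s1, s2, s1 * s2} : Set G) ∧
      c1 ∈ R ∧ c2 ∈ R ∧ orderOf c1 = 3 ∧ orderOf c2 = 3 ∧ t1 * c1 = c1 * t1 ∧ t2 * c2 = c2 * t2 ∧
      c2 ∉ Subgroup.zpowers c1 ∧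
      (∀ r ∈ R, r * c1 = c1 * r) ∧ (∀ r ∈ R, r * c2 = c2 * r) ∧
      s1 * c1 * s1⁻¹ ∈ Subgroup.zpowers c1 ∧ s2 * c1 * s2⁻¹ ∈ Subgroup.zpowers c1 ∧
      s1 * c2 * s1⁻¹ ∈ Subgroup.zpowers c2 ∧ s2 * c2 * s2⁻¹ ∈ Subgroup.zpowers c2 := by
    intro t1 t2 ht1 ht2 a11 a21 a12 a22 ⟨c1, c2, hc1R, hc2R, ho1, ho2, hf1, hf2, hnot, hz1, hz2⟩
    have hc1f : c1 ∈ fixR R t1 := by rw [← hz1]; exact Subgroup.mem_zpowers c1
    have hc2f : c2 ∈ fixR R t2 := by rw [← hz2]; exact Subgroup.mem_zpowers c2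
    refine ⟨t1, t2, c1, c2, ht1, ht2, hc1R, hc2R, ho1, ho2, hf1, hf2, hnot,
      fun r hr => hcomm r hr c1 hc1R, fun r hr => hcomm r hr c2 hc2R, ?_, ?_, ?_, ?_⟩
    · rw [hz1]; exact conj_mem_fixR R s1 t1 c1 a11 h1R hc1f
    · rw [hz1]; exact conj_mem_fixR R s2 t1 c1 a21 h2R hc1f
    · rw [hz2]; exact conj_mem_fixR R s1 t2 c2 a12 h1R hc2f
    · rw [hz2]; exact conj_mem_fixR R s2 t2 c2 a22 h2R hc2f
  by_cases hf1 : fixR R s1 = ⊥
  · have hinv1 := inverts_of_fixR_eq_bot R hR s1 hs1 h1R hf1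
    have hf2 : fixR R s2 ≠ ⊥ := by
      intro hf2
      have hinv2 := inverts_of_fixR_eq_bot R hR s2 hs2 h2R hf2
      obtain ⟨r, hr, hne'⟩ := hnc3
      exact hne' (centralizes_of_inverts R s1 s2 hinv1 hinv2 r hr)
    have hf3 : fixR R s3 ≠ ⊥ := by
      intro hf3
      have hinv3 := inverts_of_fixR_eq_bot R hR s3 hs3 h3R hf3
      obtain ⟨r, hr, hne'⟩ := hnc2
      have := centralizes_of_inverts R s1 s3 hinv1 hinv3 r hr
      rw [e13] at this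
      exact hne' this
    exact build s2 s3 hmem2 hmem3 h12 rfl h13 h23
      (klein_key R hR s2 s3 s1 hs2 hs3 h23 e23.symm h2R h3R hnc2 hnc3' hnc1 hf2 hf3)
  · by_cases hf2 : fixR R s2 = ⊥
    · have hinv2 := inverts_of_fixR_eq_bot R hR s2 hs2 h2R hf2
      have hf3 : fixR R s3 ≠ ⊥ := by
        intro hf3
        have hinv3 := inverts_of_fixR_eq_bot R hR s3 hs3 h3R hf3
        obtain ⟨r, hr, hne'⟩ := hnc1
        have := centralizes_of_inverts R s2 s3 hinv2 hinv3 r hr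
        rw [e23] at this
        exact hne' this
      exact build s1 s3 hmem1 hmem3 rfl h12.symm h13 h23
        (klein_key R hR s1 s3 s2 hs1 hs3 h13 e13.symm h1R h3R hnc1 hnc3' hnc2 hf1 hf3)
    · exact build s1 s2 hmem1 hmem2 rfl h12.symm h12 rfl
        (klein_key R hR s1 s2 s3 hs1 hs2 h12 hs3def h1R h2R hnc1 hnc2 hnc3' hf1 hf2)

end Cfsg.Agent.Helper14.A7
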