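import Cfsg.Agent.Helper85.A7Defs
import Cfsg.Agent.Helper70.Q8
import Cfsg.Agent.S0219
import Cfsg.Agent.S0201

/-!
# S0984 sub-tree LOC, piece (G8) for helper85: the Sylow 2-subgroup of a simple group of order 2520
containing an element of order 4
-/

set_option autoImplicit false

namespace Cfsg.Agent.Helper14.A7

open Cfsg Cfsg.Agent.Helper85.A7
open scoped ComplexConjugate

universe u

/-- elements of a cyclic group of order four -/
theorem mem_zpowers_four {T : Type*} [Group T] {x y : T} (hord : orderOf x = 4)
    (hy : y ∈ Subgroup.zpowers x) : y = 1 ∨ y = x ∨ y = x ^ 2 ∨ y = x ^ 3 := by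
  classical
  have hfin : IsOfFinOrder x := by
    rw [← orderOf_pos_iff, hord]; norm_num
  rw [hfin.mem_zpowers_iff_mem_range_orderOf, Finset.mem_image] at hy
  obtain ⟨k, hk, rfl⟩ := hy
  rw [hord, Finset.mem_range] at hk
  interval_cases k
  · left; simp
  · right; left; simp
  · right; right; left; rfl
  · right; right; right; rfl

/-- a group of order 8 with an element `x` of order 4: dihedral type, `C4 × C2` type, cyclic or
quaternion -/
theorem order_eight_cases {P : Type*} [Group P] [Finite P] (hcard : Nat.card P = 8) (x : P)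
    (hord : orderOf x = 4) :
    (∀ s : P, s ∉ Subgroup.zpowers x → orderOf s = 2) ∨
    (∃ u : P, u ∉ Subgroup.zpowers x ∧ orderOf u = 2 ∧ u * x = x * u) ∨
    IsCyclic P ∨ Nonempty (P ≃* QuaternionGroup 2) := by
  classical
  set M := Subgroup.zpowers x with hM
  have hx4 : x ^ 4 = 1 := by rw [← hord]; exact pow_orderOf_eq_one x
  have hx2 : x ^ 2 ≠ 1 := by
    intro h
    have := orderOf_dvd_of_pow_eq_one h
    rw [hord] at this
    norm_num at this
  have hx1 : x ≠ 1 := by
    intro h
    rw [h, orderOf_one] at hord
    norm_num at hord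
  have hMcard : Nat.card M = 4 := by rw [hM, Nat.card_zpowers, hord]
  have hidx : M.index = 2 := by
    have h := Subgroup.card_mul_index M
    rw [hMcard, hcard] at h
    omega
  have hMn : M.Normal := Subgroup.normal_of_index_eq_two hidx
  have hxM : x ∈ M := Subgroup.mem_zpowers x
  -- conjugates of `x` inside `M`
  have hconj : ∀ y : P, y * x * y⁻¹ = x ∨ y * x * y⁻¹ = x ^ 3 := by
    intro y
    have h1 : y * x * y⁻¹ ∈ M := hMn.conj_mem x hxM y
    rcases mem_zpowers_four hord h1 with h | h | h | h
    · exfalso
      apply hx1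
      have : x = y⁻¹ * (y * x * y⁻¹) * y := by group
      rw [this, h]; group
    · exact Or.inl h
    · exfalso
      apply hx2
      have h2 : (y * x * y⁻¹) ^ 2 = y * x ^ 2 * y⁻¹ := conj_pow
      have h3 : (y * x * y⁻¹) ^ 2 = 1 := by rw [h, ← pow_mul]; exact hx4
      rw [h2] at h3
      have : x ^ 2 = y⁻¹ * (y * x ^ 2 * y⁻¹) * y := by group
      rw [this, h3]; group
    · exact Or.inr h
  have hx3 : x ^ 3 = x⁻¹ := by
    rw [eq_inv_iff_mul_eq_one, ← pow_succ]; exact hx4
  by_cases hA : ∃ u : P, u ∉ M ∧ orderOf u = 2
  · obtain ⟨u, huM, hu2⟩ := hA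
    have huu : u * u = 1 := by
      have := pow_orderOf_eq_one u
      rw [hu2, pow_two] at this
      exact this
    have huinv : u⁻¹ = u := inv_eq_of_mul_eq_one_right huu
    rcases hconj u with h | h
    · right; left
      refine ⟨u, huM, hu2, ?_⟩
      calc u * x = (u * x * u⁻¹) * u := by group
        _ = x * u := by rw [h]
    · left
      intro s hs
      have hm : u⁻¹ * s ∈ M := by
        rw [Subgroup.mul_mem_iff_of_index_two hidx]
        constructor
        · intro h1; exact absurd (by simpa using M.inv_mem h1) huM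
        · intro h1; exact absurd h1 hs
      obtain ⟨k, hk⟩ := Subgroup.mem_zpowers_iff.1 hm
      have hs' : s = u * x ^ k := by rw [hk]; group
      have hck : u * x ^ k * u⁻¹ = (x ^ k)⁻¹ := by
        have h1 : u * x ^ k * u⁻¹ = (u * x * u⁻¹) ^ k := by
          rw [conj_zpow]
        rw [h1, h, hx3, inv_zpow]
      have hss : s * s = 1 := by
        rw [hs']
        calc u * x ^ k * (u * x ^ k) = (u * x ^ k * u⁻¹) * x ^ k := by rw [huinv]; group
          _ = 1 := by rw [hck, inv_mul_cancel]
      have hs1 : s ≠ 1 := by
        intro h1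
        apply hs
        rw [h1]; exact M.one_mem
      exact orderOf_eq_prime (by rw [pow_two]; exact hss) hs1
  · push Not at hA
    obtain ⟨b, hbM⟩ : ∃ b : P, b ∉ M := by
      by_contra hcon
      push Not at hcon
      have : M = ⊤ := by
        rw [Subgroup.eq_top_iff']; exact hcon
      rw [this, Subgroup.index_top] at hidx
      norm_num at hidx
    have hb1 : b ≠ 1 := by
      intro h1; apply hbM; rw [h1]; exact M.one_mem
    have hb2 : b ^ 2 ∈ M := Subgroup.sq_mem_of_index_two hidx b
    have hcyc : ∀ y : P, y ^ 4 ≠ 1 → IsCyclic P := by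
      intro y hy4
      have hdvd : orderOf y ∣ 2 ^ 3 := by
        have : orderOf y ∣ Nat.card P := orderOf_dvd_natCard y
        rw [hcard] at this
        exact this
      obtain ⟨k, hk, hk'⟩ := (Nat.dvd_prime_pow Nat.prime_two).mp hdvd
      have hk3 : k = 3 := by
        by_contra hne
        apply hy4
        have hk2 : k ≤ 2 := by omega
        have : orderOf y ∣ 4 := by
          rw [hk']
          exact (pow_dvd_pow 2 hk2).trans (by norm_num)
        exact orderOf_dvd_iff_pow_eq_one.1 this
      apply isCyclic_of_orderOf_eq_card y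
      rw [hk', hk3, hcard]; norm_num
    rcases mem_zpowers_four hord hb2 with h | h | h | h
    · exfalso
      exact hA b hbM (orderOf_eq_prime h hb1)
    · right; right; left
      apply hcyc b
      have : b ^ 4 = (b ^ 2) ^ 2 := by rw [← pow_mul]
      rw [this, h]; exact hx2
    · -- `b² = x²`
      rcases hconj b with hc | hc
      · exfalso
        have hcomm : b * x = x * b := by
          calc b * x = (b * x * b⁻¹) * b := by group
            _ = x * b := by rw [hc]
        have hcomm' : b⁻¹ * x = x * b⁻¹ := by
          calc b⁻¹ * x = b⁻¹ * (x * b) * b⁻¹ := by group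
            _ = b⁻¹ * (b * x) * b⁻¹ := by rw [hcomm]
            _ = x * b⁻¹ := by group
        obtain ⟨w, hw⟩ : ∃ w : P, w = x * b⁻¹ := ⟨_, rfl⟩
        have hwM : w ∉ M := by
          intro h1
          apply hbM
          have h2 : x⁻¹ * w ∈ M := M.mul_mem (M.inv_mem hxM) h1
          have h3 : x⁻¹ * w = b⁻¹ := by rw [hw]; group
          rw [h3] at h2
          simpa using M.inv_mem h2
        have hw1 : w ≠ 1 := by
          intro h1; apply hwM; rw [h1]; exact M.one_mem
        have hww : w ^ 2 = 1 := by
          rw [hw, pow_two]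
          have e1 : b⁻¹ * b⁻¹ = (x ^ 2)⁻¹ := by rw [← h, pow_two, mul_inv_rev]
          calc x * b⁻¹ * (x * b⁻¹) = x * (b⁻¹ * x) * b⁻¹ := by simp only [mul_assoc]
            _ = x * (x * b⁻¹) * b⁻¹ := by rw [hcomm']
            _ = (x * x) * (b⁻¹ * b⁻¹) := by simp only [mul_assoc]
            _ = 1 := by rw [e1, ← pow_two, mul_inv_cancel]
        exact hA w hwM (orderOf_eq_prime hww hw1)
      · right; right; right
        have hgen : Subgroup.closure ({x, b} : Set P) = ⊤ := by
          set K := Subgroup.closure ({x, b} : Set P) with hK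
          have hMK : M ≤ K := by
            rw [hM, Subgroup.zpowers_le]
            exact Subgroup.subset_closure (Set.mem_insert _ _)
          have hbK : b ∈ K := Subgroup.subset_closure (Set.mem_insert_of_mem _ rfl)
          have h4 : 4 ∣ Nat.card K := by
            rw [← hMcard]; exact Subgroup.card_dvd_of_le hMK
          have h8 : Nat.card K ∣ 8 := by
            rw [← hcard]; exact Subgroup.card_subgroup_dvd_card K
          have hne4 : Nat.card K ≠ 4 := by
            intro h44
            apply hbM
            have : M = K := Subgroup.eq_of_le_of_card_ge hMK (by rw [h44, hMcard])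
            rw [this]; exact hbK
          have hK8 : Nat.card K = 8 := by
            obtain ⟨c, hc⟩ := h4
            have hc8 : c ∣ 2 := by
              have : 4 * c ∣ 4 * 2 := by rw [← hc]; exact h8
              exact Nat.dvd_of_mul_dvd_mul_left (by norm_num) this
            have hc12 : c = 1 ∨ c = 2 := by
              have := Nat.le_of_dvd (by norm_num) hc8
              have hc0 : c ≠ 0 := by
                rintro rfl; simp at hc8
              interval_cases c <;> simp_all
            rcases hc12 with rfl | rfl
            · exact absurd hc hne4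
            · exact hc
          rw [← Subgroup.card_eq_iff_eq_top, hK8, hcard]
        exact Cfsg.Agent.Helper70.nonempty_mulEquiv_quaternion hcard x b hgen hx4
          (by rw [hc, hx3]) h
    · right; right; left
      apply hcyc b
      have : b ^ 4 = (b ^ 2) ^ 2 := by rw [← pow_mul]
      rw [this, h, ← pow_mul]
      intro h6
      apply hx2
      have : x ^ (3 * 2) = x ^ 4 * x ^ 2 := by rw [← pow_add]
      rw [this, hx4, one_mul] at h6
      exact h6

variable {G : Type u} [Group G]

theorem factorization_2520_two : (2520 : ℕ).factorization 2 = 3 := by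
  have h : (2520 : ℕ) = 2 ^ 3 * 315 := by norm_num
  rw [h, Nat.factorization_mul (by norm_num) (by norm_num),
    Nat.Prime.factorization_pow Nat.prime_two]
  have h0 : (315 : ℕ).factorization 2 = 0 :=
    Nat.factorization_eq_zero_of_not_dvd (by norm_num)
  simp [h0]

theorem card_sylow_two_2520 [Finite G] (hcard : Nat.card G = 2520) (S : Sylow 2 G) :
    Nat.card (S : Subgroup G) = 8 := by
  rw [Sylow.card_eq_multiplicity, hcard, factorization_2520_two]
  norm_num

theorem mk_mem_zpowers_iff (H : Subgroup G) (a s : G) (ha : a ∈ H) (hs : s ∈ H) :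
    (⟨s, hs⟩ : H) ∈ Subgroup.zpowers (⟨a, ha⟩ : H) ↔ s ∈ Subgroup.zpowers a := by
  rw [Subgroup.mem_zpowers_iff, Subgroup.mem_zpowers_iff]
  constructor
  · rintro ⟨k, hk⟩
    refine ⟨k, ?_⟩
    have := congrArg Subtype.val hk
    simpa using this
  · rintro ⟨k, hk⟩
    refine ⟨k, ?_⟩
    apply Subtype.ext
    simpa using hk

/-- (G8) a Sylow 2-subgroup (order 8) containing `a` of order 4 is of dihedral type (all elements
outside `⟨a⟩` are involutions) or of type `C4 × C2` (an involution outside `⟨a⟩` commuting with
`a`); cyclic and quaternion are excluded by S0219 / S0201 -/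
theorem sylow_two_cases [Finite G] [IsSimpleGroup G] (hcard : Nat.card G = 2520) (S : Sylow 2 G)
    (a : G) (haS : a ∈ (S : Subgroup G)) (ha : orderOf a = 4) :
    (∀ s ∈ (S : Subgroup G), s ∉ Subgroup.zpowers a → orderOf s = 2) ∨
      (∃ u ∈ (S : Subgroup G), u ∉ Subgroup.zpowers a ∧ orderOf u = 2 ∧ u * a = a * u) := by
  have hS8 := card_sylow_two_2520 hcard S
  have hsimple : ∀ N : Subgroup G, N.Normal → N = ⊥ ∨ N = ⊤ := fun N hN => hN.eq_bot_or_eq_top
  have ha' : orderOf (⟨a, haS⟩ : (S : Subgroup G)) = 4 := by
    rw [Subgroup.orderOf_mk]; exact ha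
  rcases order_eight_cases hS8 (⟨a, haS⟩ : (S : Subgroup G)) ha' with h | h | h | h
  · left
    intro s hs hsa
    have := h ⟨s, hs⟩ (by rw [mk_mem_zpowers_iff]; exact hsa)
    rw [Subgroup.orderOf_mk] at this
    exact this
  · right
    obtain ⟨⟨u, hu⟩, huM, hu2, hua⟩ := h
    refine ⟨u, hu, ?_, ?_, ?_⟩
    · rw [mk_mem_zpowers_iff] at huM; exact huM
    · rw [Subgroup.orderOf_mk] at hu2; exact hu2
    · have := congrArg Subtype.val hua
      simpa using this
  · exfalso
    have heven : Even (Nat.card G) := by rw [hcard]; decide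
    obtain ⟨H, hH⟩ := Cfsg.Agent.S0219.result heven S h
    have hHn : H.Normal := Subgroup.normal_of_index_eq_two hH
    rcases hsimple H hHn with rfl | rfl
    · rw [Subgroup.index_bot, hcard] at hH
      norm_num at hH
    · rw [Subgroup.index_top] at hH
      norm_num at hH
  · exfalso
    obtain ⟨e⟩ := h
    have hO : ∀ N : Subgroup G, N.Normal → Odd (Nat.card N) → N = ⊥ := by
      intro N hN hodd
      rcases hsimple N hN with h1 | h1
      · exact h1
      · exfalso
        rw [h1, Subgroup.card_top, hcard] at hodd
        revert hodd; decide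
    have hZ := Cfsg.Agent.S0201.result S 0 e hO
    rcases hsimple (Subgroup.center G) inferInstance with h1 | h1
    · rw [h1, Subgroup.card_bot] at hZ
      norm_num at hZ
    · rw [h1, Subgroup.card_top, hcard] at hZ
      norm_num at hZ

end Cfsg.Agent.Helper14.A7
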