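import Cfsg.Agent.Helper85.A7Defs

/-!
# S0984 sub-tree LOC, piece (R6g) for helper85: the group side of the Frobenius case
-/

set_option autoImplicit false

namespace Cfsg.Agent.Helper14.A7

open Cfsg Cfsg.Agent.Helper85.A7
open scoped ComplexConjugate Pointwise

universe u

variable {G : Type u} [Group G]

/-- powers of an element normalizing `R` normalize `R` -/
theorem pow_conj_mem (R : Subgroup G) (b : G) (hbR : ∀ r ∈ R, b * r * b⁻¹ ∈ R) (k : ℕ) :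
    ∀ r ∈ R, b ^ k * r * (b ^ k)⁻¹ ∈ R := by
  induction k with
  | zero => intro r hr; simpa using hr
  | succ k ih =>
    intro r hr
    have h1 := hbR _ (ih r hr)
    have e : b ^ (k + 1) * r * (b ^ (k + 1))⁻¹ = b * (b ^ k * r * (b ^ k)⁻¹) * b⁻¹ := by
      rw [pow_succ']; group
    rw [e]; exact h1

theorem zpowers_le_normalizer [Finite G] (R : Subgroup G) (b : G)
    (hbR : ∀ r ∈ R, b * r * b⁻¹ ∈ R) : Subgroup.zpowers b ≤ Subgroup.normalizer (R : Set G) := by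
  rw [Subgroup.zpowers_le, Subgroup.mem_normalizer_iff]
  intro h
  constructor
  · exact hbR h
  · intro hh
    -- `b⁻¹ = b ^ (orderOf b - 1)`
    have hpos : 0 < orderOf b := orderOf_pos b
    have hinv : b⁻¹ = b ^ (orderOf b - 1) := by
      rw [inv_eq_iff_mul_eq_one, ← pow_succ', Nat.sub_add_cancel hpos, pow_orderOf_eq_one]
    have h1 := pow_conj_mem R b hbR (orderOf b - 1) _ hh
    rw [← hinv] at h1
    have e : b⁻¹ * (b * h * b⁻¹) * b⁻¹⁻¹ = h := by group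
    rw [e] at h1
    exact h1

/-- the elements of `R ⟨b⟩` are uniquely `r b^k`, `k < o(b)` -/
theorem sup_zpowers_facts [Finite G] (R : Subgroup G) (b : G) (m : ℕ) (hm : orderOf b = m)
    (hbR : ∀ r ∈ R, b * r * b⁻¹ ∈ R) (hinf : R ⊓ Subgroup.zpowers b = ⊥) :
    Nat.card (R ⊔ Subgroup.zpowers b : Subgroup G) = Nat.card R * m ∧
    ∀ f : G → ℂ, ∑ᶠ n ∈ ((R ⊔ Subgroup.zpowers b : Subgroup G) : Set G), f n =
      ∑ k : Fin m, ∑ᶠ r ∈ (R : Set G), f (r * b ^ (k : ℕ)) := by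
  classical
  have hnorm := zpowers_le_normalizer R b hbR
  have hcoe : ((R ⊔ Subgroup.zpowers b : Subgroup G) : Set G) =
      (R : Set G) * (Subgroup.zpowers b : Set G) :=
    Subgroup.coe_mul_of_right_le_normalizer_left R (Subgroup.zpowers b) hnorm
  set φ : R × Fin m → G := fun p => (p.1 : G) * b ^ (p.2 : ℕ) with hφ
  have hinj : Function.Injective φ := by
    rintro ⟨⟨r, hr⟩, ⟨k, hk⟩⟩ ⟨⟨r', hr'⟩, ⟨k', hk'⟩⟩ h
    simp only [hφ] at h
    have h1 : r'⁻¹ * r = b ^ k' * (b ^ k)⁻¹ := by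
      have : r = r' * b ^ k' * (b ^ k)⁻¹ := by rw [← h]; group
      rw [this]; group
    have hmem : r'⁻¹ * r ∈ R ⊓ Subgroup.zpowers b := by
      refine ⟨R.mul_mem (R.inv_mem hr') hr, ?_⟩
      rw [h1]
      exact (Subgroup.zpowers b).mul_mem (Subgroup.pow_mem _ (Subgroup.mem_zpowers b) _)
        ((Subgroup.zpowers b).inv_mem (Subgroup.pow_mem _ (Subgroup.mem_zpowers b) _))
    rw [hinf, Subgroup.mem_bot] at hmem
    have hrr : r = r' := by
      have : r = r' * (r'⁻¹ * r) := by group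
      rw [this, hmem, mul_one]
    subst hrr
    have hbb : b ^ k = b ^ k' := mul_left_cancel h
    have hkk : k = k' := by
      apply pow_injOn_Iio_orderOf (x := b)
      · rw [Set.mem_Iio, hm]; exact hk
      · rw [Set.mem_Iio, hm]; exact hk'
      · exact hbb
    subst hkk
    rfl
  have hrange : Set.range φ = ((R ⊔ Subgroup.zpowers b : Subgroup G) : Set G) := by
    rw [hcoe]
    ext x
    constructor
    · rintro ⟨⟨⟨r, hr⟩, ⟨k, hk⟩⟩, rfl⟩
      exact Set.mul_mem_mul hr (Subgroup.pow_mem _ (Subgroup.mem_zpowers b) _)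
    · intro hx
      obtain ⟨r, hr, y, hy, rfl⟩ := Set.mem_mul.1 hx
      have hfin : IsOfFinOrder b := isOfFinOrder_of_finite b
      rw [SetLike.mem_coe, hfin.mem_zpowers_iff_mem_range_orderOf, Finset.mem_image] at hy
      obtain ⟨k, hk, rfl⟩ := hy
      rw [Finset.mem_range, hm] at hk
      exact ⟨(⟨r, hr⟩, ⟨k, hk⟩), rfl⟩
  constructor
  · have h1 : Nat.card (R ⊔ Subgroup.zpowers b : Subgroup G) = Nat.card (Set.range φ) := by
      rw [hrange]; rfl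
    rw [h1, Nat.card_range_of_injective hinj, Nat.card_prod, Nat.card_fin]
  · intro f
    haveI : Fintype R := Fintype.ofFinite R
    rw [← hrange, finsum_mem_range hinj, finsum_eq_sum_of_fintype, Fintype.sum_prod_type_right]
    refine Finset.sum_congr rfl (fun k _ => ?_)
    rw [← finsum_set_coe_eq_finsum_mem (R : Set G), ← finsum_eq_sum_of_fintype]
    rfl

/-- conjugating away the `R`-part -/
theorem finsum_mul_eq [Finite G] (R : Subgroup G)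
    (hRc : ∀ x ∈ R, ∀ y ∈ R, x * y = y * x) (b : G) (hbR : ∀ r ∈ R, b * r * b⁻¹ ∈ R)
    (hfix : ∀ c ∈ R, b * c * b⁻¹ = c → c = 1) (f : G → ℂ)
    (hf : ∀ g h : G, f (h * g * h⁻¹) = f g) :
    ∑ᶠ r ∈ (R : Set G), f (r * b) = (Nat.card R : ℂ) * f b := by
  classical
  haveI : Fintype R := Fintype.ofFinite R
  set ψ : R → R := fun r => ⟨(r : G) * (b * (r : G)⁻¹ * b⁻¹),
    R.mul_mem r.2 (hbR _ (R.inv_mem r.2))⟩ with hψ
  have hψinj : Function.Injective ψ := by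
    rintro ⟨r, hr⟩ ⟨r', hr'⟩ h
    have h0 : r * (b * r⁻¹ * b⁻¹) = r' * (b * r'⁻¹ * b⁻¹) := congrArg Subtype.val h
    apply Subtype.ext
    show r = r'
    -- `c = r'⁻¹ r` is fixed by `b`
    have hc : b * (r'⁻¹ * r) * b⁻¹ = r'⁻¹ * r := by
      have hbr : b * r⁻¹ * b⁻¹ ∈ R := hbR _ (R.inv_mem hr)
      have hbr' : b * r'⁻¹ * b⁻¹ ∈ R := hbR _ (R.inv_mem hr')
      have e1 : b * (r'⁻¹ * r) * b⁻¹ = (b * r'⁻¹ * b⁻¹) * (b * r⁻¹ * b⁻¹)⁻¹ := by group
      rw [e1]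
      -- from h0: r'⁻¹ * r = (b r'⁻¹ b⁻¹) (b r⁻¹ b⁻¹)⁻¹
      have e2 : r'⁻¹ * r = (b * r'⁻¹ * b⁻¹) * (b * r⁻¹ * b⁻¹)⁻¹ := by
        have e3 : r = r' * (b * r'⁻¹ * b⁻¹) * (b * r⁻¹ * b⁻¹)⁻¹ := by
          rw [← h0]; group
        calc r'⁻¹ * r = r'⁻¹ * (r' * (b * r'⁻¹ * b⁻¹) * (b * r⁻¹ * b⁻¹)⁻¹) := by rw [← e3]
          _ = (b * r'⁻¹ * b⁻¹) * (b * r⁻¹ * b⁻¹)⁻¹ := by group
      exact e2.symm
    have h1 := hfix _ (R.mul_mem (R.inv_mem hr') hr) hc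
    have : r = r' * (r'⁻¹ * r) := by group
    rw [this, h1, mul_one]
  have hψbij : Function.Bijective ψ := Finite.injective_iff_bijective.1 hψinj
  rw [← finsum_set_coe_eq_finsum_mem (R : Set G)]
  have h1 : ∑ᶠ r : (R : Set G), f ((r : G) * b) = ∑ᶠ r : R, f ((ψ r : G) * b) :=
    (finsum_eq_of_bijective ψ hψbij (fun r => rfl)).symm
  rw [h1]
  have h2 : ∀ r : R, f ((ψ r : G) * b) = f b := by
    intro r
    have e : ((ψ r : R) : G) * b = (r : G) * b * (r : G)⁻¹ := by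
      simp only [hψ]; group
    rw [e, hf]
  rw [finsum_congr h2, finsum_eq_sum_of_fintype, Finset.sum_const, Finset.card_univ,
    nsmul_eq_mul, Nat.card_eq_fintype_card]

/-- (R6g) group side of the Frobenius case: `N = R ⋊ ⟨a⟩` has 36 elements `r a^k`, and `r a^k` is
conjugate to `a^k` for `k = 1, 2, 3` -/
theorem frobenius_group [Finite G] (R : Subgroup G) (hR : Nat.card R = 9)
    (hRc : ∀ x ∈ R, ∀ y ∈ R, x * y = y * x) (a : G) (ha : orderOf a = 4)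
    (haR : ∀ r ∈ R, a * r * a⁻¹ ∈ R) (hfpf : ∀ c ∈ R, a ^ 2 * c * (a ^ 2)⁻¹ = c → c = 1) :
    Nat.card (R ⊔ Subgroup.zpowers a : Subgroup G) = 36 ∧
    Nat.card (R ⊔ Subgroup.zpowers (a ^ 2) : Subgroup G) = 18 ∧
    (∀ f : G → ℂ, (∀ g h : G, f (h * g * h⁻¹) = f g) →
      ∑ᶠ n ∈ ((R ⊔ Subgroup.zpowers a : Subgroup G) : Set G), f n =
        (∑ᶠ r ∈ (R : Set G), f r) + 9 * (f a + f (a ^ 2) + f (a ^ 3))) ∧
    (∀ f : G → ℂ, (∀ g h : G, f (h * g * h⁻¹) = f g) →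
      ∑ᶠ n ∈ ((R ⊔ Subgroup.zpowers (a ^ 2) : Subgroup G) : Set G), f n =
        (∑ᶠ r ∈ (R : Set G), f r) + 9 * f (a ^ 2)) := by
  have ha4 : a ^ 4 = 1 := by rw [← ha]; exact pow_orderOf_eq_one a
  have ha2 : orderOf (a ^ 2) = 2 := by
    rw [orderOf_pow' a (by norm_num : (2 : ℕ) ≠ 0), ha]; norm_num
  -- normalization by the powers
  have hpR : ∀ k : ℕ, ∀ r ∈ R, a ^ k * r * (a ^ k)⁻¹ ∈ R := pow_conj_mem R a haR
  -- fixed points of the powers
  have hsq : ∀ b : G, ∀ c : G, b * c * b⁻¹ = c → b ^ 2 * c * (b ^ 2)⁻¹ = c := by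
    intro b c h
    calc b ^ 2 * c * (b ^ 2)⁻¹ = b * (b * c * b⁻¹) * b⁻¹ := by rw [pow_two]; group
      _ = c := by rw [h, h]
  have hfix1 : ∀ c ∈ R, a * c * a⁻¹ = c → c = 1 := fun c hc h => hfpf c hc (hsq a c h)
  have hfix2 : ∀ c ∈ R, a ^ 2 * c * (a ^ 2)⁻¹ = c → c = 1 := hfpf
  have hfix3 : ∀ c ∈ R, a ^ 3 * c * (a ^ 3)⁻¹ = c → c = 1 := by
    intro c hc h
    have h6 := hsq (a ^ 3) c h
    have e : (a ^ 3) ^ 2 = a ^ 2 := by
      rw [← pow_mul]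
      calc a ^ (3 * 2) = a ^ 4 * a ^ 2 := by rw [← pow_add]
        _ = a ^ 2 := by rw [ha4, one_mul]
    rw [e] at h6
    exact hfpf c hc h6
  -- trivial intersections
  have hinf1 : R ⊓ Subgroup.zpowers a = ⊥ := by
    apply (Subgroup.disjoint_of_coprime_natCard _).eq_bot
    rw [hR, Nat.card_zpowers, ha]; norm_num
  have hinf2 : R ⊓ Subgroup.zpowers (a ^ 2) = ⊥ := by
    apply (Subgroup.disjoint_of_coprime_natCard _).eq_bot
    rw [hR, Nat.card_zpowers, ha2]; norm_num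
  obtain ⟨hc1, hs1⟩ := sup_zpowers_facts R a 4 ha haR hinf1
  obtain ⟨hc2, hs2⟩ := sup_zpowers_facts R (a ^ 2) 2 ha2 (hpR 2) hinf2
  have h9 : (Nat.card R : ℂ) = 9 := by rw [hR]; norm_num
  refine ⟨by rw [hc1, hR], by rw [hc2, hR], ?_, ?_⟩
  · intro f hf
    rw [hs1 f, Fin.sum_univ_four]
    have e0 : ∑ᶠ r ∈ (R : Set G), f (r * a ^ ((0 : Fin 4) : ℕ)) = ∑ᶠ r ∈ (R : Set G), f r := by
      simp
    have e1 : ∑ᶠ r ∈ (R : Set G), f (r * a ^ ((1 : Fin 4) : ℕ)) = 9 * f a := by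
      have := finsum_mul_eq R hRc a haR hfix1 f hf
      rw [h9] at this
      simpa using this
    have e2 : ∑ᶠ r ∈ (R : Set G), f (r * a ^ ((2 : Fin 4) : ℕ)) = 9 * f (a ^ 2) := by
      have := finsum_mul_eq R hRc (a ^ 2) (hpR 2) hfix2 f hf
      rw [h9] at this
      exact this
    have e3 : ∑ᶠ r ∈ (R : Set G), f (r * a ^ ((3 : Fin 4) : ℕ)) = 9 * f (a ^ 3) := by
      have := finsum_mul_eq R hRc (a ^ 3) (hpR 3) hfix3 f hf
      rw [h9] at this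
      exact this
    rw [e0, e1, e2, e3]
    ring
  · intro f hf
    rw [hs2 f, Fin.sum_univ_two]
    have e0 : ∑ᶠ r ∈ (R : Set G), f (r * (a ^ 2) ^ ((0 : Fin 2) : ℕ)) =
        ∑ᶠ r ∈ (R : Set G), f r := by
      simp
    have e1 : ∑ᶠ r ∈ (R : Set G), f (r * (a ^ 2) ^ ((1 : Fin 2) : ℕ)) = 9 * f (a ^ 2) := by
      have := finsum_mul_eq R hRc (a ^ 2) (hpR 2) hfix2 f hf
      rw [h9] at this
      simpa using this
    rw [e0, e1]

end Cfsg.Agent.Helper14.A7
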