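import Mathlib

/-!
Helper14: square roots in a finite field of characteristic two, and additive 2-homogeneous
functions as squares of linear functionals.
-/

set_option autoImplicit false
set_option linter.unusedSectionVars false

namespace Cfsg.Agent.Helper14.AutPSL

open Matrix

variable {F : Type*} [Field F]

theorem add_self_char_two (h2 : (2 : F) = 0) (x : F) : x + x = 0 := by
  rw [← two_mul, h2, zero_mul]

theorem neg_eq_self_char_two (h2 : (2 : F) = 0) (x : F) : -x = x :=
  neg_eq_of_add_eq_zero_left (add_self_char_two h2 x)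

theorem add_sq_char_two (h2 : (2 : F) = 0) (x y : F) : (x + y) ^ 2 = x ^ 2 + y ^ 2 := by
  have : (x + y) ^ 2 = x ^ 2 + y ^ 2 + 2 * (x * y) := by ring
  rw [this, h2, zero_mul, add_zero]

theorem sum_sq_char_two (h2 : (2 : F) = 0) {κ : Type*} (s : Finset κ) (f : κ → F) :
    (∑ i ∈ s, f i) ^ 2 = ∑ i ∈ s, f i ^ 2 := by
  classical
  induction s using Finset.induction_on with
  | empty => simp
  | insert a s ha ih =>
    rw [Finset.sum_insert ha, Finset.sum_insert ha, add_sq_char_two h2, ih]

theorem sq_inj_char_two (h2 : (2 : F) = 0) {x y : F} (h : x ^ 2 = y ^ 2) : x = y := by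
  have h1 : (x + y) ^ 2 = 0 := by
    rw [add_sq_char_two h2, h, ← two_mul, h2, zero_mul]
  have h3 : x + y = 0 := pow_eq_zero_iff (by norm_num) |>.mp h1
  have h4 : x = -y := eq_neg_of_add_eq_zero_left h3
  rw [h4, neg_eq_self_char_two h2]

section sqrt
variable [Fintype F] (h2 : (2 : F) = 0)

include h2 in
theorem exists_sqrt_char_two (a : F) : ∃ r : F, r ^ 2 = a := by
  have hchar : ringChar F = 2 := CharP.ringChar_of_prime_eq_zero Nat.prime_two (by exact_mod_cast h2)
  obtain ⟨r, hr⟩ := FiniteField.isSquare_of_char_two hchar a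
  exact ⟨r, by rw [hr, pow_two]⟩

/-- the square root in a finite field of characteristic two -/
noncomputable def sq2 (a : F) : F := Classical.choose (exists_sqrt_char_two h2 a)

theorem sq2_sq (a : F) : sq2 h2 a ^ 2 = a := Classical.choose_spec (exists_sqrt_char_two h2 a)

theorem sq2_unique {a x : F} (h : x ^ 2 = a) : sq2 h2 a = x :=
  sq_inj_char_two h2 (by rw [sq2_sq, h])

theorem sq2_mul (a b : F) : sq2 h2 (a * b) = sq2 h2 a * sq2 h2 b := by
  apply sq2_unique
  rw [mul_pow, sq2_sq, sq2_sq]

theorem sq2_ne_zero {a : F} (ha : a ≠ 0) : sq2 h2 a ≠ 0 := by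
  intro h
  apply ha
  rw [← sq2_sq h2 a, h]
  ring

include h2 in
/-- an additive 2-homogeneous function is the square of a linear functional -/
theorem exists_linear_sqrt {κ : Type*} [Fintype κ] [DecidableEq κ] (N : (κ → F) → F)
    (hadd : ∀ u v, N (u + v) = N u + N v) (hhom : ∀ (c : F) v, N (c • v) = c ^ 2 * N v) :
    ∃ l : κ → F, ∀ v, (l ⬝ᵥ v) ^ 2 = N v := by
  refine ⟨fun j => sq2 h2 (N (Pi.single j 1)), ?_⟩
  intro v
  have h0 : N 0 = 0 := by
    have := hadd 0 0
    rw [add_zero] at this
    exact left_eq_add.mp this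
  let Nh : (κ → F) →+ F := AddMonoidHom.mk' N hadd
  have hN : ∀ x, Nh x = N x := fun x => rfl
  conv_rhs => rw [pi_eq_sum_univ' v, ← hN, map_sum]
  unfold dotProduct
  rw [sum_sq_char_two h2]
  apply Finset.sum_congr rfl
  intro j _
  rw [hN, hhom, mul_pow, sq2_sq]
  ring

end sqrt

end Cfsg.Agent.Helper14.AutPSL
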