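import Mathlib
import Cfsg.Agent.Helper14.AutCharTwo1
import Cfsg.Agent.Helper14.AutGraph3
import Cfsg.Agent.Helper14.AutGraph11

/-!
Helper14: characteristic two, odd dimension: the quadratic form `x₀² + Q_W` and the symmetric
bilinear form `x₀ y₀ + β_W` (`β_W` the polar form of `Q_W`, non-degenerate): basic identities.
-/

set_option autoImplicit false
set_option linter.unusedSectionVars false

namespace Cfsg.Agent.Helper14.AutPSL

open Matrix

variable {F : Type*} [Field F] {ω : Type} [Fintype ω] [DecidableEq ω]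

/-- `x₀² + Q_W(x_W)` -/
def Qo (QW : (ω → F) → F) (v : Unit ⊕ ω → F) : F := v (Sum.inl ()) ^ 2 + QW (v ∘ Sum.inr)

/-- Gram matrix of `x₀ y₀ + β_W` -/
def Bo (H : Matrix ω ω F) : Matrix (Unit ⊕ ω) (Unit ⊕ ω) F :=
  Matrix.fromBlocks (1 : Matrix Unit Unit F) 0 0 H

/-- the first basis vector -/
def eo : Unit ⊕ ω → F := Pi.single (Sum.inl ()) 1

theorem eo_inl : (eo : Unit ⊕ ω → F) (Sum.inl ()) = 1 := by
  unfold eo; rw [Pi.single_eq_same]

theorem eo_inr : ((eo : Unit ⊕ ω → F) ∘ Sum.inr) = 0 := by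
  funext j
  unfold eo
  rw [Function.comp_apply, Pi.single_eq_of_ne (by simp), Pi.zero_apply]

theorem gramForm_Bo (H : Matrix ω ω F) (u v : Unit ⊕ ω → F) :
    gramForm (Bo H) u v = u (Sum.inl ()) * v (Sum.inl ()) + gramForm H (u ∘ Sum.inr) (v ∘ Sum.inr) := by
  unfold gramForm Bo
  rw [Matrix.fromBlocks_mulVec]
  simp only [Matrix.zero_mulVec, add_zero, zero_add, Matrix.one_mulVec]
  conv_lhs => rw [show u = Sum.elim (u ∘ Sum.inl) (u ∘ Sum.inr) from by
    funext i; cases i <;> rfl]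
  rw [sumElim_dotProduct_sumElim]
  congr 1
  simp [dotProduct]

section
variable (h2 : (2 : F) = 0) (H : Matrix ω ω F) (QW : (ω → F) → F)
  (hpol : ∀ x y, QW (x + y) = QW x + QW y + gramForm H x y)
  (hhom : ∀ (c : F) x, QW (c • x) = c ^ 2 * QW x)
  (halt : ∀ x, gramForm H x x = 0)

include h2 hpol in
theorem Qo_add (u v : Unit ⊕ ω → F) :
    Qo QW (u + v) = Qo QW u + Qo QW v + gramForm H (u ∘ Sum.inr) (v ∘ Sum.inr) := by
  unfold Qo
  have : (u + v) ∘ Sum.inr = u ∘ Sum.inr + v ∘ Sum.inr := rfl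
  rw [this, hpol, Pi.add_apply, add_sq_char_two h2]
  ring

include hhom in
theorem Qo_smul (c : F) (v : Unit ⊕ ω → F) : Qo QW (c • v) = c ^ 2 * Qo QW v := by
  unfold Qo
  have : (c • v) ∘ Sum.inr = c • (v ∘ Sum.inr) := rfl
  rw [this, hhom, Pi.smul_apply, smul_eq_mul]
  ring

include hhom in
theorem QW_zero : QW 0 = 0 := by
  have := hhom 0 0
  rw [zero_smul] at this
  rw [this]
  ring

include hhom in
theorem Qo_eo : Qo QW (eo : Unit ⊕ ω → F) = 1 := by
  unfold Qo
  rw [eo_inl, eo_inr, QW_zero QW hhom]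
  ring

include h2 hpol hhom halt in
theorem Qo_add_smul_eo (x : Unit ⊕ ω → F) (c : F) : Qo QW (x + c • eo) = Qo QW x + c ^ 2 := by
  rw [Qo_add h2 H QW hpol, Qo_smul QW hhom, Qo_eo QW hhom]
  have : (c • (eo : Unit ⊕ ω → F)) ∘ Sum.inr = 0 := by
    funext j
    show c * (eo : Unit ⊕ ω → F) (Sum.inr j) = 0
    have := congrFun (eo_inr (F := F) (ω := ω)) j
    rw [Function.comp_apply, Pi.zero_apply] at this
    rw [this, mul_zero]
  rw [this]
  unfold gramForm
  rw [Matrix.mulVec_zero, dotProduct_zero]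
  ring

include halt in
theorem gramForm_Bo_self (v : Unit ⊕ ω → F) : gramForm (Bo H) v v = v (Sum.inl ()) ^ 2 := by
  rw [gramForm_Bo, halt]
  ring

end

end Cfsg.Agent.Helper14.AutPSL
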