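import Mathlib
import Cfsg.Agent.Helper14.AutCharTwo2

/-!
Helper14: characteristic two, odd dimension: similarities of `x₀² + Q_W` are block upper triangular;
their block diagonal parts are the similarities of `x₀ y₀ + β_W`.
-/

set_option autoImplicit false
set_option linter.unusedSectionVars false

namespace Cfsg.Agent.Helper14.AutPSL

open Matrix

variable {F : Type*} [Field F] {ω : Type} [Fintype ω] [DecidableEq ω]

/-- the block diagonal part -/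
def bd (A : Matrix (Unit ⊕ ω) (Unit ⊕ ω) F) : Matrix (Unit ⊕ ω) (Unit ⊕ ω) F :=
  Matrix.fromBlocks A.toBlocks₁₁ 0 0 A.toBlocks₂₂

theorem bd_mul (A A' : Matrix (Unit ⊕ ω) (Unit ⊕ ω) F) (hA : A.toBlocks₂₁ = 0)
    (hA' : A'.toBlocks₂₁ = 0) : bd (A * A') = bd A * bd A' := by
  unfold bd
  rw [Matrix.fromBlocks_multiply]
  simp only [Matrix.mul_zero, Matrix.zero_mul, add_zero, zero_add]
  conv_lhs => rw [← Matrix.fromBlocks_toBlocks A, ← Matrix.fromBlocks_toBlocks A',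
    Matrix.fromBlocks_multiply, hA, hA']
  simp only [Matrix.toBlocks_fromBlocks₁₁, Matrix.toBlocks_fromBlocks₂₂, Matrix.mul_zero,
    Matrix.zero_mul, add_zero, zero_add]

theorem toBlocks₂₁_mul (A A' : Matrix (Unit ⊕ ω) (Unit ⊕ ω) F) (hA : A.toBlocks₂₁ = 0)
    (hA' : A'.toBlocks₂₁ = 0) : (A * A').toBlocks₂₁ = 0 := by
  conv_lhs => rw [← Matrix.fromBlocks_toBlocks A, ← Matrix.fromBlocks_toBlocks A',
    Matrix.fromBlocks_multiply, hA, hA']
  simp only [Matrix.toBlocks_fromBlocks₂₁, Matrix.mul_zero, Matrix.zero_mul, add_zero]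

theorem mulVec_inr (A : Matrix (Unit ⊕ ω) (Unit ⊕ ω) F) (v : Unit ⊕ ω → F) :
    (A *ᵥ v) ∘ Sum.inr = A.toBlocks₂₁ *ᵥ (v ∘ Sum.inl) + A.toBlocks₂₂ *ᵥ (v ∘ Sum.inr) := by
  conv_lhs => rw [← Matrix.fromBlocks_toBlocks A, Matrix.fromBlocks_mulVec]
  funext j
  rfl

theorem mulVec_inl (A : Matrix (Unit ⊕ ω) (Unit ⊕ ω) F) (v : Unit ⊕ ω → F) :
    (A *ᵥ v) ∘ Sum.inl = A.toBlocks₁₁ *ᵥ (v ∘ Sum.inl) + A.toBlocks₁₂ *ᵥ (v ∘ Sum.inr) := by
  conv_lhs => rw [← Matrix.fromBlocks_toBlocks A, Matrix.fromBlocks_mulVec]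
  funext j
  rfl

theorem gram_nondeg (H : Matrix ω ω F) (hHdet : H.det ≠ 0) {a : ω → F}
    (h : ∀ y, gramForm H a y = 0) : a = 0 := by
  apply (dotProduct_eq_zero_iff (v := a)).mp
  intro z
  have := h (H⁻¹ *ᵥ z)
  unfold gramForm at this
  rw [Matrix.mulVec_mulVec, Matrix.mul_nonsing_inv _ (Ne.isUnit hHdet), Matrix.one_mulVec] at this
  exact this

section
variable (h2 : (2 : F) = 0) (H : Matrix ω ω F) (QW : (ω → F) → F)
  (hpol : ∀ x y, QW (x + y) = QW x + QW y + gramForm H x y)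
  (hhom : ∀ (c : F) x, QW (c • x) = c ^ 2 * QW x)
  (halt : ∀ x, gramForm H x x = 0)
  (hHdet : H.det ≠ 0)

include h2 hpol in
/-- a similarity of `Q` is a similarity of the polar form -/
theorem qsim_polar {k : Matrix (Unit ⊕ ω) (Unit ⊕ ω) F} {μ : F}
    (hk : ∀ v, Qo QW (k *ᵥ v) = μ * Qo QW v) (u v : Unit ⊕ ω → F) :
    gramForm H ((k *ᵥ u) ∘ Sum.inr) ((k *ᵥ v) ∘ Sum.inr) =
      μ * gramForm H (u ∘ Sum.inr) (v ∘ Sum.inr) := by
  have h1 := hk (u + v)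
  rw [Matrix.mulVec_add, Qo_add h2 H QW hpol, Qo_add h2 H QW hpol, hk, hk] at h1
  linear_combination h1

include h2 hpol hHdet in
/-- a similarity of `Q` fixes the radical of the polar form -/
theorem qsim_toBlocks₂₁ {k : GL (Unit ⊕ ω) F} {μ : F}
    (hk : ∀ v, Qo QW ((k : Matrix (Unit ⊕ ω) (Unit ⊕ ω) F) *ᵥ v) = μ * Qo QW v) :
    (k : Matrix (Unit ⊕ ω) (Unit ⊕ ω) F).toBlocks₂₁ = 0 := by
  have h1 : (((k : Matrix (Unit ⊕ ω) (Unit ⊕ ω) F) *ᵥ eo) ∘ Sum.inr : ω → F) = 0 := by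
    apply gram_nondeg H hHdet
    intro y
    have h3 := qsim_polar h2 H QW hpol hk eo
      (((k⁻¹ : GL (Unit ⊕ ω) F) : Matrix (Unit ⊕ ω) (Unit ⊕ ω) F) *ᵥ (Sum.elim 0 y))
    rw [Matrix.mulVec_mulVec, ← Units.val_mul, mul_inv_cancel, Units.val_one, Matrix.one_mulVec,
      eo_inr] at h3
    have h4 : ((Sum.elim 0 y : Unit ⊕ ω → F) ∘ Sum.inr) = y := rfl
    rw [h4] at h3
    rw [h3]
    unfold gramForm
    rw [zero_dotProduct, mul_zero]
  ext i j
  have := congrFun h1 i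
  rw [Function.comp_apply, Pi.zero_apply] at this
  unfold eo at this
  rw [Matrix.mulVec_single_one, Matrix.col_apply] at this
  cases j
  exact this

end

end Cfsg.Agent.Helper14.AutPSL
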