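import Mathlib
import Cfsg.Agent.Helper14.AutCharTwo3

/-!
Helper14: characteristic two, odd dimension: the homomorphism from the similarities of
`x₀² + Q_W` to the similarities of `x₀ y₀ + β_W` (block diagonal part).
-/

set_option autoImplicit false
set_option linter.unusedSectionVars false

namespace Cfsg.Agent.Helper14.AutPSL

open Matrix

variable {F : Type*} [Field F] {ω : Type} [Fintype ω] [DecidableEq ω]

theorem unit_matrix_eq (a : Matrix Unit Unit F) : a = (a () ()) • (1 : Matrix Unit Unit F) := by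
  ext i j
  cases i; cases j
  rw [Matrix.smul_apply, Matrix.one_apply_eq, smul_eq_mul, mul_one]

theorem bd_one : bd (1 : Matrix (Unit ⊕ ω) (Unit ⊕ ω) F) = 1 := by
  unfold bd
  rw [← Matrix.fromBlocks_one]
  congr 1

section
variable (h2 : (2 : F) = 0) (H : Matrix ω ω F) (QW : (ω → F) → F)
  (hpol : ∀ x y, QW (x + y) = QW x + QW y + gramForm H x y)
  (hhom : ∀ (c : F) x, QW (c • x) = c ^ 2 * QW x)
  (halt : ∀ x, gramForm H x x = 0)
  (hHdet : H.det ≠ 0)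

include h2 hpol hhom hHdet in
theorem qsim_corner_sq {k : GL (Unit ⊕ ω) F} {μ : F}
    (hk : ∀ v, Qo QW ((k : Matrix (Unit ⊕ ω) (Unit ⊕ ω) F) *ᵥ v) = μ * Qo QW v) :
    ((k : Matrix (Unit ⊕ ω) (Unit ⊕ ω) F) (Sum.inl ()) (Sum.inl ())) ^ 2 = μ := by
  have h21 := qsim_toBlocks₂₁ h2 H QW hpol hHdet hk
  have h1 : (k : Matrix (Unit ⊕ ω) (Unit ⊕ ω) F) *ᵥ eo =
      ((k : Matrix (Unit ⊕ ω) (Unit ⊕ ω) F) (Sum.inl ()) (Sum.inl ())) • eo := by
    unfold eo
    rw [Matrix.mulVec_single_one]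
    funext i
    rcases i with ⟨⟩ | j
    · rw [Matrix.col_apply, Pi.smul_apply, Pi.single_eq_same, smul_eq_mul, mul_one]
    · rw [Matrix.col_apply, Pi.smul_apply, Pi.single_eq_of_ne (by simp), smul_eq_mul, mul_zero]
      exact congrFun (congrFun h21 j) ()
  have h3 := hk eo
  rw [h1, Qo_smul QW hhom, Qo_eo QW hhom, mul_one, mul_one] at h3
  exact h3

include h2 hpol hHdet in
theorem qsim_toBlocks₂₂ {k : GL (Unit ⊕ ω) F} {μ : F}
    (hk : ∀ v, Qo QW ((k : Matrix (Unit ⊕ ω) (Unit ⊕ ω) F) *ᵥ v) = μ * Qo QW v) :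
    ((k : Matrix (Unit ⊕ ω) (Unit ⊕ ω) F).toBlocks₂₂)ᵀ * H *
      (k : Matrix (Unit ⊕ ω) (Unit ⊕ ω) F).toBlocks₂₂ = μ • H := by
  have h21 := qsim_toBlocks₂₁ h2 H QW hpol hHdet hk
  apply gramForm_ext
  intro x y
  rw [← gramForm_mulVec, gramForm_smul]
  have h3 := qsim_polar h2 H QW hpol hk (Sum.elim 0 x) (Sum.elim 0 y)
  rw [mulVec_inr, mulVec_inr, h21, Matrix.zero_mulVec, Matrix.zero_mulVec, zero_add, zero_add] at h3
  exact h3

include h2 hpol hhom hHdet in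
theorem bd_sim {k : GL (Unit ⊕ ω) F} {μ : F}
    (hk : ∀ v, Qo QW ((k : Matrix (Unit ⊕ ω) (Unit ⊕ ω) F) *ᵥ v) = μ * Qo QW v) :
    (bd (k : Matrix (Unit ⊕ ω) (Unit ⊕ ω) F))ᵀ * Bo H * bd (k : Matrix (Unit ⊕ ω) (Unit ⊕ ω) F) =
      μ • Bo H := by
  unfold bd Bo
  rw [Matrix.fromBlocks_transpose, Matrix.fromBlocks_multiply, Matrix.fromBlocks_multiply,
    Matrix.fromBlocks_smul]
  simp only [Matrix.transpose_zero, Matrix.mul_zero, Matrix.zero_mul, add_zero, zero_add,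
    Matrix.mul_one, smul_zero]
  congr 1
  · rw [unit_matrix_eq (k : Matrix (Unit ⊕ ω) (Unit ⊕ ω) F).toBlocks₁₁, Matrix.transpose_smul,
      Matrix.transpose_one, Matrix.smul_mul, Matrix.mul_smul, Matrix.one_mul, smul_smul]
    congr 1
    have := qsim_corner_sq h2 H QW hpol hhom hHdet hk
    rw [pow_two] at this
    exact this
  · exact qsim_toBlocks₂₂ h2 H QW hpol hHdet hk

theorem Bo_det : (Bo H).det = H.det := by
  unfold Bo
  rw [Matrix.det_fromBlocks_zero₂₁, Matrix.det_one, one_mul]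

include hHdet in
theorem det_ne_zero_of_sim {A : Matrix (Unit ⊕ ω) (Unit ⊕ ω) F} {μ : F} (hμ : μ ≠ 0)
    (hA : Aᵀ * Bo H * A = μ • Bo H) : A.det ≠ 0 := by
  intro h0
  have := congrArg Matrix.det hA
  rw [Matrix.det_mul, Matrix.det_mul, h0, mul_zero, Matrix.det_smul, Bo_det] at this
  exact mul_ne_zero (pow_ne_zero _ hμ) hHdet this.symm

/-- the block diagonal part, as a homomorphism of similarity groups -/
noncomputable def xiHom : ↥(Cfsg.Geo.quadSimilarityGroup (Qo QW)) →*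
    ↥(Cfsg.Geo.similarityGroup (gramForm (Bo H))) where
  toFun k := ⟨Matrix.GeneralLinearGroup.mkOfDetNeZero
      (bd ((k : GL (Unit ⊕ ω) F) : Matrix (Unit ⊕ ω) (Unit ⊕ ω) F))
      (det_ne_zero_of_sim H hHdet (Classical.choose k.2).ne_zero
        (bd_sim h2 H QW hpol hhom hHdet (Classical.choose_spec k.2))),
    (mem_similarityGroup_gram _ _).mpr ⟨Classical.choose k.2,
      bd_sim h2 H QW hpol hhom hHdet (Classical.choose_spec k.2)⟩⟩
  map_one' := by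
    apply Subtype.ext
    apply Units.ext
    show bd ((1 : GL (Unit ⊕ ω) F) : Matrix (Unit ⊕ ω) (Unit ⊕ ω) F) = 1
    rw [Units.val_one, bd_one]
  map_mul' k k' := by
    apply Subtype.ext
    apply Units.ext
    show bd (((k * k' : ↥(Cfsg.Geo.quadSimilarityGroup (Qo QW))) : GL (Unit ⊕ ω) F) :
      Matrix (Unit ⊕ ω) (Unit ⊕ ω) F) = bd _ * bd _
    rw [Subgroup.coe_mul, Units.val_mul]
    exact bd_mul _ _ (qsim_toBlocks₂₁ h2 H QW hpol hHdet (Classical.choose_spec k.2))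
      (qsim_toBlocks₂₁ h2 H QW hpol hHdet (Classical.choose_spec k'.2))

theorem xiHom_coe (k : ↥(Cfsg.Geo.quadSimilarityGroup (Qo QW))) :
    (((xiHom h2 H QW hpol hhom hHdet k : ↥(Cfsg.Geo.similarityGroup (gramForm (Bo H)))) :
      GL (Unit ⊕ ω) F) : Matrix (Unit ⊕ ω) (Unit ⊕ ω) F) =
      bd ((k : GL (Unit ⊕ ω) F) : Matrix (Unit ⊕ ω) (Unit ⊕ ω) F) := rfl

end

end Cfsg.Agent.Helper14.AutPSL
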