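import Mathlib
import Cfsg.Agent.Helper14.AutCharTwo4

/-!
Helper14: characteristic two, odd dimension: the block diagonal part homomorphism is surjective and
detects scalars; hence `PGO(x₀² + Q_W) ≅ P(Sim(x₀ y₀ + β_W))`.
-/

set_option autoImplicit false
set_option linter.unusedSectionVars false

namespace Cfsg.Agent.Helper14.AutPSL

open Matrix

variable {F : Type*} [Field F] {ω : Type} [Fintype ω] [DecidableEq ω]

theorem vecMulVec_eo_mulVec (l v : Unit ⊕ ω → F) :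
    Matrix.vecMulVec (eo : Unit ⊕ ω → F) l *ᵥ v = (l ⬝ᵥ v) • eo := by
  funext i
  unfold Matrix.mulVec dotProduct Matrix.vecMulVec
  simp only [Matrix.of_apply, Pi.smul_apply, smul_eq_mul]
  rw [Finset.sum_mul]
  apply Finset.sum_congr rfl
  intro j _
  ring

theorem smul_one_toBlocks (a : F) :
    bd (a • (1 : Matrix (Unit ⊕ ω) (Unit ⊕ ω) F)) = a • (1 : Matrix (Unit ⊕ ω) (Unit ⊕ ω) F) := by
  ext i j
  rcases i with ⟨⟩ | i <;> rcases j with ⟨⟩ | j <;>
    simp [bd, Matrix.toBlocks₁₁, Matrix.toBlocks₂₂, Matrix.one_apply]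

/-- a quotient isomorphism from a surjective homomorphism -/
noncomputable def quotEquivOfSurj {G G' : Type*} [Group G] [Group G'] (f : G →* G')
    (hf : Function.Surjective f) (N : Subgroup G) [N.Normal] (N' : Subgroup G') [N'.Normal]
    (h : N = N'.comap f) : G ⧸ N ≃* G' ⧸ N' :=
  (QuotientGroup.quotientMulEquivOfEq (by
    rw [h]
    ext x
    rw [MonoidHom.mem_ker, MonoidHom.comp_apply, QuotientGroup.mk'_apply,
      QuotientGroup.eq_one_iff, Subgroup.mem_comap])).trans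
    (QuotientGroup.quotientKerEquivOfSurjective ((QuotientGroup.mk' N').comp f)
      ((QuotientGroup.mk'_surjective N').comp hf))

section
variable [Fintype F] (h2 : (2 : F) = 0) (H : Matrix ω ω F) (QW : (ω → F) → F)
  (hpol : ∀ x y, QW (x + y) = QW x + QW y + gramForm H x y)
  (hhom : ∀ (c : F) x, QW (c • x) = c ^ 2 * QW x)
  (halt : ∀ x, gramForm H x x = 0)
  (hHdet : H.det ≠ 0) (hHT : Hᵀ = H)

include h2 hpol hhom hHdet in
/-- a similarity of `Q` with scalar block diagonal part is scalar -/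
theorem qsim_scalar_of_bd {k : GL (Unit ⊕ ω) F} {μ : F}
    (hk : ∀ v, Qo QW ((k : Matrix (Unit ⊕ ω) (Unit ⊕ ω) F) *ᵥ v) = μ * Qo QW v) {a : F}
    (ha : bd (k : Matrix (Unit ⊕ ω) (Unit ⊕ ω) F) = a • 1) :
    (k : Matrix (Unit ⊕ ω) (Unit ⊕ ω) F) = a • 1 := by
  have h21 := qsim_toBlocks₂₁ h2 H QW hpol hHdet hk
  have hc := qsim_corner_sq h2 H QW hpol hhom hHdet hk
  unfold bd at ha
  have ha' : Matrix.fromBlocks (k : Matrix (Unit ⊕ ω) (Unit ⊕ ω) F).toBlocks₁₁ 0 0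
      (k : Matrix (Unit ⊕ ω) (Unit ⊕ ω) F).toBlocks₂₂ =
      Matrix.fromBlocks (a • (1 : Matrix Unit Unit F)) 0 0 (a • (1 : Matrix ω ω F)) := by
    rw [ha, ← Matrix.fromBlocks_one, Matrix.fromBlocks_smul]
    simp only [smul_zero]
  obtain ⟨h11, -, -, h22⟩ := Matrix.fromBlocks_inj.mp ha'
  have hca : (k : Matrix (Unit ⊕ ω) (Unit ⊕ ω) F) (Sum.inl ()) (Sum.inl ()) = a := by
    have := congrFun (congrFun h11 ()) ()
    rw [Matrix.smul_apply, Matrix.one_apply_eq, smul_eq_mul, mul_one] at this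
    exact this
  rw [hca] at hc
  -- the upper right block vanishes
  have h12 : (k : Matrix (Unit ⊕ ω) (Unit ⊕ ω) F).toBlocks₁₂ = 0 := by
    have hx : ∀ x : ω → F, ((k : Matrix (Unit ⊕ ω) (Unit ⊕ ω) F).toBlocks₁₂ *ᵥ x) () = 0 := by
      intro x
      have h3 := hk (Sum.elim 0 x)
      unfold Qo at h3
      rw [mulVec_inr, h21, h22, Matrix.zero_mulVec, zero_add, Matrix.smul_mulVec,
        Matrix.one_mulVec] at h3
      have h4 : ((Sum.elim 0 x : Unit ⊕ ω → F) ∘ Sum.inr) = x := rfl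
      have h5 : ((Sum.elim 0 x : Unit ⊕ ω → F) ∘ Sum.inl) = 0 := rfl
      have h6 : (Sum.elim 0 x : Unit ⊕ ω → F) (Sum.inl ()) = 0 := rfl
      have h7 : ((k : Matrix (Unit ⊕ ω) (Unit ⊕ ω) F) *ᵥ (Sum.elim 0 x)) (Sum.inl ()) =
          ((k : Matrix (Unit ⊕ ω) (Unit ⊕ ω) F).toBlocks₁₂ *ᵥ x) () := by
        have := congrFun (mulVec_inl (k : Matrix (Unit ⊕ ω) (Unit ⊕ ω) F) (Sum.elim 0 x)) ()
        rw [h5, h4, Matrix.mulVec_zero, zero_add] at this
        exact this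
      rw [h4, h6, h7, hhom, ← hc] at h3
      have h8 : (((k : Matrix (Unit ⊕ ω) (Unit ⊕ ω) F).toBlocks₁₂ *ᵥ x) ()) ^ 2 = 0 := by
        linear_combination h3
      exact pow_eq_zero_iff (by norm_num) |>.mp h8
    ext i j
    cases i
    have := hx (Pi.single j 1)
    rw [Matrix.mulVec_single_one, Matrix.col_apply] at this
    exact this
  rw [← Matrix.fromBlocks_toBlocks (k : Matrix (Unit ⊕ ω) (Unit ⊕ ω) F), h11, h12, h21, h22,
    ← Matrix.fromBlocks_one, Matrix.fromBlocks_smul]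
  simp only [smul_zero]

include h2 halt hHdet in
/-- a similarity of `x₀ y₀ + β_W` is block diagonal -/
theorem sim_eq_bd {k : GL (Unit ⊕ ω) F} {μ : Fˣ}
    (hk : (k : Matrix (Unit ⊕ ω) (Unit ⊕ ω) F)ᵀ * Bo H * (k : Matrix (Unit ⊕ ω) (Unit ⊕ ω) F) =
      (μ : F) • Bo H) :
    (∀ v, ((k : Matrix (Unit ⊕ ω) (Unit ⊕ ω) F) *ᵥ v) (Sum.inl ()) =
      sq2 h2 (μ : F) * v (Sum.inl ())) ∧
    (k : Matrix (Unit ⊕ ω) (Unit ⊕ ω) F) *ᵥ eo = sq2 h2 (μ : F) • eo := by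
  have hform : ∀ u v, gramForm (Bo H) ((k : Matrix (Unit ⊕ ω) (Unit ⊕ ω) F) *ᵥ u)
      ((k : Matrix (Unit ⊕ ω) (Unit ⊕ ω) F) *ᵥ v) = (μ : F) * gramForm (Bo H) u v := by
    intro u v
    rw [gramForm_mulVec, hk, gramForm_smul]
  have hK1 : ∀ v, ((k : Matrix (Unit ⊕ ω) (Unit ⊕ ω) F) *ᵥ v) (Sum.inl ()) =
      sq2 h2 (μ : F) * v (Sum.inl ()) := by
    intro v
    apply sq_inj_char_two h2
    have := hform v v
    rw [gramForm_Bo_self H halt, gramForm_Bo_self H halt] at this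
    rw [this, mul_pow, sq2_sq]
  refine ⟨hK1, ?_⟩
  -- `k e₀ + c e₀` is orthogonal to everything
  have hBdet : (Bo H).det ≠ 0 := by rw [Bo_det]; exact hHdet
  have hz : (k : Matrix (Unit ⊕ ω) (Unit ⊕ ω) F) *ᵥ eo + sq2 h2 (μ : F) • eo = 0 := by
    apply gram_nondeg (Bo H) hBdet
    intro y
    obtain ⟨v, rfl⟩ : ∃ v, (k : Matrix (Unit ⊕ ω) (Unit ⊕ ω) F) *ᵥ v = y :=
      ⟨((k⁻¹ : GL (Unit ⊕ ω) F) : Matrix (Unit ⊕ ω) (Unit ⊕ ω) F) *ᵥ y, by
        rw [Matrix.mulVec_mulVec, ← Units.val_mul, mul_inv_cancel, Units.val_one,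
          Matrix.one_mulVec]⟩
    rw [gramForm_add_left, hform]
    have e1 : gramForm (Bo H) (eo : Unit ⊕ ω → F) v = v (Sum.inl ()) := by
      rw [gramForm_Bo, eo_inl, eo_inr]
      unfold gramForm
      rw [zero_dotProduct, one_mul, add_zero]
    have e2 : gramForm (Bo H) (sq2 h2 (μ : F) • (eo : Unit ⊕ ω → F))
        ((k : Matrix (Unit ⊕ ω) (Unit ⊕ ω) F) *ᵥ v) =
        sq2 h2 (μ : F) * (sq2 h2 (μ : F) * v (Sum.inl ())) := by
      unfold gramForm
      rw [smul_dotProduct, smul_eq_mul]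
      congr 1
      have := e1
      unfold gramForm at this
      have e3 : gramForm (Bo H) (eo : Unit ⊕ ω → F) ((k : Matrix (Unit ⊕ ω) (Unit ⊕ ω) F) *ᵥ v) =
          ((k : Matrix (Unit ⊕ ω) (Unit ⊕ ω) F) *ᵥ v) (Sum.inl ()) := by
        rw [gramForm_Bo, eo_inl, eo_inr]
        unfold gramForm
        rw [zero_dotProduct, one_mul, add_zero]
      unfold gramForm at e3
      rw [e3, hK1]
    rw [e1, e2, ← mul_assoc, ← pow_two, sq2_sq]
    exact add_self_char_two h2 _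
  have := eq_neg_of_add_eq_zero_left hz
  rw [this]
  funext i
  rw [Pi.neg_apply, neg_eq_self_char_two h2]

end

end Cfsg.Agent.Helper14.AutPSL
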