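import Mathlib
import Cfsg.Agent.Helper14.AutCharTwo5

/-!
Helper14: characteristic two, odd dimension: `PGO(x₀² + Q_W) ≅ P(Sim(x₀ y₀ + β_W))`.
-/

set_option autoImplicit false
set_option linter.unusedSectionVars false

namespace Cfsg.Agent.Helper14.AutPSL

open Matrix

variable {F : Type*} [Field F] {ω : Type} [Fintype ω] [DecidableEq ω]

section
variable [Fintype F] (h2 : (2 : F) = 0) (H : Matrix ω ω F) (QW : (ω → F) → F)
  (hpol : ∀ x y, QW (x + y) = QW x + QW y + gramForm H x y)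
  (hhom : ∀ (c : F) x, QW (c • x) = c ^ 2 * QW x)
  (halt : ∀ x, gramForm H x x = 0)
  (hHdet : H.det ≠ 0)

include h2 hpol hhom halt hHdet in
/-- every similarity of `x₀ y₀ + β_W` is the block diagonal part of a similarity of `x₀² + Q_W` -/
theorem exists_qsim_of_sim {k : GL (Unit ⊕ ω) F} {μ : Fˣ}
    (hk : (k : Matrix (Unit ⊕ ω) (Unit ⊕ ω) F)ᵀ * Bo H * (k : Matrix (Unit ⊕ ω) (Unit ⊕ ω) F) =
      (μ : F) • Bo H) :
    ∃ k' : GL (Unit ⊕ ω) F,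
      (∀ v, Qo QW ((k' : Matrix (Unit ⊕ ω) (Unit ⊕ ω) F) *ᵥ v) = (μ : F) * Qo QW v) ∧
      bd (k' : Matrix (Unit ⊕ ω) (Unit ⊕ ω) F) = (k : Matrix (Unit ⊕ ω) (Unit ⊕ ω) F) := by
  obtain ⟨hK1, hK6⟩ := sim_eq_bd h2 H halt hHdet hk
  obtain ⟨c, hcdef⟩ : ∃ c, c = sq2 h2 (μ : F) := ⟨_, rfl⟩
  rw [← hcdef] at hK1 hK6
  have hc2 : c ^ 2 = (μ : F) := by rw [hcdef, sq2_sq]
  have hform : ∀ u v, gramForm (Bo H) ((k : Matrix (Unit ⊕ ω) (Unit ⊕ ω) F) *ᵥ u)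
      ((k : Matrix (Unit ⊕ ω) (Unit ⊕ ω) F) *ᵥ v) = (μ : F) * gramForm (Bo H) u v := by
    intro u v
    rw [gramForm_mulVec, hk, gramForm_smul]
  have hformW : ∀ u v, gramForm H (((k : Matrix (Unit ⊕ ω) (Unit ⊕ ω) F) *ᵥ u) ∘ Sum.inr)
      (((k : Matrix (Unit ⊕ ω) (Unit ⊕ ω) F) *ᵥ v) ∘ Sum.inr) =
      (μ : F) * gramForm H (u ∘ Sum.inr) (v ∘ Sum.inr) := by
    intro u v
    have := hform u v
    rw [gramForm_Bo, gramForm_Bo, hK1, hK1] at this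
    linear_combination this - (u (Sum.inl ()) * v (Sum.inl ())) * hc2
  -- block structure of `k`
  have h21 : (k : Matrix (Unit ⊕ ω) (Unit ⊕ ω) F).toBlocks₂₁ = 0 := by
    ext i j
    cases j
    have := congrFun hK6 (Sum.inr i)
    unfold eo at this
    rw [Matrix.mulVec_single_one, Matrix.col_apply, Pi.smul_apply, Pi.single_eq_of_ne (by simp),
      smul_eq_mul, mul_zero] at this
    exact this
  have h12 : (k : Matrix (Unit ⊕ ω) (Unit ⊕ ω) F).toBlocks₁₂ = 0 := by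
    ext i j
    cases i
    have := hK1 (Pi.single (Sum.inr j) 1)
    rw [Matrix.mulVec_single_one, Matrix.col_apply, Pi.single_eq_of_ne (by simp), mul_zero] at this
    exact this
  have hkbd : bd (k : Matrix (Unit ⊕ ω) (Unit ⊕ ω) F) = (k : Matrix (Unit ⊕ ω) (Unit ⊕ ω) F) := by
    conv_rhs => rw [← Matrix.fromBlocks_toBlocks (k : Matrix (Unit ⊕ ω) (Unit ⊕ ω) F), h12, h21]
    rfl
  -- the correction
  obtain ⟨N, hNdef⟩ : ∃ N : (Unit ⊕ ω → F) → F, N = fun v => (μ : F) * Qo QW v +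
      Qo QW ((k : Matrix (Unit ⊕ ω) (Unit ⊕ ω) F) *ᵥ v) := ⟨_, rfl⟩
  have hN : ∀ v, N v = (μ : F) * Qo QW v +
      Qo QW ((k : Matrix (Unit ⊕ ω) (Unit ⊕ ω) F) *ᵥ v) := fun v => by rw [hNdef]
  have hadd : ∀ u v, N (u + v) = N u + N v := by
    intro u v
    rw [hN, hN, hN, Matrix.mulVec_add, Qo_add h2 H QW hpol, Qo_add h2 H QW hpol, hformW]
    have := add_self_char_two h2 ((μ : F) * gramForm H (u ∘ Sum.inr) (v ∘ Sum.inr))
    linear_combination this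
  have hhomN : ∀ (a : F) v, N (a • v) = a ^ 2 * N v := by
    intro a v
    rw [hN, hN, Matrix.mulVec_smul, Qo_smul QW hhom, Qo_smul QW hhom]
    ring
  obtain ⟨l, hl⟩ := exists_linear_sqrt h2 N hadd hhomN
  have hl0 : l (Sum.inl ()) = 0 := by
    have h3 := hl eo
    rw [hN, hK6, Qo_smul QW hhom, Qo_eo QW hhom, mul_one, mul_one, hc2,
      add_self_char_two h2] at h3
    have h4 : l ⬝ᵥ (eo : Unit ⊕ ω → F) = l (Sum.inl ()) := by
      unfold eo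
      rw [dotProduct_single, mul_one]
    rw [h4] at h3
    exact pow_eq_zero_iff (by norm_num) |>.mp h3
  obtain ⟨K', hK'def⟩ : ∃ K' : Matrix (Unit ⊕ ω) (Unit ⊕ ω) F,
      K' = (k : Matrix (Unit ⊕ ω) (Unit ⊕ ω) F) + Matrix.vecMulVec eo l := ⟨_, rfl⟩
  have hK'v : ∀ v, K' *ᵥ v = (k : Matrix (Unit ⊕ ω) (Unit ⊕ ω) F) *ᵥ v + (l ⬝ᵥ v) • eo := by
    intro v
    rw [hK'def, Matrix.add_mulVec, vecMulVec_eo_mulVec]
  have hK'Q : ∀ v, Qo QW (K' *ᵥ v) = (μ : F) * Qo QW v := by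
    intro v
    rw [hK'v, Qo_add_smul_eo h2 H QW hpol hhom halt, hl, hN]
    have := add_self_char_two h2 (Qo QW ((k : Matrix (Unit ⊕ ω) (Unit ⊕ ω) F) *ᵥ v))
    linear_combination this
  have hK'entry : ∀ i j, K' i j = (k : Matrix (Unit ⊕ ω) (Unit ⊕ ω) F) i j +
      (eo : Unit ⊕ ω → F) i * l j := by
    intro i j
    rw [hK'def, Matrix.add_apply, Matrix.vecMulVec_apply]
  have hK'21 : K'.toBlocks₂₁ = 0 := by
    ext i j
    show K' (Sum.inr i) (Sum.inl j) = 0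
    rw [hK'entry]
    unfold eo
    rw [Pi.single_eq_of_ne (by simp), zero_mul, add_zero]
    exact congrFun (congrFun h21 i) j
  have hK'11 : K'.toBlocks₁₁ = (k : Matrix (Unit ⊕ ω) (Unit ⊕ ω) F).toBlocks₁₁ := by
    ext i j
    cases i; cases j
    show K' (Sum.inl ()) (Sum.inl ()) = (k : Matrix (Unit ⊕ ω) (Unit ⊕ ω) F) (Sum.inl ()) (Sum.inl ())
    rw [hK'entry, hl0, mul_zero, add_zero]
  have hK'22 : K'.toBlocks₂₂ = (k : Matrix (Unit ⊕ ω) (Unit ⊕ ω) F).toBlocks₂₂ := by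
    ext i j
    show K' (Sum.inr i) (Sum.inr j) = (k : Matrix (Unit ⊕ ω) (Unit ⊕ ω) F) (Sum.inr i) (Sum.inr j)
    rw [hK'entry]
    unfold eo
    rw [Pi.single_eq_of_ne (by simp), zero_mul, add_zero]
  have hK'bd : bd K' = (k : Matrix (Unit ⊕ ω) (Unit ⊕ ω) F) := by
    rw [← hkbd]
    unfold bd
    rw [hK'11, hK'22]
  have hK'det : K'.det ≠ 0 := by
    have hkdet : (k : Matrix (Unit ⊕ ω) (Unit ⊕ ω) F).det ≠ 0 :=
      ((Matrix.isUnit_iff_isUnit_det _).mp (Units.isUnit k)).ne_zero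
    have e1 : K'.det = (bd K').det := by
      conv_lhs => rw [← Matrix.fromBlocks_toBlocks K', hK'21, Matrix.det_fromBlocks_zero₂₁]
      unfold bd
      rw [Matrix.det_fromBlocks_zero₂₁]
    rw [e1, hK'bd]
    exact hkdet
  exact ⟨Matrix.GeneralLinearGroup.mkOfDetNeZero K' hK'det, hK'Q, hK'bd⟩

include halt in
theorem xiHom_surjective :
    Function.Surjective (xiHom h2 H QW hpol hhom hHdet) := by
  intro ks
  obtain ⟨μ, hk⟩ := (mem_similarityGroup_gram _ _).mp ks.2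
  obtain ⟨k', hk'Q, hk'bd⟩ := exists_qsim_of_sim h2 H QW hpol hhom halt hHdet hk
  refine ⟨⟨k', ⟨μ, hk'Q⟩⟩, ?_⟩
  apply Subtype.ext
  apply Units.ext
  rw [xiHom_coe]
  exact hk'bd

include h2 hpol hhom halt hHdet in
/-- `PGO(x₀² + Q_W) ≅ P(Sim(x₀ y₀ + β_W))` in characteristic two -/
theorem pgoOdd_equiv :
    Nonempty (Cfsg.PGO F (Qo QW) ≃* Cfsg.projQuot (Cfsg.Geo.similarityGroup (gramForm (Bo H)))) := by
  refine ⟨quotEquivOfSurj (xiHom h2 H QW hpol hhom hHdet)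
    (xiHom_surjective h2 H QW hpol hhom halt hHdet) _ _ ?_⟩
  ext k
  rw [Subgroup.mem_subgroupOf, Subgroup.mem_comap, Subgroup.mem_subgroupOf,
    Cfsg.Geo.mem_scalars_iff, Cfsg.Geo.mem_scalars_iff, xiHom_coe]
  constructor
  · rintro ⟨c, hc⟩
    exact ⟨c, by rw [hc, smul_one_toBlocks]⟩
  · rintro ⟨c, hc⟩
    exact ⟨c, qsim_scalar_of_bd h2 H QW hpol hhom hHdet (Classical.choose_spec k.2) hc⟩

end

end Cfsg.Agent.Helper14.AutPSL
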