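import Mathlib
import Cfsg.Agent.Helper14.AutCharTwo2
import Cfsg.Agent.Helper14.AutGraph7
import Cfsg.Agent.Helper14.DiscrLagr

/-!
Helper14: Albert's normal form in odd dimension: over a finite field of characteristic two an
invertible symmetric matrix of odd size `2m+1` is congruent to `⟨1⟩ ⊥ hyperbolic`.
-/

set_option autoImplicit false
set_option linter.unusedSectionVars false

namespace Cfsg.Agent.Helper14.AutPSL

open Matrix Cfsg.Agent.Helper14

variable {n : ℕ} {F : Type*} [Field F] [Fintype F]

theorem albert_aux (h2 : (2 : F) = 0) {m : ℕ} (hnm : n = 2 * m + 1) (A : Matrix (Fin n) (Fin n) F)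
    (hA : Aᵀ = A) (hAdet : A.det ≠ 0) :
    ∃ (w : Fin n → F) (e f : Fin m → (Fin n → F)),
      gramForm A w w = 1 ∧ (∀ i, gramForm A w (e i) = 0) ∧ (∀ i, gramForm A w (f i) = 0) ∧
      (∀ i j, gramForm A (e i) (f j) = if i = j then 1 else 0) ∧
      (∀ i j, gramForm A (e i) (e j) = 0) ∧ (∀ i j, gramForm A (f i) (f j) = 0) := by
  classical
  -- the linear functional `ℓ` with `ℓ(u)² = B(u,u)`
  obtain ⟨l, hl⟩ := exists_linear_sqrt h2 (fun u => gramForm A u u)
    (by
      intro u v
      rw [gramForm_add_left, gramForm_add_right, gramForm_add_right, gramForm_symm hA v u]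
      have := add_self_char_two h2 (gramForm A u v)
      linear_combination this)
    (by
      intro c v
      unfold gramForm
      rw [Matrix.mulVec_smul, dotProduct_smul, smul_dotProduct, smul_eq_mul, smul_eq_mul]
      ring)
  -- the vector `w` representing `ℓ`
  obtain ⟨w, hwdef⟩ : ∃ w : Fin n → F, w = A⁻¹ *ᵥ l := ⟨_, rfl⟩
  have hAw : A *ᵥ w = l := by
    rw [hwdef, Matrix.mulVec_mulVec, Matrix.mul_nonsing_inv _ (Ne.isUnit hAdet), Matrix.one_mulVec]
  have hw : ∀ v, gramForm A w v = l ⬝ᵥ v := by
    intro v
    rw [gramForm_symm hA]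
    unfold gramForm
    rw [hAw, dotProduct_comm]
  have hnd : ∀ {a : Fin n → F}, (∀ y, gramForm A a y = 0) → a = 0 := by
    intro a ha
    apply (dotProduct_eq_zero_iff (v := a)).mp
    intro z
    have := ha (A⁻¹ *ᵥ z)
    unfold gramForm at this
    rw [Matrix.mulVec_mulVec, Matrix.mul_nonsing_inv _ (Ne.isUnit hAdet), Matrix.one_mulVec] at this
    exact this
  -- the bilinear form and the hyperplane
  obtain ⟨B, hBdef⟩ : ∃ B : LinearMap.BilinForm F (Fin n → F), B = Matrix.toBilin' A := ⟨_, rfl⟩
  have hB : ∀ x y, B x y = gramForm A x y := by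
    intro x y
    rw [hBdef, Matrix.toBilin'_apply']
    rfl
  obtain ⟨L, hLdef⟩ : ∃ L : (Fin n → F) →ₗ[F] F, L = B w := ⟨_, rfl⟩
  have hL : ∀ v, L v = l ⬝ᵥ v := by
    intro v
    rw [hLdef, hB, hw]
  obtain ⟨Hs, hHsdef⟩ : ∃ Hs : Submodule F (Fin n → F), Hs = LinearMap.ker L := ⟨_, rfl⟩
  have hHmem : ∀ v, v ∈ Hs ↔ l ⬝ᵥ v = 0 := by
    intro v
    rw [hHsdef, LinearMap.mem_ker, hL]
  have hBH : ∀ x : Hs, gramForm A (x : Fin n → F) (x : Fin n → F) = 0 := by
    intro x
    rw [← hl, (hHmem _).mp x.2]
    ring
  have hres : ∀ x y : Hs, (B.restrict Hs) x y = gramForm A (x : Fin n → F) (y : Fin n → F) := by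
    intro x y
    rw [← hB]
    rfl
  have hAlt : (B.restrict Hs).IsAlt := by
    intro x
    rw [hres]
    exact hBH x
  obtain ⟨m', k, b, h1, h2', h3, h4⟩ := Cfsg.Agent.S0752.result (B.restrict Hs) hAlt
  -- `ℓ(w) = 1`
  have ht : l ⬝ᵥ w = 0 ∨ l ⬝ᵥ w = 1 := by
    have := hl w
    rw [hw] at this
    have h5 : (l ⬝ᵥ w) * (l ⬝ᵥ w - 1) = 0 := by linear_combination this
    rcases mul_eq_zero.mp h5 with h | h
    · left; exact h
    · right; exact sub_eq_zero.mp h
  have hdimH : ∀ (hL0 : L ≠ 0), Module.finrank F Hs = n - 1 := by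
    intro hL0
    have hsurj : LinearMap.range L = ⊤ := by
      apply LinearMap.range_eq_top.mpr
      obtain ⟨v, hv⟩ : ∃ v, L v ≠ 0 := by
        by_contra hcon
        push Not at hcon
        exact hL0 (LinearMap.ext hcon)
      intro c
      refine ⟨(c / L v) • v, ?_⟩
      rw [map_smul, smul_eq_mul, div_mul_cancel₀ _ hv]
    have := LinearMap.finrank_range_add_finrank_ker L
    rw [hsurj, finrank_top, Module.finrank_self, Module.finrank_pi, Fintype.card_fin, ← hHsdef] at this
    omega
  have hcardb : Module.finrank F Hs = 2 * m' + k := by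
    rw [Module.finrank_eq_card_basis b, Fintype.card_sum, Fintype.card_sum, Fintype.card_fin,
      Fintype.card_fin]
    ring
  have hw0 : w ≠ 0 := by
    intro h0
    have hl0 : l = 0 := by rw [← hAw, h0, Matrix.mulVec_zero]
    -- then `A` is alternating of odd size: impossible
    have hHtop : Hs = ⊤ := by
      rw [eq_top_iff]
      intro v _
      rw [hHmem, hl0, zero_dotProduct]
    have hk1 : 1 ≤ k := by
      have : Module.finrank F Hs = n := by
        rw [hHtop, finrank_top, Module.finrank_pi, Fintype.card_fin]
      omega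
    have hr := h4 ⟨0, hk1⟩
    have : ((b (Sum.inr ⟨0, hk1⟩) : Hs) : Fin n → F) = 0 := by
      apply hnd
      intro y
      have := hr ⟨y, by rw [hHtop]; trivial⟩
      rw [hres] at this
      exact this
    exact b.ne_zero _ (Subtype.ext this)
  have hL0 : L ≠ 0 := by
    intro h0
    apply hw0
    apply hnd
    intro y
    rw [hw, ← hL, h0, LinearMap.zero_apply]
  have hV : ∀ v : Fin n → F, l ⬝ᵥ w = 1 → v - (l ⬝ᵥ v) • w ∈ Hs := by
    intro v h1'
    rw [hHmem, dotProduct_sub, dotProduct_smul, h1', smul_eq_mul, mul_one, sub_self]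
  have hk0 : l ⬝ᵥ w = 1 → k = 0 := by
    intro h1'
    by_contra hk
    have hk1 : 1 ≤ k := Nat.pos_of_ne_zero hk
    have hr := h4 ⟨0, hk1⟩
    have : ((b (Sum.inr ⟨0, hk1⟩) : Hs) : Fin n → F) = 0 := by
      apply hnd
      intro y
      have e1 := hr ⟨_, hV y h1'⟩
      rw [hres] at e1
      have e2 : gramForm A ((b (Sum.inr ⟨0, hk1⟩) : Hs) : Fin n → F) w = 0 := by
        rw [gramForm_symm hA, hw]
        exact (hHmem _).mp (b (Sum.inr ⟨0, hk1⟩)).2
      have e3 : y = (y - (l ⬝ᵥ y) • w) + (l ⬝ᵥ y) • w := by abel
      rw [e3, gramForm_add_right, e1]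
      unfold gramForm at e2 ⊢
      rw [Matrix.mulVec_smul, dotProduct_smul, e2, smul_zero, add_zero]
    exact b.ne_zero _ (Subtype.ext this)
  have htw : l ⬝ᵥ w = 1 := by
    rcases ht with h | h
    · exfalso
      -- `w ∈ H` is orthogonal to `H`, and `dim H = 2m` is even: the radical part is nonempty
      have hwH : w ∈ Hs := (hHmem w).mpr h
      have hdim := hdimH hL0
      -- nondegeneracy on `H` fails at `w`, so `k ≥ 1`; but then radical vectors are multiples of `w`
      -- use parity: if `k = 0` then `w` would be zero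
      by_cases hk : k = 0
      · -- `B|_H` nondegenerate but `w ∈ rad`
        subst hk
        have hrepr : ∀ x : Hs, (∀ y : Hs, (B.restrict Hs) x y = 0) → x = 0 := by
          intro x hx
          have hx' : ∀ i, b.repr x i = 0 := by
            intro i
            rcases i with (i | i) | i
            · have := hx (b (Sum.inl (Sum.inr i)))
              rw [← b.sum_repr x, map_sum, LinearMap.sum_apply] at this
              simp only [map_smul, LinearMap.smul_apply, smul_eq_mul] at this
              rw [Fintype.sum_sum_type, Fintype.sum_sum_type] at this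
              simp only [h1, h3] at this
              have hA' : ∀ i j : Fin m', (B.restrict Hs) (b (Sum.inl (Sum.inr i)))
                  (b (Sum.inl (Sum.inr j))) = 0 := h3
              simpa using this
            · have := hx (b (Sum.inl (Sum.inl i)))
              rw [← b.sum_repr x, map_sum, LinearMap.sum_apply] at this
              simp only [map_smul, LinearMap.smul_apply, smul_eq_mul] at this
              rw [Fintype.sum_sum_type, Fintype.sum_sum_type] at this
              have hsw : ∀ i j : Fin m', (B.restrict Hs) (b (Sum.inl (Sum.inr i)))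
                  (b (Sum.inl (Sum.inl j))) = -(if j = i then 1 else 0) := by
                intro i j
                rw [← hAlt.neg_eq, h1]
              simp only [h2', hsw] at this
              simpa using this
            · exact i.elim0
          apply b.repr.injective
          ext i
          rw [hx' i]
          simp
        have := hrepr ⟨w, hwH⟩ (by
          intro y
          rw [hres, hw]
          exact (hHmem _).mp y.2)
        exact hw0 (congrArg Subtype.val this)
      · -- `k ≥ 1`: then `2m' + k = 2m` forces `k ≥ 2`; two radical vectors both multiples of `w`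
        have hk2 : 2 ≤ k := by omega
        obtain ⟨r0, hr0⟩ : ∃ r0 : Hs, r0 = b (Sum.inr ⟨0, by omega⟩) := ⟨_, rfl⟩
        obtain ⟨r1, hr1⟩ : ∃ r1 : Hs, r1 = b (Sum.inr ⟨1, by omega⟩) := ⟨_, rfl⟩
        -- the radical of `B|_H` is spanned by `w`
        have hrad : ∀ r : Hs, (∀ y : Hs, (B.restrict Hs) r y = 0) →
            ∃ c : F, (r : Fin n → F) = c • w := by
          intro r hr
          -- `B(r, ·)` vanishes on `H = ker ℓ`, so it is a multiple of `ℓ`
          obtain ⟨v0, hv0⟩ : ∃ v0, L v0 ≠ 0 := by
            by_contra hcon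
            push Not at hcon
            exact hL0 (LinearMap.ext hcon)
          refine ⟨gramForm A (r : Fin n → F) v0 / L v0, ?_⟩
          rw [← sub_eq_zero]
          apply hnd
          intro y
          have hy : y - (L y / L v0) • v0 ∈ Hs := by
            rw [hHsdef, LinearMap.mem_ker, map_sub, map_smul, smul_eq_mul, div_mul_cancel₀ _ hv0,
              sub_self]
          have e1 := hr ⟨_, hy⟩
          rw [hres] at e1
          have e3 : y = (y - (L y / L v0) • v0) + (L y / L v0) • v0 := by abel
          have e4 : gramForm A (↑r - (gramForm A (↑r) v0 / L v0) • w) y =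
              gramForm A (↑r) y - (gramForm A (↑r) v0 / L v0) * gramForm A w y := by
            unfold gramForm
            rw [sub_dotProduct, smul_dotProduct, smul_eq_mul]
          rw [e4, hw, ← hL]
          have e5 : gramForm A (↑r) y = (L y / L v0) * gramForm A (↑r) v0 := by
            conv_lhs => rw [e3, gramForm_add_right, e1, zero_add]
            unfold gramForm
            rw [Matrix.mulVec_smul, dotProduct_smul, smul_eq_mul]
          rw [e5]
          field_simp
          ring
        obtain ⟨c0, hc0⟩ := hrad r0 (by rw [hr0]; exact h4 _)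
        obtain ⟨c1, hc1⟩ := hrad r1 (by rw [hr1]; exact h4 _)
        -- linear dependence
        have hdep : c1 • r0 - c0 • r1 = 0 := by
          apply Subtype.ext
          rw [Submodule.coe_sub, Submodule.coe_smul, Submodule.coe_smul, hc0, hc1, smul_smul,
            smul_smul, mul_comm, sub_self]
          rfl
        have hrep := congrArg (fun x => b.repr x (Sum.inr ⟨0, by omega⟩)) hdep
        simp only [map_sub, map_smul, hr0, hr1, b.repr_self, Finsupp.coe_sub, Finsupp.coe_smul,
          Pi.sub_apply, Pi.smul_apply, Finsupp.single_eq_same, map_zero, Finsupp.coe_zero,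
          Pi.zero_apply, smul_eq_mul, mul_one] at hrep
        rw [Finsupp.single_eq_of_ne (by simp [Fin.ext_iff]), mul_zero, sub_zero] at hrep
        have hr1ne : (r1 : Fin n → F) ≠ 0 := by
          intro h0
          rw [hr1] at h0
          exact b.ne_zero _ (Subtype.ext h0)
        apply hr1ne
        rw [hc1, hrep, zero_smul]
    · exact h
  have hk := hk0 htw
  subst hk
  have hm' : m' = m := by
    have := hdimH hL0
    omega
  subst hm'
  refine ⟨w, fun i => ((b (Sum.inl (Sum.inl i)) : Hs) : Fin n → F),
    fun i => ((b (Sum.inl (Sum.inr i)) : Hs) : Fin n → F), ?_, ?_, ?_, ?_, ?_, ?_⟩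
  · rw [hw, htw]
  · intro i
    rw [hw]
    exact (hHmem _).mp (b (Sum.inl (Sum.inl i))).2
  · intro i
    rw [hw]
    exact (hHmem _).mp (b (Sum.inl (Sum.inr i))).2
  · intro i j
    have := h1 i j
    rw [hres] at this
    exact this
  · intro i j
    have := h2' i j
    rw [hres] at this
    exact this
  · intro i j
    have := h3 i j
    rw [hres] at this
    exact this

end Cfsg.Agent.Helper14.AutPSL
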