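import Mathlib
import Cfsg.Agent.Helper14.AutCharTwo7

/-!
Helper14: Albert's normal form as a matrix congruence.
-/

set_option autoImplicit false
set_option linter.unusedSectionVars false

namespace Cfsg.Agent.Helper14.AutPSL

open Matrix Cfsg.Agent.Helper14

variable {n : ℕ} {F : Type*} [Field F] [Fintype F]

theorem Bo_hyp_det (m : ℕ) : (Bo (hypMatrix m F)).det = (-1) ^ m := by
  unfold Bo
  rw [Matrix.det_fromBlocks_zero₂₁, Matrix.det_one, one_mul, hypMatrix_det]

theorem exists_congr_Bo (h2 : (2 : F) = 0) {m : ℕ} (e : Unit ⊕ (Fin m ⊕ Fin m) ≃ Fin n)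
    (g : GL (Fin n) F)
    (hg : (g : Matrix (Fin n) (Fin n) F)ᵀ = (g : Matrix (Fin n) (Fin n) F)) :
    ∃ Q : GL (Fin n) F, (Q : Matrix (Fin n) (Fin n) F) * (g : Matrix (Fin n) (Fin n) F) *
      (Q : Matrix (Fin n) (Fin n) F)ᵀ =
        Matrix.reindexAlgEquiv F F e (Bo (hypMatrix m F)) := by
  have hnm : n = 2 * m + 1 := by
    have := Fintype.card_congr e
    rw [Fintype.card_sum, Fintype.card_sum, Fintype.card_fin, Fintype.card_fin,
      Fintype.card_unit] at this
    omega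
  have hgdet : (g : Matrix (Fin n) (Fin n) F).det ≠ 0 :=
    (Matrix.isUnit_iff_isUnit_det _).mp (Units.isUnit g) |>.ne_zero
  obtain ⟨w, ev, fv, hww, hwe, hwf, hef, hee, hff⟩ := albert_aux h2 hnm _ hg hgdet
  obtain ⟨col, hcol0⟩ : ∃ col : Unit ⊕ (Fin m ⊕ Fin m) → (Fin n → F),
      col = fun a => Sum.elim (fun _ => w) (Sum.elim ev fv) a := ⟨_, rfl⟩
  obtain ⟨G, hGdef⟩ : ∃ G : Matrix (Fin n) (Fin n) F,
      G = fun i j => col (e.symm j) i := ⟨_, rfl⟩
  have hcol : ∀ j, (fun i => G i j) = col (e.symm j) := by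
    intro j
    rw [hGdef]
  have hsym := gramForm_symm hg
  have key : Gᵀ * (g : Matrix (Fin n) (Fin n) F) * G =
      Matrix.reindexAlgEquiv F F e (Bo (hypMatrix m F)) := by
    ext j j'
    rw [mul_mul_apply_eq_gram, hcol, hcol, Matrix.coe_reindexAlgEquiv,
      Matrix.reindex_apply, Matrix.submatrix_apply]
    obtain ⟨a, ha⟩ : ∃ a, a = e.symm j := ⟨_, rfl⟩
    obtain ⟨a', ha'⟩ : ∃ a', a' = e.symm j' := ⟨_, rfl⟩
    rw [← ha, ← ha', hcol0]
    unfold Bo hypMatrix
    rcases a with ⟨⟩ | i | i <;> rcases a' with ⟨⟩ | i' | i'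
    · simp only [Sum.elim_inl, Sum.elim_inr, Matrix.fromBlocks_apply₁₁, Matrix.one_apply_eq]
      exact hww
    · simp only [Sum.elim_inl, Sum.elim_inr, Matrix.fromBlocks_apply₁₂, Matrix.zero_apply]
      exact hwe i'
    · simp only [Sum.elim_inl, Sum.elim_inr, Matrix.fromBlocks_apply₁₂, Matrix.zero_apply]
      exact hwf i'
    · simp only [Sum.elim_inl, Sum.elim_inr, Matrix.fromBlocks_apply₂₁, Matrix.zero_apply]
      rw [hsym]; exact hwe i
    · simp only [Sum.elim_inl, Sum.elim_inr, Matrix.fromBlocks_apply₂₂, Matrix.fromBlocks_apply₁₁,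
        Matrix.zero_apply]
      exact hee i i'
    · simp only [Sum.elim_inl, Sum.elim_inr, Matrix.fromBlocks_apply₂₂, Matrix.fromBlocks_apply₁₂,
        Matrix.one_apply]
      exact hef i i'
    · simp only [Sum.elim_inl, Sum.elim_inr, Matrix.fromBlocks_apply₂₁, Matrix.zero_apply]
      rw [hsym]; exact hwf i
    · simp only [Sum.elim_inl, Sum.elim_inr, Matrix.fromBlocks_apply₂₂, Matrix.fromBlocks_apply₂₁,
        Matrix.transpose_apply, Matrix.one_apply]
      rw [hsym]; exact hef i' i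
    · simp only [Sum.elim_inl, Sum.elim_inr, Matrix.fromBlocks_apply₂₂, Matrix.zero_apply]
      exact hff i i'
  have hdet : G.det ≠ 0 := by
    intro h0
    have hJ : (Matrix.reindexAlgEquiv F F e (Bo (hypMatrix m F))).det ≠ 0 := by
      rw [Matrix.coe_reindexAlgEquiv, Matrix.reindex_apply,
        Matrix.det_submatrix_equiv_self, Bo_hyp_det]
      exact pow_ne_zero _ (neg_ne_zero.mpr one_ne_zero)
    apply hJ
    rw [← key, Matrix.det_mul, Matrix.det_mul, h0, mul_zero]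
  refine ⟨Matrix.GeneralLinearGroup.mkOfDetNeZero Gᵀ (by rwa [Matrix.det_transpose]), ?_⟩
  show Gᵀ * (g : Matrix (Fin n) (Fin n) F) * Gᵀᵀ = _
  rw [Matrix.transpose_transpose, key]

end Cfsg.Agent.Helper14.AutPSL
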