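import Mathlib
import Cfsg.Agent.Helper14.AutGraph4

/-!
Helper14: the centraliser of the inverse-transpose automorphism of `PSL_{2m}(q)`, `q` odd.
-/

set_option autoImplicit false
set_option linter.unusedSectionVars false

namespace Cfsg.Agent.Helper14.AutPSL

open Matrix Cfsg.Agent.Helper14

variable {F : Type*} [Field F] [Fintype F]

theorem two_ne_zero_of_odd_card (hodd : Odd (Fintype.card F)) : (2 : F) ≠ 0 := by
  intro h0
  have h1 : ringChar F = 2 := CharP.ringChar_of_prime_eq_zero Nat.prime_two (by exact_mod_cast h0)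
  have h2 := FiniteField.even_card_of_char_two h1
  rw [Nat.odd_iff] at hodd
  omega

theorem inverse_transpose_centralizer (hodd : Odd (Fintype.card F)) {n m : ℕ} (hm : 2 ≤ m)
    (hnm : n = 2 * m) :
    (Even (n * (Fintype.card F - 1) / 4) →
      Nonempty (↥(Cfsg.inndiagPSL n F ⊓ Subgroup.centralizer
        {(pslOf slInvT : MulAut (Matrix.ProjectiveSpecialLinearGroup (Fin n) F))}) ≃*
        Cfsg.PGO F (Cfsg.quadFormPlus m F))) ∧
    (¬ Even (n * (Fintype.card F - 1) / 4) →
      ∃ a b : F, (∀ z₁ z₂ : F, z₁ ^ 2 + a * z₁ * z₂ + b * z₂ ^ 2 = 0 → z₁ = 0 ∧ z₂ = 0) ∧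
      Nonempty (↥(Cfsg.inndiagPSL n F ⊓ Subgroup.centralizer
        {(pslOf slInvT : MulAut (Matrix.ProjectiveSpecialLinearGroup (Fin n) F))}) ≃*
        Cfsg.PGO F (Cfsg.quadFormMinus (m - 1) F a b))) := by
  have h2 : (2 : F) ≠ 0 := two_ne_zero_of_odd_card hodd
  have hn : 2 ≤ n := by omega
  obtain ⟨k, hk⟩ := hodd
  have hdiv : n * (Fintype.card F - 1) / 4 = m * k := by
    rw [hnm, hk]
    have : 2 * m * (2 * k + 1 - 1) = 4 * (m * k) := by
      rw [Nat.add_sub_cancel]
      ring
    rw [this, Nat.mul_div_cancel_left _ (by norm_num : 0 < 4)]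
  rw [hdiv]
  have hsqm1 : Even k → IsSquare (-1 : F) := by
    intro hke
    rw [FiniteField.isSquare_neg_one_iff, hk]
    obtain ⟨j, hj⟩ := hke
    omega
  constructor
  · intro hev
    have hsq : IsSquare ((-1 : F) ^ m) := by
      rcases Nat.even_mul.mp hev with hme | hke
      · obtain ⟨j, hj⟩ := hme
        exact ⟨(-1) ^ j, by rw [hj, pow_add]⟩
      · exact (hsqm1 hke).pow m
    have hcard : Fintype.card (Fin m ⊕ Fin m) = n := by
      rw [Fintype.card_sum, Fintype.card_fin, hnm]
      ring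
    exact centralizer_invT_quad h2 hn (Fintype.equivFinOfCardEq hcard) (Cfsg.quadFormPlus m F)
      (hypMatrix m F) (hypMatrix_transpose m)
      (by rw [hypMatrix_det]; exact pow_ne_zero _ (neg_ne_zero.mpr one_ne_zero))
      (two_mul_quadFormPlus m) (by rw [hypMatrix_det]; exact hsq)
  · intro hev
    rw [Nat.even_mul, not_or] at hev
    obtain ⟨hmo, hko⟩ := hev
    have hns : ¬ IsSquare (-1 : F) := by
      rw [FiniteField.isSquare_neg_one_iff, hk]
      rw [Nat.not_even_iff_odd] at hko
      obtain ⟨j, hj⟩ := hko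
      omega
    refine ⟨0, 1, ?_, ?_⟩
    · intro z₁ z₂ hz
      have hz' : z₁ ^ 2 = -(z₂ ^ 2) := by linear_combination hz
      by_cases hz2 : z₂ = 0
      · rw [hz2] at hz'
        have : z₁ ^ 2 = 0 := by rw [hz']; ring
        exact ⟨pow_eq_zero_iff (by norm_num) |>.mp this, hz2⟩
      · exfalso
        apply hns
        refine ⟨z₁ / z₂, ?_⟩
        field_simp
        linear_combination -hz'
    · have hcard : Fintype.card ((Fin (m - 1) ⊕ Fin (m - 1)) ⊕ Fin 2) = n := by
        rw [Fintype.card_sum, Fintype.card_sum, Fintype.card_fin, Fintype.card_fin, hnm]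
        omega
      have hme : Even (m - 1) := by
        rw [Nat.not_even_iff_odd] at hmo
        obtain ⟨j, hj⟩ := hmo
        exact ⟨j, by omega⟩
      have hdet : (minusMatrix (m - 1) (0 : F) 1).det = 4 := by
        rw [minusMatrix_det, hme.neg_one_pow]
        ring
      have h4 : (4 : F) ≠ 0 := by
        have : (4 : F) = 2 * 2 := by norm_num
        rw [this]
        exact mul_ne_zero h2 h2
      exact centralizer_invT_quad h2 hn (Fintype.equivFinOfCardEq hcard)
        (Cfsg.quadFormMinus (m - 1) F 0 1) (minusMatrix (m - 1) 0 1) (minusMatrix_transpose _ _ _)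
        (by rw [hdet]; exact h4) (two_mul_quadFormMinus _ _ _)
        (by rw [hdet]; exact ⟨2, by norm_num⟩)

end Cfsg.Agent.Helper14.AutPSL
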