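import Mathlib
import Cfsg.Agent.Helper14.AutGraph7
import Cfsg.Agent.Helper14.AutGraph5

/-!
Helper14: involutory graph automorphisms of `PSL_{2m}(q)`, `q` odd: three classes under the
inner-diagonal group, with centralisers `PGSp`, `PGO⁺`, `PGO⁻`.
-/

set_option autoImplicit false
set_option linter.unusedSectionVars false

namespace Cfsg.Agent.Helper14.AutPSL

open Matrix Cfsg.Agent.Helper14

variable {n : ℕ} {F : Type*} [Field F]

/-- a skew and a symmetric Gram matrix give non-conjugate graph automorphisms -/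
theorem not_isConjUnder_skew_symm (h2 : (2 : F) ≠ 0) (hn : 2 ≤ n) (g g' : GL (Fin n) F)
    (hg : (g : Matrix (Fin n) (Fin n) F)ᵀ = -(g : Matrix (Fin n) (Fin n) F))
    (hg' : (g' : Matrix (Fin n) (Fin n) F)ᵀ = (g' : Matrix (Fin n) (Fin n) F)) :
    ¬ Cfsg.IsConjUnder (Cfsg.inndiagPSL n F) (gph g) (gph g') := by
  intro h
  obtain ⟨P, μ, hμ⟩ := exists_congr_of_isConjUnder hn h
  have h1 := congrArg Matrix.transpose hμ
  rw [hg', Matrix.transpose_smul, Matrix.transpose_mul, Matrix.transpose_mul,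
    Matrix.transpose_transpose, hg, Matrix.neg_mul, Matrix.mul_neg, ← Matrix.mul_assoc, smul_neg,
    ← hμ] at h1
  have h0 : (g' : Matrix (Fin n) (Fin n) F) = 0 := by
    have h3 : (2 : F) • (g' : Matrix (Fin n) (Fin n) F) = 0 := by
      rw [two_smul]
      nth_rewrite 1 [h1]
      exact neg_add_cancel _
    rcases smul_eq_zero.mp h3 with h | h
    · exact absurd h h2
    · exact h
  have hu : IsUnit (g' : Matrix (Fin n) (Fin n) F) := Units.isUnit g'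
  rw [h0] at hu
  have : Nonempty (Fin n) := ⟨⟨0, by omega⟩⟩
  exact not_isUnit_zero hu

/-- in even dimension the discriminant is an invariant of the class -/
theorem not_isConjUnder_of_disc {m : ℕ} (hnm : n = 2 * m) (hn : 2 ≤ n) (g g' : GL (Fin n) F)
    (hd : ¬ IsSquare ((g : Matrix (Fin n) (Fin n) F).det * (g' : Matrix (Fin n) (Fin n) F).det)) :
    ¬ Cfsg.IsConjUnder (Cfsg.inndiagPSL n F) (gph g) (gph g') := by
  intro h
  obtain ⟨P, μ, hμ⟩ := exists_congr_of_isConjUnder hn h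
  apply hd
  refine ⟨(μ : F) ^ m * (P : Matrix (Fin n) (Fin n) F).det * (g : Matrix (Fin n) (Fin n) F).det, ?_⟩
  have hpow : (μ : F) ^ n = (μ : F) ^ m * (μ : F) ^ m := by rw [hnm, two_mul, pow_add]
  rw [hμ, Matrix.det_smul, Matrix.det_mul, Matrix.det_mul, Matrix.det_transpose, Fintype.card_fin,
    hpow]
  ring

theorem isSquare_mul_or [Fintype F] {x y z : F} (hx : x ≠ 0) (hy : y ≠ 0)
    (hz : z ≠ 0) (hxy : ¬ IsSquare (x * y)) : IsSquare (x * z) ∨ IsSquare (y * z) := by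
  classical
  have hxy' := quadraticChar_neg_one_iff_not_isSquare.mpr hxy
  rw [map_mul] at hxy'
  rw [← quadraticChar_one_iff_isSquare (mul_ne_zero hx hz),
    ← quadraticChar_one_iff_isSquare (mul_ne_zero hy hz), map_mul, map_mul]
  rcases quadraticChar_dichotomy hx with h1 | h1 <;> rcases quadraticChar_dichotomy hy with h3 | h3 <;>
    rcases quadraticChar_dichotomy hz with h4 | h4 <;> rw [h1, h3] at hxy' <;> rw [h1, h3, h4] <;>
    simp at hxy' ⊢

/-- involutory graph automorphisms of `PSL_{2m}(q)`, `q` odd -/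
theorem graph_aut_even_dim_odd_q [Fintype F] (hodd : Odd (Fintype.card F)) {m : ℕ} (hm : 2 ≤ m)
    (hnm : n = 2 * m) :
    ∃ (γ₁ γ₂ γ₃ : MulAut (Matrix.ProjectiveSpecialLinearGroup (Fin n) F)) (a b : F),
      (∀ z₁ z₂ : F, z₁ ^ 2 + a * z₁ * z₂ + b * z₂ ^ 2 = 0 → z₁ = 0 ∧ z₂ = 0) ∧
      Cfsg.IsGraphAutClassPSL γ₁ ∧ orderOf γ₁ = 2 ∧ Cfsg.IsGraphAutClassPSL γ₂ ∧ orderOf γ₂ = 2 ∧
      Cfsg.IsGraphAutClassPSL γ₃ ∧ orderOf γ₃ = 2 ∧
      ¬ Cfsg.IsConjUnder (Cfsg.inndiagPSL n F) γ₁ γ₂ ∧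
      ¬ Cfsg.IsConjUnder (Cfsg.inndiagPSL n F) γ₁ γ₃ ∧
      ¬ Cfsg.IsConjUnder (Cfsg.inndiagPSL n F) γ₂ γ₃ ∧
      (∀ γ : MulAut (Matrix.ProjectiveSpecialLinearGroup (Fin n) F), Cfsg.IsGraphAutClassPSL γ →
        orderOf γ = 2 → Cfsg.IsConjUnder (Cfsg.inndiagPSL n F) γ₁ γ ∨
          Cfsg.IsConjUnder (Cfsg.inndiagPSL n F) γ₂ γ ∨
          Cfsg.IsConjUnder (Cfsg.inndiagPSL n F) γ₃ γ) ∧
      Nonempty (↥(Cfsg.inndiagPSL n F ⊓ Subgroup.centralizer {γ₁}) ≃* Cfsg.PGSp m F) ∧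
      Nonempty (↥(Cfsg.inndiagPSL n F ⊓ Subgroup.centralizer {γ₂}) ≃*
        Cfsg.PGO F (Cfsg.quadFormPlus m F)) ∧
      Nonempty (↥(Cfsg.inndiagPSL n F ⊓ Subgroup.centralizer {γ₃}) ≃*
        Cfsg.PGO F (Cfsg.quadFormMinus (m - 1) F a b)) := by
  classical
  have h2 : (2 : F) ≠ 0 := two_ne_zero_of_odd_card hodd
  have hn : 2 ≤ n := by omega
  have h3 : 3 ≤ n := by omega
  obtain ⟨α, hα⟩ := FiniteField.exists_nonsquare (F := F)
    (Cfsg.Agent.Helper13.ringChar_ne_two_of_two_ne_zero h2)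
  have hα0 : α ≠ 0 := by
    rintro rfl
    exact hα ⟨0, by ring⟩
  have hcard₁ : Fintype.card (Fin m ⊕ Fin m) = n := by
    rw [Fintype.card_sum, Fintype.card_fin, hnm]
    ring
  have hcard₃ : Fintype.card ((Fin (m - 1) ⊕ Fin (m - 1)) ⊕ Fin 2) = n := by
    rw [Fintype.card_sum, Fintype.card_sum, Fintype.card_fin, Fintype.card_fin, hnm]
    omega
  obtain ⟨e₁, -⟩ : ∃ e₁ : Fin m ⊕ Fin m ≃ Fin n, e₁ = e₁ := ⟨Fintype.equivFinOfCardEq hcard₁, rfl⟩
  obtain ⟨e₃, -⟩ : ∃ e₃ : (Fin (m - 1) ⊕ Fin (m - 1)) ⊕ Fin 2 ≃ Fin n, e₃ = e₃ :=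
    ⟨Fintype.equivFinOfCardEq hcard₃, rfl⟩
  have h4 : (4 : F) ≠ 0 := by
    have : (4 : F) = 2 * 2 := by norm_num
    rw [this]
    exact mul_ne_zero h2 h2
  -- the three Gram matrices
  have hJdet : (Matrix.J (Fin m) F).det ≠ 0 := (Matrix.isUnit_det_J (Fin m) F).ne_zero
  have hHdet : (hypMatrix m F).det ≠ 0 := by
    rw [hypMatrix_det]; exact pow_ne_zero _ (neg_ne_zero.mpr one_ne_zero)
  have hMdet' : (minusMatrix (m - 1) (0 : F) (-α)).det = (-1) ^ m * (4 * α) := by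
    rw [minusMatrix_det]
    have : m = (m - 1) + 1 := by omega
    nth_rewrite 2 [this]
    rw [pow_succ]
    ring
  have hMdet : (minusMatrix (m - 1) (0 : F) (-α)).det ≠ 0 := by
    rw [hMdet']
    exact mul_ne_zero (pow_ne_zero _ (neg_ne_zero.mpr one_ne_zero)) (mul_ne_zero h4 hα0)
  obtain ⟨Jg, hJg⟩ : ∃ Jg : GL (Fin m ⊕ Fin m) F,
      (Jg : Matrix (Fin m ⊕ Fin m) (Fin m ⊕ Fin m) F) = Matrix.J (Fin m) F :=
    ⟨Matrix.GeneralLinearGroup.mkOfDetNeZero _ hJdet, rfl⟩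
  obtain ⟨Hg, hHg⟩ : ∃ Hg : GL (Fin m ⊕ Fin m) F,
      (Hg : Matrix (Fin m ⊕ Fin m) (Fin m ⊕ Fin m) F) = hypMatrix m F :=
    ⟨Matrix.GeneralLinearGroup.mkOfDetNeZero _ hHdet, rfl⟩
  obtain ⟨Mg, hMg⟩ : ∃ Mg : GL ((Fin (m - 1) ⊕ Fin (m - 1)) ⊕ Fin 2) F,
      (Mg : Matrix ((Fin (m - 1) ⊕ Fin (m - 1)) ⊕ Fin 2) ((Fin (m - 1) ⊕ Fin (m - 1)) ⊕ Fin 2) F) =
        minusMatrix (m - 1) 0 (-α) :=
    ⟨Matrix.GeneralLinearGroup.mkOfDetNeZero _ hMdet, rfl⟩
  have hg₁c : ((glReindex e₁ Jg : GL (Fin n) F) : Matrix (Fin n) (Fin n) F) =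
      Matrix.reindexAlgEquiv F F e₁ (Matrix.J (Fin m) F) := by rw [glReindex_coe, hJg]
  have hg₂c : ((glReindex e₁ Hg : GL (Fin n) F) : Matrix (Fin n) (Fin n) F) =
      Matrix.reindexAlgEquiv F F e₁ (hypMatrix m F) := by rw [glReindex_coe, hHg]
  have hg₃c : ((glReindex e₃ Mg : GL (Fin n) F) : Matrix (Fin n) (Fin n) F) =
      Matrix.reindexAlgEquiv F F e₃ (minusMatrix (m - 1) 0 (-α)) := by rw [glReindex_coe, hMg]
  have hg₁T : ((glReindex e₁ Jg : GL (Fin n) F) : Matrix (Fin n) (Fin n) F)ᵀ =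
      -((glReindex e₁ Jg : GL (Fin n) F) : Matrix (Fin n) (Fin n) F) := by
    rw [hg₁c, reindex_transpose, Matrix.J_transpose, map_neg]
  have hg₂T : ((glReindex e₁ Hg : GL (Fin n) F) : Matrix (Fin n) (Fin n) F)ᵀ =
      ((glReindex e₁ Hg : GL (Fin n) F) : Matrix (Fin n) (Fin n) F) := by
    rw [hg₂c, reindex_transpose, hypMatrix_transpose]
  have hg₃T : ((glReindex e₃ Mg : GL (Fin n) F) : Matrix (Fin n) (Fin n) F)ᵀ =
      ((glReindex e₃ Mg : GL (Fin n) F) : Matrix (Fin n) (Fin n) F) := by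
    rw [hg₃c, reindex_transpose, minusMatrix_transpose]
  have hg₂d : ((glReindex e₁ Hg : GL (Fin n) F) : Matrix (Fin n) (Fin n) F).det = (-1) ^ m := by
    rw [hg₂c, Matrix.coe_reindexAlgEquiv, Matrix.reindex_apply, Matrix.det_submatrix_equiv_self,
      hypMatrix_det]
  have hg₃d : ((glReindex e₃ Mg : GL (Fin n) F) : Matrix (Fin n) (Fin n) F).det =
      (-1) ^ m * (4 * α) := by
    rw [hg₃c, Matrix.coe_reindexAlgEquiv, Matrix.reindex_apply, Matrix.det_submatrix_equiv_self,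
      hMdet']
  have hdisc : ¬ IsSquare (((glReindex e₁ Hg : GL (Fin n) F) : Matrix (Fin n) (Fin n) F).det *
      ((glReindex e₃ Mg : GL (Fin n) F) : Matrix (Fin n) (Fin n) F).det) := by
    rw [hg₂d, hg₃d]
    rintro ⟨s, hs⟩
    apply hα
    refine ⟨s / 2, ?_⟩
    have h5 : ((-1 : F) ^ m) * ((-1) ^ m) = 1 := by
      rw [← mul_pow]; norm_num
    field_simp
    linear_combination hs - (4 * α) * h5
  refine ⟨gph (glReindex e₁ Jg), gph (glReindex e₁ Hg), gph (glReindex e₃ Mg), 0, -α, ?_,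
    isGraphAutClass_gph h3 _, ?_, isGraphAutClass_gph h3 _, ?_, isGraphAutClass_gph h3 _, ?_,
    ?_, ?_, ?_, ?_, ?_, ?_, ?_⟩
  · intro z₁ z₂ hz
    have hz' : z₁ ^ 2 = α * z₂ ^ 2 := by linear_combination hz
    by_cases hz2 : z₂ = 0
    · rw [hz2] at hz'
      have : z₁ ^ 2 = 0 := by rw [hz']; ring
      exact ⟨pow_eq_zero_iff (by norm_num) |>.mp this, hz2⟩
    · exfalso
      apply hα
      refine ⟨z₁ / z₂, ?_⟩
      field_simp
      linear_combination -hz'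
  · apply orderOf_gph_eq_two h3 _ (-1)
    rw [hg₁T, Units.val_neg, Units.val_one, neg_smul, one_smul]
  · apply orderOf_gph_eq_two h3 _ 1
    rw [hg₂T, Units.val_one, one_smul]
  · apply orderOf_gph_eq_two h3 _ 1
    rw [hg₃T, Units.val_one, one_smul]
  · exact not_isConjUnder_skew_symm h2 hn _ _ hg₁T hg₂T
  · exact not_isConjUnder_skew_symm h2 hn _ _ hg₁T hg₃T
  · exact not_isConjUnder_of_disc hnm hn _ _ hdisc
  · intro γ hγ hγ2
    obtain ⟨g, rfl⟩ := exists_gph_of_isGraphAutClass hγ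
    have hgd : (g : Matrix (Fin n) (Fin n) F).det ≠ 0 :=
      ((Matrix.isUnit_iff_isUnit_det _).mp (Units.isUnit g)).ne_zero
    rcases symm_or_skew_of_orderOf_gph hn g hγ2 with hs | hs
    · right
      have hd2 : ((glReindex e₁ Hg : GL (Fin n) F) : Matrix (Fin n) (Fin n) F).det ≠ 0 :=
        ((Matrix.isUnit_iff_isUnit_det _).mp (Units.isUnit _)).ne_zero
      have hd3 : ((glReindex e₃ Mg : GL (Fin n) F) : Matrix (Fin n) (Fin n) F).det ≠ 0 :=
        ((Matrix.isUnit_iff_isUnit_det _).mp (Units.isUnit _)).ne_zero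
      rcases isSquare_mul_or hd2 hd3 hgd hdisc with hsq | hsq
      · left
        obtain ⟨P, hP⟩ := exists_congr_of_disc h2 (by rw [Fintype.card_fin]; omega) _ _ hg₂T hs hd2
          hgd hsq
        exact isConjUnder_gph_congr P _ _ hP
      · right
        obtain ⟨P, hP⟩ := exists_congr_of_disc h2 (by rw [Fintype.card_fin]; omega) _ _ hg₃T hs hd3
          hgd hsq
        exact isConjUnder_gph_congr P _ _ hP
    · left
      obtain ⟨Q, hQ⟩ := exists_congr_J h2 e₁ g hs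
      apply isConjUnder_symm
      apply isConjUnder_gph_of_congr_smul hn Q g _ (-1)
      rw [hQ, hg₁c, Units.val_neg, Units.val_one, neg_smul, one_smul, neg_neg]
  · have e := graphCentEquiv hn e₁ Jg
    have hform : gramForm (Jg : Matrix (Fin m ⊕ Fin m) (Fin m ⊕ Fin m) F) = Cfsg.sympForm m F := by
      funext u v
      rw [hJg]
      rfl
    rw [hform] at e
    exact ⟨e⟩
  · exact centralizer_gph_quad h2 hn e₁ (Cfsg.quadFormPlus m F) Hg
      (by rw [hHg]; exact hypMatrix_transpose m) (by rw [hHg]; exact two_mul_quadFormPlus m)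
  · exact centralizer_gph_quad h2 hn e₃ (Cfsg.quadFormMinus (m - 1) F 0 (-α)) Mg
      (by rw [hMg]; exact minusMatrix_transpose _ _ _)
      (by rw [hMg]; exact two_mul_quadFormMinus _ _ _)

end Cfsg.Agent.Helper14.AutPSL
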