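import Mathlib
import Cfsg.Agent.Helper14.AutGraph6
import Cfsg.Agent.Helper14.AutSplitGen
import Cfsg.Agent.Helper14.AutCyc

/-!
Helper14: class splitting of the graph automorphisms `c(g) ι` of `PSL_n(q)`: the general formula,
and the case `n` odd or `q` even.
-/

set_option autoImplicit false
set_option linter.unusedSectionVars false

namespace Cfsg.Agent.Helper14.AutPSL

open Matrix Cfsg.Agent.Helper14

variable {n : ℕ} {F : Type*} [Field F]

theorem splitClassCount_gph (hn : 2 ≤ n) (g : GL (Fin n) F) :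
    Cfsg.splitClassCount (Cfsg.inndiagPSL n F)
      (Cfsg.Inn (Matrix.ProjectiveSpecialLinearGroup (Fin n) F)) (gph g) = (PC (simT g)).index :=
  splitClassCount_gen (gph g) (simT g) (map_simT g) hn

theorem det_sq_of_mem_simT (hn : 2 ≤ n) {g h : GL (Fin n) F} (hh : h ∈ simT g) :
    ∃ μ : Fˣ, (Matrix.GeneralLinearGroup.det h) ^ 2 = μ ^ n ∧
      (h : Matrix (Fin n) (Fin n) F) * (g : Matrix (Fin n) (Fin n) F) *
        (h : Matrix (Fin n) (Fin n) F)ᵀ = (μ : F) • (g : Matrix (Fin n) (Fin n) F) := by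
  obtain ⟨μ, hμ⟩ := (mem_simT hn g h).mp hh
  refine ⟨μ, ?_, hμ⟩
  have hgd : (g : Matrix (Fin n) (Fin n) F).det ≠ 0 :=
    ((Matrix.isUnit_iff_isUnit_det _).mp (Units.isUnit g)).ne_zero
  have h1 := congrArg Matrix.det hμ
  rw [Matrix.det_mul, Matrix.det_mul, Matrix.det_transpose, Matrix.det_smul, Fintype.card_fin] at h1
  apply Units.ext
  rw [Units.val_pow_eq_pow_val, Units.val_pow_eq_pow_val, Matrix.GeneralLinearGroup.val_det_apply]
  apply mul_right_cancel₀ hgd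
  rw [← h1]
  ring

theorem mem_pow_range_of_sq [Fintype F] (hcase : Odd n ∨ (2 : F) = 0) {d μ : Fˣ}
    (h : d ^ 2 = μ ^ n) : d ∈ (powMonoidHom n : Fˣ →* Fˣ).range := by
  have hsq : ∀ {x y : Fˣ}, x ^ 2 = y ^ 2 → x = y ∨ x = -y := by
    intro x y hxy
    have h1 : (x : F) ^ 2 = (y : F) ^ 2 := by
      rw [← Units.val_pow_eq_pow_val, ← Units.val_pow_eq_pow_val, hxy]
    rcases sq_eq_sq_iff_eq_or_eq_neg.mp h1 with h2 | h2
    · left; exact Units.ext h2
    · right; apply Units.ext; rw [Units.val_neg]; exact h2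
  rcases hcase with hodd | h2
  · obtain ⟨k, hk⟩ := hodd
    obtain ⟨ν, hν⟩ : ∃ ν : Fˣ, ν = d * (μ ^ k)⁻¹ := ⟨_, rfl⟩
    have hν2 : ν ^ 2 = μ := by
      rw [hν, mul_pow, h, hk, inv_pow, ← pow_mul, pow_succ, mul_comm k 2]
      rw [mul_comm (μ ^ (2 * k)) μ, mul_assoc, mul_inv_cancel, mul_one]
    have h3 : (ν ^ n) ^ 2 = d ^ 2 := by
      rw [← pow_mul, mul_comm, pow_mul, hν2, h]
    rcases hsq h3 with h4 | h4
    · exact ⟨ν, h4⟩
    · refine ⟨-ν, ?_⟩
      rw [powMonoidHom_apply, Odd.neg_pow ⟨k, hk⟩, h4, neg_neg]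
  · have hchar : ringChar F = 2 := CharP.ringChar_of_prime_eq_zero Nat.prime_two (by exact_mod_cast h2)
    obtain ⟨ν₀, hν₀⟩ := FiniteField.isSquare_of_char_two hchar (μ : F)
    have hν₀0 : ν₀ ≠ 0 := by
      rintro rfl
      rw [mul_zero] at hν₀
      exact μ.ne_zero hν₀
    obtain ⟨ν, hν⟩ : ∃ ν : Fˣ, (ν : F) = ν₀ := ⟨Units.mk0 ν₀ hν₀0, rfl⟩
    have hν2 : ν ^ 2 = μ := by
      apply Units.ext
      rw [Units.val_pow_eq_pow_val, hν, hν₀, pow_two]
    have h3 : (ν ^ n) ^ 2 = d ^ 2 := by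
      rw [← pow_mul, mul_comm, pow_mul, hν2, h]
    have hneg : -d = d := by
      apply Units.ext
      rw [Units.val_neg]
      have : (d : F) + (d : F) = 0 := by rw [← two_mul, h2, zero_mul]
      exact neg_eq_of_add_eq_zero_left this
    rcases hsq h3 with h4 | h4
    · exact ⟨ν, h4⟩
    · exact ⟨ν, by rw [powMonoidHom_apply, h4, hneg]⟩

theorem index_pow_range [Fintype F] (k : ℕ) :
    ((powMonoidHom k : Fˣ →* Fˣ).range).index = Nat.gcd k (Fintype.card F - 1) := by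
  have := index_pow_sup (G := Fˣ) k ⊥
  rw [sup_bot_eq, Subgroup.card_bot, Nat.div_one, Nat.card_units, Nat.card_eq_fintype_card] at this
  exact this

/-- class splitting for `n` odd or `q` even -/
theorem splitClassCount_gph_of_odd_or_even [Fintype F] (hn : 2 ≤ n) (hcase : Odd n ∨ (2 : F) = 0)
    (g : GL (Fin n) F) :
    Cfsg.splitClassCount (Cfsg.inndiagPSL n F)
      (Cfsg.Inn (Matrix.ProjectiveSpecialLinearGroup (Fin n) F)) (gph g) =
      Nat.gcd n (Fintype.card F - 1) := by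
  rw [splitClassCount_gph hn, ← index_pow_range]
  congr 1
  unfold PC
  rw [sup_eq_left]
  rintro _ ⟨h, hh, rfl⟩
  obtain ⟨μ, hμ, -⟩ := det_sq_of_mem_simT hn hh
  exact mem_pow_range_of_sq hcase hμ

end Cfsg.Agent.Helper14.AutPSL
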