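import Mathlib
import Cfsg.Agent.Helper14.AutGraph9
import Cfsg.Agent.Helper14.AutGraph8

/-!
Helper14: class splitting of the involutory graph automorphisms of `PSL_{2m}(q)`, `q` odd:
symplectic type `gcd(m, q-1)`, orthogonal type `gcd(m, (q-1)/2)`.
-/

set_option autoImplicit false
set_option linter.unusedSectionVars false

namespace Cfsg.Agent.Helper14.AutPSL

open Matrix Cfsg.Agent.Helper14

variable {n : ℕ} {F : Type*} [Field F]

theorem splitClassCount_eq_of_isConjUnder [Fintype F] (hn : 2 ≤ n)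
    {x y : MulAut (Matrix.ProjectiveSpecialLinearGroup (Fin n) F)}
    (h : Cfsg.IsConjUnder (Cfsg.inndiagPSL n F) x y) :
    Cfsg.splitClassCount (Cfsg.inndiagPSL n F)
      (Cfsg.Inn (Matrix.ProjectiveSpecialLinearGroup (Fin n) F)) y =
    Cfsg.splitClassCount (Cfsg.inndiagPSL n F)
      (Cfsg.Inn (Matrix.ProjectiveSpecialLinearGroup (Fin n) F)) x := by
  have hHn : (Cfsg.inndiagPSL n F).Normal := inndiag_normal' hn
  have hKn : (Cfsg.Inn (Matrix.ProjectiveSpecialLinearGroup (Fin n) F)).Normal := Inn_normal _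
  obtain ⟨a, -, rfl⟩ := h
  exact splitClassCount_conj _ _ a x

/-! ### symplectic type -/

section symp
variable {m : ℕ}

/-- `diag(c, …, c, 1, …, 1)` -/
def dmu (m : ℕ) (c : F) : Matrix (Fin m ⊕ Fin m) (Fin m ⊕ Fin m) F :=
  Matrix.fromBlocks (c • (1 : Matrix (Fin m) (Fin m) F)) 0 0 1

theorem dmu_J (c : F) : dmu m c * Matrix.J (Fin m) F * (dmu m c)ᵀ = c • Matrix.J (Fin m) F := by
  unfold dmu Matrix.J
  rw [Matrix.fromBlocks_transpose, Matrix.fromBlocks_multiply, Matrix.fromBlocks_multiply,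
    Matrix.fromBlocks_smul]
  simp

theorem dmu_det (c : F) : (dmu m c).det = c ^ m := by
  unfold dmu
  rw [Matrix.det_fromBlocks_zero₂₁, Matrix.det_one, mul_one, Matrix.det_smul, Matrix.det_one,
    mul_one, Fintype.card_fin]

theorem det_of_J_sim (A : Matrix (Fin m ⊕ Fin m) (Fin m ⊕ Fin m) F) (μ : Fˣ)
    (hA : A * Matrix.J (Fin m) F * Aᵀ = (μ : F) • Matrix.J (Fin m) F) : A.det = (μ : F) ^ m := by
  have hs : dmu m ((μ⁻¹ : Fˣ) : F) * A ∈ Matrix.symplecticGroup (Fin m) F := by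
    rw [_root_.SymplecticGroup.mem_iff, Matrix.transpose_mul]
    calc dmu m ((μ⁻¹ : Fˣ) : F) * A * Matrix.J (Fin m) F * (Aᵀ * (dmu m ((μ⁻¹ : Fˣ) : F))ᵀ)
        = dmu m ((μ⁻¹ : Fˣ) : F) * (A * Matrix.J (Fin m) F * Aᵀ) * (dmu m ((μ⁻¹ : Fˣ) : F))ᵀ := by
          simp only [Matrix.mul_assoc]
      _ = Matrix.J (Fin m) F := by
          rw [hA, Matrix.mul_smul, Matrix.smul_mul, dmu_J, smul_smul, ← Units.val_mul,
            mul_inv_cancel, Units.val_one, one_smul]
  have h1 := _root_.SymplecticGroup.det_eq_one hs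
  rw [Matrix.det_mul, dmu_det] at h1
  have h2 : ((μ⁻¹ : Fˣ) : F) ^ m * (μ : F) ^ m = 1 := by
    rw [← mul_pow, ← Units.val_mul, inv_mul_cancel, Units.val_one, one_pow]
  have h3 : ((μ⁻¹ : Fˣ) : F) ^ m ≠ 0 := pow_ne_zero _ (Units.ne_zero _)
  apply mul_left_cancel₀ h3
  rw [h1, h2]

theorem PC_simT_J (hn : 2 ≤ n) (hnm : n = 2 * m) (e : Fin m ⊕ Fin m ≃ Fin n)
    (g₁ : GL (Fin n) F)
    (hg₁ : (g₁ : Matrix (Fin n) (Fin n) F) = Matrix.reindexAlgEquiv F F e (Matrix.J (Fin m) F)) :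
    PC (simT g₁) = (powMonoidHom m : Fˣ →* Fˣ).range := by
  unfold PC
  apply le_antisymm
  · apply sup_le
    · rintro _ ⟨x, rfl⟩
      refine ⟨x ^ 2, ?_⟩
      rw [powMonoidHom_apply, powMonoidHom_apply, ← pow_mul, hnm]
    · rintro _ ⟨h, hh, rfl⟩
      obtain ⟨μ, hμ⟩ := (mem_simT hn g₁ h).mp hh
      refine ⟨μ, ?_⟩
      rw [powMonoidHom_apply]
      apply Units.ext
      rw [Units.val_pow_eq_pow_val, Matrix.GeneralLinearGroup.val_det_apply]
      obtain ⟨A, hA⟩ : ∃ A, Matrix.reindexAlgEquiv F F e A = (h : Matrix (Fin n) (Fin n) F) :=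
        (Matrix.reindexAlgEquiv F F e).surjective _
      have hdet : (h : Matrix (Fin n) (Fin n) F).det = A.det := by
        rw [← hA, Matrix.coe_reindexAlgEquiv, Matrix.reindex_apply, Matrix.det_submatrix_equiv_self]
      rw [hdet]
      symm
      apply det_of_J_sim
      apply (Matrix.reindexAlgEquiv F F e).injective
      rw [map_mul, map_mul, ← reindex_transpose, hA, ← hg₁, hμ, map_smul, hg₁]
  · rintro _ ⟨μ, rfl⟩
    apply Subgroup.mem_sup_right
    have hd : (dmu m (μ : F)).det ≠ 0 := by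
      rw [dmu_det]
      exact pow_ne_zero _ μ.ne_zero
    refine ⟨glReindex e (Matrix.GeneralLinearGroup.mkOfDetNeZero _ hd), ?_, ?_⟩
    · apply (mem_simT hn g₁ _).mpr
      refine ⟨μ, ?_⟩
      rw [glReindex_coe, hg₁, reindex_transpose, ← map_mul, ← map_mul, ← map_smul]
      congr 1
      exact dmu_J (μ : F)
    · apply Units.ext
      rw [Matrix.GeneralLinearGroup.val_det_apply, glReindex_coe, Matrix.coe_reindexAlgEquiv,
        Matrix.reindex_apply, Matrix.det_submatrix_equiv_self, powMonoidHom_apply,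
        Units.val_pow_eq_pow_val]
      exact dmu_det (μ : F)

end symp

/-- class splitting, symplectic type -/
theorem splitClassCount_gph_skew [Fintype F] (h2 : (2 : F) ≠ 0) (hn : 2 ≤ n) {m : ℕ}
    (hnm : n = 2 * m) (g : GL (Fin n) F)
    (hg : (g : Matrix (Fin n) (Fin n) F)ᵀ = -(g : Matrix (Fin n) (Fin n) F)) :
    Cfsg.splitClassCount (Cfsg.inndiagPSL n F)
      (Cfsg.Inn (Matrix.ProjectiveSpecialLinearGroup (Fin n) F)) (gph g) =
      Nat.gcd m (Fintype.card F - 1) := by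
  have hcard₁ : Fintype.card (Fin m ⊕ Fin m) = n := by
    rw [Fintype.card_sum, Fintype.card_fin, hnm]
    ring
  obtain ⟨e, -⟩ : ∃ e : Fin m ⊕ Fin m ≃ Fin n, e = e := ⟨Fintype.equivFinOfCardEq hcard₁, rfl⟩
  have hJdet : (Matrix.J (Fin m) F).det ≠ 0 := (Matrix.isUnit_det_J (Fin m) F).ne_zero
  obtain ⟨Jg, hJg⟩ : ∃ Jg : GL (Fin m ⊕ Fin m) F,
      (Jg : Matrix (Fin m ⊕ Fin m) (Fin m ⊕ Fin m) F) = Matrix.J (Fin m) F :=
    ⟨Matrix.GeneralLinearGroup.mkOfDetNeZero _ hJdet, rfl⟩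
  have hg₁c : ((glReindex e Jg : GL (Fin n) F) : Matrix (Fin n) (Fin n) F) =
      Matrix.reindexAlgEquiv F F e (Matrix.J (Fin m) F) := by rw [glReindex_coe, hJg]
  obtain ⟨Q, hQ⟩ := exists_congr_J h2 e g hg
  have hconj : Cfsg.IsConjUnder (Cfsg.inndiagPSL n F) (gph g) (gph (glReindex e Jg)) := by
    apply isConjUnder_gph_of_congr_smul hn Q g _ (-1)
    rw [hQ, hg₁c, Units.val_neg, Units.val_one, neg_smul, one_smul, neg_neg]
  rw [← splitClassCount_eq_of_isConjUnder hn hconj, splitClassCount_gph hn,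
    PC_simT_J hn hnm e _ hg₁c, index_pow_range]

/-! ### orthogonal type -/

/-- `diag(d, 1, …, 1)` -/
def dgd (hn : 2 ≤ n) (d : F) : Matrix (Fin n) (Fin n) F :=
  Matrix.diagonal (fun i => if i = (⟨0, by omega⟩ : Fin n) then d else 1)

theorem dgd_det (hn : 2 ≤ n) (d : F) : (dgd hn d).det = d := by
  unfold dgd
  rw [Matrix.det_diagonal, Finset.prod_ite_eq', if_pos (Finset.mem_univ _)]

theorem dgd_transpose (hn : 2 ≤ n) (d : F) : (dgd hn d)ᵀ = dgd hn d := by
  unfold dgd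
  rw [Matrix.diagonal_transpose]

theorem dgd_mul_dgd (hn : 2 ≤ n) (d d' : F) : dgd hn d * dgd hn d' = dgd hn (d * d') := by
  unfold dgd
  rw [Matrix.diagonal_mul_diagonal]
  congr 1
  funext i
  split_ifs <;> simp

theorem PC_simT_dgd [Fintype F] (h2 : (2 : F) ≠ 0) (hn : 2 ≤ n) {m : ℕ} (hnm : n = 2 * m)
    (D : GL (Fin n) F) (d : F) (hD : (D : Matrix (Fin n) (Fin n) F) = dgd hn d) :
    PC (simT D) = (powMonoidHom m : Fˣ →* Fˣ).range ⊔ Subgroup.zpowers (-1 : Fˣ) := by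
  have hd0 : d ≠ 0 := by
    have := ((Matrix.isUnit_iff_isUnit_det _).mp (Units.isUnit D)).ne_zero
    rwa [hD, dgd_det] at this
  have hDT : (D : Matrix (Fin n) (Fin n) F)ᵀ = (D : Matrix (Fin n) (Fin n) F) := by
    rw [hD, dgd_transpose]
  -- the reflection
  have hr : (dgd hn (-1 : F)).det ≠ 0 := by
    rw [dgd_det]; exact neg_ne_zero.mpr one_ne_zero
  have hrmem : Matrix.GeneralLinearGroup.mkOfDetNeZero _ hr ∈ simT D := by
    apply (mem_simT hn D _).mpr
    refine ⟨1, ?_⟩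
    show dgd hn (-1 : F) * (D : Matrix (Fin n) (Fin n) F) * (dgd hn (-1 : F))ᵀ = _
    rw [hD, dgd_transpose, dgd_mul_dgd, dgd_mul_dgd, Units.val_one, one_smul]
    congr 1
    ring
  have hneg : (-1 : Fˣ) ∈ (simT D).map Matrix.GeneralLinearGroup.det := by
    refine ⟨_, hrmem, ?_⟩
    apply Units.ext
    rw [Matrix.GeneralLinearGroup.val_det_apply]
    show (dgd hn (-1 : F)).det = _
    rw [dgd_det, Units.val_neg, Units.val_one]
  unfold PC
  apply le_antisymm
  · apply sup_le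
    · rintro _ ⟨x, rfl⟩
      apply Subgroup.mem_sup_left
      refine ⟨x ^ 2, ?_⟩
      rw [powMonoidHom_apply, powMonoidHom_apply, ← pow_mul, hnm]
    · rintro _ ⟨h, hh, rfl⟩
      obtain ⟨μ, hμ, -⟩ := det_sq_of_mem_simT hn hh
      have h1 : ((Matrix.GeneralLinearGroup.det h : Fˣ) : F) ^ 2 = ((μ ^ m : Fˣ) : F) ^ 2 := by
        rw [← Units.val_pow_eq_pow_val, ← Units.val_pow_eq_pow_val, hμ, ← pow_mul, hnm, mul_comm]
      rcases sq_eq_sq_iff_eq_or_eq_neg.mp h1 with h3 | h3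
      · apply Subgroup.mem_sup_left
        exact ⟨μ, Units.ext h3.symm⟩
      · have : Matrix.GeneralLinearGroup.det h = μ ^ m * (-1 : Fˣ) := by
          apply Units.ext
          rw [h3, Units.val_mul, Units.val_neg, Units.val_one, mul_neg, mul_one]
        rw [this]
        exact Subgroup.mul_mem_sup ⟨μ, rfl⟩ (Subgroup.mem_zpowers _)
  · apply sup_le
    · rintro _ ⟨μ, rfl⟩
      rw [powMonoidHom_apply]
      -- a similitude with multiplier `μ`
      have hsymm : ((μ : F) • (D : Matrix (Fin n) (Fin n) F))ᵀ =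
          (μ : F) • (D : Matrix (Fin n) (Fin n) F) := by
        rw [Matrix.transpose_smul, hDT]
      have hDd : (D : Matrix (Fin n) (Fin n) F).det = d := by rw [hD, dgd_det]
      have hdet2 : ((μ : F) • (D : Matrix (Fin n) (Fin n) F)).det = (μ : F) ^ n * d := by
        rw [Matrix.det_smul, Fintype.card_fin, hDd]
      obtain ⟨P, hP⟩ := exists_congr_of_disc h2 (by rw [Fintype.card_fin]; omega)
        (D : Matrix (Fin n) (Fin n) F) ((μ : F) • (D : Matrix (Fin n) (Fin n) F)) hDT hsymm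
        (by rw [hDd]; exact hd0)
        (by rw [hdet2]; exact mul_ne_zero (pow_ne_zero _ μ.ne_zero) hd0)
        (by
          rw [hdet2, hDd]
          refine ⟨(μ : F) ^ m * d, ?_⟩
          rw [hnm, two_mul, pow_add]
          ring)
      have hPmem : P ∈ simT D := (mem_simT hn D P).mpr ⟨μ, hP⟩
      obtain ⟨μ', hμ', hμ'2⟩ := det_sq_of_mem_simT hn hPmem
      have hμμ' : μ' = μ := by
        rw [hP] at hμ'2
        -- compare an entry
        have h5 := congrFun (congrFun hμ'2 ⟨0, by omega⟩) ⟨0, by omega⟩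
        rw [Matrix.smul_apply, Matrix.smul_apply, hD] at h5
        unfold dgd at h5
        rw [Matrix.diagonal_apply_eq, if_pos rfl, smul_eq_mul, smul_eq_mul] at h5
        exact Units.ext (mul_right_cancel₀ hd0 h5).symm
      rw [hμμ'] at hμ'
      have h1 : ((Matrix.GeneralLinearGroup.det P : Fˣ) : F) ^ 2 = ((μ ^ m : Fˣ) : F) ^ 2 := by
        rw [← Units.val_pow_eq_pow_val, ← Units.val_pow_eq_pow_val, hμ', ← pow_mul, hnm, mul_comm]
      have hPdet : Matrix.GeneralLinearGroup.det P ∈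
          (powMonoidHom n : Fˣ →* Fˣ).range ⊔ (simT D).map Matrix.GeneralLinearGroup.det :=
        Subgroup.mem_sup_right ⟨P, hPmem, rfl⟩
      rcases sq_eq_sq_iff_eq_or_eq_neg.mp h1 with h3 | h3
      · have : μ ^ m = Matrix.GeneralLinearGroup.det P := Units.ext h3.symm
        rw [this]
        exact hPdet
      · have : μ ^ m = Matrix.GeneralLinearGroup.det P * (-1 : Fˣ) := by
          apply Units.ext
          rw [Units.val_mul, h3, Units.val_neg, Units.val_one, mul_neg, mul_one, neg_neg]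
        rw [this]
        exact Subgroup.mul_mem _ hPdet (Subgroup.mem_sup_right hneg)
    · rw [Subgroup.zpowers_le]
      exact Subgroup.mem_sup_right hneg

/-- class splitting, orthogonal type -/
theorem splitClassCount_gph_symm [Fintype F] (h2 : (2 : F) ≠ 0) (hn : 2 ≤ n) {m : ℕ}
    (hnm : n = 2 * m) (g : GL (Fin n) F)
    (hg : (g : Matrix (Fin n) (Fin n) F)ᵀ = (g : Matrix (Fin n) (Fin n) F)) :
    Cfsg.splitClassCount (Cfsg.inndiagPSL n F)
      (Cfsg.Inn (Matrix.ProjectiveSpecialLinearGroup (Fin n) F)) (gph g) =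
      Nat.gcd m ((Fintype.card F - 1) / 2) := by
  have hgd : (g : Matrix (Fin n) (Fin n) F).det ≠ 0 :=
    ((Matrix.isUnit_iff_isUnit_det _).mp (Units.isUnit g)).ne_zero
  have hDdet : (dgd hn (g : Matrix (Fin n) (Fin n) F).det).det ≠ 0 := by
    rw [dgd_det]; exact hgd
  obtain ⟨D, hD⟩ : ∃ D : GL (Fin n) F,
      (D : Matrix (Fin n) (Fin n) F) = dgd hn (g : Matrix (Fin n) (Fin n) F).det :=
    ⟨Matrix.GeneralLinearGroup.mkOfDetNeZero _ hDdet, rfl⟩
  obtain ⟨P, hP⟩ := exists_congr_of_disc h2 (by rw [Fintype.card_fin]; omega)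
    (D : Matrix (Fin n) (Fin n) F) (g : Matrix (Fin n) (Fin n) F)
    (by rw [hD, dgd_transpose]) hg (by rw [hD]; exact hDdet) hgd
    (by rw [hD, dgd_det]; exact ⟨_, rfl⟩)
  have hconj := isConjUnder_gph_congr P D g hP
  rw [splitClassCount_eq_of_isConjUnder hn hconj, splitClassCount_gph hn,
    PC_simT_dgd h2 hn hnm D _ hD, index_pow_sup, Nat.card_units, Nat.card_eq_fintype_card,
    Nat.card_zpowers]
  congr 2
  -- the order of `-1`
  apply orderOf_eq_prime
  · rw [neg_one_sq]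
  · intro h
    have := congrArg Units.val h
    rw [Units.val_neg, Units.val_one] at this
    apply h2
    linear_combination -this

end Cfsg.Agent.Helper14.AutPSL
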