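import Mathlib
import Cfsg.Agent.Helper14.AutGraph10
import Cfsg.Agent.Helper14.AutGraph12

/-!
Helper14: class splitting of the involutory graph automorphisms of `PSL_n(q)`.
-/

set_option autoImplicit false
set_option linter.unusedSectionVars false

namespace Cfsg.Agent.Helper14.AutPSL

open Matrix Cfsg.Agent.Helper14

variable {n : ℕ} {F : Type*} [Field F]

theorem centralizer_equiv_of_isConjUnder [Fintype F] (hn : 2 ≤ n)
    {x y : MulAut (Matrix.ProjectiveSpecialLinearGroup (Fin n) F)}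
    (h : Cfsg.IsConjUnder (Cfsg.inndiagPSL n F) x y) :
    Nonempty (↥(Cfsg.inndiagPSL n F ⊓ Subgroup.centralizer {x}) ≃*
      ↥(Cfsg.inndiagPSL n F ⊓ Subgroup.centralizer {y})) := by
  have hHn : (Cfsg.inndiagPSL n F).Normal := inndiag_normal' hn
  obtain ⟨a, -, rfl⟩ := h
  exact ⟨centralizerConjEquiv (Cfsg.inndiagPSL n F) a x⟩

/-- symplectic type: the centraliser is `PGSp` -/
theorem centralizer_gph_skew [Fintype F] (h2 : (2 : F) ≠ 0) (hn : 2 ≤ n) {m : ℕ}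
    (hnm : n = 2 * m) (g : GL (Fin n) F)
    (hg : (g : Matrix (Fin n) (Fin n) F)ᵀ = -(g : Matrix (Fin n) (Fin n) F)) :
    Nonempty (↥(Cfsg.inndiagPSL n F ⊓ Subgroup.centralizer {gph g}) ≃* Cfsg.PGSp m F) := by
  have hcard₁ : Fintype.card (Fin m ⊕ Fin m) = n := by
    rw [Fintype.card_sum, Fintype.card_fin, hnm]
    ring
  obtain ⟨e, -⟩ : ∃ e : Fin m ⊕ Fin m ≃ Fin n, e = e := ⟨Fintype.equivFinOfCardEq hcard₁, rfl⟩
  have hJdet : (Matrix.J (Fin m) F).det ≠ 0 := (Matrix.isUnit_det_J (Fin m) F).ne_zero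
  obtain ⟨Jg, hJg⟩ : ∃ Jg : GL (Fin m ⊕ Fin m) F,
      (Jg : Matrix (Fin m ⊕ Fin m) (Fin m ⊕ Fin m) F) = Matrix.J (Fin m) F :=
    ⟨Matrix.GeneralLinearGroup.mkOfDetNeZero _ hJdet, rfl⟩
  have hg₁c : ((glReindex e Jg : GL (Fin n) F) : Matrix (Fin n) (Fin n) F) =
      Matrix.reindexAlgEquiv F F e (Matrix.J (Fin m) F) := by rw [glReindex_coe, hJg]
  obtain ⟨Q, hQ⟩ := exists_congr_J h2 e g hg
  have hconj : Cfsg.IsConjUnder (Cfsg.inndiagPSL n F) (gph g) (gph (glReindex e Jg)) := by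
    apply isConjUnder_gph_of_congr_smul hn Q g _ (-1)
    rw [hQ, hg₁c, Units.val_neg, Units.val_one, neg_smul, one_smul, neg_neg]
  obtain ⟨e1⟩ := centralizer_equiv_of_isConjUnder hn hconj
  have e2 := graphCentEquiv hn e Jg
  have hform : gramForm (Jg : Matrix (Fin m ⊕ Fin m) (Fin m ⊕ Fin m) F) = Cfsg.sympForm m F := by
    funext u v
    rw [hJg]
    rfl
  rw [hform] at e2
  exact ⟨e1.trans e2⟩

/-- orthogonal type: the centraliser is `PGO⁺` or `PGO⁻` -/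
theorem centralizer_gph_symm [Fintype F] (h2 : (2 : F) ≠ 0) (hn : 2 ≤ n) {m : ℕ} (hm : 2 ≤ m)
    (hnm : n = 2 * m) (g : GL (Fin n) F)
    (hg : (g : Matrix (Fin n) (Fin n) F)ᵀ = (g : Matrix (Fin n) (Fin n) F)) :
    Nonempty (↥(Cfsg.inndiagPSL n F ⊓ Subgroup.centralizer {gph g}) ≃*
      Cfsg.PGO F (Cfsg.quadFormPlus m F)) ∨
    ∃ a b : F, (∀ z₁ z₂ : F, z₁ ^ 2 + a * z₁ * z₂ + b * z₂ ^ 2 = 0 → z₁ = 0 ∧ z₂ = 0) ∧
      Nonempty (↥(Cfsg.inndiagPSL n F ⊓ Subgroup.centralizer {gph g}) ≃*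
        Cfsg.PGO F (Cfsg.quadFormMinus (m - 1) F a b)) := by
  classical
  obtain ⟨α, hα⟩ := FiniteField.exists_nonsquare (F := F)
    (Cfsg.Agent.Helper13.ringChar_ne_two_of_two_ne_zero h2)
  have hα0 : α ≠ 0 := by
    rintro rfl
    exact hα ⟨0, by ring⟩
  have hcard₁ : Fintype.card (Fin m ⊕ Fin m) = n := by
    rw [Fintype.card_sum, Fintype.card_fin, hnm]
    ring
  have hcard₃ : Fintype.card ((Fin (m - 1) ⊕ Fin (m - 1)) ⊕ Fin 2) = n := by
    rw [Fintype.card_sum, Fintype.card_sum, Fintype.card_fin, Fintype.card_fin, hnm]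
    omega
  obtain ⟨e₁, -⟩ : ∃ e₁ : Fin m ⊕ Fin m ≃ Fin n, e₁ = e₁ := ⟨Fintype.equivFinOfCardEq hcard₁, rfl⟩
  obtain ⟨e₃, -⟩ : ∃ e₃ : (Fin (m - 1) ⊕ Fin (m - 1)) ⊕ Fin 2 ≃ Fin n, e₃ = e₃ :=
    ⟨Fintype.equivFinOfCardEq hcard₃, rfl⟩
  have h4 : (4 : F) ≠ 0 := by
    have : (4 : F) = 2 * 2 := by norm_num
    rw [this]
    exact mul_ne_zero h2 h2
  have hHdet : (hypMatrix m F).det ≠ 0 := by
    rw [hypMatrix_det]; exact pow_ne_zero _ (neg_ne_zero.mpr one_ne_zero)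
  have hMdet' : (minusMatrix (m - 1) (0 : F) (-α)).det = (-1) ^ m * (4 * α) := by
    rw [minusMatrix_det]
    have : m = (m - 1) + 1 := by omega
    nth_rewrite 2 [this]
    rw [pow_succ]
    ring
  have hMdet : (minusMatrix (m - 1) (0 : F) (-α)).det ≠ 0 := by
    rw [hMdet']
    exact mul_ne_zero (pow_ne_zero _ (neg_ne_zero.mpr one_ne_zero)) (mul_ne_zero h4 hα0)
  obtain ⟨Hg, hHg⟩ : ∃ Hg : GL (Fin m ⊕ Fin m) F,
      (Hg : Matrix (Fin m ⊕ Fin m) (Fin m ⊕ Fin m) F) = hypMatrix m F :=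
    ⟨Matrix.GeneralLinearGroup.mkOfDetNeZero _ hHdet, rfl⟩
  obtain ⟨Mg, hMg⟩ : ∃ Mg : GL ((Fin (m - 1) ⊕ Fin (m - 1)) ⊕ Fin 2) F,
      (Mg : Matrix ((Fin (m - 1) ⊕ Fin (m - 1)) ⊕ Fin 2) ((Fin (m - 1) ⊕ Fin (m - 1)) ⊕ Fin 2) F) =
        minusMatrix (m - 1) 0 (-α) :=
    ⟨Matrix.GeneralLinearGroup.mkOfDetNeZero _ hMdet, rfl⟩
  have hg₂c : ((glReindex e₁ Hg : GL (Fin n) F) : Matrix (Fin n) (Fin n) F) =
      Matrix.reindexAlgEquiv F F e₁ (hypMatrix m F) := by rw [glReindex_coe, hHg]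
  have hg₃c : ((glReindex e₃ Mg : GL (Fin n) F) : Matrix (Fin n) (Fin n) F) =
      Matrix.reindexAlgEquiv F F e₃ (minusMatrix (m - 1) 0 (-α)) := by rw [glReindex_coe, hMg]
  have hg₂T : ((glReindex e₁ Hg : GL (Fin n) F) : Matrix (Fin n) (Fin n) F)ᵀ =
      ((glReindex e₁ Hg : GL (Fin n) F) : Matrix (Fin n) (Fin n) F) := by
    rw [hg₂c, reindex_transpose, hypMatrix_transpose]
  have hg₃T : ((glReindex e₃ Mg : GL (Fin n) F) : Matrix (Fin n) (Fin n) F)ᵀ =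
      ((glReindex e₃ Mg : GL (Fin n) F) : Matrix (Fin n) (Fin n) F) := by
    rw [hg₃c, reindex_transpose, minusMatrix_transpose]
  have hg₂d : ((glReindex e₁ Hg : GL (Fin n) F) : Matrix (Fin n) (Fin n) F).det = (-1) ^ m := by
    rw [hg₂c, Matrix.coe_reindexAlgEquiv, Matrix.reindex_apply, Matrix.det_submatrix_equiv_self,
      hypMatrix_det]
  have hg₃d : ((glReindex e₃ Mg : GL (Fin n) F) : Matrix (Fin n) (Fin n) F).det =
      (-1) ^ m * (4 * α) := by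
    rw [hg₃c, Matrix.coe_reindexAlgEquiv, Matrix.reindex_apply, Matrix.det_submatrix_equiv_self,
      hMdet']
  have hdisc : ¬ IsSquare (((glReindex e₁ Hg : GL (Fin n) F) : Matrix (Fin n) (Fin n) F).det *
      ((glReindex e₃ Mg : GL (Fin n) F) : Matrix (Fin n) (Fin n) F).det) := by
    rw [hg₂d, hg₃d]
    rintro ⟨s, hs⟩
    apply hα
    refine ⟨s / 2, ?_⟩
    have h5 : ((-1 : F) ^ m) * ((-1) ^ m) = 1 := by
      rw [← mul_pow]; norm_num
    field_simp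
    linear_combination hs - (4 * α) * h5
  have hgd : (g : Matrix (Fin n) (Fin n) F).det ≠ 0 :=
    ((Matrix.isUnit_iff_isUnit_det _).mp (Units.isUnit g)).ne_zero
  have hd2 : ((glReindex e₁ Hg : GL (Fin n) F) : Matrix (Fin n) (Fin n) F).det ≠ 0 :=
    ((Matrix.isUnit_iff_isUnit_det _).mp (Units.isUnit _)).ne_zero
  have hd3 : ((glReindex e₃ Mg : GL (Fin n) F) : Matrix (Fin n) (Fin n) F).det ≠ 0 :=
    ((Matrix.isUnit_iff_isUnit_det _).mp (Units.isUnit _)).ne_zero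
  rcases isSquare_mul_or hd2 hd3 hgd hdisc with hsq | hsq
  · left
    obtain ⟨P, hP⟩ := exists_congr_of_disc h2 (by rw [Fintype.card_fin]; omega) _ _ hg₂T hg hd2
      hgd hsq
    obtain ⟨e1⟩ := centralizer_gph_congr hn P _ _ hP
    obtain ⟨e2⟩ := centralizer_gph_quad h2 hn e₁ (Cfsg.quadFormPlus m F) Hg
      (by rw [hHg]; exact hypMatrix_transpose m) (by rw [hHg]; exact two_mul_quadFormPlus m)
    exact ⟨e1.symm.trans e2⟩
  · right
    refine ⟨0, -α, ?_, ?_⟩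
    · intro z₁ z₂ hz
      have hz' : z₁ ^ 2 = α * z₂ ^ 2 := by linear_combination hz
      by_cases hz2 : z₂ = 0
      · rw [hz2] at hz'
        have : z₁ ^ 2 = 0 := by rw [hz']; ring
        exact ⟨pow_eq_zero_iff (by norm_num) |>.mp this, hz2⟩
      · exfalso
        apply hα
        refine ⟨z₁ / z₂, ?_⟩
        field_simp
        linear_combination -hz'
    · obtain ⟨P, hP⟩ := exists_congr_of_disc h2 (by rw [Fintype.card_fin]; omega) _ _ hg₃T hg hd3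
        hgd hsq
      obtain ⟨e1⟩ := centralizer_gph_congr hn P _ _ hP
      obtain ⟨e2⟩ := centralizer_gph_quad h2 hn e₃ (Cfsg.quadFormMinus (m - 1) F 0 (-α)) Mg
        (by rw [hMg]; exact minusMatrix_transpose _ _ _)
        (by rw [hMg]; exact two_mul_quadFormMinus _ _ _)
      exact ⟨e1.symm.trans e2⟩

/-- class splitting of the involutory graph automorphisms of `PSL_n(q)` -/
theorem graph_aut_class_splitting [Fintype F] {p f : ℕ} [hp : Fact p.Prime]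
    (hF : Fintype.card F = p ^ f) (hf : 1 ≤ f) (hn : 3 ≤ n)
    (γ : MulAut (Matrix.ProjectiveSpecialLinearGroup (Fin n) F))
    (hγ : Cfsg.IsGraphAutClassPSL γ) (hγ2 : orderOf γ = 2) :
    ((Even n ∧ Odd p ∧ Nonempty (↥(Cfsg.inndiagPSL n F ⊓ Subgroup.centralizer {γ}) ≃*
        Cfsg.PGSp (n / 2) F)) →
      Cfsg.splitClassCount (Cfsg.inndiagPSL n F)
        (Cfsg.Inn (Matrix.ProjectiveSpecialLinearGroup (Fin n) F)) γ =
        Nat.gcd (n / 2) (p ^ f - 1)) ∧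
    ((Even n ∧ Odd p ∧ ¬ Nonempty (↥(Cfsg.inndiagPSL n F ⊓ Subgroup.centralizer {γ}) ≃*
        Cfsg.PGSp (n / 2) F)) →
      Cfsg.splitClassCount (Cfsg.inndiagPSL n F)
        (Cfsg.Inn (Matrix.ProjectiveSpecialLinearGroup (Fin n) F)) γ =
        Nat.gcd n (p ^ f - 1) / 2) ∧
    (¬ (Even n ∧ Odd p) →
      Cfsg.splitClassCount (Cfsg.inndiagPSL n F)
        (Cfsg.Inn (Matrix.ProjectiveSpecialLinearGroup (Fin n) F)) γ =
        Nat.gcd n (p ^ f - 1)) := by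
  have hn2 : 2 ≤ n := by omega
  obtain ⟨g, rfl⟩ := exists_gph_of_isGraphAutClass hγ
  -- the even/odd case analysis
  have hmain : Even n → Odd p →
      ((g : Matrix (Fin n) (Fin n) F)ᵀ = -(g : Matrix (Fin n) (Fin n) F) ∧
        Nonempty (↥(Cfsg.inndiagPSL n F ⊓ Subgroup.centralizer {gph g}) ≃* Cfsg.PGSp (n / 2) F) ∧
        Cfsg.splitClassCount (Cfsg.inndiagPSL n F)
          (Cfsg.Inn (Matrix.ProjectiveSpecialLinearGroup (Fin n) F)) (gph g) =
          Nat.gcd (n / 2) (p ^ f - 1)) ∨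
      (¬ Nonempty (↥(Cfsg.inndiagPSL n F ⊓ Subgroup.centralizer {gph g}) ≃* Cfsg.PGSp (n / 2) F) ∧
        Cfsg.splitClassCount (Cfsg.inndiagPSL n F)
          (Cfsg.Inn (Matrix.ProjectiveSpecialLinearGroup (Fin n) F)) (gph g) =
          Nat.gcd n (p ^ f - 1) / 2) := by
    intro hev hpo
    obtain ⟨m, hm⟩ := hev
    have hnm : n = 2 * m := by omega
    have hm2 : 2 ≤ m := by omega
    have hdiv : n / 2 = m := by rw [hnm]; exact Nat.mul_div_cancel_left m (by norm_num)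
    have hodd : Odd (Fintype.card F) := by rw [hF]; exact hpo.pow
    have h2 : (2 : F) ≠ 0 := two_ne_zero_of_odd_card hodd
    rw [hdiv, ← hF]
    rcases symm_or_skew_of_orderOf_gph hn2 g hγ2 with hs | hs
    · right
      constructor
      · rintro ⟨e⟩
        rcases centralizer_gph_symm h2 hn2 hm2 hnm g hs with ⟨⟨e1⟩⟩ | ⟨a, b, hab, ⟨e1⟩⟩
        · exact not_PGO_plus_equiv_PGSp hodd hm2 ⟨e1.symm.trans e⟩
        · exact not_PGO_minus_equiv_PGSp hodd hm2 a b hab ⟨e1.symm.trans e⟩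
      · rw [splitClassCount_gph_symm h2 hn2 hnm g hs]
        obtain ⟨k, hk⟩ := hodd
        have h1 : Fintype.card F - 1 = 2 * k := by omega
        rw [h1, Nat.mul_div_cancel_left k (by norm_num : 0 < 2), hnm, Nat.gcd_mul_left,
          Nat.mul_div_cancel_left _ (by norm_num : 0 < 2)]
    · left
      exact ⟨hs, centralizer_gph_skew h2 hn2 hnm g hs, splitClassCount_gph_skew h2 hn2 hnm g hs⟩
  refine ⟨?_, ?_, ?_⟩
  · rintro ⟨hev, hpo, hiso⟩
    rcases hmain hev hpo with ⟨-, -, hc⟩ | ⟨hno, -⟩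
    · exact hc
    · exact absurd hiso hno
  · rintro ⟨hev, hpo, hiso⟩
    rcases hmain hev hpo with ⟨-, hyes, -⟩ | ⟨-, hc⟩
    · exact absurd hyes hiso
    · exact hc
  · intro hcase
    have hcase' : Odd n ∨ (2 : F) = 0 := by
      by_cases hno : Odd n
      · exact Or.inl hno
      · right
        have hev : Even n := Nat.not_odd_iff_even.mp hno
        have hpe : ¬ Odd p := fun hpo => hcase ⟨hev, hpo⟩
        have hp2 : p = 2 := by
          rcases hp.out.eq_two_or_odd' with h | h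
          · exact h
          · exact absurd h hpe
        have h0 : ((Fintype.card F : ℕ) : F) = 0 := Nat.cast_card_eq_zero F
        rw [hF, hp2] at h0
        push_cast at h0
        exact pow_eq_zero_iff (by omega) |>.mp h0
    rw [splitClassCount_gph_of_odd_or_even hn2 hcase' g, hF]

end Cfsg.Agent.Helper14.AutPSL
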