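import Mathlib
import Cfsg.Agent.Helper14.AutCharTwo6
import Cfsg.Agent.Helper14.AutCharTwo8
import Cfsg.Agent.Helper14.AutGraph13

/-!
Helper14: involutory graph automorphisms of `PSL_{2m+1}(q)` (all `q`): one class under the
inner-diagonal group, with centraliser `PGO_{2m+1}(q)`.
-/

set_option autoImplicit false
set_option linter.unusedSectionVars false

namespace Cfsg.Agent.Helper14.AutPSL

open Matrix Cfsg.Agent.Helper14

variable {n : ℕ} {F : Type*} [Field F]

theorem isConjUnder_trans {X : Type*} [Group X] {H : Subgroup X} {x y z : X}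
    (h1 : Cfsg.IsConjUnder H x y) (h2 : Cfsg.IsConjUnder H y z) : Cfsg.IsConjUnder H x z := by
  obtain ⟨a, ha, rfl⟩ := h1
  obtain ⟨b, hb, rfl⟩ := h2
  refine ⟨b * a, H.mul_mem hb ha, ?_⟩
  group

theorem quadFormPlus_add (m : ℕ) (x y : Fin m ⊕ Fin m → F) :
    Cfsg.quadFormPlus m F (x + y) =
      Cfsg.quadFormPlus m F x + Cfsg.quadFormPlus m F y + gramForm (hypMatrix m F) x y := by
  unfold gramForm hypMatrix Cfsg.quadFormPlus
  simp only [Matrix.transpose_one]
  conv_rhs => rw [show y = Sum.elim (fun i => y (Sum.inl i)) (fun i => y (Sum.inr i)) from by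
    funext i; cases i <;> rfl]
  rw [Matrix.fromBlocks_mulVec]
  simp only [Matrix.zero_mulVec, Matrix.one_mulVec, zero_add, add_zero, dotProduct,
    Fintype.sum_sum_type, Sum.elim_inl, Sum.elim_inr]
  rw [← Finset.sum_add_distrib, ← Finset.sum_add_distrib, ← Finset.sum_add_distrib]
  apply Finset.sum_congr rfl
  intro i _
  simp only [Pi.add_apply, Function.comp_apply, Sum.elim_inl, Sum.elim_inr]
  ring

theorem quadFormOdd_eq_Qo (m : ℕ) : Cfsg.quadFormOdd m F = Qo (Cfsg.quadFormPlus m F) := by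
  funext v
  rfl

/-- Gram matrix of the polar form of `quadFormOdd` -/
def oddMatrix (m : ℕ) (F : Type*) [Field F] :
    Matrix (Unit ⊕ (Fin m ⊕ Fin m)) (Unit ⊕ (Fin m ⊕ Fin m)) F :=
  Matrix.fromBlocks ((2 : F) • (1 : Matrix Unit Unit F)) 0 0 (hypMatrix m F)

theorem oddMatrix_transpose (m : ℕ) : (oddMatrix m F)ᵀ = oddMatrix m F := by
  unfold oddMatrix
  rw [Matrix.fromBlocks_transpose, hypMatrix_transpose, Matrix.transpose_zero,
    Matrix.transpose_zero, Matrix.transpose_smul, Matrix.transpose_one]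

theorem oddMatrix_det (m : ℕ) : (oddMatrix m F).det = 2 * (-1) ^ m := by
  unfold oddMatrix
  rw [Matrix.det_fromBlocks_zero₂₁, hypMatrix_det, Matrix.det_smul, Matrix.det_one,
    Fintype.card_unit, pow_one, mul_one]

theorem two_mul_quadFormOdd (m : ℕ) (v : Unit ⊕ (Fin m ⊕ Fin m) → F) :
    2 * Cfsg.quadFormOdd m F v = gramForm (oddMatrix m F) v v := by
  have h1 : gramForm (oddMatrix m F) v v =
      2 * (v (Sum.inl ()) * v (Sum.inl ())) + gramForm (hypMatrix m F) (v ∘ Sum.inr) (v ∘ Sum.inr) := by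
    unfold gramForm oddMatrix
    rw [Matrix.fromBlocks_mulVec]
    simp only [Matrix.zero_mulVec, add_zero, zero_add, Matrix.smul_mulVec, Matrix.one_mulVec]
    conv_lhs => rw [show v = Sum.elim (v ∘ Sum.inl) (v ∘ Sum.inr) from by
      funext i; cases i <;> rfl]
    rw [sumElim_dotProduct_sumElim]
    congr 1
    simp [dotProduct]
    ring
  rw [h1, ← two_mul_quadFormPlus]
  unfold Cfsg.quadFormOdd Cfsg.quadFormPlus
  simp only [Function.comp_apply]
  ring

end Cfsg.Agent.Helper14.AutPSL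

namespace Cfsg.Agent.Helper14.AutPSL

open Matrix Cfsg.Agent.Helper14

variable {n : ℕ} {F : Type*} [Field F]

/-- characteristic two -/
theorem graph_aut_odd_dim_even_q [Fintype F] (h2 : (2 : F) = 0) (hn : 3 ≤ n) {m : ℕ}
    (hnm : n = 2 * m + 1) :
    ∃ γ₀ : MulAut (Matrix.ProjectiveSpecialLinearGroup (Fin n) F),
      Nonempty (↥(Cfsg.inndiagPSL n F ⊓ Subgroup.centralizer {γ₀}) ≃*
        Cfsg.PGO F (Cfsg.quadFormOdd m F)) ∧
      ∀ γ : MulAut (Matrix.ProjectiveSpecialLinearGroup (Fin n) F), Cfsg.IsGraphAutClassPSL γ →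
        orderOf γ = 2 → Cfsg.IsConjUnder (Cfsg.inndiagPSL n F) γ₀ γ := by
  classical
  have hn2 : 2 ≤ n := by omega
  have hcard : Fintype.card (Unit ⊕ (Fin m ⊕ Fin m)) = n := by
    rw [Fintype.card_sum, Fintype.card_sum, Fintype.card_fin, Fintype.card_unit, hnm]
    ring
  obtain ⟨e, -⟩ : ∃ e : Unit ⊕ (Fin m ⊕ Fin m) ≃ Fin n, e = e :=
    ⟨Fintype.equivFinOfCardEq hcard, rfl⟩
  have hBdet : (Bo (hypMatrix m F)).det ≠ 0 := by
    rw [Bo_hyp_det]; exact pow_ne_zero _ (neg_ne_zero.mpr one_ne_zero)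
  have hHdet : (hypMatrix m F).det ≠ 0 := by
    rw [hypMatrix_det]; exact pow_ne_zero _ (neg_ne_zero.mpr one_ne_zero)
  obtain ⟨Bg, hBg⟩ : ∃ Bg : GL (Unit ⊕ (Fin m ⊕ Fin m)) F,
      (Bg : Matrix (Unit ⊕ (Fin m ⊕ Fin m)) (Unit ⊕ (Fin m ⊕ Fin m)) F) = Bo (hypMatrix m F) :=
    ⟨Matrix.GeneralLinearGroup.mkOfDetNeZero _ hBdet, rfl⟩
  have hg₀c : ((glReindex e Bg : GL (Fin n) F) : Matrix (Fin n) (Fin n) F) =
      Matrix.reindexAlgEquiv F F e (Bo (hypMatrix m F)) := by rw [glReindex_coe, hBg]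
  refine ⟨gph (glReindex e Bg), ?_, ?_⟩
  · have e1 := graphCentEquiv hn2 e Bg
    rw [hBg] at e1
    obtain ⟨e2⟩ := pgoOdd_equiv h2 (hypMatrix m F) (Cfsg.quadFormPlus m F) (quadFormPlus_add m)
      quadFormPlus_smul
      (by
        intro x
        rw [← two_mul_quadFormPlus, h2, zero_mul])
      hHdet
    rw [← quadFormOdd_eq_Qo] at e2
    exact ⟨e1.trans e2.symm⟩
  · intro γ hγ hγ2
    obtain ⟨g, rfl⟩ := exists_gph_of_isGraphAutClass hγ
    have hs : (g : Matrix (Fin n) (Fin n) F)ᵀ = (g : Matrix (Fin n) (Fin n) F) := by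
      rcases symm_or_skew_of_orderOf_gph hn2 g hγ2 with hs | hs
      · exact hs
      · rw [hs]
        ext i j
        rw [Matrix.neg_apply, neg_eq_self_char_two h2]
    obtain ⟨Q, hQ⟩ := exists_congr_Bo h2 e g hs
    apply isConjUnder_symm
    apply isConjUnder_gph_congr Q
    rw [hQ, hg₀c]

/-- odd characteristic -/
theorem graph_aut_odd_dim_odd_q [Fintype F] (h2 : (2 : F) ≠ 0) (hn : 3 ≤ n) {m : ℕ}
    (hnm : n = 2 * m + 1) :
    ∃ γ₀ : MulAut (Matrix.ProjectiveSpecialLinearGroup (Fin n) F),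
      Nonempty (↥(Cfsg.inndiagPSL n F ⊓ Subgroup.centralizer {γ₀}) ≃*
        Cfsg.PGO F (Cfsg.quadFormOdd m F)) ∧
      ∀ γ : MulAut (Matrix.ProjectiveSpecialLinearGroup (Fin n) F), Cfsg.IsGraphAutClassPSL γ →
        orderOf γ = 2 → Cfsg.IsConjUnder (Cfsg.inndiagPSL n F) γ₀ γ := by
  classical
  have hn2 : 2 ≤ n := by omega
  obtain ⟨α, hα⟩ := FiniteField.exists_nonsquare (F := F)
    (Cfsg.Agent.Helper13.ringChar_ne_two_of_two_ne_zero h2)
  have hα0 : α ≠ 0 := by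
    rintro rfl
    exact hα ⟨0, by ring⟩
  have hcard : Fintype.card (Unit ⊕ (Fin m ⊕ Fin m)) = n := by
    rw [Fintype.card_sum, Fintype.card_sum, Fintype.card_fin, Fintype.card_unit, hnm]
    ring
  obtain ⟨e, -⟩ : ∃ e : Unit ⊕ (Fin m ⊕ Fin m) ≃ Fin n, e = e :=
    ⟨Fintype.equivFinOfCardEq hcard, rfl⟩
  have hpow : ∀ x : F, x ^ n = x * (x ^ m) ^ 2 := by
    intro x
    rw [hnm]
    ring
  have hMdet : (oddMatrix m F).det ≠ 0 := by
    rw [oddMatrix_det]
    exact mul_ne_zero h2 (pow_ne_zero _ (neg_ne_zero.mpr one_ne_zero))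
  obtain ⟨Mg, hMg⟩ : ∃ Mg : GL (Unit ⊕ (Fin m ⊕ Fin m)) F,
      (Mg : Matrix (Unit ⊕ (Fin m ⊕ Fin m)) (Unit ⊕ (Fin m ⊕ Fin m)) F) = oddMatrix m F :=
    ⟨Matrix.GeneralLinearGroup.mkOfDetNeZero _ hMdet, rfl⟩
  have hg₀c : ((glReindex e Mg : GL (Fin n) F) : Matrix (Fin n) (Fin n) F) =
      Matrix.reindexAlgEquiv F F e (oddMatrix m F) := by rw [glReindex_coe, hMg]
  have hg₀T : ((glReindex e Mg : GL (Fin n) F) : Matrix (Fin n) (Fin n) F)ᵀ =
      ((glReindex e Mg : GL (Fin n) F) : Matrix (Fin n) (Fin n) F) := by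
    rw [hg₀c, reindex_transpose, oddMatrix_transpose]
  have hd0 : ((glReindex e Mg : GL (Fin n) F) : Matrix (Fin n) (Fin n) F).det ≠ 0 :=
    ((Matrix.isUnit_iff_isUnit_det _).mp (Units.isUnit _)).ne_zero
  refine ⟨gph (glReindex e Mg), ?_, ?_⟩
  · exact centralizer_gph_quad h2 hn2 e (Cfsg.quadFormOdd m F) Mg
      (by rw [hMg]; exact oddMatrix_transpose m) (by rw [hMg]; exact two_mul_quadFormOdd m)
  · intro γ hγ hγ2
    obtain ⟨g, rfl⟩ := exists_gph_of_isGraphAutClass hγ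
    have hgd : (g : Matrix (Fin n) (Fin n) F).det ≠ 0 :=
      ((Matrix.isUnit_iff_isUnit_det _).mp (Units.isUnit g)).ne_zero
    have hs : (g : Matrix (Fin n) (Fin n) F)ᵀ = (g : Matrix (Fin n) (Fin n) F) := by
      rcases symm_or_skew_of_orderOf_gph hn2 g hγ2 with hs | hs
      · exact hs
      · exfalso
        have h1 := congrArg Matrix.det hs
        rw [Matrix.det_transpose, Matrix.det_neg, Fintype.card_fin, hpow] at h1
        have h3 : (2 : F) * (g : Matrix (Fin n) (Fin n) F).det = 0 := by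
          have : ((-1 : F) ^ m) ^ 2 = 1 := by
            rw [← pow_mul, mul_comm, pow_mul]; norm_num
          rw [this] at h1
          linear_combination h1
        rcases mul_eq_zero.mp h3 with h | h
        · exact h2 h
        · exact hgd h
    by_cases hsq : IsSquare (((glReindex e Mg : GL (Fin n) F) : Matrix (Fin n) (Fin n) F).det *
        (g : Matrix (Fin n) (Fin n) F).det)
    · obtain ⟨P, hP⟩ := exists_congr_of_disc h2 (by rw [Fintype.card_fin]; omega) _ _ hg₀T hs hd0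
        hgd hsq
      exact isConjUnder_gph_congr P _ _ hP
    · -- rescale `g` by a non-square
      have hs' : (α • (g : Matrix (Fin n) (Fin n) F))ᵀ = α • (g : Matrix (Fin n) (Fin n) F) := by
        rw [Matrix.transpose_smul, hs]
      have hdα : (α • (g : Matrix (Fin n) (Fin n) F)).det = α * (α ^ m) ^ 2 *
          (g : Matrix (Fin n) (Fin n) F).det := by
        rw [Matrix.det_smul, Fintype.card_fin, hpow]
      have hgd' : (α • (g : Matrix (Fin n) (Fin n) F)).det ≠ 0 := by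
        rw [hdα]
        exact mul_ne_zero (mul_ne_zero hα0 (pow_ne_zero _ (pow_ne_zero _ hα0))) hgd
      have hsq' : IsSquare (((glReindex e Mg : GL (Fin n) F) : Matrix (Fin n) (Fin n) F).det *
          (α • (g : Matrix (Fin n) (Fin n) F)).det) := by
        have h5 := quadraticChar_neg_one_iff_not_isSquare.mpr hsq
        have h6 := quadraticChar_neg_one_iff_not_isSquare.mpr hα
        rw [hdα, ← quadraticChar_one_iff_isSquare (mul_ne_zero hd0
          (mul_ne_zero (mul_ne_zero hα0 (pow_ne_zero _ (pow_ne_zero _ hα0))) hgd))]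
        have h7 : ((glReindex e Mg : GL (Fin n) F) : Matrix (Fin n) (Fin n) F).det *
            (α * (α ^ m) ^ 2 * (g : Matrix (Fin n) (Fin n) F).det) =
            (((glReindex e Mg : GL (Fin n) F) : Matrix (Fin n) (Fin n) F).det *
              (g : Matrix (Fin n) (Fin n) F).det) * α * (α ^ m) ^ 2 := by ring
        rw [h7, map_mul, map_mul, h5, h6, map_pow, quadraticChar_sq_one (pow_ne_zero _ hα0)]
        norm_num
      obtain ⟨P, hP⟩ := exists_congr_of_disc h2 (by rw [Fintype.card_fin]; omega) _ _ hg₀T hs' hd0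
        hgd' hsq'
      apply isConjUnder_gph_of_congr_smul hn2 P _ g (Units.mk0 α hα0)⁻¹
      rw [hP, Units.val_inv_eq_inv_val, Units.val_mk0, smul_smul, inv_mul_cancel₀ hα0, one_smul]

/-- involutory graph automorphisms of `PSL_{2m+1}(q)` -/
theorem graph_aut_odd_dim [Fintype F] {p f : ℕ} [hp : Fact p.Prime]
    (hF : Fintype.card F = p ^ f) (hf : 1 ≤ f) (hn : 3 ≤ n) {m : ℕ} (hnm : n = 2 * m + 1)
    (γ γ' : MulAut (Matrix.ProjectiveSpecialLinearGroup (Fin n) F))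
    (hγ : Cfsg.IsGraphAutClassPSL γ) (hγ2 : orderOf γ = 2) (hγ' : Cfsg.IsGraphAutClassPSL γ')
    (hγ'2 : orderOf γ' = 2) :
    Nonempty (↥(Cfsg.inndiagPSL n F ⊓ Subgroup.centralizer {γ}) ≃*
      Cfsg.PGO F (Cfsg.quadFormOdd m F)) ∧ Cfsg.IsConjUnder (Cfsg.inndiagPSL n F) γ γ' := by
  have hn2 : 2 ≤ n := by omega
  have key : ∃ γ₀ : MulAut (Matrix.ProjectiveSpecialLinearGroup (Fin n) F),
      Nonempty (↥(Cfsg.inndiagPSL n F ⊓ Subgroup.centralizer {γ₀}) ≃*
        Cfsg.PGO F (Cfsg.quadFormOdd m F)) ∧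
      ∀ γ : MulAut (Matrix.ProjectiveSpecialLinearGroup (Fin n) F), Cfsg.IsGraphAutClassPSL γ →
        orderOf γ = 2 → Cfsg.IsConjUnder (Cfsg.inndiagPSL n F) γ₀ γ := by
    by_cases h2 : (2 : F) = 0
    · exact graph_aut_odd_dim_even_q h2 hn hnm
    · exact graph_aut_odd_dim_odd_q h2 hn hnm
  obtain ⟨γ₀, ⟨e0'⟩, hall⟩ := key
  have h1 := hall γ hγ hγ2
  have h2 := hall γ' hγ' hγ'2
  obtain ⟨e1⟩ := centralizer_equiv_of_isConjUnder hn2 h1
  exact ⟨⟨e1.symm.trans e0'⟩, isConjUnder_trans (isConjUnder_symm h1) h2⟩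

end Cfsg.Agent.Helper14.AutPSL
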