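import Mathlib
import Cfsg.Agent.Helper14.AutUnitary
import Cfsg.Agent.Helper14.AutFieldMain

/-!
Helper14: the determinants of `GU_n(q₀)` are the norm-one units; the index of `(F^×)^n det(GU_n)`.
-/

set_option autoImplicit false
set_option linter.unusedSectionVars false

namespace Cfsg.Agent.Helper14.AutPSL

open Matrix Cfsg.Agent.Helper37.Lang

variable {n : ℕ} {F : Type*} [Field F] (σ : F ≃+* F) (q : ℕ)

/-- the norm `a ↦ a σ(a)` on units -/
def nrmHom : Fˣ →* Fˣ where
  toFun a := a * Units.map (σ : F →* F) a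
  map_one' := by rw [map_one, one_mul]
  map_mul' a b := by rw [map_mul]; exact mul_mul_mul_comm _ _ _ _

theorem nrmHom_val (a : Fˣ) : ((nrmHom σ a : Fˣ) : F) = (a : F) * σ (a : F) := rfl

theorem det_GU_le (hq : ∀ a, σ a = a ^ q) :
    (Cfsg.GU n F q).map Matrix.GeneralLinearGroup.det ≤ (nrmHom σ).ker := by
  rintro _ ⟨g, hg, rfl⟩
  rw [MonoidHom.mem_ker]
  apply Units.ext
  rw [nrmHom_val, Units.val_one, Matrix.GeneralLinearGroup.val_det_apply]
  have h1 := (mem_GU_iff σ q hq g).mp hg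
  have h2 := congrArg Matrix.det h1
  rw [Matrix.det_mul, Matrix.det_transpose, Matrix.det_one] at h2
  rw [← h2]
  congr 1
  exact RingHom.map_det (σ : F →+* F) _

theorem dg_mem_GU (hn : 2 ≤ n) (hq : ∀ a, σ a = a ^ q) (d : Fˣ) (hd : nrmHom σ d = 1) :
    dg hn d ∈ Cfsg.GU n F q := by
  rw [mem_GU_iff σ q hq]
  show (Matrix.diagonal (fun i => if i = fst hn then (d : F) else 1))ᵀ *
    (Matrix.diagonal (fun i => if i = fst hn then (d : F) else 1)).map σ = 1
  have hd' : (d : F) * σ (d : F) = 1 := by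
    have := congrArg Units.val hd
    rwa [nrmHom_val] at this
  rw [Matrix.diagonal_transpose, Matrix.diagonal_map (map_zero σ), Matrix.diagonal_mul_diagonal,
    ← Matrix.diagonal_one]
  congr 1
  funext i
  by_cases hi : i = fst hn
  · simp only [hi, if_true]
    exact hd'
  · simp only [hi, if_false, map_one, mul_one]

theorem det_GU_eq (hn : 2 ≤ n) (hq : ∀ a, σ a = a ^ q) :
    (Cfsg.GU n F q).map Matrix.GeneralLinearGroup.det = (nrmHom σ).ker := by
  apply le_antisymm (det_GU_le σ q hq)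
  intro d hd
  exact ⟨dg hn d, dg_mem_GU σ q hn hq d (MonoidHom.mem_ker.mp hd), det_dg hn d⟩

theorem range_nrmHom [Fintype F] (hσ : orderOf σ = 2) :
    (nrmHom σ).range = (Units.map ((fixF σ).subtype : fixF σ →* F)).range := by
  have hσσ : σ * σ = 1 := by rw [← pow_two, ← hσ]; exact pow_orderOf_eq_one σ
  have hσ2 : ∀ x, σ (σ x) = x := fun x => by
    have := congrArg (fun τ : F ≃+* F => τ x) hσσ
    exact this
  ext b
  constructor
  · rintro ⟨a, rfl⟩
    have hfix : σ ((nrmHom σ a : Fˣ) : F) = ((nrmHom σ a : Fˣ) : F) := by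
      rw [nrmHom_val, map_mul, hσ2, mul_comm]
    have hfix' : σ (((nrmHom σ a)⁻¹ : Fˣ) : F) = (((nrmHom σ a)⁻¹ : Fˣ) : F) := by
      rw [Units.val_inv_eq_inv_val, map_inv₀, hfix]
    refine ⟨⟨⟨_, (mem_fixF σ).mpr hfix⟩, ⟨_, (mem_fixF σ).mpr hfix'⟩, ?_, ?_⟩, ?_⟩
    · apply Subtype.ext
      show ((nrmHom σ a : Fˣ) : F) * (((nrmHom σ a)⁻¹ : Fˣ) : F) = 1
      rw [← Units.val_mul, mul_inv_cancel, Units.val_one]
    · apply Subtype.ext
      show (((nrmHom σ a)⁻¹ : Fˣ) : F) * ((nrmHom σ a : Fˣ) : F) = 1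
      rw [← Units.val_mul, inv_mul_cancel, Units.val_one]
    · apply Units.ext
      rfl
  · rintro ⟨c, rfl⟩
    have hc : σ ((c : fixF σ) : F) = ((c : fixF σ) : F) := (mem_fixF σ).mp (c : fixF σ).2
    have hc0 : ((c : fixF σ) : F) ≠ 0 := by
      intro h0
      have : (c : fixF σ) = 0 := Subtype.ext h0
      exact c.ne_zero this
    obtain ⟨μ, hμ0, hμ⟩ := exists_nrm_eq σ hσ (by norm_num) hc0 hc
    rw [nrm_two] at hμ
    refine ⟨Units.mk0 μ hμ0, ?_⟩
    apply Units.ext
    rw [nrmHom_val]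
    exact hμ

theorem index_PC_GU [Fintype F] [Fintype (fixF σ)] (hn : 2 ≤ n) (hσ : orderOf σ = 2)
    (hq : ∀ a, σ a = a ^ q) :
    (PC (Cfsg.GU n F q)).index = Nat.gcd n (Fintype.card (fixF σ) - 1) := by
  unfold PC
  rw [index_pow_sup, det_GU_eq σ q hn hq]
  congr 1
  have h1 : Nat.card (nrmHom σ).ker * (nrmHom σ).ker.index = Nat.card Fˣ :=
    Subgroup.card_mul_index _
  have hpos : 0 < Nat.card (nrmHom σ).ker := Nat.card_pos
  rw [← h1, Nat.mul_div_cancel_left _ hpos, Subgroup.index_ker, range_nrmHom σ hσ]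
  have hinj : Function.Injective (Units.map ((fixF σ).subtype : fixF σ →* F)) := by
    apply Units.map_injective
    exact Subtype.val_injective
  have h2 : Nat.card ((Units.map ((fixF σ).subtype : fixF σ →* F)).range) = Nat.card (fixF σ)ˣ :=
    Nat.card_congr (MonoidHom.ofInjective hinj).symm.toEquiv
  rw [h2, Nat.card_units, Nat.card_eq_fintype_card]

end Cfsg.Agent.Helper14.AutPSL
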