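import Mathlib
import Cfsg.Agent.Helper14.AutUnitary2
import Cfsg.Agent.Helper14.AutTransport
import Cfsg.Agent.Helper37.LangF

/-!
Helper14: involutory graph-field automorphisms of `PSL_n(q)`: normal form and the main theorem.
-/

set_option autoImplicit false
set_option linter.unusedSectionVars false

namespace Cfsg.Agent.Helper14.AutPSL

open Matrix Cfsg.Agent.Helper37.Lang

variable {n : ℕ} {F : Type*} [Field F] (σ : F ≃+* F) (q : ℕ)

theorem gfx_sq : gfx n σ * gfx n σ = pslOf (slField (σ * σ)) := by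
  unfold gfx
  rw [← map_mul]
  congr 1
  calc slField σ * slInvT * (slField σ * slInvT)
      = slField σ * (slInvT * slField σ) * slInvT := by simp only [mul_assoc]
    _ = slField σ * (slField σ * slInvT) * slInvT := by rw [slInvT_slField]
    _ = slField σ * slField σ * (slInvT * slInvT) := by simp only [mul_assoc]
    _ = slField (σ * σ) := by rw [slInvT_sq, mul_one, slField_mul]

theorem field_comm_of_pow (hq : ∀ a, σ a = a ^ q) (τ : F ≃+* F) : τ * σ = σ * τ := by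
  ext a
  show τ (σ a) = σ (τ a)
  rw [hq, hq, map_pow]

theorem slField_comm_gfx (hq : ∀ a, σ a = a ^ q) (τ : F ≃+* F) :
    pslOf (slField τ) * gfx n σ = gfx n σ * pslOf (slField τ) := by
  unfold gfx
  rw [← map_mul, ← map_mul]
  congr 1
  calc slField τ * (slField σ * slInvT) = slField (τ * σ) * slInvT := by
        rw [slField_mul, mul_assoc]
    _ = slField (σ * τ) * slInvT := by rw [field_comm_of_pow σ q hq τ]
    _ = slField σ * (slField τ * slInvT) := by rw [slField_mul, mul_assoc]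
    _ = slField σ * (slInvT * slField τ) := by rw [slInvT_slField]
    _ = slField σ * slInvT * slField τ := by rw [mul_assoc]

theorem slT_comm_slInvT (ε : Bool) :
    (slT ε * slInvT : MulAut (Matrix.SpecialLinearGroup (Fin n) F)) = slInvT * slT ε := by
  cases ε
  · unfold slT; simp
  · unfold slT; simp

theorem slT_comm_gfx (ε : Bool) :
    pslOf (slT ε) * gfx n σ = gfx n σ * pslOf (slT ε) := by
  unfold gfx
  rw [← map_mul, ← map_mul]
  congr 1
  calc slT ε * (slField σ * slInvT) = slT ε * slField σ * slInvT := by rw [mul_assoc]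
    _ = slField σ * (slT ε * slInvT) := by rw [slT_slField, mul_assoc]
    _ = slField σ * (slInvT * slT ε) := by rw [slT_comm_slInvT]
    _ = slField σ * slInvT * slT ε := by rw [mul_assoc]

/-- an involutory graph-field automorphism is conjugate, under the inner-diagonal group, to the
standard one -/
theorem exists_conj_eq_gfx [Fintype F] {p f : ℕ} [hp : Fact p.Prime]
    (hF : Fintype.card F = p ^ f) (hf : 1 ≤ f) (hn : 2 ≤ n)
    (x : MulAut (Matrix.ProjectiveSpecialLinearGroup (Fin n) F))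
    (hx : Cfsg.IsGraphFieldAutClassPSL x) (hx2 : orderOf x = 2) :
    ∃ σ : F ≃+* F, orderOf σ = 2 ∧ ∃ h : GL (Fin n) F,
      pslOf (slConj h) * x * (pslOf (slConj h))⁻¹ = gfx n σ := by
  obtain ⟨-, α, φ, γ, σ, hσ1, hφ, hγ, hα⟩ := hx
  rw [isStdField_iff] at hφ
  rw [isInverseTranspose_iff] at hγ
  subst hφ hγ
  have hg : α * x * α⁻¹ = gfx n σ := by rw [hα, gfx_eq]
  have hxx : x * x = 1 := by rw [← pow_two, ← hx2]; exact pow_orderOf_eq_one x
  have hsq : gfx n σ * gfx n σ = 1 := by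
    rw [← hg]
    calc α * x * α⁻¹ * (α * x * α⁻¹) = α * (x * x) * α⁻¹ := by group
      _ = 1 := by rw [hxx, mul_one, mul_inv_cancel]
  rw [gfx_sq] at hsq
  have hσσ : σ * σ = 1 := by
    apply fieldAutHom_injective (n := n) hn
    rw [fieldAutHom_apply, hsq, map_one]
  have hσ2 : ∀ a, σ (σ a) = a := fun a => by
    have := congrArg (fun τ : F ≃+* F => τ a) hσσ
    exact this
  have hσ : orderOf σ = 2 := orderOf_eq_two hσ2 hσ1
  refine ⟨σ, hσ, ?_⟩
  have hq := involution_eq_pow hF σ hσ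
  obtain ⟨a, τ, ε, rfl⟩ := exists_factorization hF hf hn α
  obtain ⟨ρ, hρdef⟩ : ∃ ρ : MulAut (Matrix.ProjectiveSpecialLinearGroup (Fin n) F),
      ρ = pslOf (slField τ) * pslOf (slT ε) := ⟨_, rfl⟩
  have hρ : ρ * gfx n σ = gfx n σ * ρ := by
    rw [hρdef, mul_assoc, slT_comm_gfx, ← mul_assoc, slField_comm_gfx σ _ hq, mul_assoc]
  rw [mul_assoc (pslOf (slConj a)), ← hρdef] at hg
  obtain ⟨a', ha'⟩ := conj_mem_inndiag hF hf hn ρ⁻¹ a
  refine ⟨a', ?_⟩
  obtain ⟨A, hA⟩ : ∃ A : MulAut (Matrix.ProjectiveSpecialLinearGroup (Fin n) F),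
      A = pslOf (slConj a) := ⟨_, rfl⟩
  rw [← hA] at hg ha'
  have hx' : x = (A * ρ)⁻¹ * gfx n σ * (A * ρ) := by rw [← hg]; group
  have e : ρ⁻¹ * gfx n σ * ρ = gfx n σ := by rw [mul_assoc, ← hρ, inv_mul_cancel_left]
  rw [← ha', hx']
  calc ρ⁻¹ * A * ρ⁻¹⁻¹ * ((A * ρ)⁻¹ * gfx n σ * (A * ρ)) * (ρ⁻¹ * A * ρ⁻¹⁻¹)⁻¹
      = ρ⁻¹ * gfx n σ * ρ := by group
    _ = gfx n σ := e

/-- involutory graph-field automorphisms of `PSL_n(q)` -/
theorem graph_field_main [Fintype F] {p f : ℕ} [hp : Fact p.Prime]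
    (hF : Fintype.card F = p ^ f) (hf : 1 ≤ f) (hn : 2 ≤ n)
    (x : MulAut (Matrix.ProjectiveSpecialLinearGroup (Fin n) F))
    (hx : Cfsg.IsGraphFieldAutClassPSL x) (hx2 : orderOf x = 2) :
    Even f ∧
    (∀ y : MulAut (Matrix.ProjectiveSpecialLinearGroup (Fin n) F),
      Cfsg.IsGraphFieldAutClassPSL y → orderOf y = 2 →
      Cfsg.IsConjUnder (Cfsg.inndiagPSL n F) x y) ∧
    Nonempty (↥(Cfsg.inndiagPSL n F ⊓ Subgroup.centralizer {x}) ≃* Cfsg.PGU n F (p ^ (f / 2))) ∧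
    Cfsg.splitClassCount (Cfsg.inndiagPSL n F)
      (Cfsg.Inn (Matrix.ProjectiveSpecialLinearGroup (Fin n) F)) x =
      Nat.gcd n (p ^ (f / 2) - 1) := by
  classical
  obtain ⟨σ, hσ, h, hh⟩ := exists_conj_eq_gfx hF hf hn x hx hx2
  have hft : Fintype (fixF σ) := Fintype.ofFinite _
  obtain ⟨hdvd, hcard⟩ := card_fixF σ hF
  rw [hσ] at hdvd hcard
  have hq := involution_eq_pow hF σ hσ
  have hHn : (Cfsg.inndiagPSL n F).Normal := inndiag_normal hF hf hn
  have hKn : (Cfsg.Inn (Matrix.ProjectiveSpecialLinearGroup (Fin n) F)).Normal := Inn_normal _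
  refine ⟨even_iff_two_dvd.mpr hdvd, ?_, ?_, ?_⟩
  · intro y hy hy2
    obtain ⟨σ', hσ', h', hh'⟩ := exists_conj_eq_gfx hF hf hn y hy hy2
    have hq' := involution_eq_pow hF σ' hσ'
    have hσσ' : σ' = σ := by
      ext a
      rw [hq, hq']
    rw [hσσ', ← hh] at hh'
    refine ⟨pslOf (slConj (h'⁻¹ * h)), mem_inndiagPSL.mpr ⟨_, rfl⟩, ?_⟩
    rw [slConj_mul, slConj_inv, map_mul, map_inv]
    have : y = (pslOf (slConj h'))⁻¹ * (pslOf (slConj h') * y * (pslOf (slConj h'))⁻¹) *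
        pslOf (slConj h') := by group
    rw [this, hh']
    group
  · have e1 := centralizerConjEquiv (Cfsg.inndiagPSL n F) (pslOf (slConj h)) x
    rw [hh] at e1
    exact ⟨e1.trans (centralizerGfxEquiv σ _ hn hσ hq)⟩
  · rw [← splitClassCount_conj _ _ (pslOf (slConj h)) x, hh,
      splitClassCount_gen (gfx n σ) (Cfsg.GU n F (p ^ (f / 2))) (map_GU σ _ hn hσ hq) hn,
      index_PC_GU σ _ hn hσ hq, hcard]

end Cfsg.Agent.Helper14.AutPSL
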