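import Cfsg.Agent.Helper57.BH.Defs

/-!
# Piece (C5) of S4503 (helper57): a constituent of a character without `P`-fixed points has none
-/

set_option autoImplicit false

namespace Cfsg.Agent.Helper14.BH

open Cfsg Cfsg.Agent.Helper16 Cfsg.Agent.Helper16.DefOne Cfsg.Agent.Helper82.DefOne
  Cfsg.Agent.Helper77.DefOne Cfsg.Agent.Helper57.BH
open scoped ComplexConjugate

universe u

variable {G : Type u} [Group G] [Fintype G] {p : ℕ} [Fact p.Prime] (P : Sylow p G)

/-- `pSum` as a sum over the subtype -/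
theorem pSum_eq_sum [Fintype (P : Subgroup G)] (F : G → ℂ) :
    pSum P F = ∑ x : (P : Subgroup G), F (x : G) := by
  unfold pSum
  rw [← finsum_set_coe_eq_finsum_mem, finsum_eq_sum_of_fintype]
  rfl

/-- the `P`-sum of a character is `|P|` times a natural number -/
theorem pSum_isCharacter_nat (hP : Nat.card P = p) (Θ : G → ℂ) (hΘ : IsCharacter G Θ) :
    ∃ m : ℕ, pSum P Θ = ((p * m : ℕ) : ℂ) := by
  classical
  let _ : Fintype (P : Subgroup G) := Fintype.ofFinite _
  have hres : IsCharacter (P : Subgroup G) (fun x : (P : Subgroup G) => Θ (x : G)) :=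
    Helper74.isCharacter_restrict (P : Subgroup G) hΘ
  let one : IrrCharacter (P : Subgroup G) := ⟨fun _ => 1, Helper79.isIrrCharacter_one⟩
  obtain ⟨m, hm⟩ := Helper74.isCharacter_inner_irr_nat hres one
  refine ⟨m, ?_⟩
  rw [pSum_eq_sum]
  unfold classInner at hm
  have hcard : (Nat.card (P : Subgroup G) : ℂ) = (p : ℂ) := by
    have : Nat.card (P : Subgroup G) = p := hP
    rw [this]
  have hp0 : (p : ℂ) ≠ 0 := by
    have : p ≠ 0 := (Fact.out : p.Prime).ne_zero
    exact_mod_cast this
  rw [hcard] at hm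
  have h2 : ∑ g : (P : Subgroup G), Θ (g : G) * conj (one.1 g) =
      ∑ g : (P : Subgroup G), Θ (g : G) := by
    refine Finset.sum_congr rfl (fun g _ => ?_)
    show Θ (g : G) * conj (1 : ℂ) = Θ (g : G)
    rw [map_one, mul_one]
  rw [h2] at hm
  have h3 : ∑ g : (P : Subgroup G), Θ (g : G) = (p : ℂ) * (m : ℂ) := by
    rw [← hm, mul_inv_cancel_left₀ hp0]
  rw [h3]
  push_cast
  ring

/-- (C5) a constituent of a character without `P`-fixed points has none -/
theorem pSum_eq_zero_of_constituent (hP : Nat.card P = p) (Ξ : G → ℂ) (hΞ : IsCharacter G Ξ)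
    (h0 : pSum P Ξ = 0) (χ : IrrCharacter G) (hχ : classInner Ξ (χ : G → ℂ) ≠ 0) :
    pSum P (χ : G → ℂ) = 0 := by
  classical
  let _ : Fintype (P : Subgroup G) := Fintype.ofFinite _
  let _ : Fintype (IrrCharacter G) := Helper74.irrFintype G
  have hsum := Helper74.isCharacter_eq_sum_irr hΞ
  -- natural-number data
  choose a ha using fun ψ : IrrCharacter G => Helper74.isCharacter_inner_irr_nat hΞ ψ
  choose m hm using fun ψ : IrrCharacter G =>
    pSum_isCharacter_nat P hP (ψ : G → ℂ) (Helper74.irr_isCharacter ψ)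
  have hexp : pSum P Ξ = ((∑ ψ : IrrCharacter G, a ψ * (p * m ψ) : ℕ) : ℂ) := by
    rw [pSum_eq_sum]
    have h1 : ∀ x : (P : Subgroup G), Ξ (x : G) =
        ∑ ψ : IrrCharacter G, (a ψ : ℂ) * (ψ : G → ℂ) (x : G) := by
      intro x
      have := congrFun hsum (x : G)
      rw [Finset.sum_apply] at this
      rw [this]
      refine Finset.sum_congr rfl (fun ψ _ => ?_)
      rw [ha ψ]
      rfl
    rw [Finset.sum_congr rfl (fun x _ => h1 x), Finset.sum_comm]
    push_cast
    refine Finset.sum_congr rfl (fun ψ _ => ?_)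
    rw [← Finset.mul_sum, ← pSum_eq_sum, hm ψ]
    push_cast
    ring
  rw [h0] at hexp
  have hz : (∑ ψ : IrrCharacter G, a ψ * (p * m ψ)) = 0 := by exact_mod_cast hexp.symm
  have hz2 := (Finset.sum_eq_zero_iff.mp hz) χ (Finset.mem_univ _)
  have haχ : a χ ≠ 0 := by
    intro h
    apply hχ
    rw [ha χ, h]
    simp
  have hpm : p * m χ = 0 := by
    rcases Nat.mul_eq_zero.mp hz2 with h | h
    · exact absurd h haχ
    · exact h
  rw [hm χ, hpm]
  simp

end Cfsg.Agent.Helper14.BH
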