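import Mathlib
import Cfsg.Agent.Helper14.CharTwoRefl

/-!
# Orthogonal families of non-singular vectors in odd characteristic

Extending orthogonal families, and universality of the orthogonal complement of an orthogonal
family of codimension at least two over a finite field.
-/

set_option autoImplicit false

namespace Cfsg.Agent.Helper14

open Module

section OrthoFam

variable {F V : Type*} [Field F] [AddCommGroup V] [Module F V]

/-- The projection away from an orthogonal family of non-singular vectors. -/
noncomputable def orthoProj (Q : QuadraticForm F V) {k : ℕ} (v : Fin k → V) (x : V) : V :=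
  x - ∑ i, ((2 * Q (v i))⁻¹ * QuadraticMap.polarBilin Q (v i) x) • v i

theorem sub_orthoProj (Q : QuadraticForm F V) {k : ℕ} (v : Fin k → V) (x : V) :
    x - orthoProj Q v x = ∑ i, ((2 * Q (v i))⁻¹ * QuadraticMap.polarBilin Q (v i) x) • v i := by
  unfold orthoProj
  rw [sub_sub_cancel]

theorem polar_orthoProj (h2 : (2 : F) ≠ 0) (Q : QuadraticForm F V) {k : ℕ} (v : Fin k → V)
    (hv0 : ∀ i, Q (v i) ≠ 0)
    (hv : ∀ i j, i ≠ j → QuadraticMap.polarBilin Q (v i) (v j) = 0)
    (x : V) (j : Fin k) : QuadraticMap.polarBilin Q (v j) (orthoProj Q v x) = 0 := by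
  unfold orthoProj
  rw [map_sub, map_sum, Finset.sum_eq_single j]
  · rw [map_smul, smul_eq_mul, qr_polar_self]
    have := hv0 j
    field_simp
    ring
  · intro i _ hij
    rw [map_smul, hv j i (Ne.symm hij), smul_zero]
  · intro h
    exact absurd (Finset.mem_univ j) h

theorem sub_orthoProj_mem_span (Q : QuadraticForm F V) {k : ℕ} (v : Fin k → V) (x : V) :
    x - orthoProj Q v x ∈ Submodule.span F (Set.range v) := by
  rw [sub_orthoProj]
  exact Submodule.sum_mem _ (fun i _ => Submodule.smul_mem _ _ (Submodule.subset_span ⟨i, rfl⟩))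

/-- An orthogonal family of fewer than `dim V` non-singular vectors can be extended. -/
theorem exists_nonsingular_ortho [FiniteDimensional F V] (h2 : (2 : F) ≠ 0)
    (Q : QuadraticForm F V) (hQ : (QuadraticMap.polarBilin Q).Nondegenerate) {k : ℕ}
    (v : Fin k → V) (hv0 : ∀ i, Q (v i) ≠ 0)
    (hv : ∀ i j, i ≠ j → QuadraticMap.polarBilin Q (v i) (v j) = 0)
    (hk : k < finrank F V) :
    ∃ e, Q e ≠ 0 ∧ ∀ i, QuadraticMap.polarBilin Q (v i) e = 0 := by
  by_contra hcon
  push Not at hcon
  have hsing : ∀ e, (∀ i, QuadraticMap.polarBilin Q (v i) e = 0) → Q e = 0 := by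
    intro e he
    by_contra h
    obtain ⟨i, hi⟩ := hcon e h
    exact hi (he i)
  have hP0 : ∀ x, orthoProj Q v x = 0 := by
    intro x
    apply hQ.1
    intro y
    have e1 : y = orthoProj Q v y + (y - orthoProj Q v y) := by abel
    rw [e1, map_add]
    have hx := polar_orthoProj h2 Q v hv0 hv x
    have hy := polar_orthoProj h2 Q v hv0 hv y
    have t1 : QuadraticMap.polarBilin Q (orthoProj Q v x) (orthoProj Q v y) = 0 := by
      rw [QuadraticMap.polarBilin_apply_apply, QuadraticMap.polar, hsing _ hx, hsing _ hy,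
        hsing (orthoProj Q v x + orthoProj Q v y)]
      · ring
      · intro i
        rw [map_add, hx, hy, add_zero]
    have t2 : QuadraticMap.polarBilin Q (orthoProj Q v x) (y - orthoProj Q v y) = 0 := by
      rw [sub_orthoProj, map_sum]
      apply Finset.sum_eq_zero
      intro i _
      rw [map_smul, qr_polar_comm Q (orthoProj Q v x) (v i), hx i, smul_zero]
    rw [t1, t2, add_zero]
  have htop : Submodule.span F (Set.range v) = ⊤ := by
    rw [eq_top_iff]
    intro x _
    have := sub_orthoProj_mem_span Q v x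
    rwa [hP0 x, sub_zero] at this
  have h1 := finrank_range_le_card (R := F) v
  rw [Set.finrank, htop, finrank_top, Fintype.card_fin] at h1
  omega

/-- A diagonal binary form over a finite field of odd order is universal. -/
theorem exists_sq_add_sq [Fintype F] (h2 : (2 : F) ≠ 0) (α β γ : F) (hα : α ≠ 0) (hβ : β ≠ 0) :
    ∃ x y : F, α * x ^ 2 + β * y ^ 2 = γ := by
  open Polynomial in
  have hchar : ringChar F ≠ 2 := by
    intro h
    have : CharP F 2 := by rw [← h]; exact ringChar.charP F
    exact h2 (CharTwo.two_eq_zero)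
  have hcard : Fintype.card F % 2 = 1 := FiniteField.odd_card_of_char_ne_two hchar
  have hf : degree (C α * X ^ 2 - C γ : F[X]) = 2 := by
    rw [degree_sub_C, degree_C_mul_X_pow 2 hα]
    · rfl
    · rw [degree_C_mul_X_pow 2 hα]
      norm_num
  have hg : degree (C β * X ^ 2 : F[X]) = 2 := by
    rw [degree_C_mul_X_pow 2 hβ]
    rfl
  obtain ⟨x, y, hxy⟩ := FiniteField.exists_root_sum_quadratic hf hg hcard
  simp only [eval_sub, eval_mul, eval_C, eval_pow, eval_X] at hxy
  exact ⟨x, y, by linear_combination hxy⟩

/-- The orthogonal complement of an orthogonal family of non-singular vectors of codimension at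
least two represents every value. -/
theorem exists_ortho_value [Fintype F] [FiniteDimensional F V] (h2 : (2 : F) ≠ 0)
    (Q : QuadraticForm F V) (hQ : (QuadraticMap.polarBilin Q).Nondegenerate) {k : ℕ}
    (v : Fin k → V) (hv0 : ∀ i, Q (v i) ≠ 0)
    (hv : ∀ i j, i ≠ j → QuadraticMap.polarBilin Q (v i) (v j) = 0)
    (hk : k + 2 ≤ finrank F V) (γ : F) :
    ∃ z, Q z = γ ∧ ∀ i, QuadraticMap.polarBilin Q (v i) z = 0 := by
  obtain ⟨e, he0, he⟩ := exists_nonsingular_ortho h2 Q hQ v hv0 hv (by omega)
  have hv0' : ∀ i, Q ((Fin.cons e v : Fin (k + 1) → V) i) ≠ 0 := by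
    intro i
    refine Fin.cases ?_ ?_ i
    · rw [Fin.cons_zero]
      exact he0
    · intro j
      rw [Fin.cons_succ]
      exact hv0 j
  have hv' : ∀ i j, i ≠ j → QuadraticMap.polarBilin Q ((Fin.cons e v : Fin (k + 1) → V) i)
      ((Fin.cons e v : Fin (k + 1) → V) j) = 0 := by
    intro i
    refine Fin.cases ?_ ?_ i
    · intro j
      refine Fin.cases ?_ ?_ j
      · intro h
        exact absurd rfl h
      · intro j' _
        rw [Fin.cons_zero, Fin.cons_succ, qr_polar_comm]
        exact he j'
    · intro i' j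
      refine Fin.cases ?_ ?_ j
      · intro _
        rw [Fin.cons_zero, Fin.cons_succ]
        exact he i'
      · intro j' h
        rw [Fin.cons_succ, Fin.cons_succ]
        apply hv
        intro h'
        exact h (congrArg Fin.succ h')
  obtain ⟨e', he0', he'⟩ := exists_nonsingular_ortho h2 Q hQ (Fin.cons e v : Fin (k + 1) → V)
    hv0' hv' (by omega)
  have hee' : QuadraticMap.polarBilin Q e e' = 0 := by
    have := he' 0
    rwa [Fin.cons_zero] at this
  have hve' : ∀ i, QuadraticMap.polarBilin Q (v i) e' = 0 := by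
    intro i
    have := he' i.succ
    rwa [Fin.cons_succ] at this
  obtain ⟨x, y, hxy⟩ := exists_sq_add_sq h2 (Q e) (Q e') γ he0 he0'
  refine ⟨x • e + y • e', ?_, ?_⟩
  · rw [qr_quad_add, QuadraticMap.map_smul, QuadraticMap.map_smul, map_smul, map_smul,
      LinearMap.smul_apply, hee']
    simp only [smul_eq_mul, mul_zero, add_zero]
    linear_combination hxy
  · intro i
    rw [map_add, map_smul, map_smul, he i, hve' i]
    simp

end OrthoFam

end Cfsg.Agent.Helper14
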