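import Mathlib
import Cfsg.Agent.Helper14.OrthoFam

/-!
# Connecting two non-singular vectors spanning a degenerate plane

If `a, b` are independent non-singular vectors spanning a degenerate plane, we find a vector `z`
with `Q z = Q b` such that both `⟨a, z⟩` and `⟨z, b⟩` are non-degenerate planes.
-/

set_option autoImplicit false

namespace Cfsg.Agent.Helper14

open Module

section MiddleVec

variable {F V : Type*} [Field F] [AddCommGroup V] [Module F V]

/-- Decomposition of `b` along `a` when the plane `⟨a, b⟩` is degenerate. -/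
theorem exists_degenerate_plane_decomp (h2 : (2 : F) ≠ 0) (Q : QuadraticForm F V)
    (hQ : (QuadraticMap.polarBilin Q).Nondegenerate) (a b : V) (ha : Q a ≠ 0)
    (hD : 4 * Q a * Q b = QuadraticMap.polarBilin Q a b ^ 2)
    (hind : b ∉ Submodule.span F {a}) :
    ∃ (b₂ s₀ : V) (l : F), b = b₂ + l • a ∧ Q b₂ = 0 ∧ QuadraticMap.polarBilin Q a b₂ = 0 ∧
      QuadraticMap.polarBilin Q a s₀ = 0 ∧ QuadraticMap.polarBilin Q b₂ s₀ = 1 := by
  obtain ⟨l, hl⟩ : ∃ l : F, l = (2 * Q a)⁻¹ * QuadraticMap.polarBilin Q a b := ⟨_, rfl⟩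
  have h2a : 2 * Q a ≠ 0 := mul_ne_zero h2 ha
  have hl' : l * (2 * Q a) = QuadraticMap.polarBilin Q a b := by
    rw [hl]
    field_simp
  obtain ⟨b₂, hb₂⟩ : ∃ b₂ : V, b₂ = b - l • a := ⟨_, rfl⟩
  have hb : b = b₂ + l • a := by rw [hb₂]; abel
  have hab₂ : QuadraticMap.polarBilin Q a b₂ = 0 := by
    rw [hb₂, map_sub, map_smul, qr_polar_self, smul_eq_mul]
    linear_combination -hl'
  have hQb₂ : Q b₂ = 0 := by
    rw [hb₂, qr_quad_sub, QuadraticMap.map_smul, map_smul, smul_eq_mul, smul_eq_mul,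
      qr_polar_comm Q b a]
    have e : 4 * Q a * (Q b + l * l * Q a - l * QuadraticMap.polarBilin Q a b) = 0 := by
      rw [← hl']
      linear_combination hD - (l * (2 * Q a) + QuadraticMap.polarBilin Q a b) * hl'
    have h4 : 4 * Q a ≠ 0 := by
      have : (4 : F) = 2 * 2 := by norm_num
      rw [this]
      exact mul_ne_zero (mul_ne_zero h2 h2) ha
    exact (mul_eq_zero.mp e).resolve_left h4
  have hb₂0 : b₂ ≠ 0 := by
    intro h0
    apply hind
    rw [hb, h0, zero_add]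
    exact Submodule.smul_mem _ _ (Submodule.mem_span_singleton_self a)
  have hy : ∃ y, QuadraticMap.polarBilin Q b₂ y ≠ 0 := by
    by_contra hcon
    push Not at hcon
    exact hb₂0 (hQ.1 b₂ hcon)
  obtain ⟨y, hy⟩ := hy
  obtain ⟨y', hy'⟩ : ∃ y' : V, y' = y - ((2 * Q a)⁻¹ * QuadraticMap.polarBilin Q a y) • a :=
    ⟨_, rfl⟩
  have hay' : QuadraticMap.polarBilin Q a y' = 0 := by
    rw [hy', map_sub, map_smul, qr_polar_self, smul_eq_mul]
    field_simp
    ring
  have hb₂y' : QuadraticMap.polarBilin Q b₂ y' = QuadraticMap.polarBilin Q b₂ y := by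
    rw [hy', map_sub, map_smul, qr_polar_comm Q b₂ a, hab₂, smul_zero, sub_zero]
  refine ⟨b₂, (QuadraticMap.polarBilin Q b₂ y)⁻¹ • y', l, hb, hQb₂, hab₂, ?_, ?_⟩
  · rw [map_smul, hay', smul_zero]
  · rw [map_smul, hb₂y', smul_eq_mul, inv_mul_cancel₀ hy]

/-- Over a field with more than three elements: a middle vector orthogonal to `a`. -/
theorem exists_middle_of_three_lt (h2 : (2 : F) ≠ 0) (Q : QuadraticForm F V)
    (hQ : (QuadraticMap.polarBilin Q).Nondegenerate) (a b : V) (ha : Q a ≠ 0)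
    (hD : 4 * Q a * Q b = QuadraticMap.polarBilin Q a b ^ 2)
    (hind : b ∉ Submodule.span F {a})
    (y : F) (hy0 : y ≠ 0) (hy1 : y ≠ 2 * Q b) (hy2 : y ≠ -(2 * Q b)) :
    ∃ z, Q z = Q b ∧ QuadraticMap.polarBilin Q a z = 0 ∧
      4 * Q z * Q b ≠ QuadraticMap.polarBilin Q z b ^ 2 := by
  obtain ⟨b₂, s₀, l, hb, hQb₂, hab₂, has₀, hb₂s₀⟩ :=
    exists_degenerate_plane_decomp h2 Q hQ a b ha hD hind
  have hb₂b₂ : QuadraticMap.polarBilin Q b₂ b₂ = 0 := by rw [qr_polar_self, hQb₂, mul_zero]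
  obtain ⟨x, hx⟩ : ∃ x : F, x = (Q b - y ^ 2 * Q s₀) * y⁻¹ := ⟨_, rfl⟩
  have hxy : x * y = Q b - y ^ 2 * Q s₀ := by
    rw [hx]
    field_simp
  have hQz : Q (x • b₂ + y • s₀) = Q b := by
    rw [qr_quad_add, QuadraticMap.map_smul, QuadraticMap.map_smul, map_smul, map_smul,
      LinearMap.smul_apply, hQb₂, hb₂s₀]
    simp only [smul_eq_mul]
    linear_combination hxy
  have haz : QuadraticMap.polarBilin Q a (x • b₂ + y • s₀) = 0 := by
    rw [map_add, map_smul, map_smul, hab₂, has₀]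
    simp
  refine ⟨x • b₂ + y • s₀, hQz, haz, ?_⟩
  have hzb : QuadraticMap.polarBilin Q (x • b₂ + y • s₀) b = y := by
    rw [qr_polar_comm]
    have e1 : QuadraticMap.polarBilin Q b (x • b₂ + y • s₀)
        = QuadraticMap.polarBilin Q b₂ (x • b₂ + y • s₀)
          + l * QuadraticMap.polarBilin Q a (x • b₂ + y • s₀) := by
      have key : ∀ w, QuadraticMap.polarBilin Q (b₂ + l • a) w
          = QuadraticMap.polarBilin Q b₂ w + l * QuadraticMap.polarBilin Q a w := by
        intro w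
        rw [map_add, LinearMap.add_apply, map_smul, LinearMap.smul_apply, smul_eq_mul]
      nth_rewrite 1 [hb]
      exact key _
    rw [e1, haz, mul_zero, add_zero, map_add, map_smul, map_smul, hb₂b₂, hb₂s₀]
    simp
  rw [hzb, hQz]
  intro h
  have h3 : (2 * Q b - y) * (2 * Q b + y) = 0 := by linear_combination h
  rcases mul_eq_zero.mp h3 with h4 | h4
  · apply hy1
    linear_combination -h4
  · apply hy2
    linear_combination h4

/-- In dimension at least five: a middle vector orthogonal to both `a` and `b`. -/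
theorem exists_middle_of_five_le [Fintype F] [FiniteDimensional F V] (h2 : (2 : F) ≠ 0)
    (Q : QuadraticForm F V)
    (hQ : (QuadraticMap.polarBilin Q).Nondegenerate) (a b : V) (ha : Q a ≠ 0)
    (hD : 4 * Q a * Q b = QuadraticMap.polarBilin Q a b ^ 2)
    (hind : b ∉ Submodule.span F {a}) (hn : 5 ≤ finrank F V) :
    ∃ z, Q z = Q b ∧ QuadraticMap.polarBilin Q a z = 0 ∧ QuadraticMap.polarBilin Q b z = 0 := by
  obtain ⟨b₂, s₀, l, hb, hQb₂, hab₂, has₀, hb₂s₀⟩ :=
    exists_degenerate_plane_decomp h2 Q hQ a b ha hD hind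
  have hb₂b₂ : QuadraticMap.polarBilin Q b₂ b₂ = 0 := by rw [qr_polar_self, hQb₂, mul_zero]
  have hs₀b₂ : QuadraticMap.polarBilin Q s₀ b₂ = 1 := by rw [qr_polar_comm, hb₂s₀]
  obtain ⟨e₁, he₁⟩ : ∃ e₁ : V, e₁ = s₀ + (1 - Q s₀) • b₂ := ⟨_, rfl⟩
  obtain ⟨e₂, he₂⟩ : ∃ e₂ : V, e₂ = s₀ + (-(1 + Q s₀)) • b₂ := ⟨_, rfl⟩
  have hQe₁ : Q e₁ = 1 := by
    rw [he₁, qr_quad_add_smul, hQb₂, hs₀b₂]
    ring
  have hQe₂ : Q e₂ = -1 := by
    rw [he₂, qr_quad_add_smul, hQb₂, hs₀b₂]
    ring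
  have hae₁ : QuadraticMap.polarBilin Q a e₁ = 0 := by
    rw [he₁, map_add, map_smul, has₀, hab₂]
    simp
  have hae₂ : QuadraticMap.polarBilin Q a e₂ = 0 := by
    rw [he₂, map_add, map_smul, has₀, hab₂]
    simp
  have he₁e₂ : QuadraticMap.polarBilin Q e₁ e₂ = 0 := by
    rw [he₁, he₂]
    simp only [map_add, map_smul, LinearMap.add_apply, LinearMap.smul_apply, smul_eq_mul,
      hb₂b₂, hb₂s₀, hs₀b₂, qr_polar_self]
    ring
  have hv0 : ∀ i, Q ((![a, e₁, e₂] : Fin 3 → V) i) ≠ 0 := by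
    intro i
    fin_cases i
    · exact ha
    · change Q e₁ ≠ 0
      rw [hQe₁]
      exact one_ne_zero
    · change Q e₂ ≠ 0
      rw [hQe₂]
      exact neg_ne_zero.mpr one_ne_zero
  have hv : ∀ i j, i ≠ j → QuadraticMap.polarBilin Q ((![a, e₁, e₂] : Fin 3 → V) i)
      ((![a, e₁, e₂] : Fin 3 → V) j) = 0 := by
    intro i j hij
    fin_cases i <;> fin_cases j
    · exact absurd rfl hij
    · exact hae₁
    · exact hae₂
    · change QuadraticMap.polarBilin Q e₁ a = 0
      rw [qr_polar_comm, hae₁]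
    · exact absurd rfl hij
    · exact he₁e₂
    · change QuadraticMap.polarBilin Q e₂ a = 0
      rw [qr_polar_comm, hae₂]
    · change QuadraticMap.polarBilin Q e₂ e₁ = 0
      rw [qr_polar_comm, he₁e₂]
    · exact absurd rfl hij
  obtain ⟨z, hz, hzv⟩ := exists_ortho_value h2 Q hQ (![a, e₁, e₂] : Fin 3 → V) hv0 hv
    (by omega) (Q b)
  have hza : QuadraticMap.polarBilin Q a z = 0 := hzv 0
  have hze₁ : QuadraticMap.polarBilin Q e₁ z = 0 := hzv 1
  have hze₂ : QuadraticMap.polarBilin Q e₂ z = 0 := hzv 2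
  have hzb₂ : QuadraticMap.polarBilin Q b₂ z = 0 := by
    have e : (2 : F) * QuadraticMap.polarBilin Q b₂ z = 0 := by
      have h3 : QuadraticMap.polarBilin Q e₁ z - QuadraticMap.polarBilin Q e₂ z
          = 2 * QuadraticMap.polarBilin Q b₂ z := by
        rw [he₁, he₂]
        simp only [map_add, map_smul, LinearMap.add_apply, LinearMap.smul_apply, smul_eq_mul]
        ring
      rw [← h3, hze₁, hze₂, sub_zero]
    exact (mul_eq_zero.mp e).resolve_left h2
  refine ⟨z, hz, hza, ?_⟩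
  rw [hb, map_add, LinearMap.add_apply, map_smul, LinearMap.smul_apply, hzb₂, hza]
  simp

end MiddleVec

end Cfsg.Agent.Helper14
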