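import Mathlib
import Cfsg.Prelude.Def_ClassicalGeometry
import Cfsg.Agent.Helper14.ReflConj

/-!
# The three reflections theorem

A product of three reflections fixing pointwise a common subspace of codimension at most two is an
involution.
-/

set_option autoImplicit false

namespace Cfsg.Agent.Helper14

open Module

section ThreeRefl

variable {F : Type*} [Field F] {n : ℕ}

theorem fixDim_le (Q : QuadraticForm F (Fin n → F)) (g : ↥(Cfsg.isometryGroup F (⇑Q))) :
    fixDim Q g ≤ n := by
  unfold fixDim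
  have := Submodule.finrank_le (fixSpace (isoLin Q g))
  rwa [Module.finrank_fin_fun] at this

theorem eq_one_of_fixDim_eq (Q : QuadraticForm F (Fin n → F))
    (g : ↥(Cfsg.isometryGroup F (⇑Q))) (h : fixDim Q g = n) : g = 1 := by
  apply isoLin_injective Q
  rw [isoLin_one]
  have htop : fixSpace (isoLin Q g) = ⊤ := by
    apply Submodule.eq_top_of_finrank_eq
    rw [Module.finrank_fin_fun]
    exact h
  apply LinearMap.ext
  intro x
  have hx : x ∈ fixSpace (isoLin Q g) := by
    rw [htop]
    exact Submodule.mem_top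
  rw [mem_fixSpace] at hx
  rw [hx]
  rfl

/-- **Three reflections theorem**: if three reflections fix pointwise a common subspace of
codimension at most two, their product is an involution. -/
theorem three_refl_sq (Q : QuadraticForm F (Fin n → F))
    (hQ : (QuadraticMap.polarBilin Q).Nondegenerate)
    (u a d : {w : Fin n → F // Q w ≠ 0}) (W : Submodule F (Fin n → F))
    (hW : n ≤ finrank F ↥W + 2)
    (hu : ∀ x ∈ W, QuadraticMap.polarBilin Q u.1 x = 0)
    (ha : ∀ x ∈ W, QuadraticMap.polarBilin Q a.1 x = 0)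
    (hd : ∀ x ∈ W, QuadraticMap.polarBilin Q d.1 x = 0) :
    (reflIso Q u * reflIso Q a * reflIso Q d) * (reflIso Q u * reflIso Q a * reflIso Q d) = 1 := by
  obtain ⟨g, hg⟩ : ∃ g, g = reflIso Q u * reflIso Q a * reflIso Q d := ⟨_, rfl⟩
  rw [← hg]
  have hgl : g = (([u, a, d] : List _).map (reflIso Q)).prod := by
    rw [hg]
    simp [mul_assoc]
  have hggl : g * g = (([u, a, d, u, a, d] : List _).map (reflIso Q)).prod := by
    rw [hg]
    simp [mul_assoc]
  have hfix : ∀ x ∈ W, isoLin Q g x = x := by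
    intro x hx
    rw [hg, isoLin_mul, isoLin_mul, isoLin_reflIso, isoLin_reflIso, isoLin_reflIso,
      Module.End.mul_apply, Module.End.mul_apply, qRefl_of_ortho Q d.1 x (hd x hx),
      qRefl_of_ortho Q a.1 x (ha x hx), qRefl_of_ortho Q u.1 x (hu x hx)]
  have hWle : W ≤ fixSpace (isoLin Q g) := by
    intro x hx
    rw [mem_fixSpace]
    exact hfix x hx
  have h1 : finrank F ↥W ≤ fixDim Q g := Submodule.finrank_mono hWle
  have h2 : fixDim Q g ≤ n := fixDim_le Q g
  have h3 : ((fixDim Q g : ℕ) : ZMod 2) = ((n + 3 : ℕ) : ZMod 2) := by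
    rw [hgl, fixDim_prod Q hQ]
    push_cast
    rfl
  have h3' := (ZMod.natCast_eq_natCast_iff' _ _ 2).mp h3
  have h4 : fixDim Q g + 1 = n := by omega
  have hle2 : fixSpace (isoLin Q g) ≤ fixSpace (isoLin Q (g * g)) := by
    intro x hx
    rw [mem_fixSpace] at hx ⊢
    rw [isoLin_mul, Module.End.mul_apply, hx, hx]
  have h5 : fixDim Q g ≤ fixDim Q (g * g) := Submodule.finrank_mono hle2
  have h6 : fixDim Q (g * g) ≤ n := fixDim_le Q (g * g)
  have h7 : ((fixDim Q (g * g) : ℕ) : ZMod 2) = ((n + 6 : ℕ) : ZMod 2) := by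
    rw [hggl, fixDim_prod Q hQ]
    push_cast
    rfl
  have h7' := (ZMod.natCast_eq_natCast_iff' _ _ 2).mp h7
  apply eq_one_of_fixDim_eq
  omega

end ThreeRefl

end Cfsg.Agent.Helper14
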