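import Mathlib
import Cfsg.Prelude.Def_ClassicalGeometry
import Cfsg.Agent.Helper14.ThreeRefl
import Cfsg.Agent.Helper14.MiddleVec
import Cfsg.Agent.Helper44.OmegaIndex

/-!
# Reflections of one square class generate a subgroup of index two (odd characteristic)
-/

set_option autoImplicit false

namespace Cfsg.Agent.Helper14

open Module

section GroupAux

theorem mul_mem_of_three_invol {G : Type*} [Group G] (T : Subgroup G) [hT : T.Normal]
    (u a d b : G) (hu : u * u = 1) (hd : d * d = 1) (hconj : d * a = b * d)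
    (hg : (u * a * d) * (u * a * d) = 1) (huT : u ∈ T) : a * b ∈ T := by
  have hb : b = d * a * d := by
    have h1 : b = d * a * d⁻¹ := by
      rw [hconj]
      group
    rw [h1, inv_eq_of_mul_eq_one_right hd]
  obtain ⟨τ, hτ⟩ : ∃ τ, τ = a * d := ⟨_, rfl⟩
  have h1 : a * b = τ * τ := by
    rw [hb, hτ]
    group
  have h2 : τ⁻¹ = u * τ * u := by
    symm
    apply eq_inv_of_mul_eq_one_left
    rw [hτ, ← hg]
    group
  have h3 : τ * τ = (τ * u * τ⁻¹) * u := by
    rw [h2]
    have e : τ * u * (u * τ * u) * u = τ * (u * u) * τ * (u * u) := by group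
    rw [e, hu, mul_one, mul_one]
  rw [h1, h3]
  exact T.mul_mem (hT.conj_mem u huT τ) huT

end GroupAux

section Abstract

variable {F V : Type*} [Field F] [AddCommGroup V] [Module F V]

theorem exists_scale (h2 : (2 : F) ≠ 0) (Q : QuadraticForm F V) (a b : V) (ha : Q a ≠ 0)
    (t : F) (ht : t ≠ 0) (hab : Q b = t ^ 2 * Q a) :
    ∃ s : F, s ≠ 0 ∧ Q (s • b) = Q a ∧ Q (a - s • b) ≠ 0 := by
  have hts : Q (t⁻¹ • b) = Q a := by
    rw [QuadraticMap.map_smul, hab, smul_eq_mul]
    field_simp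
  have hts' : Q ((-t⁻¹) • b) = Q a := by
    rw [QuadraticMap.map_smul, hab, smul_eq_mul]
    field_simp
  by_cases h : Q (a - t⁻¹ • b) ≠ 0
  · exact ⟨t⁻¹, inv_ne_zero ht, hts, h⟩
  · push Not at h
    refine ⟨-t⁻¹, neg_ne_zero.mpr (inv_ne_zero ht), hts', ?_⟩
    intro h'
    rw [qr_quad_sub, hts, map_smul, smul_eq_mul] at h
    rw [qr_quad_sub, hts', map_smul, smul_eq_mul] at h'
    apply ha
    have h4 : (2 : F) * 2 * Q a = 0 := by linear_combination h + h'
    exact (mul_eq_zero.mp h4).resolve_left (mul_ne_zero h2 h2)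

omit [Field F] in
theorem exists_ne_three [Fintype F] (h : 3 < Fintype.card F) (p q r : F) :
    ∃ y, y ≠ p ∧ y ≠ q ∧ y ≠ r := by
  classical
  by_contra hcon
  push Not at hcon
  have hsub : (Finset.univ : Finset F) ⊆ {p, q, r} := by
    intro y _
    simp only [Finset.mem_insert, Finset.mem_singleton]
    by_cases h1 : y = p
    · exact Or.inl h1
    by_cases h2 : y = q
    · exact Or.inr (Or.inl h2)
    exact Or.inr (Or.inr (hcon y h1 h2))
  have h1 := Finset.card_le_card hsub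
  rw [Finset.card_univ] at h1
  have h2 := Finset.card_le_three (a := p) (b := q) (c := r)
  omega

end Abstract

section ClassGen

variable {F : Type*} [Field F] {n : ℕ}

theorem refl_mul_refl_mem_of_sub (Q : QuadraticForm F (Fin n → F))
    (hQ : (QuadraticMap.polarBilin Q).Nondegenerate)
    (T : Subgroup ↥(Cfsg.isometryGroup F (⇑Q))) [T.Normal]
    (a b u : {w : Fin n → F // Q w ≠ 0}) (hab : Q a.1 = Q b.1) (hd : Q (a.1 - b.1) ≠ 0)
    (huT : reflIso Q u ∈ T) (W : Submodule F (Fin n → F)) (hW : n ≤ finrank F ↥W + 2)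
    (hWa : ∀ x ∈ W, QuadraticMap.polarBilin Q a.1 x = 0)
    (hWb : ∀ x ∈ W, QuadraticMap.polarBilin Q b.1 x = 0)
    (hWu : ∀ x ∈ W, QuadraticMap.polarBilin Q u.1 x = 0) :
    reflIso Q a * reflIso Q b ∈ T := by
  apply mul_mem_of_three_invol T (reflIso Q u) (reflIso Q a) (reflIso Q ⟨a.1 - b.1, hd⟩)
    (reflIso Q b) (reflIso_mul_self Q u) (reflIso_mul_self Q _) ?_ ?_ huT
  · rw [mul_reflIso]
    congr 2
    apply Subtype.ext
    change isoLin Q (reflIso Q ⟨a.1 - b.1, hd⟩) a.1 = b.1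
    rw [isoLin_reflIso]
    exact qRefl_sub_swap Q a.1 b.1 hab hd
  · exact three_refl_sq Q hQ u a ⟨a.1 - b.1, hd⟩ W hW hWu hWa (fun x hx => by
      change QuadraticMap.polarBilin Q (a.1 - b.1) x = 0
      rw [map_sub, LinearMap.sub_apply, hWa x hx, hWb x hx, sub_zero])

/-- Two reflections in vectors of the same square class spanning a non-degenerate plane (or in
dimension two) have product in `T`. -/
theorem refl_mul_refl_mem_of_plane [Fintype F] (h2 : (2 : F) ≠ 0) (hn2 : 2 ≤ n)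
    (Q : QuadraticForm F (Fin n → F)) (hQ : (QuadraticMap.polarBilin Q).Nondegenerate)
    (T : Subgroup ↥(Cfsg.isometryGroup F (⇑Q))) [T.Normal] (c : F) (hc : c ≠ 0)
    (hT : ∀ w : {w : Fin n → F // Q w ≠ 0}, (∃ t : F, t ≠ 0 ∧ Q w.1 = c * t ^ 2) →
      reflIso Q w ∈ T)
    (a b : {w : Fin n → F // Q w ≠ 0}) (t : F) (ht : t ≠ 0) (hab : Q b.1 = t ^ 2 * Q a.1)
    (hcase : n = 2 ∨ 4 * Q a.1 * Q b.1 ≠ QuadraticMap.polarBilin Q a.1 b.1 ^ 2) :
    reflIso Q a * reflIso Q b ∈ T := by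
  obtain ⟨s, hs0, hsb, hsd⟩ := exists_scale h2 Q a.1 b.1 a.2 t ht hab
  have hb' : Q (s • b.1) ≠ 0 := by
    rw [hsb]
    exact a.2
  have e : reflIso Q ⟨s • b.1, hb'⟩ = reflIso Q b := reflIso_smul Q s hs0 b hb'
  rw [← e]
  rcases hcase with h | h
  · obtain ⟨u₀, hu₀⟩ := Cfsg.Agent.Helper44.exists_Q_eq Q h2 hQ
      (by rw [Module.finrank_fin_fun]; exact hn2) c
    have hu₀' : Q u₀ ≠ 0 := by
      rw [hu₀]
      exact hc
    have huT : reflIso Q ⟨u₀, hu₀'⟩ ∈ T := hT ⟨u₀, hu₀'⟩ ⟨1, one_ne_zero, by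
      change Q u₀ = c * 1 ^ 2
      rw [hu₀]
      ring⟩
    refine refl_mul_refl_mem_of_sub Q hQ T a ⟨s • b.1, hb'⟩ ⟨u₀, hu₀'⟩ hsb.symm hsd huT ⊥
      (by rw [finrank_bot]; omega) ?_ ?_ ?_
    all_goals
      intro x hx
      rw [(Submodule.mem_bot F).mp hx, map_zero]
  · -- both `a - b'` and `a + b'` are non-singular
    have hprod : Q (a.1 - s • b.1) * Q (a.1 + s • b.1)
        = s ^ 2 * (4 * Q a.1 * Q b.1 - QuadraticMap.polarBilin Q a.1 b.1 ^ 2) := by
      rw [qr_quad_sub, qr_quad_add, hsb, map_smul, smul_eq_mul]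
      have h5 : s ^ 2 * Q b.1 = Q a.1 := by
        rw [← hsb, QuadraticMap.map_smul, smul_eq_mul]
        ring
      linear_combination (-4 * Q a.1) * h5
    have hsum : Q (a.1 + s • b.1) ≠ 0 := by
      intro h0
      rw [h0, mul_zero] at hprod
      rcases mul_eq_zero.mp hprod.symm with h6 | h6
      · exact hs0 (pow_eq_zero_iff (two_ne_zero) |>.mp h6)
      · exact h (by linear_combination h6)
    obtain ⟨x, y, hxy⟩ := exists_sq_add_sq h2 (Q (a.1 - s • b.1)) (Q (a.1 + s • b.1)) c hsd hsum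
    have horth : QuadraticMap.polarBilin Q (a.1 - s • b.1) (a.1 + s • b.1) = 0 := by
      simp only [map_sub, map_add, map_smul, LinearMap.sub_apply, LinearMap.smul_apply,
        smul_eq_mul, qr_polar_self]
      have h5 : s ^ 2 * Q b.1 = Q a.1 := by
        rw [← hsb, QuadraticMap.map_smul, smul_eq_mul]
        ring
      rw [qr_polar_comm Q b.1 a.1]
      linear_combination (-2 : F) * h5
    have hu₀ : Q (x • (a.1 - s • b.1) + y • (a.1 + s • b.1)) = c := by
      rw [qr_quad_add, QuadraticMap.map_smul, QuadraticMap.map_smul, map_smul, map_smul,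
        LinearMap.smul_apply, horth]
      simp only [smul_eq_mul, mul_zero, add_zero]
      linear_combination hxy
    have hu₀' : Q (x • (a.1 - s • b.1) + y • (a.1 + s • b.1)) ≠ 0 := by
      rw [hu₀]
      exact hc
    have huT : reflIso Q ⟨_, hu₀'⟩ ∈ T := hT ⟨_, hu₀'⟩ ⟨1, one_ne_zero, by
      change Q (x • (a.1 - s • b.1) + y • (a.1 + s • b.1)) = c * 1 ^ 2
      rw [hu₀]
      ring⟩
    have hW1 := finrank_le_inf_ker_add_one (⊤ : Submodule F (Fin n → F))
      (QuadraticMap.polarBilin Q a.1)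
    have hW2 := finrank_le_inf_ker_add_one
      ((⊤ : Submodule F (Fin n → F)) ⊓ LinearMap.ker (QuadraticMap.polarBilin Q a.1))
      (QuadraticMap.polarBilin Q (s • b.1))
    rw [finrank_top, Module.finrank_fin_fun] at hW1
    have hmemW : ∀ x ∈ ((⊤ : Submodule F (Fin n → F)) ⊓
        LinearMap.ker (QuadraticMap.polarBilin Q a.1)) ⊓
        LinearMap.ker (QuadraticMap.polarBilin Q (s • b.1)),
        QuadraticMap.polarBilin Q a.1 x = 0 ∧ QuadraticMap.polarBilin Q (s • b.1) x = 0 := by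
      intro x hx
      rw [Submodule.mem_inf, Submodule.mem_inf, LinearMap.mem_ker, LinearMap.mem_ker] at hx
      exact ⟨hx.1.2, hx.2⟩
    refine refl_mul_refl_mem_of_sub Q hQ T a ⟨s • b.1, hb'⟩ ⟨_, hu₀'⟩ hsb.symm hsd huT _
      (by omega) (fun x hx => (hmemW x hx).1) (fun x hx => (hmemW x hx).2) ?_
    intro z hz
    obtain ⟨h7, h8⟩ := hmemW z hz
    change QuadraticMap.polarBilin Q (x • (a.1 - s • b.1) + y • (a.1 + s • b.1)) z = 0
    rw [map_add, LinearMap.add_apply, map_smul, map_smul, LinearMap.smul_apply,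
      LinearMap.smul_apply, map_sub, map_add, LinearMap.sub_apply, LinearMap.add_apply, h7, h8]
    simp

theorem refl_mul_refl_mem_trans (Q : QuadraticForm F (Fin n → F))
    (T : Subgroup ↥(Cfsg.isometryGroup F (⇑Q))) {u v w : {w : Fin n → F // Q w ≠ 0}}
    (h1 : reflIso Q u * reflIso Q v ∈ T) (h2 : reflIso Q v * reflIso Q w ∈ T) :
    reflIso Q u * reflIso Q w ∈ T := by
  have := Subgroup.mul_mem _ h1 h2
  rwa [mul_assoc, ← mul_assoc (reflIso Q v), reflIso_mul_self, one_mul] at this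

/-- Two reflections in vectors of the same square class have product in `T`. -/
theorem refl_mul_refl_mem_of_sq [Fintype F] (h2 : (2 : F) ≠ 0) (hn2 : 2 ≤ n)
    (Q : QuadraticForm F (Fin n → F)) (hQ : (QuadraticMap.polarBilin Q).Nondegenerate)
    (T : Subgroup ↥(Cfsg.isometryGroup F (⇑Q))) [T.Normal] (c : F) (hc : c ≠ 0)
    (hT : ∀ w : {w : Fin n → F // Q w ≠ 0}, (∃ t : F, t ≠ 0 ∧ Q w.1 = c * t ^ 2) →
      reflIso Q w ∈ T)
    (hcase : n = 2 ∨ 3 < Fintype.card F ∨ 5 ≤ n)
    (a b : {w : Fin n → F // Q w ≠ 0}) (t : F) (ht : t ≠ 0) (hab : Q b.1 = t ^ 2 * Q a.1) :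
    reflIso Q a * reflIso Q b ∈ T := by
  by_cases hn : n = 2
  · exact refl_mul_refl_mem_of_plane h2 hn2 Q hQ T c hc hT a b t ht hab (Or.inl hn)
  by_cases hD : 4 * Q a.1 * Q b.1 ≠ QuadraticMap.polarBilin Q a.1 b.1 ^ 2
  · exact refl_mul_refl_mem_of_plane h2 hn2 Q hQ T c hc hT a b t ht hab (Or.inr hD)
  push Not at hD
  by_cases hind : b.1 ∈ Submodule.span F {a.1}
  · obtain ⟨s, hs⟩ := Submodule.mem_span_singleton.mp hind
    have hs0 : s ≠ 0 := by
      intro h0
      have hb := b.2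
      rw [← hs, h0, zero_smul, map_zero] at hb
      exact hb rfl
    have hsa : Q (s • a.1) ≠ 0 := by
      rw [hs]
      exact b.2
    have e : b = ⟨s • a.1, hsa⟩ := Subtype.ext hs.symm
    rw [e, reflIso_smul Q s hs0 a hsa, reflIso_mul_self]
    exact Subgroup.one_mem _
  · -- a middle vector
    have hz : ∃ z, Q z = Q b.1 ∧
        4 * Q a.1 * Q z ≠ QuadraticMap.polarBilin Q a.1 z ^ 2 ∧
        4 * Q z * Q b.1 ≠ QuadraticMap.polarBilin Q z b.1 ^ 2 := by
      have h4 : (4 : F) ≠ 0 := by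
        have : (4 : F) = 2 * 2 := by norm_num
        rw [this]
        exact mul_ne_zero h2 h2
      rcases hcase with h | h | h
      · exact absurd h hn
      · obtain ⟨y, hy0, hy1, hy2⟩ := exists_ne_three h (0 : F) (2 * Q b.1) (-(2 * Q b.1))
        obtain ⟨z, hz1, hz2, hz3⟩ :=
          exists_middle_of_three_lt h2 Q hQ a.1 b.1 a.2 hD hind y hy0 hy1 hy2
        refine ⟨z, hz1, ?_, hz3⟩
        rw [hz2, hz1]
        intro h0
        have h5 : 4 * Q a.1 * Q b.1 = 0 := by linear_combination h0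
        exact (mul_ne_zero (mul_ne_zero h4 a.2) b.2) h5
      · obtain ⟨z, hz1, hz2, hz3⟩ :=
          exists_middle_of_five_le h2 Q hQ a.1 b.1 a.2 hD hind
            (by rw [Module.finrank_fin_fun]; exact h)
        refine ⟨z, hz1, ?_, ?_⟩
        · rw [hz2, hz1]
          intro h0
          have h5 : 4 * Q a.1 * Q b.1 = 0 := by linear_combination h0
          exact (mul_ne_zero (mul_ne_zero h4 a.2) b.2) h5
        · rw [qr_polar_comm, hz3, hz1]
          intro h0
          have h5 : 4 * Q b.1 * Q b.1 = 0 := by linear_combination h0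
          exact (mul_ne_zero (mul_ne_zero h4 b.2) b.2) h5
    obtain ⟨z, hz1, hz2, hz3⟩ := hz
    have hz0 : Q z ≠ 0 := by
      rw [hz1]
      exact b.2
    have r1 : reflIso Q a * reflIso Q ⟨z, hz0⟩ ∈ T :=
      refl_mul_refl_mem_of_plane h2 hn2 Q hQ T c hc hT a ⟨z, hz0⟩ t ht (by
        change Q z = t ^ 2 * Q a.1
        rw [hz1, hab]) (Or.inr hz2)
    have r2 : reflIso Q ⟨z, hz0⟩ * reflIso Q b ∈ T :=
      refl_mul_refl_mem_of_plane h2 hn2 Q hQ T c hc hT ⟨z, hz0⟩ b 1 one_ne_zero (by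
        change Q b.1 = 1 ^ 2 * Q z
        rw [hz1]
        ring) (Or.inr hz3)
    exact refl_mul_refl_mem_trans Q T r1 r2

/-- **Reflections of one square class generate a subgroup of index two.** -/
theorem index_closure_class_refl [Fintype F] (h2 : (2 : F) ≠ 0) (hn : 2 ≤ n) (heven : Even n)
    (Q : QuadraticForm F (Fin n → F)) (hQ : (QuadraticMap.polarBilin Q).Nondegenerate)
    (h43 : ¬ (n = 4 ∧ Fintype.card F = 3)) (c : F) (hc : c ≠ 0) :
    (Subgroup.closure {g : ↥(Cfsg.isometryGroup F ⇑Q) | ∃ (v : Fin n → F) (t : F),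
      t ≠ 0 ∧ Q v = c * t ^ 2 ∧
      ((g : Matrix.GeneralLinearGroup (Fin n) F) : Matrix (Fin n) (Fin n) F)
        = Cfsg.reflectionMatrix ⇑Q v}).index = 2 := by
  obtain ⟨S, hS⟩ : ∃ S : Set ↥(Cfsg.isometryGroup F ⇑Q),
      S = {g : ↥(Cfsg.isometryGroup F ⇑Q) | ∃ (v : Fin n → F) (t : F),
      t ≠ 0 ∧ Q v = c * t ^ 2 ∧
      ((g : Matrix.GeneralLinearGroup (Fin n) F) : Matrix (Fin n) (Fin n) F)
        = Cfsg.reflectionMatrix ⇑Q v} := ⟨_, rfl⟩
  rw [← hS]
  -- elements of `S` are the reflections of class `c`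
  have hmemS : ∀ w : {w : Fin n → F // Q w ≠ 0}, (∃ t : F, t ≠ 0 ∧ Q w.1 = c * t ^ 2) →
      reflIso Q w ∈ S := by
    intro w hw
    obtain ⟨t, ht, hwt⟩ := hw
    rw [hS]
    exact ⟨w.1, t, ht, hwt, reflIso_val Q w⟩
  have hSeq : ∀ g ∈ S, ∃ w : {w : Fin n → F // Q w ≠ 0},
      (∃ t : F, t ≠ 0 ∧ Q w.1 = c * t ^ 2) ∧ g = reflIso Q w := by
    intro g hg
    rw [hS] at hg
    obtain ⟨v, t, ht, hv, hgv⟩ := hg
    have hv0 : Q v ≠ 0 := by
      rw [hv]
      exact mul_ne_zero hc (pow_ne_zero 2 ht)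
    refine ⟨⟨v, hv0⟩, ⟨t, ht, hv⟩, ?_⟩
    apply Subtype.ext
    apply Units.ext
    rw [hgv]
    rfl
  -- normality
  have hnormal : (Subgroup.closure S).Normal := by
    constructor
    intro x hx g
    induction hx using Subgroup.closure_induction with
    | mem x hx =>
      obtain ⟨w, hw, rfl⟩ := hSeq x hx
      apply Subgroup.subset_closure
      have e : g * reflIso Q w * g⁻¹
          = reflIso Q ⟨isoLin Q g w.1, by rw [isoLin_isometry]; exact w.2⟩ := by
        rw [mul_reflIso, mul_assoc, mul_inv_cancel, mul_one]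
      rw [e]
      apply hmemS
      obtain ⟨t, ht, hwt⟩ := hw
      refine ⟨t, ht, ?_⟩
      change Q (isoLin Q g w.1) = c * t ^ 2
      rw [isoLin_isometry, hwt]
    | one => simp
    | mul a b _ _ iha ihb =>
      have e : g * (a * b) * g⁻¹ = (g * a * g⁻¹) * (g * b * g⁻¹) := by group
      rw [e]
      exact Subgroup.mul_mem _ iha ihb
    | inv a _ iha =>
      have e : g * a⁻¹ * g⁻¹ = (g * a * g⁻¹)⁻¹ := by group
      rw [e]
      exact Subgroup.inv_mem _ iha
  have hT : ∀ w : {w : Fin n → F // Q w ≠ 0}, (∃ t : F, t ≠ 0 ∧ Q w.1 = c * t ^ 2) →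
      reflIso Q w ∈ Subgroup.closure S := fun w hw => Subgroup.subset_closure (hmemS w hw)
  -- arithmetic of the field
  have hchar : ringChar F ≠ 2 := Cfsg.Agent.Helper44.ringChar_ne_two_of_two_ne_zero h2
  have hodd : Fintype.card F % 2 = 1 := FiniteField.odd_card_of_char_ne_two hchar
  have hcard1 : 1 < Fintype.card F := Fintype.one_lt_card
  have hcase : n = 2 ∨ 3 < Fintype.card F ∨ 5 ≤ n := by
    obtain ⟨r, hr⟩ := heven
    by_cases h4 : n = 4
    · right
      left
      have : Fintype.card F ≠ 3 := fun h => h43 ⟨h4, h⟩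
      omega
    · omega
  obtain ⟨ν, hν⟩ := FiniteField.exists_nonsquare hchar
  have hν0 : ν ≠ 0 := by
    rintro rfl
    exact hν ⟨0, by ring⟩
  have hνc : ν * c ≠ 0 := mul_ne_zero hν0 hc
  obtain ⟨a₀, ha₀⟩ := Cfsg.Agent.Helper44.exists_Q_eq Q h2 hQ
    (by rw [Module.finrank_fin_fun]; exact hn) (ν * c)
  have ha₀' : Q a₀ ≠ 0 := by
    rw [ha₀]
    exact hνc
  -- the sign character separating the classes
  have hker : Subgroup.closure S ≤ (Cfsg.Agent.Helper44.signChar ⇑Q (ν * c)).ker := by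
    rw [Subgroup.closure_le]
    intro g hg
    obtain ⟨w, ⟨t, ht, hwt⟩, rfl⟩ := hSeq g hg
    rw [SetLike.mem_coe, MonoidHom.mem_ker]
    apply Cfsg.Agent.Helper44.signChar_refl_of_not_isSquare Q h2 hνc w.1 w.2
    intro hsq
    apply hν
    obtain ⟨r, hr⟩ := hsq
    refine ⟨r * (c * t)⁻¹, ?_⟩
    have hct : c * t ≠ 0 := mul_ne_zero hc ht
    rw [hwt] at hr
    field_simp
    linear_combination hr
  have hr₀ : reflIso Q ⟨a₀, ha₀'⟩ ∉ Subgroup.closure S := by
    intro hmem
    have h1 := hker hmem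
    rw [MonoidHom.mem_ker] at h1
    have h3 : Cfsg.Agent.Helper44.signChar ⇑Q (ν * c) (reflIso Q ⟨a₀, ha₀'⟩) = -1 := by
      apply Cfsg.Agent.Helper44.signChar_refl_of_isSquare Q h2 hνc a₀ ha₀'
      rw [ha₀]
      exact ⟨ν * c, rfl⟩
    rw [h3] at h1
    exact absurd h1 (by decide)
  -- all reflections outside the class `c` agree with `r₀` modulo `T`
  have hA : ∀ w : {w : Fin n → F // Q w ≠ 0}, reflIso Q w ∈ Subgroup.closure S ∨
      reflIso Q w * reflIso Q ⟨a₀, ha₀'⟩ ∈ Subgroup.closure S := by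
    intro w
    by_cases hsq : IsSquare (Q w.1 * c)
    · left
      apply hT
      obtain ⟨r, hr⟩ := hsq
      refine ⟨r * c⁻¹, ?_, ?_⟩
      · apply mul_ne_zero _ (inv_ne_zero hc)
        rintro rfl
        rw [mul_zero] at hr
        exact (mul_ne_zero w.2 hc) hr
      · field_simp
        linear_combination hr
    · right
      have hsq2 : IsSquare (Q w.1 * c * ν) := by
        rw [Cfsg.Agent.Helper44.isSquare_mul_iff (mul_ne_zero w.2 hc) hν0]
        exact ⟨fun h => absurd h hsq, fun h => absurd h hν⟩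
      obtain ⟨r, hr⟩ := hsq2
      have hr0 : r ≠ 0 := by
        rintro rfl
        rw [mul_zero] at hr
        exact (mul_ne_zero (mul_ne_zero w.2 hc) hν0) hr
      apply refl_mul_refl_mem_of_sq h2 hn Q hQ (Subgroup.closure S) c hc hT hcase w ⟨a₀, ha₀'⟩
        (r * (Q w.1)⁻¹) (mul_ne_zero hr0 (inv_ne_zero w.2))
      change Q a₀ = _
      rw [ha₀]
      have := w.2
      field_simp
      linear_combination hr
  -- every isometry lies in `T` or in `T r₀`
  have hor : ∀ l : List {w : Fin n → F // Q w ≠ 0},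
      (l.map (reflIso Q)).prod ∈ Subgroup.closure S ∨
      (l.map (reflIso Q)).prod * reflIso Q ⟨a₀, ha₀'⟩ ∈ Subgroup.closure S := by
    intro l
    induction l with
    | nil =>
      left
      simp
    | cons w l ih =>
      rw [List.map_cons, List.prod_cons]
      obtain ⟨r₀, hr₀def⟩ : ∃ r₀, r₀ = reflIso Q ⟨a₀, ha₀'⟩ := ⟨_, rfl⟩
      rw [← hr₀def] at ih ⊢
      have hr₀inv : r₀⁻¹ = r₀ := by rw [hr₀def, reflIso_inv]
      have hr₀sq : r₀ * r₀ = 1 := by rw [hr₀def, reflIso_mul_self]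
      obtain ⟨g, hg⟩ : ∃ g, g = (l.map (reflIso Q)).prod := ⟨_, rfl⟩
      rw [← hg] at ih ⊢
      rcases hA w with hw | hw
      · rcases ih with ih | ih
        · left
          exact Subgroup.mul_mem _ hw ih
        · right
          rw [mul_assoc]
          exact Subgroup.mul_mem _ hw ih
      · rw [← hr₀def] at hw
        rcases ih with ih | ih
        · right
          have e : reflIso Q w * g * r₀ = (reflIso Q w * r₀) * (r₀ * g * r₀⁻¹) := by
            rw [hr₀inv]
            have : reflIso Q w * r₀ * (r₀ * g * r₀) = reflIso Q w * (r₀ * r₀) * g * r₀ := by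
              group
            rw [this, hr₀sq, mul_one]
          rw [e]
          exact Subgroup.mul_mem _ hw (hnormal.conj_mem g ih r₀)
        · left
          have e : reflIso Q w * g = (reflIso Q w * r₀) * (r₀ * (g * r₀) * r₀⁻¹) := by
            rw [hr₀inv]
            have : reflIso Q w * r₀ * (r₀ * (g * r₀) * r₀)
                = reflIso Q w * (r₀ * r₀) * g * (r₀ * r₀) := by
              group
            rw [this, hr₀sq, mul_one, mul_one]
          rw [e]
          exact Subgroup.mul_mem _ hw (hnormal.conj_mem (g * r₀) ih r₀)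
  rw [Subgroup.index_eq_two_iff]
  refine ⟨reflIso Q ⟨a₀, ha₀'⟩, fun g => ?_⟩
  obtain ⟨l, rfl⟩ := exists_reflIso_list h2 Q hQ g
  rcases hor l with h | h
  · right
    refine ⟨h, ?_⟩
    intro h'
    apply hr₀
    have := Subgroup.mul_mem _ (Subgroup.inv_mem _ h) h'
    rwa [inv_mul_cancel_left] at this
  · left
    refine ⟨h, ?_⟩
    intro h'
    apply hr₀
    have := Subgroup.mul_mem _ (Subgroup.inv_mem _ h') h
    rwa [inv_mul_cancel_left] at this

end ClassGen

end Cfsg.Agent.Helper14
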