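import Mathlib
import Cfsg.Agent.Helper42.DZDefs
import Cfsg.Agent.Helper5.SLn

/-!
# (W2) for S4538 + S2440 (helper42): an irreducible representation of `SL₂(F)` of dimension `|F|`
with a `U`-fixed vector `v`: the torus acts trivially on `v`.

Direct linear algebra: `Ψ : ℂ^(q+1) → W`, `(c_∞, c_a) ↦ c_∞ v + ∑ c_a ρ(x(a) s) v` is onto by
irreducibility, so its kernel is a line; the shift operators and the `s`-operator preserve it, and
comparing coefficients gives `lam = 1`.
-/

set_option autoImplicit false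
set_option linter.unusedSectionVars false

namespace Cfsg.Agent.Helper14.DZ

open Matrix Cfsg.Agent.Helper42.DZ

variable {F : Type*} [Field F]

/-! ### explicit elements of `SL₂(F)` -/

/-- `[[1, a], [0, 1]]` -/
def xx (a : F) : SLn 2 F := ⟨!![1, a; 0, 1], by simp [Matrix.det_fin_two]⟩

/-- `[[0, 1], [-1, 0]]` -/
def ss : SLn 2 F := ⟨!![0, 1; -1, 0], by simp [Matrix.det_fin_two]⟩

/-- `[[e, 0], [0, e⁻¹]]` -/
def dd (e : F) (he : e ≠ 0) : SLn 2 F :=
  ⟨!![e, 0; 0, e⁻¹], by simp [Matrix.det_fin_two, mul_inv_cancel₀ he]⟩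

/-- `-1` -/
def zz : SLn 2 F := ⟨!![-1, 0; 0, -1], by simp [Matrix.det_fin_two]⟩

theorem xx_val (a : F) : (xx a).1 = !![1, a; 0, 1] := rfl
theorem ss_val : (ss : SLn 2 F).1 = !![0, 1; -1, 0] := rfl
theorem dd_val (e : F) (he : e ≠ 0) : (dd e he).1 = !![e, 0; 0, e⁻¹] := rfl
theorem zz_val : (zz : SLn 2 F).1 = !![-1, 0; 0, -1] := rfl

theorem sl2_ext {g h : SLn 2 F} (h00 : g.1 0 0 = h.1 0 0) (h01 : g.1 0 1 = h.1 0 1)
    (h10 : g.1 1 0 = h.1 1 0) (h11 : g.1 1 1 = h.1 1 1) : g = h := by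
  apply Subtype.ext
  ext i j
  fin_cases i <;> fin_cases j
  · exact h00
  · exact h01
  · exact h10
  · exact h11

theorem xx_mul (a b : F) : xx b * xx a = xx (a + b) := by
  apply sl2_ext <;>
    simp only [Matrix.SpecialLinearGroup.coe_mul, xx_val] <;>
    simp [Matrix.mul_apply, Fin.sum_univ_two, add_comm]

theorem xx_zero : xx (0 : F) = 1 := by
  apply sl2_ext <;> simp [xx_val]

theorem ss_mul_ss : (ss : SLn 2 F) * ss = zz := by
  apply sl2_ext <;>
    simp only [Matrix.SpecialLinearGroup.coe_mul, ss_val, zz_val] <;>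
    simp [Matrix.mul_apply, Fin.sum_univ_two]

theorem zz_comm (g : SLn 2 F) : zz * g = g * zz := by
  apply sl2_ext <;>
    simp only [Matrix.SpecialLinearGroup.coe_mul, zz_val] <;>
    simp [Matrix.mul_apply, Fin.sum_univ_two]

theorem zz_mul_zz : (zz : SLn 2 F) * zz = 1 := by
  apply sl2_ext <;>
    simp only [Matrix.SpecialLinearGroup.coe_mul, zz_val] <;>
    simp [Matrix.mul_apply, Fin.sum_univ_two]

theorem ss_inv : (ss : SLn 2 F)⁻¹ = zz * ss := by
  rw [inv_eq_iff_mul_eq_one, ← mul_assoc, ← zz_comm, mul_assoc, ss_mul_ss, zz_mul_zz]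

theorem ss_xx_ss (a : F) (ha : a ≠ 0) :
    ss * xx a * ss = xx (-a⁻¹) * ss * dd (-a) (neg_ne_zero.mpr ha) * xx (-a⁻¹) := by
  apply sl2_ext <;>
    simp only [Matrix.SpecialLinearGroup.coe_mul, ss_val, xx_val, dd_val] <;>
    simp [Matrix.mul_apply, Fin.sum_univ_two] <;>
    field_simp <;> ring

theorem xx_mem_US (a : F) : xx a ∈ US 2 F := by
  rw [Cfsg.Agent.Helper14.AutPSL.mem_UT]
  intro i j hji
  fin_cases i <;> fin_cases j <;> simp [xx_val] at hji ⊢

theorem dd_mem_TD (e : F) (he : e ≠ 0) : dd e he ∈ TD 2 F := by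
  rw [mem_TD]
  intro i j hij
  fin_cases i <;> fin_cases j <;> simp [dd_val] at hij ⊢

theorem zz_mem_TD : (zz : SLn 2 F) ∈ TD 2 F := by
  rw [mem_TD]
  intro i j hij
  fin_cases i <;> fin_cases j <;> simp [zz_val] at hij ⊢

theorem dd_one : dd (1 : F) one_ne_zero = 1 := by
  apply sl2_ext <;> simp [dd_val]

theorem eq_dd_of_mem_TD (t : SLn 2 F) (ht : t ∈ TD 2 F) :
    ∃ (e : F) (he : e ≠ 0), t = dd e he := by
  rw [mem_TD] at ht
  have h01 : t.1 0 1 = 0 := ht 0 1 (by decide)
  have h10 : t.1 1 0 = 0 := ht 1 0 (by decide)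
  have hdet : t.1 0 0 * t.1 1 1 - t.1 0 1 * t.1 1 0 = 1 := by
    rw [← Matrix.det_fin_two]; exact t.2
  rw [h01, zero_mul, sub_zero] at hdet
  have he : t.1 0 0 ≠ 0 := left_ne_zero_of_mul_eq_one hdet
  refine ⟨t.1 0 0, he, ?_⟩
  apply sl2_ext
  · simp [dd_val]
  · simp [dd_val, h01]
  · simp [dd_val, h10]
  · rw [dd_val]
    show t.1 1 1 = (t.1 0 0)⁻¹
    exact eq_inv_of_mul_eq_one_right hdet

/-- the upper transvection -/
theorem transvection_upper (a : F) :
    Matrix.SpecialLinearGroup.transvection (show (0 : Fin 2) ≠ 1 by decide) a = xx a := by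
  apply sl2_ext <;>
    simp [xx_val, Matrix.SpecialLinearGroup.transvection_coe, Matrix.transvection, Matrix.single]

/-- the lower transvection -/
theorem transvection_lower (a : F) :
    Matrix.SpecialLinearGroup.transvection (show (1 : Fin 2) ≠ 0 by decide) a =
      ss⁻¹ * xx (-a) * ss := by
  rw [ss_inv]
  apply sl2_ext <;>
    simp only [Matrix.SpecialLinearGroup.coe_mul, ss_val, xx_val, zz_val,
      Matrix.SpecialLinearGroup.transvection_coe] <;>
    simp [Matrix.transvection, Matrix.single, Matrix.mul_apply, Fin.sum_univ_two]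

theorem xx_inv (b : F) : (xx b)⁻¹ = xx (-b) := by
  rw [inv_eq_iff_mul_eq_one, xx_mul, neg_add_cancel, xx_zero]

theorem zz_inv : (zz : SLn 2 F)⁻¹ = zz := by
  rw [inv_eq_iff_mul_eq_one, zz_mul_zz]

/-- total version of `dd` -/
noncomputable def ddT (e : F) : SLn 2 F := by
  classical exact if he : e = 0 then 1 else dd e he

theorem ddT_of_ne (e : F) (he : e ≠ 0) : ddT e = dd e he := by
  unfold ddT; rw [dif_neg he]

theorem ddT_mem_TD (e : F) : ddT e ∈ TD 2 F := by
  classical
  unfold ddT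
  split_ifs with he
  · exact (TD 2 F).one_mem
  · exact dd_mem_TD e he

theorem ddT_one : ddT (1 : F) = 1 := by
  rw [ddT_of_ne 1 one_ne_zero, dd_one]

/-- the involution `a ↦ -a⁻¹` of `F` -/
def sig (a : F) : F := -a⁻¹

theorem sig_sig (a : F) : sig (sig a) = a := by
  unfold sig
  rw [inv_neg, inv_inv, neg_neg]

theorem sig_eq_zero (a : F) : sig a = 0 ↔ a = 0 := by
  unfold sig
  rw [neg_eq_zero, inv_eq_zero]

section Main

variable {W : Type*} [AddCommGroup W] [Module ℂ W] (ρ : Representation ℂ (SLn 2 F) W)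

/-- the subgroup of elements stabilizing a subspace -/
def stab (R : Submodule ℂ W) : Subgroup (SLn 2 F) where
  carrier := {g | (∀ y ∈ R, ρ g y ∈ R) ∧ (∀ y ∈ R, ρ g⁻¹ y ∈ R)}
  mul_mem' := by
    intro a b ha hb
    refine ⟨fun y hy => ?_, fun y hy => ?_⟩
    · rw [map_mul]; exact ha.1 _ (hb.1 y hy)
    · rw [_root_.mul_inv_rev, map_mul]; exact hb.2 _ (ha.2 y hy)
  one_mem' := by
    refine ⟨fun y hy => ?_, fun y hy => ?_⟩
    · rw [map_one]; exact hy
    · rw [inv_one, map_one]; exact hy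
  inv_mem' := by
    intro a ha
    exact ⟨ha.2, by rw [inv_inv]; exact ha.1⟩

theorem stab_eq_top (R : Submodule ℂ W) (hx : ∀ b : F, ∀ y ∈ R, ρ (xx b) y ∈ R)
    (hs : ∀ y ∈ R, ρ ss y ∈ R) (hz : ∀ y ∈ R, ρ zz y ∈ R) : stab ρ R = ⊤ := by
  have hxm : ∀ b : F, xx b ∈ stab ρ R := fun b =>
    ⟨hx b, by rw [xx_inv]; exact hx (-b)⟩
  have hzm : (zz : SLn 2 F) ∈ stab ρ R := ⟨hz, by rw [zz_inv]; exact hz⟩
  have hsm : (ss : SLn 2 F) ∈ stab ρ R := by
    refine ⟨hs, fun y hy => ?_⟩
    rw [ss_inv, map_mul]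
    exact hz _ (hs y hy)
  rw [eq_top_iff, ← Cfsg.Agent.Helper5.closure_transvection_eq_top, Subgroup.closure_le]
  rintro M ⟨i, j, hij, a, rfl⟩
  fin_cases i <;> fin_cases j
  · exact absurd rfl hij
  · show Matrix.SpecialLinearGroup.transvection _ a ∈ stab ρ R
    rw [transvection_upper]; exact hxm a
  · show Matrix.SpecialLinearGroup.transvection _ a ∈ stab ρ R
    rw [transvection_lower]
    exact (stab ρ R).mul_mem ((stab ρ R).mul_mem ((stab ρ R).inv_mem hsm) (hxm _)) hsm
  · exact absurd rfl hij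

variable [Fintype F] (v : W)

/-- `w(a) = ρ(x(a) s) v` -/
def ww (a : F) : W := ρ (xx a * ss) v

/-- `Ψ (c_∞, c_a) = c_∞ v + ∑ c_a w(a)` -/
noncomputable def Psi : (Option F → ℂ) →ₗ[ℂ] W :=
  (LinearMap.proj (none : Option F)).smulRight v +
    ∑ a : F, (LinearMap.proj (some a : Option F)).smulRight (ww ρ v a)

theorem Psi_apply (c : Option F → ℂ) :
    Psi ρ v c = c none • v + ∑ a : F, c (some a) • ww ρ v a := by
  unfold Psi
  simp [LinearMap.sum_apply, LinearMap.smulRight_apply]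

variable (lam : SLn 2 F → ℂ)

section Facts

variable (hvU : ∀ u ∈ US 2 F, ρ u v = v) (hlam : ∀ t ∈ TD 2 F, ρ t v = lam t • v)

theorem xx_ww (a b : F) : ρ (xx b) (ww ρ v a) = ww ρ v (a + b) := by
  unfold ww
  rw [← Module.End.mul_apply, ← map_mul, ← mul_assoc, xx_mul]

include hvU in
theorem xx_v (b : F) : ρ (xx b) v = v := hvU _ (xx_mem_US b)

theorem ss_v : ρ ss v = ww ρ v 0 := by
  unfold ww
  rw [xx_zero, one_mul]

include hlam in
theorem ss_ww_zero : ρ ss (ww ρ v 0) = lam zz • v := by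
  rw [← ss_v, ← Module.End.mul_apply, ← map_mul, ss_mul_ss, hlam _ zz_mem_TD]

include hvU hlam in
theorem ss_ww (a : F) (ha : a ≠ 0) : ρ ss (ww ρ v a) = lam (ddT (-a)) • ww ρ v (sig a) := by
  unfold ww sig
  rw [← Module.End.mul_apply, ← map_mul, ← mul_assoc, ss_xx_ss a ha, map_mul, map_mul,
    Module.End.mul_apply, Module.End.mul_apply, xx_v ρ v hvU, hlam _ (dd_mem_TD _ _), map_smul,
    ddT_of_ne _ (neg_ne_zero.mpr ha)]

include hlam in
theorem zz_v : ρ zz v = lam zz • v := hlam _ zz_mem_TD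

include hlam in
theorem zz_ww (a : F) : ρ zz (ww ρ v a) = lam zz • ww ρ v a := by
  unfold ww
  rw [← Module.End.mul_apply, ← map_mul, zz_comm, map_mul, Module.End.mul_apply,
    hlam _ zz_mem_TD, map_smul]

end Facts

section Ops

variable (hvU : ∀ u ∈ US 2 F, ρ u v = v) (hlam : ∀ t ∈ TD 2 F, ρ t v = lam t • v)

/-- the shifted coefficient vector -/
def shiftC (b : F) (k : Option F → ℂ) : Option F → ℂ
  | none => k none
  | some a => k (some (a - b))

include hvU in
theorem Psi_shiftC (b : F) (k : Option F → ℂ) :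
    Psi ρ v (shiftC b k) = ρ (xx b) (Psi ρ v k) := by
  rw [Psi_apply, Psi_apply, map_add, map_smul, map_sum, xx_v ρ v hvU]
  congr 1
  symm
  refine Fintype.sum_equiv (Equiv.addRight b) _ _ (fun a => ?_)
  rw [map_smul, xx_ww]
  show k (some a) • ww ρ v (a + b) = k (some (a + b - b)) • ww ρ v (a + b)
  rw [add_sub_cancel_right]

open Classical in
/-- the coefficient vector after applying `s` -/
noncomputable def sC (k : Option F → ℂ) : Option F → ℂ
  | none => lam zz * k (some 0)
  | some b => if b = 0 then k none else lam (ddT b⁻¹) * k (some (sig b))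

include hvU hlam in
theorem Psi_sC (k : Option F → ℂ) :
    Psi ρ v (sC lam k) = ρ ss (Psi ρ v k) := by
  classical
  rw [Psi_apply, Psi_apply, map_add, map_smul, map_sum, ss_v]
  -- reindex the right-hand sum by `sig`
  have hsig : ∑ a : F, ρ ss (k (some a) • ww ρ v a) =
      ∑ b : F, ρ ss (k (some (sig b)) • ww ρ v (sig b)) :=
    (Fintype.sum_equiv (Function.Involutive.toPerm sig sig_sig) _ _ (fun b => rfl)).symm
  rw [hsig, ← Finset.add_sum_erase _ _ (Finset.mem_univ (0 : F)),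
    ← Finset.add_sum_erase (Finset.univ : Finset F) (fun b => ρ ss (k (some (sig b)) • ww ρ v (sig b)))
      (Finset.mem_univ (0 : F))]
  have h0 : sig (0 : F) = 0 := by unfold sig; simp
  have e1 : ∑ b ∈ (Finset.univ : Finset F).erase 0, sC lam k (some b) • ww ρ v b =
      ∑ b ∈ (Finset.univ : Finset F).erase 0, ρ ss (k (some (sig b)) • ww ρ v (sig b)) := by
    refine Finset.sum_congr rfl (fun b hb => ?_)
    have hb0 : b ≠ 0 := Finset.ne_of_mem_erase hb
    have hs0 : sig b ≠ 0 := fun h => hb0 ((sig_eq_zero b).mp h)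
    show (if b = 0 then k none else lam (ddT b⁻¹) * k (some (sig b))) • ww ρ v b = _
    have hneg : -sig b = b⁻¹ := by unfold sig; rw [neg_neg]
    rw [if_neg hb0, map_smul, ss_ww ρ v lam hvU hlam _ hs0, sig_sig, smul_smul, hneg, mul_comm]
  rw [e1]
  show (lam zz * k (some 0)) • v + ((if (0 : F) = 0 then k none else _) • ww ρ v 0 + _) = _
  rw [if_pos rfl, h0, map_smul, ss_ww_zero ρ v lam hlam, smul_smul]
  rw [mul_comm (k (some 0)) (lam zz)]
  abel

end Ops

/-- (W2) the case `n = 2` (section-variable order) -/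
theorem torus_char_trivial_two_aux [FiniteDimensional ℂ W] (hρ : ρ.IsIrreducible)
    (hdim : Module.finrank ℂ W = Fintype.card F) (hv : v ≠ 0)
    (hvU : ∀ u ∈ US 2 F, ρ u v = v)
    (hlam : ∀ t ∈ TD 2 F, ρ t v = lam t • v)
    (t : SLn 2 F) (ht : t ∈ TD 2 F) : lam t = 1 := by
  classical
  -- `lam 1 = 1`
  have hlam1 : lam 1 = 1 := by
    have h1 := hlam 1 (TD 2 F).one_mem
    rw [map_one, Module.End.one_apply] at h1
    have h2 : (lam 1 - 1) • v = 0 := by rw [sub_smul, one_smul, ← h1, sub_self]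
    rcases smul_eq_zero.mp h2 with h | h
    · exact sub_eq_zero.mp h
    · exact absurd h hv
  -- `lam zz ≠ 0`
  have hlamz : lam zz ≠ 0 := by
    intro h0
    have h1 := hlam zz zz_mem_TD
    rw [h0, zero_smul] at h1
    have h2 : ρ zz (ρ zz v) = v := by
      rw [← Module.End.mul_apply, ← map_mul, zz_mul_zz, map_one, Module.End.one_apply]
    rw [h1, map_zero] at h2
    exact hv h2.symm
  set R := LinearMap.range (Psi ρ v) with hR
  have hvR : v ∈ R := ⟨Pi.single none 1, by rw [Psi_apply]; simp⟩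
  have hwR : ∀ a, ww ρ v a ∈ R := fun a =>
    ⟨Pi.single (some a) 1, by rw [Psi_apply]; simp [Pi.single_apply]⟩
  -- invariance criterion
  have hinv : ∀ g : SLn 2 F, ρ g v ∈ R → (∀ a, ρ g (ww ρ v a) ∈ R) → ∀ y ∈ R, ρ g y ∈ R := by
    rintro g h1 h2 y ⟨c, rfl⟩
    rw [Psi_apply, map_add, map_smul, map_sum]
    refine R.add_mem (R.smul_mem _ h1) (R.sum_mem fun a _ => ?_)
    rw [map_smul]; exact R.smul_mem _ (h2 a)
  have hstab : stab ρ R = ⊤ := by
    apply stab_eq_top
    · intro b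
      apply hinv
      · rw [xx_v ρ v hvU]; exact hvR
      · intro a; rw [xx_ww]; exact hwR _
    · apply hinv
      · rw [ss_v]; exact hwR 0
      · intro a
        by_cases ha : a = 0
        · rw [ha, ss_ww_zero ρ v lam hlam]; exact R.smul_mem _ hvR
        · rw [ss_ww ρ v lam hvU hlam a ha]; exact R.smul_mem _ (hwR _)
    · apply hinv
      · rw [zz_v ρ v lam hlam]; exact R.smul_mem _ hvR
      · intro a; rw [zz_ww ρ v lam hlam]; exact R.smul_mem _ (hwR a)
  have hRtop : R = ⊤ := by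
    let σ : Subrepresentation ρ := ⟨R, fun g y hy => by
      have hg : g ∈ stab ρ R := by rw [hstab]; trivial
      exact hg.1 y hy⟩
    rcases eq_bot_or_eq_top σ with h | h
    · exfalso
      have h1 : v ∈ σ.toSubmodule := hvR
      rw [h] at h1
      exact hv ((Submodule.mem_bot ℂ).mp h1)
    · have h1 : σ.toSubmodule = (⊤ : Subrepresentation ρ).toSubmodule := by rw [h]
      exact h1
  -- the kernel is a line
  have hker : Module.finrank ℂ (LinearMap.ker (Psi ρ v)) = 1 := by
    have h1 := LinearMap.finrank_range_add_finrank_ker (Psi ρ v)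
    rw [← hR, hRtop, finrank_top, hdim, Module.finrank_fintype_fun_eq_card, Fintype.card_option]
      at h1
    omega
  obtain ⟨⟨k, hkK⟩, hk0, hkspan⟩ := finrank_eq_one_iff'.mp hker
  have hk0' : k ≠ 0 := fun h => hk0 (Subtype.ext h)
  have hspan : ∀ c : Option F → ℂ, Psi ρ v c = 0 → ∃ μ : ℂ, c = μ • k := by
    intro c hc
    obtain ⟨μ, hμ⟩ := hkspan ⟨c, hc⟩
    exact ⟨μ, (congrArg Subtype.val hμ).symm⟩
  have hΨk : Psi ρ v k = 0 := hkK
  -- the shift and `s` relations
  have hshift : ∀ b : F, ∃ μ : ℂ, shiftC b k = μ • k := fun b =>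
    hspan _ (by rw [Psi_shiftC ρ v hvU, hΨk, map_zero])
  obtain ⟨μs, hμs⟩ : ∃ μ : ℂ, sC lam k = μ • k :=
    hspan _ (by rw [Psi_sC ρ v lam hvU hlam, hΨk, map_zero])
  have hs_none : lam zz * k (some 0) = μs * k none := congrFun hμs none
  have hs_some : ∀ b : F, b ≠ 0 → lam (ddT b⁻¹) * k (some (sig b)) = μs * k (some b) := by
    intro b hb
    have := congrFun hμs (some b)
    simp only [sC, if_neg hb] at this
    exact this
  have hs_zero : k none = μs * k (some 0) := by
    have := congrFun hμs (some 0)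
    simp only [sC, if_pos] at this
    exact this
  by_cases hkn : k none = 0
  · -- impossible
    exfalso
    have hk00 : k (some 0) = 0 := by
      rw [hkn, mul_zero] at hs_none
      exact (mul_eq_zero.mp hs_none).resolve_left hlamz
    apply hk0'
    funext o
    cases o with
    | none => exact hkn
    | some c =>
      obtain ⟨μ, hμ⟩ := hshift (-c)
      have := congrFun hμ (some 0)
      simp only [shiftC, Pi.smul_apply, smul_eq_mul, hk00, mul_zero, zero_sub, neg_neg] at this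
      exact this
  · -- `k` is constant on `F`
    have hconst : ∀ a : F, k (some a) = k (some 0) := by
      intro a
      obtain ⟨μ, hμ⟩ := hshift a
      have h1 := congrFun hμ none
      simp only [shiftC, Pi.smul_apply, smul_eq_mul] at h1
      have hμ1 : μ = 1 := by
        have h2 : (μ - 1) * k none = 0 := by rw [sub_mul, one_mul, ← h1, sub_self]
        rcases mul_eq_zero.mp h2 with h | h
        · exact sub_eq_zero.mp h
        · exact absurd h hkn
      have h3 := congrFun hμ (some a)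
      simp only [shiftC, Pi.smul_apply, smul_eq_mul, sub_self, hμ1, one_mul] at h3
      exact h3.symm
    have hκ : k (some 0) ≠ 0 := by
      intro h
      rw [h, mul_zero] at hs_zero
      exact hkn hs_zero
    have hμs1 : μs = 1 := by
      have h1 := hs_some 1 one_ne_zero
      rw [inv_one, ddT_one, hlam1, one_mul, hconst, hconst 1] at h1
      have h2 : (μs - 1) * k (some 0) = 0 := by rw [sub_mul, one_mul, ← h1, sub_self]
      rcases mul_eq_zero.mp h2 with h | h
      · exact sub_eq_zero.mp h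
      · exact absurd h hκ
    obtain ⟨e, he, rfl⟩ := eq_dd_of_mem_TD t ht
    have h1 := hs_some e⁻¹ (inv_ne_zero he)
    rw [inv_inv, hconst, hconst e⁻¹, hμs1, one_mul, ddT_of_ne e he] at h1
    have h2 : (lam (dd e he) - 1) * k (some 0) = 0 := by rw [sub_mul, one_mul, h1, sub_self]
    rcases mul_eq_zero.mp h2 with h | h
    · exact sub_eq_zero.mp h
    · exact absurd h hκ

end Main

/-- (W2) the case `n = 2`, helper42's exact signature -/
theorem torus_char_trivial_two [Fintype F] {W : Type*} [AddCommGroup W] [Module ℂ W]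
    [FiniteDimensional ℂ W]
    (ρ : Representation ℂ (SLn 2 F) W) (hρ : ρ.IsIrreducible)
    (hdim : Module.finrank ℂ W = Fintype.card F) (v : W) (hv : v ≠ 0)
    (hvU : ∀ u ∈ US 2 F, ρ u v = v)
    (lam : SLn 2 F → ℂ) (hlam : ∀ t ∈ TD 2 F, ρ t v = lam t • v)
    (t : SLn 2 F) (ht : t ∈ TD 2 F) : lam t = 1 :=
  torus_char_trivial_two_aux ρ v lam hρ hdim hv hvU hlam t ht

end Cfsg.Agent.Helper14.DZ
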