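import Cfsg.Agent.Helper36.TorD.Defs
import Cfsg.Agent.Helper18.BNStruct

/-!
helper14, for piece (FLIP) of helper36's farm E8INV-2 (S4281): copies WITHOUT the `Fintype` instances of
helper10's `chrD_zact_refM`, `step_conj_of` and helper41's `torusHom_eq_iff` (the originals carry `[Fintype K]` from their section
variables, and the skeleton's PART II has only `[Field F]`).
-/

set_option autoImplicit false
set_option linter.unusedSectionVars false

namespace Cfsg.Agent.Helper14.E8Inv2

open Cfsg Cfsg.Lie Cfsg.Agent.Helper18 Cfsg.Agent.Helper19.Cox Cfsg.Agent.Helper19.Poinc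
  Cfsg.Agent.Helper80.Tor Cfsg.Agent.Helper36.TorD

section Fields

variable {K : Type*} [Field K]

variable (D : ChevalleyDatum)
  (hD : D ∈ [chevG2, chevB2, chevD4, chevF4, chevE6, chevE7, chevE8])
include hD

/-- (CHZ) the characters of `zact (refM D i) c` (helper10's proof) -/
theorem chrD_zact_refM' (hcr : cartanReflOK D = true) (i : ℕ) (hi : i < D.rank) (s : ℕ) (hs : s < D.nroots)
    (c : Fin D.rank → Kˣ) :
    chrD D s (zact (refM D i) c) = chrD D (D.reflectRoot i s) c := by
  classical
  have hT : ∀ j : Fin D.rank, D.cartan j.val (D.reflectRoot i s)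
      = D.cartan j.val s - D.cartan i s * D.cartan j.val (D.simple i) := by
    intro j
    unfold cartanReflOK at hcr
    rw [List.all_eq_true] at hcr
    have h1 := hcr i (List.mem_range.2 hi)
    rw [List.all_eq_true] at h1
    have h2 := h1 j.val (List.mem_range.2 j.2)
    rw [List.all_eq_true] at h2
    have h3 := h2 s (List.mem_range.2 hs)
    exact of_decide_eq_true h3
  unfold chrD
  simp only [zact_apply]
  have h1 : ∀ k : Fin D.rank, (∏ j : Fin D.rank, c j ^ refM D i j k) ^ D.cartan k.val s
      = ∏ j : Fin D.rank, c j ^ (refM D i j k * D.cartan k.val s) := by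
    intro k
    rw [← Finset.prod_zpow]
    exact Finset.prod_congr rfl (fun j _ => (zpow_mul _ _ _).symm)
  rw [Finset.prod_congr rfl (fun k _ => h1 k), Finset.prod_comm]
  refine Finset.prod_congr rfl (fun j _ => ?_)
  rw [← zpow_finset_sum, hT j]
  congr 1
  unfold refM
  simp only [sub_mul, Finset.sum_sub_distrib, ite_mul, one_mul, zero_mul]
  rw [Finset.sum_ite_eq Finset.univ j (fun k => D.cartan k.val s)]
  simp only [Finset.mem_univ, if_true]
  congr 1
  have h2 : ∀ k : Fin D.rank, (if k.val = i then D.cartan j.val (D.simple i) * D.cartan k.val s else 0)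
      = if k = (⟨i, hi⟩ : Fin D.rank) then D.cartan j.val (D.simple i) * D.cartan i s else 0 := by
    intro k
    by_cases hk : k.val = i
    · have hk' : k = (⟨i, hi⟩ : Fin D.rank) := Fin.ext hk
      rw [if_pos hk, if_pos hk', hk]
    · have hk' : k ≠ (⟨i, hi⟩ : Fin D.rank) := fun h => hk (by rw [h])
      rw [if_neg hk, if_neg hk']
  rw [Finset.sum_congr rfl (fun k _ => h2 k), Finset.sum_ite_eq' Finset.univ (⟨i, hi⟩ : Fin D.rank)]
  simp only [Finset.mem_univ, if_true]
  ring

/-- the diagonal entry of `torusHom D K c` at the root `s` (helper41's proof) -/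
theorem torusHom_entry_inr' (c : Fin D.rank → Kˣ) (s : ℕ) (hs : s < D.nroots) :
    ((torusHom D K c : GL D.Idx K) : Matrix D.Idx D.Idx K) (Sum.inr ⟨s, hs⟩) (Sum.inr ⟨s, hs⟩) =
      ((chrD D s c : Kˣ) : K) := by
  rw [torusHom_val, Matrix.diagonal_apply_eq]
  simp only [torusChar, MonoidHom.coe_mk, OneHom.coe_mk, Sum.elim_inr]
  rfl

/-- (TE) torus elements are determined by the values of the roots (helper41's proof) -/
theorem torusHom_eq_iff' (c c' : Fin D.rank → Kˣ) :
    torusHom D K c = torusHom D K c' ↔ ∀ s < D.nroots, chrD D s c = chrD D s c' := by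
  constructor
  · intro h s hs
    apply Units.ext
    rw [← torusHom_entry_inr' D hD c s hs, ← torusHom_entry_inr' D hD c' s hs, h]
  · intro h
    apply Units.ext
    rw [torusHom_val, torusHom_val]
    congr 1
    funext j
    rcases j with a | s
    · simp [torusChar]
    · have := h s.val s.2
      simp only [torusChar, MonoidHom.coe_mk, OneHom.coe_mk, Sum.elim_inr]
      exact congrArg Units.val this

/-- (STEP) from (TC) (helper10's proof) -/
theorem step_conj_of'
    (hTC : ∀ (c : Fin D.rank → Kˣ) (s : ℕ), s < D.nroots → ∀ t : K,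
      torusHom D K c * xGL D K s t * (torusHom D K c)⁻¹ = xGL D K s (((chrD D s c : Kˣ) : K) * t))
    (hcr : cartanReflOK D = true) (i : ℕ) (hi : i < D.rank) (c : Fin D.rank → Kˣ) :
    nWordsGL D K [i] * torusHom D K c * (nWordsGL D K [i])⁻¹ = torusHom D K (zact (refM D i) c) := by
  classical
  have htri := triOK_of_mem D hD
  have hw : ∀ j ∈ [i], j < D.rank := by
    intro j hj
    rw [List.mem_singleton] at hj
    rw [hj]; exact hi
  have hnN : nWordsGL D K [i] ∈ D.monomialSubgroup K := nWordsGL_mem D hD [i] hw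
  have hkH : nWordsGL D K [i] * torusHom D K c * (nWordsGL D K [i])⁻¹ ∈ D.diagonalSubgroup K := by
    have h1 := monomialSubgroup_le_normalizer D hD hnN
    rw [Subgroup.mem_normalizer_iff] at h1
    exact (h1 _).1 (torusHom_mem D hD c)
  rw [← torusHom_range D hD] at hkH
  obtain ⟨c', hc'⟩ := hkH
  rw [← hc', torusHom_eq_iff' D hD]
  intro s hs
  rw [chrD_zact_refM' D hD hcr i hi s hs c]
  have hs' : D.reflectRoot i s < D.nroots := reflectRoot_lt D hD i s hi hs
  obtain ⟨-, η, hη, hconj⟩ := nWordsGL_conj_xGL (F := K) D hD (nConjHyp D hD)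
    (reflectRoot_lt D hD) [i] hw (D.reflectRoot i s) hs'
  have hrho : rho D [i] (D.reflectRoot i s) = s := reflectRoot_reflectRoot D hD i s hi hs
  rw [hrho] at hconj
  have hη0 : ((η : ℤ) : K) ≠ 0 := by
    rcases hη with rfl | rfl
    · simp
    · simp
  have e1 := hTC c' s hs (((η : ℤ) : K) * 1)
  have e2 : torusHom D K c' * xGL D K s (((η : ℤ) : K) * 1) * (torusHom D K c')⁻¹
      = xGL D K s (((η : ℤ) : K) * (((chrD D (D.reflectRoot i s) c : Kˣ) : K) * 1)) := by
    have a1 : xGL D K s (((η : ℤ) : K) * 1)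
        = nWordsGL D K [i] * xGL D K (D.reflectRoot i s) 1 * (nWordsGL D K [i])⁻¹ := by
      rw [eq_mul_inv_iff_mul_eq]
      exact (hconj 1).symm
    have a2 := hTC c (D.reflectRoot i s) hs' 1
    have a3 : xGL D K s (((η : ℤ) : K) * (((chrD D (D.reflectRoot i s) c : Kˣ) : K) * 1))
        = nWordsGL D K [i] * xGL D K (D.reflectRoot i s) (((chrD D (D.reflectRoot i s) c : Kˣ) : K) * 1)
          * (nWordsGL D K [i])⁻¹ := by
      rw [eq_mul_inv_iff_mul_eq]
      exact (hconj _).symm
    rw [a3, ← a2, a1, hc']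
    group
  rw [e1] at e2
  have e3 := x_injective D hD s hs _ _ (by
    have := congrArg (fun g : GL D.Idx K => (g : Matrix D.Idx D.Idx K)) e2
    simpa only [xGL_val D _ htri] using this)
  apply Units.ext
  have e4 : ((chrD D s c' : Kˣ) : K) * ((η : ℤ) : K) = ((η : ℤ) : K) * ((chrD D (D.reflectRoot i s) c : Kˣ) : K) := by
    simpa only [mul_one] using e3
  rw [mul_comm] at e4
  exact mul_left_cancel₀ hη0 e4

end Fields

end Cfsg.Agent.Helper14.E8Inv2
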