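import Cfsg.Agent.Helper36.E8Odd.Defs2
import Cfsg.Agent.Helper36.TorD.Tab8b
import Cfsg.Agent.Helper14.E8Inv2_Step

/-!
helper14, piece (FLIP) of helper36's farm E8INV-2 (S4281): `n_i tor (sv b) n_i⁻¹ = tor (sv (flipB i b))`, statement verbatim from
`tools/helper36_e8inv/Skel23.lean.txt` (no `Fintype` instance: the `Fintype`-free copy of `step_conj` is in `E8Inv2_Step.lean`).
Local copies of (CS) `chr_sv` and (PS) `par_simple` under the names `flip_chr_sv`, `flip_par_simple`.
-/

set_option autoImplicit false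
set_option maxRecDepth 100000

namespace Cfsg.Agent.Helper14.E8Inv2

open Cfsg Cfsg.Lie Cfsg.Agent.Helper18 Cfsg.Agent.Helper18.E8Odd Cfsg.Agent.Helper19.Cox Cfsg.Agent.Helper19.Poinc
  Cfsg.Agent.Helper36.E8Odd Cfsg.Agent.Helper36.TorD

section PartII
variable {F : Type*} [Field F]

theorem neg_one_zpow_units (n : ℤ) : (-1 : Fˣ) ^ n = if n % 2 = 1 then -1 else 1 := by
  rcases Int.emod_two_eq_zero_or_one n with h | h
  · rw [if_neg (by omega)]
    exact Even.neg_one_zpow (Int.even_iff.2 h)
  · rw [if_pos h]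
    exact Odd.neg_one_zpow (Int.odd_iff.2 h)

/-- (CS) the values of the roots on `tor (sv b)` -/
theorem flip_chr_sv (b s : ℕ) : chr s (sv (F := F) b) = if par b s then -1 else 1 := by
  have h1 : chr s (sv (F := F) b) = (-1 : Fˣ) ^ parSum b s := by
    unfold chr parSum
    have h2 : ∀ i : Fin chevE8.rank, sv (F := F) b i ^ chevE8.cartan i.val s =
        (-1 : Fˣ) ^ (if b.testBit i.val then chevE8.cartan i.val s else 0) := by
      intro i
      unfold sv
      split_ifs
      · rfl
      · rw [one_zpow, zpow_zero]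
    rw [Finset.prod_congr rfl (fun i _ => h2 i), ← zpow_finset_sum]
    congr 1
  rw [h1, neg_one_zpow_units]
  unfold par
  by_cases h : parSum b s % 2 = 1
  · rw [if_pos h, if_pos (decide_eq_true h)]
  · rw [if_neg h, if_neg (by rw [decide_eq_true_eq]; exact h)]

/-- (PS) `par` at a fundamental root -/
theorem flip_par_simple (b i : ℕ) (hi : i < 8) : par b (chevE8.simple i) = parS b i := by
  unfold par parS parSum
  congr 4
  apply List.map_congr_left
  intro j hj
  have hj8 : j < 8 := List.mem_range.1 hj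
  have h1 := Cm_eq ⟨j, hj8⟩ ⟨i, hi⟩
  unfold Cm at h1
  rw [← h1]

theorem prod_single_zpow (c : Fin chevE8.rank → Fˣ) (k : Fin chevE8.rank) :
    ∏ j : Fin chevE8.rank, c j ^ (if j = k then (1 : ℤ) else 0) = c k := by
  have h1 : ∀ j : Fin chevE8.rank, c j ^ (if j = k then (1 : ℤ) else 0) = if j = k then c j else 1 := by
    intro j
    split_ifs
    · rw [zpow_one]
    · rw [zpow_zero]
  rw [Finset.prod_congr rfl (fun j _ => h1 j), Finset.prod_ite_eq' Finset.univ k (fun j => c j)]
  simp

theorem testBit_flip (i b k : ℕ) (h : parS b i = true) :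
    (flipB i b).testBit k = (if k = i then !b.testBit k else b.testBit k) := by
  unfold flipB
  rw [if_pos h, Nat.testBit_xor, Nat.one_shiftLeft, Nat.testBit_two_pow]
  by_cases hk : k = i
  · rw [if_pos hk, hk]
    simp
  · rw [if_neg hk]
    have : ¬ i = k := fun hc => hk hc.symm
    simp [this]

/-- (FLIP) `n_i tor(sv b) n_i⁻¹ = tor (sv (flipB i b))` -/
theorem flip_conj (i : ℕ) (hi : i < 8) (b : ℕ) :
    nW [i] * tor (sv (F := F) b) * (nW [i])⁻¹ = tor (sv (flipB i b)) := by
  have hTC : ∀ (c : Fin chevE8.rank → Fˣ) (s : ℕ), s < chevE8.nroots → ∀ t : F,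
      torusHom chevE8 F c * xGL chevE8 F s t * (torusHom chevE8 F c)⁻¹ =
        xGL chevE8 F s (((chrD chevE8 s c : Fˣ) : F) * t) :=
    fun c s hs t => tor_conj c s hs t
  have h := step_conj_of' chevE8 hE8 hTC Tab8.cartanReflOK_E8 i hi (sv (F := F) b)
  show nWordsGL chevE8 F [i] * torusHom chevE8 F (sv b) * (nWordsGL chevE8 F [i])⁻¹ =
    torusHom chevE8 F (sv (flipB i b))
  rw [h]
  congr 1
  funext k
  rw [zact_apply]
  unfold refM
  by_cases hk : k.val = i
  · have h1 : ∀ j : Fin chevE8.rank,
        sv (F := F) b j ^ ((if j = k then (1 : ℤ) else 0) -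
          (if k.val = i then chevE8.cartan j.val (chevE8.simple i) else 0)) =
        sv (F := F) b j ^ (if j = k then (1 : ℤ) else 0) *
          (sv (F := F) b j ^ chevE8.cartan j.val (chevE8.simple i))⁻¹ := by
      intro j
      rw [if_pos hk, zpow_sub]
    rw [Finset.prod_congr rfl (fun j _ => h1 j), Finset.prod_mul_distrib, Finset.prod_inv_distrib,
      prod_single_zpow]
    have h2 : ∏ j : Fin chevE8.rank, sv (F := F) b j ^ chevE8.cartan j.val (chevE8.simple i) =
        chr (chevE8.simple i) (sv (F := F) b) := rfl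
    rw [h2, flip_chr_sv, flip_par_simple b i hi]
    by_cases hp : parS b i = true
    · rw [if_pos hp]
      unfold sv
      rw [testBit_flip i b k.val hp, if_pos hk]
      cases b.testBit k.val <;> simp
    · have hp' : parS b i = false := by simpa using hp
      have hfl : flipB i b = b := by unfold flipB; rw [if_neg hp]
      rw [if_neg hp, hfl, inv_one, mul_one]
  · have h1 : ∀ j : Fin chevE8.rank,
        sv (F := F) b j ^ ((if j = k then (1 : ℤ) else 0) -
          (if k.val = i then chevE8.cartan j.val (chevE8.simple i) else 0)) =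
        sv (F := F) b j ^ (if j = k then (1 : ℤ) else 0) := by
      intro j
      rw [if_neg hk, sub_zero]
    rw [Finset.prod_congr rfl (fun j _ => h1 j), prod_single_zpow]
    by_cases hp : parS b i = true
    · unfold sv
      rw [testBit_flip i b k.val hp, if_neg hk]
    · have hfl : flipB i b = b := by unfold flipB; rw [if_neg hp]
      rw [hfl]

end PartII

end Cfsg.Agent.Helper14.E8Inv2
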