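import Cfsg.Agent.Helper14.E8Inv2_FLIP

/-!
helper14, piece (ORB) of helper36's farm E8INV-2 (S4281): the involutions of `H` fall into two classes; statement verbatim from
`tools/helper36_e8inv/Skel23.lean.txt`.
-/

set_option autoImplicit false
set_option maxRecDepth 100000

namespace Cfsg.Agent.Helper14.E8Inv2

open Cfsg Cfsg.Lie Cfsg.Agent.Helper18 Cfsg.Agent.Helper18.E8Odd Cfsg.Agent.Helper19.Cox Cfsg.Agent.Helper19.Poinc
  Cfsg.Agent.Helper36.E8Odd Cfsg.Agent.Helper36.TorD

section PartII
variable {F : Type*} [Field F]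

/-- one flip is a conjugation in the group -/
theorem flip_conjG (i : ℕ) (hi : i < 8) (b : ℕ) :
    ConjG (tor (sv (F := F) b)) (tor (sv (flipB i b))) := by
  refine ⟨nW [i], monomial_le_group (nW_mem [i] ?_), flip_conj i hi b⟩
  intro j hj
  rw [List.mem_singleton] at hj
  rw [hj]
  exact hi

/-- (ORB) the involutions of `H` fall into two classes -/
theorem sv_conj (b : ℕ) (hb0 : 0 < b) (hb : b < 256) :
    ConjG (tor (sv (F := F) b)) (tor (sv 6)) ∨ ConjG (tor (sv (F := F) b)) (tor (sv 82)) := by
  obtain ⟨d, hd⟩ : ∃ d, d = depthTab.getD b 0 := ⟨_, rfl⟩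
  induction d using Nat.strong_induction_on generalizing b with
  | _ d ih =>
    rcases depth_ok b hb hb0 with ⟨-, h6 | h82⟩ | ⟨i, hi, hlt, h0, h256⟩
    · left
      rw [h6]
      exact ConjG.refl _
    · right
      rw [h82]
      exact ConjG.refl _
    · have h1 := flip_conjG (F := F) i hi b
      rcases ih (depthTab.getD (flipB i b) 0) (by rw [hd]; exact hlt) (flipB i b) h0 h256 rfl with h2 | h2
      · exact Or.inl (h1.trans h2)
      · exact Or.inr (h1.trans h2)

end PartII

end Cfsg.Agent.Helper14.E8Inv2
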