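import Cfsg.Agent.Helper14.E8Inv_INDcore

/-!
helper14, hedge for piece (D1) of helper18's farm E8INV-1 (S4281): a word of `W(E₈)` which maps all fundamental roots to
positive roots acts trivially on the 240 roots (the `2ρ` argument).
-/

set_option autoImplicit false
set_option maxRecDepth 100000

namespace Cfsg.Agent.Helper14.E8Inv

open Cfsg Cfsg.Lie Cfsg.Agent.Helper18 Cfsg.Agent.Helper18.E8Odd Cfsg.Agent.Helper36.E8Odd

/-- the sum of the positive roots -/
def twoRho : V := ![92, 136, 182, 270, 220, 168, 114, 58]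

theorem twoRho_list : ∀ k : Fin 8, ((List.range 120).map (fun x => cf (120 + x) k)).sum = twoRho k := by
  decide +kernel

theorem sum_range_list {M : Type*} [AddCommMonoid M] (f : ℕ → M) (n : ℕ) :
    ∑ x ∈ Finset.range n, f x = ((List.range n).map f).sum := by
  induction n with
  | zero => rfl
  | succ n ih =>
    rw [Finset.sum_range_succ, ih, List.range_succ, List.map_append, List.sum_append]
    simp

theorem rho_eq : ∑ x ∈ Finset.Ico 120 240, cf x = twoRho := by
  funext k
  rw [Finset.sum_apply, Finset.sum_Ico_eq_sum_range, sum_range_list]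
  exact twoRho_list k

theorem twoRho_inj : ∀ a b : Fin 8, twoRho a = twoRho b → a = b := by decide

theorem B_e_rho : ∀ i : Fin 8, ∑ k, Cm i k * twoRho k = 2 := by decide

theorem B_rho (v : V) : B v twoRho = 2 * ∑ k, v k := by
  conv_lhs => rw [vec_expand v]
  rw [map_sum, LinearMap.sum_apply, Finset.mul_sum]
  apply Finset.sum_congr rfl
  intro t _
  rw [map_smul, LinearMap.smul_apply, B_e_left, B_e_rho, smul_eq_mul, mul_comm]

/-- a positive root of height one is fundamental -/
theorem ht_one : ∀ y' < 120, cf (120 + y') 0 + cf (120 + y') 1 + cf (120 + y') 2 + cf (120 + y') 3 + cf (120 + y') 4 +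
    cf (120 + y') 5 + cf (120 + y') 6 + cf (120 + y') 7 = 1 → ∃ l : Fin 8, 120 + y' = sr l.val := by
  decide +kernel

section
variable (w : List ℕ) (hw : ∀ i ∈ w, i < 8)
include hw

theorem aW_inj (x : ℕ) (hx : x < 240) (y : ℕ) (hy : y < 240) (hxy : aW w x = aW w y) : x = y := by
  apply cf_inj x hx y hy
  have h1 := (cf_aW' w hw x hx).2
  have h2 := (cf_aW' w hw y hy).2
  rw [hxy] at h1
  have h3 : Lw w (cf x) = Lw w (cf y) := h1.symm.trans h2
  have h4 := congrArg (Lw w.reverse) h3
  rwa [Lw_reverse, Lw_reverse] at h4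

variable (h : ∀ i < 8, 120 ≤ aW w (sr i))
include h

theorem pos_of_pos (x : ℕ) (hx1 : 120 ≤ x) (hx2 : x < 240) : 120 ≤ aW w x := by
  obtain ⟨hy, hcy⟩ := cf_aW' w hw x hx2
  by_contra hlt
  have hneg := (cf_sign _ hy).2.1 (by omega)
  have hne := (cf_sign _ hy).2.2
  have hpos : ∀ k, 0 ≤ cf (aW w x) k := by
    intro k
    rw [hcy, Lw_expand w (cf x), Finset.sum_apply]
    apply Finset.sum_nonneg
    intro t _
    rw [Pi.smul_apply, smul_eq_mul]
    apply mul_nonneg ((cf_sign x hx2).1 hx1 t)
    have h1 := cf_aW' w hw (sr t.val) (sr_lt t.val t.isLt)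
    rw [cf_sr] at h1
    rw [← h1.2]
    exact (cf_sign _ h1.1).1 (h t.val t.isLt) k
  exact hne (funext fun k => le_antisymm (hneg k) (hpos k))

theorem Lw_rho : Lw w twoRho = twoRho := by
  have hinj : Set.InjOn (fun x => aW w x) (Finset.Ico 120 240 : Finset ℕ) := by
    intro x hx y hy hxy
    rw [Finset.coe_Ico, Set.mem_Ico] at hx hy
    exact aW_inj w hw x hx.2 y hy.2 hxy
  have himg : Finset.image (fun x => aW w x) (Finset.Ico 120 240) = Finset.Ico 120 240 := by
    apply Finset.eq_of_subset_of_card_le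
    · intro y hy
      obtain ⟨x, hx, rfl⟩ := Finset.mem_image.1 hy
      rw [Finset.mem_Ico] at hx ⊢
      exact ⟨pos_of_pos w hw h x hx.1 hx.2, aW_lt w hw x hx.2⟩
    · rw [Finset.card_image_of_injOn hinj]
  rw [← rho_eq, map_sum]
  conv_rhs => rw [← himg]
  rw [Finset.sum_image hinj]
  apply Finset.sum_congr rfl
  intro x hx
  rw [Finset.mem_Ico] at hx
  exact ((cf_aW' w hw x hx.2).2).symm

/-- (D1) a word which maps all fundamental roots to positive roots acts trivially -/
theorem triv_of_pos_h : ∀ x < 240, aW w x = x := by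
  have hρ := Lw_rho w hw h
  have hσ : ∀ i : Fin 8, ∃ l : Fin 8, aW w (sr i.val) = sr l.val := by
    intro i
    obtain ⟨hy, hcy⟩ := cf_aW' w hw (sr i.val) (sr_lt i.val i.isLt)
    rw [cf_sr] at hcy
    have h1 : B (Lw w (e i)) twoRho = 2 := by
      have h0 : B (Lw w (e i)) (Lw w twoRho) = 2 := by rw [B_Lw, B_e_left, B_e_rho]
      rwa [hρ] at h0
    rw [B_rho, ← hcy, Fin.sum_univ_eight] at h1
    have h3 := h i.val i.isLt
    have h4 : 120 + (aW w (sr i.val) - 120) = aW w (sr i.val) := by omega
    obtain ⟨l, hl⟩ := ht_one (aW w (sr i.val) - 120) (by omega) (by rw [h4]; omega)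
    exact ⟨l, by omega⟩
  choose σ hσ using hσ
  have hσinj : Function.Injective σ := by
    intro i j hij
    have h1 : aW w (sr i.val) = aW w (sr j.val) := by rw [hσ i, hσ j, hij]
    have h2 := aW_inj w hw _ (sr_lt i.val i.isLt) _ (sr_lt j.val j.isLt) h1
    have h3 : e i = e j := by rw [← cf_sr i, ← cf_sr j, h2]
    have h4 := congrFun h3 i
    rw [e, e, Pi.single_eq_same, Pi.single_apply] at h4
    by_contra hne
    rw [if_neg hne] at h4
    exact one_ne_zero h4
  have hLe : ∀ i, Lw w (e i) = e (σ i) := by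
    intro i
    have h1 := (cf_aW' w hw (sr i.val) (sr_lt i.val i.isLt)).2
    rw [hσ i, cf_sr, cf_sr] at h1
    exact h1.symm
  have hfix : ∀ j, σ j = j := by
    intro j
    have h1 : twoRho (σ j) = twoRho j := by
      have h2 := congrFun hρ (σ j)
      rw [Lw_expand w twoRho, Finset.sum_apply] at h2
      simp only [hLe, Pi.smul_apply, smul_eq_mul] at h2
      rw [Finset.sum_eq_single j] at h2
      · rw [← h2, e, Pi.single_eq_same, mul_one]
      · intro t _ ht
        rw [e, Pi.single_apply, if_neg (fun hc => ht (hσinj hc).symm), mul_zero]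
      · intro hj
        exact absurd (Finset.mem_univ j) hj
    exact twoRho_inj _ _ h1
  have hid : ∀ v : V, Lw w v = v := by
    intro v
    rw [Lw_expand w v]
    conv_rhs => rw [vec_expand v]
    apply Finset.sum_congr rfl
    intro t _
    rw [hLe, hfix]
  intro x hx
  apply cf_inj _ (aW_lt w hw x hx) x hx
  rw [(cf_aW' w hw x hx).2, hid]

end

end Cfsg.Agent.Helper14.E8Inv
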