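import Cfsg.Agent.Helper14.E8Inv_D1h

/-!
helper14, piece (IND) of helper18's farm E8INV-1 (S4281, involutions of `E₈(q)`, `q` odd): the independent case, statement
verbatim from `tools/helper18_e8inv/SkelI.lean.txt`.  Also (D1) `triv_of_pos` verbatim (hedge; proof in `E8Inv_D1h.lean`).
-/

set_option autoImplicit false
set_option maxRecDepth 100000

namespace Cfsg.Agent.Helper14.E8Inv

open Cfsg Cfsg.Lie Cfsg.Agent.Helper18 Cfsg.Agent.Helper18.E8Odd Cfsg.Agent.Helper36.E8Odd

/-- (D1) a word which maps all fundamental roots to positive roots acts trivially -/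
theorem triv_of_pos (w : List ℕ) (hw : ∀ i ∈ w, i < 8) (h : ∀ i < 8, 120 ≤ aW w (sr i)) : ∀ x < 240, aW w x = x :=
  triv_of_pos_h w hw h

/-- (IND) the independent case -/
theorem indep_case (s : List ℕ) (hs : ∀ i ∈ s, i < 8) (hinv : ∀ x < 240, aW s (aW s x) = x)
    (hnt : ¬ ∀ x < 240, aW s x = x)
    (hterm : ∀ i < 8, aW s (sr i) < 120 → aW s (sr i) = 239 - sr i)
    (hind : ∀ i j, Adj i j → aW s (sr i) = 239 - sr i → aW s (sr j) ≠ 239 - sr j) :
    ∃ i j, Adj i j ∧ aW s (sr i) = 239 - sr i ∧ aW s (sr j) = aW [i] (sr j) :=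
  indep_case_of triv_of_pos s hs hinv hnt hterm hind

end Cfsg.Agent.Helper14.E8Inv
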