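import Cfsg.Agent.Helper18.E8Odd.Defs

/-!
helper14, piece (IND) of helper18's farm E8INV-1 (S4281, involutions of `E₈(q)`, `q` odd): the independent case, with
(D1) (`triv_of_pos`) as a hypothesis.  The final statement is in `Cfsg/Agent/Helper14/E8Inv_IND.lean`.
-/

set_option autoImplicit false
set_option maxRecDepth 100000

namespace Cfsg.Agent.Helper14.E8Inv

open Cfsg Cfsg.Lie Cfsg.Agent.Helper18 Cfsg.Agent.Helper18.E8Odd Cfsg.Agent.Helper36.E8Odd

/-- Cartan integers of the fundamental roots, natural-number indices -/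
def cmN (i j : ℕ) : ℤ := (CmTab.getD i []).getD j 0

theorem cmN_eq (i j : ℕ) (hi : i < 8) (hj : j < 8) : cmN i j = chevE8.cartan i (chevE8.simple j) :=
  Cm_eq ⟨i, hi⟩ ⟨j, hj⟩

/-- pairwise non-adjacent -/
def indepB (L : List ℕ) : Bool := L.all fun i => L.all fun j => decide (cmN i j ≠ -1)

/-- the subsets of the set of fundamental roots, as lists -/
def subs : List (List ℕ) := (List.range 8).sublists

/-- coefficient of the root `x` at the fundamental root `t` -/
def cfN (x t : ℕ) : ℤ := (Cfsg.Agent.Helper19.Cox.byteAt (cfTab.getD t 0) x : ℤ) - 6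

theorem cf_eq_cfN (x : ℕ) (t : Fin 8) : cf x t = cfN x t.val := rfl

def c1 : Bool := subs.all fun L => !indepB L || L.all fun k => aW L (sr k) == 239 - sr k

theorem c1_ok : c1 = true := by decide +kernel

def c3 : Bool := subs.all fun L => L.isEmpty || !indepB L ||
  L.any fun i => (List.range 8).any fun j => decide (cmN i j = -1) && (aW L (sr j) == aW [i] (sr j))

theorem c3_ok : c3 = true := by decide +kernel

def c4 : Bool := (List.range 120).all fun y' =>
  ((List.range 8).any fun l => (120 + y') == sr l) ||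
  ((List.range 8).any fun a => (List.range 8).any fun b =>
    decide (cmN a b = -1) && decide (0 < cfN (120 + y') a) && decide (0 < cfN (120 + y') b))

theorem c4_ok : c4 = true := by decide +kernel

theorem cert_neg (L : List ℕ) (hL : L ∈ subs) (hind : indepB L = true) (k : ℕ) (hk : k ∈ L) :
    aW L (sr k) = 239 - sr k := by
  have h := c1_ok
  rw [c1, List.all_eq_true] at h
  have h1 := h L hL
  rw [hind] at h1
  simp only [Bool.not_true, Bool.false_or, List.all_eq_true, beq_iff_eq] at h1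
  exact h1 k hk

theorem cert_choice (L : List ℕ) (hL : L ∈ subs) (hne : L ≠ []) (hind : indepB L = true) :
    ∃ i ∈ L, ∃ j < 8, cmN i j = -1 ∧ aW L (sr j) = aW [i] (sr j) := by
  have h := c3_ok
  rw [c3, List.all_eq_true] at h
  have h1 := h L hL
  rw [hind] at h1
  have h2 : L.isEmpty = false := by
    cases L with
    | nil => exact absurd rfl hne
    | cons a l => rfl
  rw [h2] at h1
  simp only [Bool.not_true, Bool.false_or, List.any_eq_true, Bool.and_eq_true, decide_eq_true_eq,
    beq_iff_eq, List.mem_range] at h1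
  obtain ⟨i, hi, j, hj, h3, h4⟩ := h1
  exact ⟨i, hi, j, hj, h3, h4⟩

theorem cert_root (y : ℕ) (h1 : 120 ≤ y) (h2 : y < 240) :
    (∃ l < 8, y = sr l) ∨ ∃ a < 8, ∃ b < 8, cmN a b = -1 ∧ 0 < cfN y a ∧ 0 < cfN y b := by
  have h := c4_ok
  rw [c4, List.all_eq_true] at h
  have h3 := h (y - 120) (List.mem_range.2 (by omega))
  have h4 : 120 + (y - 120) = y := by omega
  rw [h4] at h3
  simp only [Bool.or_eq_true, List.any_eq_true, Bool.and_eq_true, decide_eq_true_eq, beq_iff_eq,
    List.mem_range] at h3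
  rcases h3 with ⟨l, hl, h5⟩ | ⟨a, ha, b, hb, ⟨h5, h6⟩, h7⟩
  · exact Or.inl ⟨l, hl, h5⟩
  · exact Or.inr ⟨a, ha, b, hb, h5, h6, h7⟩

/-- `cf_aW` in terms of the abbreviation `aW` -/
theorem cf_aW' (w : List ℕ) (hw : ∀ i ∈ w, i < 8) (x : ℕ) (hx : x < 240) :
    aW w x < 240 ∧ cf (aW w x) = Lw w (cf x) := cf_aW w hw x hx

theorem sr_lt (k : ℕ) (hk : k < 8) : sr k < 240 := (cf_simple ⟨k, hk⟩).1

theorem sr_ge (k : ℕ) (hk : k < 8) : 120 ≤ sr k := (cf_simple ⟨k, hk⟩).2.1

theorem cf_sr (k : Fin 8) : cf (sr k.val) = e k := (cf_simple k).2.2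

/-- a reflection changes only one coordinate -/
theorem reflN_coord (i : ℕ) (v : V) (t : Fin 8) (ht : t.val ≠ i) : reflN i v t = v t := by
  unfold reflN
  split_ifs with h
  · rw [reflL_apply]
    have : e ⟨i, h⟩ t = 0 := by
      rw [e, Pi.single_apply, if_neg]
      intro hc
      exact ht (by rw [hc])
    simp [this]
  · rfl

/-- a word changes only the coordinates at its letters -/
theorem Lw_coord (w : List ℕ) (v : V) (t : Fin 8) (ht : t.val ∉ w) : Lw w v t = v t := by
  induction w with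
  | nil => rfl
  | cons i w ih =>
    rw [Lw_cons, reflN_coord i _ t (fun hc => ht (by rw [hc]; exact List.mem_cons_self ..)),
      ih (fun hc => ht (List.mem_cons_of_mem _ hc))]

theorem vec_expand (v : V) : v = ∑ t, v t • e t := by
  funext k
  simp [e, Finset.sum_apply, Pi.single_apply]

theorem Lw_expand (w : List ℕ) (v : V) : Lw w v = ∑ t, v t • Lw w (e t) := by
  conv_lhs => rw [vec_expand v]
  rw [map_sum]
  simp only [map_smul]

/-- (IND) with (D1) as a hypothesis -/
theorem indep_case_of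
    (D1 : ∀ w : List ℕ, (∀ i ∈ w, i < 8) → (∀ i < 8, 120 ≤ aW w (sr i)) → ∀ x < 240, aW w x = x)
    (s : List ℕ) (hs : ∀ i ∈ s, i < 8) (hinv : ∀ x < 240, aW s (aW s x) = x)
    (hnt : ¬ ∀ x < 240, aW s x = x)
    (hterm : ∀ i < 8, aW s (sr i) < 120 → aW s (sr i) = 239 - sr i)
    (hind : ∀ i j, Adj i j → aW s (sr i) = 239 - sr i → aW s (sr j) ≠ 239 - sr j) :
    ∃ i j, Adj i j ∧ aW s (sr i) = 239 - sr i ∧ aW s (sr j) = aW [i] (sr j) := by
  classical
  obtain ⟨L, hL⟩ : ∃ L : List ℕ, L = (List.range 8).filter (fun i => decide (aW s (sr i) = 239 - sr i)) :=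
    ⟨_, rfl⟩
  have hLmem : ∀ i, i ∈ L ↔ i < 8 ∧ aW s (sr i) = 239 - sr i := by
    intro i
    rw [hL, List.mem_filter, List.mem_range, decide_eq_true_eq]
  have hLsub : L ∈ subs := by
    rw [subs, List.mem_sublists, hL]
    exact List.filter_sublist
  have hLind : indepB L = true := by
    rw [indepB, List.all_eq_true]
    intro i hi
    rw [List.all_eq_true]
    intro j hj
    rw [decide_eq_true_eq]
    intro hc
    obtain ⟨hi8, hi'⟩ := (hLmem i).1 hi
    obtain ⟨hj8, hj'⟩ := (hLmem j).1 hj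
    exact hind i j ⟨hi8, hj8, by rw [← cmN_eq i j hi8 hj8]; exact hc⟩ hi' hj'
  have hLlt : ∀ i ∈ L, i < 8 := fun i hi => ((hLmem i).1 hi).1
  have hu : ∀ i ∈ s ++ L, i < 8 := by
    intro i hi
    rcases List.mem_append.1 hi with h | h
    · exact hs i h
    · exact hLlt i h
  -- `s` negates the fundamental roots in `L`
  have hSe : ∀ t : Fin 8, t.val ∈ L → Lw s (e t) = - e t := by
    intro t ht
    have h1 := (cf_aW' s hs (sr t.val) (sr_lt t.val t.isLt)).2
    rw [((hLmem t.val).1 ht).2, cf_neg _ (sr_lt t.val t.isLt), cf_sr] at h1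
    exact h1.symm
  have hSneg : ∀ v : V, (∀ t : Fin 8, t.val ∉ L → v t = 0) → Lw s v = - v := by
    intro v hv
    rw [Lw_expand s v]
    conv_rhs => rw [vec_expand v]
    rw [← Finset.sum_neg_distrib]
    apply Finset.sum_congr rfl
    intro t _
    by_cases ht : t.val ∈ L
    · rw [hSe t ht, smul_neg]
    · rw [hv t ht, zero_smul, zero_smul, neg_zero]
  have hpos : ∀ k < 8, 120 ≤ aW (s ++ L) (sr k) := by
    intro k hk
    rw [aW_append]
    by_cases hkL : k ∈ L
    · rw [cert_neg L hLsub hLind k hkL]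
      have h1 := ((hLmem k).1 hkL).2
      have h2 := hinv (sr k) (sr_lt k hk)
      rw [h1] at h2
      rw [h2]
      exact sr_ge k hk
    · have hy : 120 ≤ aW s (sr k) := by
        by_contra hlt
        exact hkL ((hLmem k).2 ⟨hk, hterm k hk (by omega)⟩)
      have hy2 : aW s (sr k) < 240 := aW_lt s hs _ (sr_lt k hk)
      obtain ⟨hz, hcz⟩ := cf_aW' L hLlt (sr k) (sr_lt k hk)
      obtain ⟨hx, hcx⟩ := cf_aW' s hs (aW L (sr k)) hz
      obtain ⟨-, hcy⟩ := cf_aW' s hs (sr k) (sr_lt k hk)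
      by_contra hxlt
      have hxneg : ∀ t, cf (aW s (aW L (sr k))) t ≤ 0 := (cf_sign _ hx).2.1 (by omega)
      have hypos : ∀ t, 0 ≤ cf (aW s (sr k)) t := (cf_sign _ hy2).1 hy
      -- `cf z = e k + d`, `d` supported on `L`
      let d : V := cf (aW L (sr k)) - e ⟨k, hk⟩
      have hd : ∀ t : Fin 8, t.val ∉ L → d t = 0 := by
        intro t ht
        show cf (aW L (sr k)) t - e ⟨k, hk⟩ t = 0
        rw [hcz, Lw_coord L _ t ht, cf_sr ⟨k, hk⟩, sub_self]
      have hcx2 : cf (aW s (aW L (sr k))) = cf (aW s (sr k)) - d := by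
        rw [hcx, hcy, cf_sr ⟨k, hk⟩]
        have : cf (aW L (sr k)) = e ⟨k, hk⟩ + d := by
          show _ = e ⟨k, hk⟩ + (cf (aW L (sr k)) - e ⟨k, hk⟩)
          abel
        rw [this, map_add, hSneg d hd]
        abel
      have hkey : ∀ t : Fin 8, 0 < cf (aW s (sr k)) t → t.val ∈ L := by
        intro t ht
        by_contra htL
        have h1 := hxneg t
        rw [hcx2] at h1
        have h2 : d t = 0 := hd t htL
        simp only [Pi.sub_apply, h2, sub_zero] at h1
        omega
      rcases cert_root (aW s (sr k)) hy hy2 with ⟨l, hl, hyl⟩ | ⟨a, ha, b, hb, hab, hca, hcb⟩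
      · have hlL : l ∈ L := by
          have := hkey ⟨l, hl⟩ (by rw [hyl, cf_sr ⟨l, hl⟩, e, Pi.single_eq_same]; exact one_pos)
          exact this
        have h1 := hinv (sr k) (sr_lt k hk)
        rw [hyl, ((hLmem l).1 hlL).2] at h1
        have := sr_ge k hk
        omega
      · have haL : a ∈ L := hkey ⟨a, ha⟩ (by rw [cf_eq_cfN]; exact hca)
        have hbL : b ∈ L := hkey ⟨b, hb⟩ (by rw [cf_eq_cfN]; exact hcb)
        rw [indepB, List.all_eq_true] at hLind
        have h1 := hLind a haL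
        rw [List.all_eq_true] at h1
        have h2 := h1 b hbL
        rw [decide_eq_true_eq] at h2
        exact h2 hab
  have htriv := D1 (s ++ L) hu hpos
  have hne : L ≠ [] := by
    intro hc
    apply hnt
    intro x hx
    have := htriv x hx
    rwa [hc, List.append_nil] at this
  obtain ⟨i, hi, j, hj, hij, hLj⟩ := cert_choice L hLsub hne hLind
  obtain ⟨hi8, hi'⟩ := (hLmem i).1 hi
  refine ⟨i, j, ⟨hi8, hj, by rw [← cmN_eq i j hi8 hj]; exact hij⟩, hi', ?_⟩
  have h1 := htriv (sr j) (sr_lt j hj)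
  rw [aW_append, hLj] at h1
  have h2 := hinv (aW [i] (sr j)) (aW_lt [i] (by simpa using hi8) _ (sr_lt j hj))
  rw [h1] at h2
  exact h2

end Cfsg.Agent.Helper14.E8Inv
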