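import Mathlib
import Cfsg.Agent.Helper43.EB.Defs

/-! Helper14: piece (L7b) of helper43's S5877 farm. -/

set_option autoImplicit false

namespace Cfsg.Agent.Helper14.EBL7b

open Cfsg.Agent.Helper43.EB Module

variable {F : Type*} [Field F] {V : Type*} [AddCommGroup V] [Module F V]

/-- (L7b) -/
theorem hasPow_res {r : ℕ} {Γ : Subgroup (Module.End F V)ˣ} (h : HasPow r Γ) (E : Submodule F V) :
    HasPow r (resGroup Γ E) := by
  intro u hu
  obtain ⟨a, ha, hua⟩ := hu
  obtain ⟨c, hc⟩ := h a ha
  refine ⟨c, ?_⟩
  have key : ∀ k : ℕ, ∀ x : E,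
      ((((((sc c : (Module.End F E)ˣ) * u) ^ k : (Module.End F E)ˣ) : Module.End F E) x : E) : V) =
        ((((sc c : (Module.End F V)ˣ) * a) ^ k : (Module.End F V)ˣ) : Module.End F V) (x : V) := by
    intro k
    induction k with
    | zero => intro x; simp
    | succ k ih =>
      intro x
      have e1 : (((((sc c : (Module.End F E)ˣ) * u : (Module.End F E)ˣ) : Module.End F E) x : E) : V) =
          (((sc c : (Module.End F V)ˣ) * a : (Module.End F V)ˣ) : Module.End F V) (x : V) := by
        rw [Units.val_mul, Units.val_mul, Module.End.mul_apply, Module.End.mul_apply, sc_apply, sc_apply,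
          Submodule.coe_smul, hua]
      have e2 : ((((sc c : (Module.End F E)ˣ) * u) ^ (k + 1) : (Module.End F E)ˣ) : Module.End F E) x =
          ((((sc c : (Module.End F E)ˣ) * u) ^ k : (Module.End F E)ˣ) : Module.End F E)
            ((((sc c : (Module.End F E)ˣ) * u : (Module.End F E)ˣ) : Module.End F E) x) := by
        rw [pow_succ, Units.val_mul, Module.End.mul_apply]
      have e3 : ((((sc c : (Module.End F V)ˣ) * a) ^ (k + 1) : (Module.End F V)ˣ) : Module.End F V) (x : V) =
          ((((sc c : (Module.End F V)ˣ) * a) ^ k : (Module.End F V)ˣ) : Module.End F V)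
            ((((sc c : (Module.End F V)ˣ) * a : (Module.End F V)ˣ) : Module.End F V) (x : V)) := by
        rw [pow_succ, Units.val_mul, Module.End.mul_apply]
      rw [e2, e3, ih, e1]
  apply Units.ext
  apply LinearMap.ext
  intro x
  apply Subtype.ext
  rw [key r x, hc]
  rfl

end Cfsg.Agent.Helper14.EBL7b
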