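import Mathlib
import Cfsg.Agent.Helper43.EB.Defs

/-! Helper14: pieces (L8c1)-(L8c4), (L8d) of helper43's S5877 farm. -/

set_option autoImplicit false

namespace Cfsg.Agent.Helper14.EBL8c

open Cfsg.Agent.Helper43.EB Module

variable {F : Type*} [Field F] {V : Type*} [AddCommGroup V] [Module F V]

theorem resUnit_inv_apply (E : Submodule F V) (g : (Module.End F V)ˣ)
    (h1 : ∀ x ∈ E, (g : Module.End F V) x ∈ E)
    (h2 : ∀ x ∈ E, ((g⁻¹ : (Module.End F V)ˣ) : Module.End F V) x ∈ E) (x : E) :
    ((((((resUnit E g h1 h2)⁻¹ : (Module.End F E)ˣ)) : Module.End F E) x : E) : V) =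
      ((g⁻¹ : (Module.End F V)ˣ) : Module.End F V) (x : V) := rfl

theorem val_inv_apply_val_apply (g : (Module.End F V)ˣ) (v : V) :
    ((g⁻¹ : (Module.End F V)ˣ) : Module.End F V) ((g : Module.End F V) v) = v := by
  have : (((g⁻¹ : (Module.End F V)ˣ) : Module.End F V) * (g : Module.End F V)) v = v := by
    rw [← Units.val_mul, inv_mul_cancel]; rfl
  exact this

theorem val_apply_val_inv_apply (g : (Module.End F V)ˣ) (v : V) :
    (g : Module.End F V) (((g⁻¹ : (Module.End F V)ˣ) : Module.End F V) v) = v := by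
  have : ((g : Module.End F V) * ((g⁻¹ : (Module.End F V)ˣ) : Module.End F V)) v = v := by
    rw [← Units.val_mul, mul_inv_cancel]; rfl
  exact this

/-- (L8c1) -/
theorem resUnit_mem_normalizer {Γ : Subgroup (Module.End F V)ˣ} {g : (Module.End F V)ˣ}
    (hg : g ∈ Subgroup.normalizer (Γ : Set (Module.End F V)ˣ)) (E : Submodule F V)
    (h1 : ∀ x ∈ E, (g : Module.End F V) x ∈ E)
    (h2 : ∀ x ∈ E, ((g⁻¹ : (Module.End F V)ˣ) : Module.End F V) x ∈ E) :
    resUnit E g h1 h2 ∈ Subgroup.normalizer ((resGroup Γ E : Subgroup (Module.End F E)ˣ) : Set (Module.End F E)ˣ) := by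
  rw [Subgroup.mem_normalizer_iff]
  rw [Subgroup.mem_normalizer_iff] at hg
  intro u
  constructor
  · rintro ⟨a, ha, hua⟩
    refine ⟨g * a * g⁻¹, (hg a).mp ha, fun x => ?_⟩
    rw [Units.val_mul, Units.val_mul, Module.End.mul_apply, Module.End.mul_apply, resUnit_apply, hua,
      resUnit_inv_apply, Units.val_mul, Units.val_mul, Module.End.mul_apply, Module.End.mul_apply]
  · rintro ⟨b, hb, hub⟩
    have hb' : g⁻¹ * b * g ∈ Γ := by
      rw [hg (g⁻¹ * b * g)]
      have : g * (g⁻¹ * b * g) * g⁻¹ = b := by group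
      rw [this]; exact hb
    refine ⟨g⁻¹ * b * g, hb', fun x => ?_⟩
    have hx := hub (((resUnit E g h1 h2 : (Module.End F E)ˣ) : Module.End F E) x)
    rw [Units.val_mul, Units.val_mul, Module.End.mul_apply, Module.End.mul_apply, resUnit_apply] at hx
    have e1 : (((resUnit E g h1 h2)⁻¹ : (Module.End F E)ˣ) : Module.End F E)
        (((resUnit E g h1 h2 : (Module.End F E)ˣ) : Module.End F E) x) = x := by
      have : ((((resUnit E g h1 h2)⁻¹ : (Module.End F E)ˣ) : Module.End F E) *
          ((resUnit E g h1 h2 : (Module.End F E)ˣ) : Module.End F E)) x = x := by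
        rw [← Units.val_mul, inv_mul_cancel]; rfl
      exact this
    rw [e1, resUnit_apply] at hx
    rw [Units.val_mul, Units.val_mul, Module.End.mul_apply, Module.End.mul_apply, ← hx,
      val_inv_apply_val_apply]

/-- (L8c2) -/
theorem finrank_eigenspace_resUnit [FiniteDimensional F V] (g : (Module.End F V)ˣ) (E : Submodule F V)
    (h1 : ∀ x ∈ E, (g : Module.End F V) x ∈ E)
    (h2 : ∀ x ∈ E, ((g⁻¹ : (Module.End F V)ˣ) : Module.End F V) x ∈ E) (c : F) :
    finrank F (Module.End.eigenspace ((resUnit E g h1 h2 : (Module.End F E)ˣ) : Module.End F E) c) =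
      finrank F ↥(Module.End.eigenspace (g : Module.End F V) c ⊓ E) := by
  rw [← Submodule.finrank_map_subtype_eq E]
  have : Submodule.map E.subtype
      (Module.End.eigenspace ((resUnit E g h1 h2 : (Module.End F E)ˣ) : Module.End F E) c) =
      Module.End.eigenspace (g : Module.End F V) c ⊓ E := by
    ext v
    simp only [Submodule.mem_map, Submodule.mem_inf, Module.End.mem_eigenspace_iff, Submodule.subtype_apply]
    constructor
    · rintro ⟨x, hx, rfl⟩
      refine ⟨?_, x.2⟩
      have := congrArg Subtype.val hx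
      rw [resUnit_apply, Submodule.coe_smul] at this
      exact this
    · rintro ⟨hv, hvE⟩
      refine ⟨⟨v, hvE⟩, ?_, rfl⟩
      apply Subtype.ext
      rw [resUnit_apply, Submodule.coe_smul]
      exact hv
  rw [this]

/-- (L8c3) -/
theorem resUnit_pow (g : (Module.End F V)ˣ) (E : Submodule F V)
    (h1 : ∀ x ∈ E, (g : Module.End F V) x ∈ E)
    (h2 : ∀ x ∈ E, ((g⁻¹ : (Module.End F V)ˣ) : Module.End F V) x ∈ E) (k : ℕ) (hk : g ^ k = 1) :
    (resUnit E g h1 h2) ^ k = 1 := by
  have key : ∀ k : ℕ, ∀ x : E,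
      ((((((resUnit E g h1 h2) ^ k : (Module.End F E)ˣ)) : Module.End F E) x : E) : V) =
        (((g ^ k : (Module.End F V)ˣ)) : Module.End F V) (x : V) := by
    intro k
    induction k with
    | zero => intro x; simp
    | succ k ih =>
      intro x
      have e2 : ((((resUnit E g h1 h2) ^ (k + 1) : (Module.End F E)ˣ)) : Module.End F E) x =
          ((((resUnit E g h1 h2) ^ k : (Module.End F E)ˣ)) : Module.End F E)
            (((resUnit E g h1 h2 : (Module.End F E)ˣ) : Module.End F E) x) := by
        rw [pow_succ, Units.val_mul, Module.End.mul_apply]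
      have e3 : (((g ^ (k + 1) : (Module.End F V)ˣ)) : Module.End F V) (x : V) =
          (((g ^ k : (Module.End F V)ˣ)) : Module.End F V) ((g : Module.End F V) (x : V)) := by
        rw [pow_succ, Units.val_mul, Module.End.mul_apply]
      rw [e2, e3, ih, resUnit_apply]
  apply Units.ext
  apply LinearMap.ext
  intro x
  apply Subtype.ext
  rw [key k x, hk]
  rfl

/-- (L8c4) -/
theorem isScalar_resUnit_iff (g : (Module.End F V)ˣ) (E : Submodule F V)
    (h1 : ∀ x ∈ E, (g : Module.End F V) x ∈ E)
    (h2 : ∀ x ∈ E, ((g⁻¹ : (Module.End F V)ˣ) : Module.End F V) x ∈ E) :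
    IsScalar ((resUnit E g h1 h2 : (Module.End F E)ˣ) : Module.End F E) ↔
      ∃ a : F, ∀ v ∈ E, (g : Module.End F V) v = a • v := by
  constructor
  · rintro ⟨c, hc⟩
    refine ⟨c, fun v hv => ?_⟩
    have := congrArg (fun M : Module.End F E => ((M ⟨v, hv⟩ : E) : V)) hc
    simp only [resUnit_apply, LinearMap.smul_apply, Module.End.one_apply, Submodule.coe_smul] at this
    exact this
  · rintro ⟨a, ha⟩
    refine ⟨a, ?_⟩
    apply LinearMap.ext
    intro x
    apply Subtype.ext
    rw [resUnit_apply, LinearMap.smul_apply, Module.End.one_apply, Submodule.coe_smul]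
    exact ha x x.2

/-- (L8d) a unit commuting with `z` stabilises the eigenspaces of `z` -/
theorem stable_of_commute {z g : (Module.End F V)ˣ} (hzg : z * g = g * z) (μ : F) :
    (∀ x ∈ Module.End.eigenspace (z : Module.End F V) μ,
      (g : Module.End F V) x ∈ Module.End.eigenspace (z : Module.End F V) μ) ∧
    (∀ x ∈ Module.End.eigenspace (z : Module.End F V) μ,
      ((g⁻¹ : (Module.End F V)ˣ) : Module.End F V) x ∈ Module.End.eigenspace (z : Module.End F V) μ) := by
  have key : ∀ k : (Module.End F V)ˣ, z * k = k * z → ∀ x ∈ Module.End.eigenspace (z : Module.End F V) μ,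
      (k : Module.End F V) x ∈ Module.End.eigenspace (z : Module.End F V) μ := by
    intro k hk x hx
    rw [Module.End.mem_eigenspace_iff] at hx ⊢
    have : (z : Module.End F V) ((k : Module.End F V) x) = (k : Module.End F V) ((z : Module.End F V) x) := by
      rw [← Module.End.mul_apply, ← Module.End.mul_apply, ← Units.val_mul, ← Units.val_mul, hk]
    rw [this, hx, map_smul]
  refine ⟨key g hzg, key g⁻¹ ?_⟩
  calc z * g⁻¹ = g⁻¹ * (g * z) * g⁻¹ := by group
    _ = g⁻¹ * (z * g) * g⁻¹ := by rw [hzg]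
    _ = g⁻¹ * z := by group

end Cfsg.Agent.Helper14.EBL8c
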