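import Mathlib

/-!
# (CORE-a) for S3054 + S3055 (helper23): three projectively commuting 2x2 matrices with
determinant `lam`, eigenvalue `lam⁻¹` on three pairwise independent vectors: impossible unless
`lam ^ 3 = 1` or `lam ^ 6 = 1`.
-/

set_option autoImplicit false

namespace Cfsg.Agent.Helper14.ES3

open Matrix

section TwoByTwo

variable {K : Type*} [Field K]

theorem mulVec_fin_two_zero (M : Matrix (Fin 2) (Fin 2) K) (u : Fin 2 → K) :
    (M *ᵥ u) 0 = M 0 0 * u 0 + M 0 1 * u 1 := by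
  simp [Matrix.mulVec, dotProduct, Fin.sum_univ_two]

theorem mulVec_fin_two_one (M : Matrix (Fin 2) (Fin 2) K) (u : Fin 2 → K) :
    (M *ᵥ u) 1 = M 1 0 * u 0 + M 1 1 * u 1 := by
  simp [Matrix.mulVec, dotProduct, Fin.sum_univ_two]

/-- (E) the determinant is the product of the eigenvalues on two independent eigenvectors -/
theorem det_eq_mul_of_eig (M : Matrix (Fin 2) (Fin 2) K) (u u' : Fin 2 → K) (μ μ' : K)
    (h1 : M *ᵥ u = μ • u) (h2 : M *ᵥ u' = μ' • u') (hD : u 0 * u' 1 - u 1 * u' 0 ≠ 0) :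
    M.det = μ * μ' := by
  have e1 : M 0 0 * u 0 + M 0 1 * u 1 = μ * u 0 := by
    rw [← mulVec_fin_two_zero, h1]; rfl
  have e2 : M 1 0 * u 0 + M 1 1 * u 1 = μ * u 1 := by
    rw [← mulVec_fin_two_one, h1]; rfl
  have e3 : M 0 0 * u' 0 + M 0 1 * u' 1 = μ' * u' 0 := by
    rw [← mulVec_fin_two_zero, h2]; rfl
  have e4 : M 1 0 * u' 0 + M 1 1 * u' 1 = μ' * u' 1 := by
    rw [← mulVec_fin_two_one, h2]; rfl
  rw [Matrix.det_fin_two]
  refine mul_right_cancel₀ hD ?_
  linear_combination (M 1 0 * u' 0 + M 1 1 * u' 1) * e1 + (μ * u 0) * e4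
    - (M 1 0 * u 0 + M 1 1 * u 1) * e3 - (μ' * u' 0) * e2

/-- (P) a vector dependent on a nonzero vector is a multiple of it -/
theorem exists_smul_of_dep (u w : Fin 2 → K) (hu : u ≠ 0) (hD : u 0 * w 1 - u 1 * w 0 = 0) :
    ∃ c : K, w = c • u := by
  by_cases h0 : u 0 = 0
  · have h1 : u 1 ≠ 0 := by
      intro h1
      apply hu
      funext i
      fin_cases i
      · exact h0
      · exact h1
    refine ⟨w 1 / u 1, ?_⟩
    funext i
    fin_cases i
    · show w 0 = w 1 / u 1 * u 0
      rw [h0, zero_mul, zero_sub, neg_eq_zero] at hD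
      rcases mul_eq_zero.mp hD with h | h
      · exact absurd h h1
      · rw [h, h0, mul_zero]
    · show w 1 = w 1 / u 1 * u 1
      field_simp
  · refine ⟨w 0 / u 0, ?_⟩
    funext i
    fin_cases i
    · show w 0 = w 0 / u 0 * u 0
      field_simp
    · show w 1 = w 0 / u 0 * u 1
      field_simp
      linear_combination hD

/-- (E') dependent nonzero eigenvectors have the same eigenvalue -/
theorem eig_eq_of_dep (M : Matrix (Fin 2) (Fin 2) K) (u u' : Fin 2 → K) (μ μ' : K)
    (h1 : M *ᵥ u = μ • u) (h2 : M *ᵥ u' = μ' • u') (hu : u ≠ 0) (hu' : u' ≠ 0)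
    (hD : u 0 * u' 1 - u 1 * u' 0 = 0) : μ = μ' := by
  obtain ⟨c, rfl⟩ := exists_smul_of_dep u u' hu hD
  rw [Matrix.mulVec_smul, h1, smul_smul, smul_smul] at h2
  have h3 : (c * μ - μ' * c) • u = 0 := by rw [sub_smul, h2, sub_self]
  have hc : c ≠ 0 := by
    rintro rfl
    exact hu' (zero_smul _ _)
  rcases smul_eq_zero.mp h3 with h4 | h4
  · have : c * (μ - μ') = 0 := by linear_combination h4
    rcases mul_eq_zero.mp this with h5 | h5
    · exact absurd h5 hc
    · exact sub_eq_zero.mp h5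
  · exact absurd h4 hu

end TwoByTwo

theorem false_of_comm_triple {K : Type*} [Field K] (lam : Kˣ) (h3 : lam ^ 3 ≠ 1)
    (h6 : lam ^ 6 ≠ 1) (h : Fin 3 → Matrix (Fin 2) (Fin 2) K) (v : Fin 3 → (Fin 2 → K))
    (hv : ∀ i j, i ≠ j → v i 0 * v j 1 - v i 1 * v j 0 ≠ 0)
    (heig : ∀ i, h i *ᵥ v i = ((lam⁻¹ : Kˣ) : K) • v i) (hdet : ∀ i, (h i).det = (lam : K))
    (hcomm : ∀ i j, ∃ s : K, h i * h j = s • (h j * h i)) : False := by
  have hl : (lam : K) ≠ 0 := lam.ne_zero
  have hli : ((lam⁻¹ : Kˣ) : K) = (lam : K)⁻¹ := Units.val_inv_eq_inv_val lam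
  have h3' : (lam : K) ^ 3 ≠ 1 := by
    intro hh; apply h3; apply Units.ext; rw [Units.val_pow_eq_pow_val, Units.val_one]; exact hh
  have h6' : (lam : K) ^ 6 ≠ 1 := by
    intro hh; apply h6; apply Units.ext; rw [Units.val_pow_eq_pow_val, Units.val_one]; exact hh
  set ℓ : K := (lam : K) with hℓ
  rw [hli] at heig
  -- the `v i` are nonzero
  have hvne : ∀ i, v i ≠ 0 := by
    intro i hi
    obtain ⟨j, hj⟩ : ∃ j : Fin 3, i ≠ j := by
      fin_cases i
      · exact ⟨1, by decide⟩
      · exact ⟨0, by decide⟩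
      · exact ⟨0, by decide⟩
    apply hv i j hj
    rw [hi]; simp
  -- an eigenvector of `h i` independent of `v i` has eigenvalue `ℓ ^ 2`
  have hsq : ∀ i (w : Fin 2 → K) (μ : K), h i *ᵥ w = μ • w →
      v i 0 * w 1 - v i 1 * w 0 ≠ 0 → μ = ℓ ^ 2 := by
    intro i w μ hw hD
    have := det_eq_mul_of_eig (h i) (v i) w _ μ (heig i) hw hD
    rw [hdet i] at this
    field_simp at this
    linear_combination -this
  -- the scalars are `±1`
  have hs : ∀ i j (s : K), h i * h j = s • (h j * h i) → s = 1 ∨ s = -1 := by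
    intro i j s hsij
    have := congrArg Matrix.det hsij
    rw [Matrix.det_mul, Matrix.det_smul, Matrix.det_mul, hdet i, hdet j, Fintype.card_fin] at this
    have h1 : (s - 1) * (s + 1) = 0 := by
      have h2 : ℓ * ℓ * ((s - 1) * (s + 1)) = 0 := by linear_combination -this
      rcases mul_eq_zero.mp h2 with h | h
      · exact absurd h (mul_ne_zero hl hl)
      · exact h
    rcases mul_eq_zero.mp h1 with h | h
    · left; exact sub_eq_zero.mp h
    · right; exact eq_neg_of_add_eq_zero_left h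
  by_cases hA : ∃ i j, h i * h j = (-1 : K) • (h j * h i) ∧ (-1 : K) ≠ 1
  · -- an anticommuting pair
    obtain ⟨i, j, hij, hne⟩ := hA
    set w := h j *ᵥ v i with hw
    have hw0 : w ≠ 0 := by
      intro h0
      apply hvne i
      refine Matrix.eq_zero_of_mulVec_eq_zero ?_ h0
      rw [hdet j]; exact hl
    have hwe : h i *ᵥ w = (-ℓ⁻¹) • w := by
      rw [hw, Matrix.mulVec_mulVec, hij, Matrix.smul_mulVec, ← Matrix.mulVec_mulVec, heig i,
        Matrix.mulVec_smul, smul_smul]
      congr 1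
      ring
    by_cases hD : v i 0 * w 1 - v i 1 * w 0 = 0
    · have := eig_eq_of_dep (h i) (v i) w _ _ (heig i) hwe (hvne i) hw0 hD
      apply hne
      have h2 : ℓ⁻¹ * (1 + 1) = 0 := by linear_combination this
      rcases mul_eq_zero.mp h2 with h | h
      · exact absurd h (inv_ne_zero hl)
      · exact (eq_neg_of_add_eq_zero_left h).symm
    · have := hsq i w _ hwe hD
      apply h6'
      have h2 : ℓ ^ 3 = -1 := by
        field_simp at this
        linear_combination -this
      calc ℓ ^ 6 = (ℓ ^ 3) ^ 2 := by ring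
        _ = 1 := by rw [h2]; ring
  · -- all pairs commute
    have hc : ∀ i j, h i * h j = h j * h i := by
      intro i j
      obtain ⟨s, hsij⟩ := hcomm i j
      rcases hs i j s hsij with rfl | rfl
      · rw [hsij, one_smul]
      · by_cases h1 : (-1 : K) = 1
        · rw [hsij, h1, one_smul]
        · exact absurd ⟨i, j, hsij, h1⟩ hA
    -- `v i` is an eigenvector of `h j` with eigenvalue `ℓ ^ 2` for `i ≠ j`
    have hcross : ∀ i j, i ≠ j → h j *ᵥ v i = ℓ ^ 2 • v i := by
      intro i j hij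
      set w := h j *ᵥ v i with hw
      have hwe : h i *ᵥ w = ℓ⁻¹ • w := by
        rw [hw, Matrix.mulVec_mulVec, hc i j, ← Matrix.mulVec_mulVec, heig i, Matrix.mulVec_smul]
      have hD : v i 0 * w 1 - v i 1 * w 0 = 0 := by
        by_contra hD
        have := hsq i w _ hwe hD
        apply h3'
        field_simp at this
        linear_combination -this
      obtain ⟨c, hcw⟩ := exists_smul_of_dep (v i) w (hvne i) hD
      have hD' : v j 0 * v i 1 - v j 1 * v i 0 ≠ 0 := hv j i (Ne.symm hij)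
      have := hsq j (v i) c hcw hD'
      rw [hcw, this]
    have e0 := hcross 0 2 (by decide)
    have e1 := hcross 1 2 (by decide)
    have := det_eq_mul_of_eig (h 2) (v 0) (v 1) _ _ e0 e1 (hv 0 1 (by decide))
    rw [hdet 2] at this
    apply h3'
    have h2 : ℓ * (ℓ ^ 3 - 1) = 0 := by linear_combination -this
    rcases mul_eq_zero.mp h2 with h | h
    · exact absurd h hl
    · exact sub_eq_zero.mp h

end Cfsg.Agent.Helper14.ES3
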