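import Mathlib

/-!
# (CORE-b) for S3054 + S3055 (helper23): a 2x2 matrix with eigenvalue `lam⁻¹`, determinant `lam`,
whose `n`-th power is scalar, has `lam ^ (3 n) = 1`.
-/

set_option autoImplicit false

namespace Cfsg.Agent.Helper14.ES3

open Matrix

theorem pow_mulVec_of_eig {K : Type*} [Field K] (h : Matrix (Fin 2) (Fin 2) K) (v : Fin 2 → K)
    (μ : K) (heig : h *ᵥ v = μ • v) (n : ℕ) : (h ^ n) *ᵥ v = μ ^ n • v := by
  induction n with
  | zero => simp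
  | succ n ih =>
    rw [pow_succ, ← Matrix.mulVec_mulVec, heig, Matrix.mulVec_smul, ih, smul_smul, pow_succ,
      mul_comm]

theorem pow_eq_one_of_pow_scalar {K : Type*} [Field K] (lam : Kˣ)
    (h : Matrix (Fin 2) (Fin 2) K) (v : Fin 2 → K) (hv : v ≠ 0)
    (heig : h *ᵥ v = ((lam⁻¹ : Kˣ) : K) • v) (hdet : h.det = (lam : K)) (n : ℕ) (s : K)
    (hn : h ^ n = s • (1 : Matrix (Fin 2) (Fin 2) K)) : lam ^ (3 * n) = 1 := by
  have h1 := pow_mulVec_of_eig h v _ heig n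
  rw [hn, Matrix.smul_mulVec, Matrix.one_mulVec] at h1
  have h2 : s = ((lam⁻¹ : Kˣ) : K) ^ n := by
    have h3 : (s - ((lam⁻¹ : Kˣ) : K) ^ n) • v = 0 := by rw [sub_smul, h1, sub_self]
    rcases smul_eq_zero.mp h3 with h4 | h4
    · exact sub_eq_zero.mp h4
    · exact absurd h4 hv
  have h5 : (lam : K) ^ n = s ^ 2 := by
    have := congrArg Matrix.det hn
    rw [Matrix.det_pow, hdet, Matrix.det_smul, Matrix.det_one, mul_one, Fintype.card_fin] at this
    exact this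
  apply Units.ext
  rw [Units.val_pow_eq_pow_val, Units.val_one]
  rw [h2] at h5
  have hl : (lam : K) ≠ 0 := lam.ne_zero
  have hli : ((lam⁻¹ : Kˣ) : K) = (lam : K)⁻¹ := Units.val_inv_eq_inv_val lam
  rw [hli] at h5
  have ha : (lam : K) ^ n ≠ 0 := pow_ne_zero n hl
  rw [inv_pow] at h5
  have h6 : (lam : K) ^ n * ((lam : K) ^ n) ^ 2 = 1 := by
    calc (lam : K) ^ n * ((lam : K) ^ n) ^ 2
        = (((lam : K) ^ n)⁻¹) ^ 2 * ((lam : K) ^ n) ^ 2 := congrArg (· * ((lam : K) ^ n) ^ 2) h5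
      _ = 1 := by rw [← mul_pow, inv_mul_cancel₀ ha, one_pow]
  calc (lam : K) ^ (3 * n) = (lam : K) ^ n * ((lam : K) ^ n) ^ 2 := by ring
    _ = 1 := h6

end Cfsg.Agent.Helper14.ES3
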