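import Mathlib
import Cfsg.Agent.Helper46.DkPPrime
import Cfsg.Agent.Helper46.PgH
import Cfsg.Agent.Helper14.ES3CoreA
import Cfsg.Agent.Helper14.ES3CoreB

/-!
# (CORE-c) for S3054 + S3055 (helper23): three elements of a `p'`-subgroup of `GL₂(p)` with
determinant `lam` (a generator of `F_p^*`) and eigenvalue `lam⁻¹` on three pairwise independent
vectors force `p ≤ 13`, `p ≠ 11`.
-/

set_option autoImplicit false

namespace Cfsg.Agent.Helper14.ES3

open Matrix

section Proj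

variable {R : Type*} [CommRing R]

theorem exists_smul_of_mk_eq_mk (g₁ g₂ : GL (Fin 2) R)
    (h : ProjGenLinGroup.mk g₁ = ProjGenLinGroup.mk g₂) :
    ∃ s : R, (g₂ : Matrix (Fin 2) (Fin 2) R) = s • (g₁ : Matrix (Fin 2) (Fin 2) R) := by
  rw [ProjGenLinGroup.mk_eq_mk_iff] at h
  obtain ⟨u, hu⟩ := h
  refine ⟨u.1, ?_⟩
  rw [← hu, Units.val_mul, GeneralLinearGroup.coe_scalar, Matrix.scalar_apply,
    ← Matrix.smul_one_eq_diagonal, Matrix.mul_smul, Matrix.mul_one]

end Proj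

theorem arith_star {p : ℕ} (hpp : p.Prime) (hcon : ¬ (p ≤ 13 ∧ p ≠ 11)) (n : ℕ) (hn1 : 1 ≤ n)
    (hn5 : n ≤ 5) : ¬ (p - 1) ∣ 3 * n := by
  intro hdvd
  have hle : p - 1 ≤ 3 * n := Nat.le_of_dvd (by omega) hdvd
  have hp16 : p ≤ 16 := by omega
  have h2 : 2 ≤ p := hpp.two_le
  have hp11 : p = 11 := by
    by_contra hne
    have h13 : ¬ p ≤ 13 := fun h => hcon ⟨h, hne⟩
    have h3 : p = 14 ∨ p = 15 ∨ p = 16 := by omega
    rcases h3 with rfl | rfl | rfl <;> exact absurd hpp (by decide)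
  subst hp11
  interval_cases n <;> omega

theorem core_three {p : ℕ} [Fact p.Prime] (hp : p ≠ 2) (W : Subgroup (GL (Fin 2) (ZMod p)))
    (hW : ¬ p ∣ Nat.card W) (lam : (ZMod p)ˣ) (hlam : orderOf lam = p - 1)
    (h : Fin 3 → GL (Fin 2) (ZMod p)) (hh : ∀ i, h i ∈ W) (v : Fin 3 → (Fin 2 → ZMod p))
    (hv : ∀ i j, i ≠ j → v i 0 * v j 1 - v i 1 * v j 0 ≠ 0)
    (heig : ∀ i, (h i).1 *ᵥ v i = ((lam⁻¹ : (ZMod p)ˣ) : ZMod p) • v i)
    (hdet : ∀ i, (h i).1.det = (lam : ZMod p)) : p ≤ 13 ∧ p ≠ 11 := by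
  classical
  have hpp : p.Prime := Fact.out
  by_contra hcon
  -- the arithmetic
  have hstar : ∀ n : ℕ, 1 ≤ n → n ≤ 5 → ¬ (p - 1) ∣ 3 * n :=
    fun n hn1 hn5 => arith_star hpp hcon n hn1 hn5
  have hlam_pow : ∀ n : ℕ, lam ^ n = 1 → (p - 1) ∣ n := by
    intro n hn
    rw [← hlam]; exact orderOf_dvd_of_pow_eq_one hn
  have h3 : lam ^ 3 ≠ 1 := fun hh3 => hstar 1 le_rfl (by norm_num) (by simpa using hlam_pow 3 hh3)
  have h6 : lam ^ 6 ≠ 1 := fun hh6 => hstar 2 (by norm_num) (by norm_num)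
    (by simpa using hlam_pow 6 hh6)
  have hvne : ∀ i, v i ≠ 0 := by
    intro i hi
    obtain ⟨j, hj⟩ : ∃ j : Fin 3, i ≠ j := by
      fin_cases i
      · exact ⟨1, by decide⟩
      · exact ⟨0, by decide⟩
      · exact ⟨0, by decide⟩
    apply hv i j hj
    rw [hi]; simp
  -- the embedding
  have hodd : Odd (Fintype.card (ZMod p)) := by
    rw [ZMod.card]; exact hpp.odd_of_ne_two hp
  obtain ⟨E, hEf, hEfin, hEp, ι, ψ, -, hψ, -⟩ :=
    Cfsg.Agent.Helper46.Pg.exists_embedding (F := ZMod p) p hodd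
  set Φ : GL (Fin 2) (ZMod p) →* Matrix.ProjectiveSpecialLinearGroup (Fin 2) E :=
    ψ.comp ProjGenLinGroup.mk with hΦ
  set H : Subgroup (Matrix.ProjectiveSpecialLinearGroup (Fin 2) E) := W.map Φ with hH
  have hHcard : ¬ p ∣ Nat.card H := fun hd => hW (hd.trans (Subgroup.card_map_dvd W Φ))
  have hxH : ∀ i, Φ (h i) ∈ H := fun i => ⟨h i, hh i, rfl⟩
  let X : Fin 3 → H := fun i => ⟨Φ (h i), hxH i⟩
  -- commuting elements
  have hcommute : ∀ i j, X i * X j = X j * X i →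
      ∃ s : ZMod p, (h i).1 * (h j).1 = s • ((h j).1 * (h i).1) := by
    intro i j hij
    have h1 : Φ (h i) * Φ (h j) = Φ (h j) * Φ (h i) := congrArg Subtype.val hij
    rw [← map_mul, ← map_mul] at h1
    have h2 : ProjGenLinGroup.mk (h j * h i) = ProjGenLinGroup.mk (h i * h j) := (hψ h1).symm
    obtain ⟨s, hs⟩ := exists_smul_of_mk_eq_mk _ _ h2
    exact ⟨s, by rw [← Units.val_mul, hs, Units.val_mul]⟩
  -- elements of small order
  have hpow : ∀ i (n : ℕ), (X i) ^ n = 1 → (p - 1) ∣ 3 * n := by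
    intro i n hn
    have h1 : Φ (h i) ^ n = 1 := by
      have := congrArg Subtype.val hn
      simpa using this
    rw [← map_pow] at h1
    have h2 : ProjGenLinGroup.mk (1 : GL (Fin 2) (ZMod p)) = ProjGenLinGroup.mk (h i ^ n) := by
      apply hψ
      show ψ (ProjGenLinGroup.mk 1) = Φ (h i ^ n)
      rw [h1, map_one, map_one]
    obtain ⟨s, hs⟩ := exists_smul_of_mk_eq_mk _ _ h2
    rw [Units.val_pow_eq_pow_val, Units.val_one] at hs
    exact hlam_pow _ (pow_eq_one_of_pow_scalar lam (h i).1 (v i) (hvne i) (heig i) (hdet i) n s hs)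
  have hfinish : (∀ i j, X i * X j = X j * X i) → False := by
    intro hall
    exact false_of_comm_triple lam h3 h6 (fun i => (h i).1) v hv heig hdet
      (fun i j => hcommute i j (hall i j))
  have hsmall : ∀ i, orderOf (X i) ≤ 5 → False := by
    intro i hle
    have hpos : 0 < orderOf (X i) := orderOf_pos (X i)
    exact hstar _ hpos hle (hpow i _ (pow_orderOf_eq_one (X i)))
  rcases Cfsg.Agent.Helper46.Pg.dickson_pprime p H hHcard with hc | ⟨n, c, -, ⟨e⟩⟩ | ⟨⟨e⟩⟩ |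
    ⟨⟨e⟩⟩ | ⟨⟨e⟩⟩
  · -- cyclic
    have hmc : IsMulCommutative H := IsCyclic.isMulCommutative
    exact hfinish (fun i j => hmc.is_comm.comm (X i) (X j))
  · -- dihedral
    by_cases hsr : ∃ i k, e (X i) = DihedralGroup.sr k
    · obtain ⟨i, k, hik⟩ := hsr
      have h2 : (X i) ^ 2 = 1 := by
        apply e.injective
        rw [map_pow, hik, map_one, sq, DihedralGroup.sr_mul_self]
      exact hstar 2 (by norm_num) (by norm_num) (hpow i 2 h2)
    · push Not at hsr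
      have hr : ∀ i, ∃ k, e (X i) = DihedralGroup.r k := by
        intro i
        cases hei : e (X i) with
        | r k => exact ⟨k, rfl⟩
        | sr k => exact absurd hei (hsr i k)
      apply hfinish
      intro i j
      obtain ⟨a, ha⟩ := hr i
      obtain ⟨b, hb⟩ := hr j
      apply e.injective
      rw [map_mul, map_mul, ha, hb, DihedralGroup.r_mul_r, DihedralGroup.r_mul_r, add_comm]
  · exact hsmall 0 ((Cfsg.Agent.Helper46.Pg.orderOf_le_of_A4 e (X 0)).trans (by norm_num))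
  · exact hsmall 0 ((Cfsg.Agent.Helper46.Pg.orderOf_le_of_S4 e (X 0)).trans (by norm_num))
  · exact hsmall 0 (Cfsg.Agent.Helper46.Pg.orderOf_le_of_A5 e (X 0))

end Cfsg.Agent.Helper14.ES3
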