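import Mathlib
import Cfsg.Agent.Helper46.DkPPrime
import Cfsg.Agent.Helper46.PgH
import Cfsg.Agent.Helper14.ES3CoreA
import Cfsg.Agent.Helper14.ES3CoreB
import Cfsg.Agent.Helper14.ES3CoreC

/-!
# (CORE7) for S3055 (helper23): seven elements of a `p'`-subgroup of `GL₂(p)` with determinant
`lam` (a generator of `F_p^*`) and eigenvalue `lam⁻¹` on seven pairwise independent vectors force
`p ≤ 7`.
-/

set_option autoImplicit false

namespace Cfsg.Agent.Helper14.ES3

open Matrix

/-- the common setup: the images `X i` in a `p'`-subgroup of some `PSL₂(E)` -/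
theorem exists_psl_image {p : ℕ} [Fact p.Prime] (hp : p ≠ 2)
    (W : Subgroup (GL (Fin 2) (ZMod p))) (hW : ¬ p ∣ Nat.card W) (lam : (ZMod p)ˣ)
    (hlam : orderOf lam = p - 1) {ι : Type*} (h : ι → GL (Fin 2) (ZMod p)) (hh : ∀ i, h i ∈ W)
    (v : ι → (Fin 2 → ZMod p)) (hvne : ∀ i, v i ≠ 0)
    (heig : ∀ i, (h i).1 *ᵥ v i = ((lam⁻¹ : (ZMod p)ˣ) : ZMod p) • v i)
    (hdet : ∀ i, (h i).1.det = (lam : ZMod p)) :
    ∃ (E : Type) (_ : Field E) (_ : Fintype E) (_ : CharP E p)
      (H : Subgroup (Matrix.ProjectiveSpecialLinearGroup (Fin 2) E)) (X : ι → H),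
      ¬ p ∣ Nat.card H ∧
      (∀ i j, X i * X j = X j * X i →
        ∃ s : ZMod p, (h i).1 * (h j).1 = s • ((h j).1 * (h i).1)) ∧
      (∀ i (n : ℕ), (X i) ^ n = 1 → (p - 1) ∣ 3 * n) := by
  classical
  have hpp : p.Prime := Fact.out
  have hlam_pow : ∀ n : ℕ, lam ^ n = 1 → (p - 1) ∣ n := by
    intro n hn
    rw [← hlam]; exact orderOf_dvd_of_pow_eq_one hn
  have hodd : Odd (Fintype.card (ZMod p)) := by
    rw [ZMod.card]; exact hpp.odd_of_ne_two hp
  obtain ⟨E, hEf, hEfin, hEp, ι', ψ, -, hψ, -⟩ :=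
    Cfsg.Agent.Helper46.Pg.exists_embedding (F := ZMod p) p hodd
  set Φ : GL (Fin 2) (ZMod p) →* Matrix.ProjectiveSpecialLinearGroup (Fin 2) E :=
    ψ.comp ProjGenLinGroup.mk with hΦ
  have hxH : ∀ i, Φ (h i) ∈ W.map Φ := fun i => ⟨h i, hh i, rfl⟩
  refine ⟨E, hEf, hEfin, hEp, W.map Φ, fun i => ⟨Φ (h i), hxH i⟩,
    fun hd => hW (hd.trans (Subgroup.card_map_dvd W Φ)), ?_, ?_⟩
  · intro i j hij
    have h1 : Φ (h i) * Φ (h j) = Φ (h j) * Φ (h i) := congrArg Subtype.val hij
    rw [← map_mul, ← map_mul] at h1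
    have h2 : ProjGenLinGroup.mk (h j * h i) = ProjGenLinGroup.mk (h i * h j) := (hψ h1).symm
    obtain ⟨s, hs⟩ := exists_smul_of_mk_eq_mk _ _ h2
    exact ⟨s, by rw [← Units.val_mul, hs, Units.val_mul]⟩
  · intro i n hn
    have h1 : Φ (h i) ^ n = 1 := by
      have := congrArg Subtype.val hn
      simpa using this
    rw [← map_pow] at h1
    have h2 : ProjGenLinGroup.mk (1 : GL (Fin 2) (ZMod p)) = ProjGenLinGroup.mk (h i ^ n) := by
      apply hψ
      show ψ (ProjGenLinGroup.mk 1) = Φ (h i ^ n)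
      rw [h1, map_one, map_one]
    obtain ⟨s, hs⟩ := exists_smul_of_mk_eq_mk _ _ h2
    rw [Units.val_pow_eq_pow_val, Units.val_one] at hs
    exact hlam_pow _ (pow_eq_one_of_pow_scalar lam (h i).1 (v i) (hvne i) (heig i) (hdet i) n s hs)

set_option maxRecDepth 1000000 in
/-- elements of order four with the same square commute in `S₄` -/
theorem s4_comm_of_sq_eq : ∀ σ τ : Equiv.Perm (Fin 4), σ ^ 4 = 1 → τ ^ 4 = 1 → σ ^ 2 ≠ 1 →
    σ ^ 2 = τ ^ 2 → σ * τ = τ * σ := by decide

/-- the squares of the elements of order four of `S₄` -/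
def s4Squares : Finset (Equiv.Perm (Fin 4)) :=
  Finset.univ.filter (fun τ => ∃ σ : Equiv.Perm (Fin 4), σ ^ 4 = 1 ∧ σ ^ 2 ≠ 1 ∧ σ ^ 2 = τ)

set_option maxRecDepth 1000000 in
theorem card_s4Squares : s4Squares.card = 3 := by decide

theorem core_seven {p : ℕ} [Fact p.Prime] (hp : p ≠ 2) (W : Subgroup (GL (Fin 2) (ZMod p)))
    (hW : ¬ p ∣ Nat.card W) (lam : (ZMod p)ˣ) (hlam : orderOf lam = p - 1)
    (h : Fin 7 → GL (Fin 2) (ZMod p)) (hh : ∀ i, h i ∈ W) (v : Fin 7 → (Fin 2 → ZMod p))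
    (hv : ∀ i j, i ≠ j → v i 0 * v j 1 - v i 1 * v j 0 ≠ 0)
    (heig : ∀ i, (h i).1 *ᵥ v i = ((lam⁻¹ : (ZMod p)ˣ) : ZMod p) • v i)
    (hdet : ∀ i, (h i).1.det = (lam : ZMod p)) : p ≤ 7 := by
  classical
  have hpp : p.Prime := Fact.out
  by_contra hcon
  -- `p = 13`
  have h3 := core_three hp W hW lam hlam (fun m : Fin 3 => h (Fin.castLE (by norm_num) m))
    (fun m => hh _) (fun m : Fin 3 => v (Fin.castLE (by norm_num) m))
    (fun a b hab => hv _ _ (fun hc => hab ((Fin.castLE_injective (by norm_num)) hc)))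
    (fun m => heig _) (fun m => hdet _)
  have hp13 : p = 13 := by
    obtain ⟨h13, h11⟩ := h3
    have h8 : 8 ≤ p := by omega
    interval_cases p
    · exact absurd hpp (by decide)
    · exact absurd hpp (by decide)
    · exact absurd hpp (by decide)
    · exact absurd rfl h11
    · exact absurd hpp (by decide)
    · rfl
  have hp12 : p - 1 = 12 := by omega
  have hlam_pow : ∀ n : ℕ, lam ^ n = 1 → 12 ∣ n := by
    intro n hn
    rw [← hp12, ← hlam]; exact orderOf_dvd_of_pow_eq_one hn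
  have hl3 : lam ^ 3 ≠ 1 := fun h' => by have := hlam_pow 3 h'; omega
  have hl6 : lam ^ 6 ≠ 1 := fun h' => by have := hlam_pow 6 h'; omega
  have hvne : ∀ i, v i ≠ 0 := by
    intro i hi
    obtain ⟨j, hj⟩ : ∃ j : Fin 7, i ≠ j := by
      by_cases h0 : i = 0
      · exact ⟨1, by rw [h0]; decide⟩
      · exact ⟨0, h0⟩
    apply hv i j hj
    rw [hi]; simp
  obtain ⟨E, hEf, hEfin, hEp, H, X, hHcard, hcommute, hpow⟩ :=
    exists_psl_image hp W hW lam hlam h hh v hvne heig hdet
  rw [hp12] at hpow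
  have hpow4 : ∀ i (n : ℕ), (X i) ^ n = 1 → 4 ∣ n := by
    intro i n hn
    have := hpow i n hn
    omega
  -- three pairwise commuting elements give a contradiction
  have hfinish : ∀ i j k : Fin 7, i ≠ j → i ≠ k → j ≠ k → X i * X j = X j * X i →
      X i * X k = X k * X i → X j * X k = X k * X j → False := by
    intro i j k hij hik hjk cij cik cjk
    have hcomm' : ∀ a b : Fin 3, X (![i, j, k] a) * X (![i, j, k] b) =
        X (![i, j, k] b) * X (![i, j, k] a) := by
      intro a b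
      fin_cases a <;> fin_cases b <;> simp <;>
        (first | exact cij | exact cik | exact cjk | exact cij.symm | exact cik.symm | exact cjk.symm)
    have hinj : ∀ a b : Fin 3, a ≠ b → ![i, j, k] a ≠ ![i, j, k] b := by
      intro a b hab
      fin_cases a <;> fin_cases b <;> simp at hab ⊢ <;>
        (first | exact hij | exact hik | exact hjk | exact hij.symm | exact hik.symm | exact hjk.symm)
    exact false_of_comm_triple lam hl3 hl6 (fun m => (h (![i, j, k] m)).1)
      (fun m => v (![i, j, k] m)) (fun a b hab => hv _ _ (hinj a b hab))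
      (fun m => heig _) (fun m => hdet _) (fun a b => hcommute _ _ (hcomm' a b))
  have hord4 : ∀ i, 4 ∣ orderOf (X i) := fun i => hpow4 i _ (pow_orderOf_eq_one (X i))
  have hordpos : ∀ i, 0 < orderOf (X i) := fun i => orderOf_pos (X i)
  rcases Cfsg.Agent.Helper46.Pg.dickson_pprime p H hHcard with hc | ⟨n, c, -, ⟨e⟩⟩ | ⟨⟨e⟩⟩ |
    ⟨⟨e⟩⟩ | ⟨⟨e⟩⟩
  · -- cyclic
    have hmc : IsMulCommutative H := IsCyclic.isMulCommutative
    exact hfinish 0 1 2 (by decide) (by decide) (by decide) (hmc.is_comm.comm _ _)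
      (hmc.is_comm.comm _ _) (hmc.is_comm.comm _ _)
  · -- dihedral
    by_cases hsr : ∃ i k, e (X i) = DihedralGroup.sr k
    · obtain ⟨i, k, hik⟩ := hsr
      have h2 : (X i) ^ 2 = 1 := by
        apply e.injective
        rw [map_pow, hik, map_one, sq, DihedralGroup.sr_mul_self]
      have := hpow4 i 2 h2
      omega
    · push Not at hsr
      have hr : ∀ i, ∃ k, e (X i) = DihedralGroup.r k := by
        intro i
        cases hei : e (X i) with
        | r k => exact ⟨k, rfl⟩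
        | sr k => exact absurd hei (hsr i k)
      have hall : ∀ i j, X i * X j = X j * X i := by
        intro i j
        obtain ⟨a, ha⟩ := hr i
        obtain ⟨b, hb⟩ := hr j
        apply e.injective
        rw [map_mul, map_mul, ha, hb, DihedralGroup.r_mul_r, DihedralGroup.r_mul_r, add_comm]
      exact hfinish 0 1 2 (by decide) (by decide) (by decide) (hall _ _) (hall _ _) (hall _ _)
  · -- `A₄`
    have h1 := Cfsg.Agent.Helper46.Pg.orderOf_le_of_A4 e (X 0)
    have h2 := Nat.le_of_dvd (hordpos 0) (hord4 0)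
    omega
  · -- `S₄`
    have hσ4 : ∀ i, (e (X i)) ^ 4 = 1 ∧ (e (X i)) ^ 2 ≠ 1 := by
      intro i
      have hord : orderOf (e (X i)) = orderOf (X i) := MulEquiv.orderOf_eq e (X i)
      have h4 : 4 ∣ orderOf (e (X i)) := hord ▸ hord4 i
      have hpos : 0 < orderOf (e (X i)) := hord ▸ hordpos i
      have hle : orderOf (e (X i)) ≤ 4 := hord ▸ Cfsg.Agent.Helper46.Pg.orderOf_le_of_S4 e (X i)
      have heq : orderOf (e (X i)) = 4 := by
        have := Nat.le_of_dvd hpos h4
        omega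
      have hp4 : (e (X i)) ^ 4 = 1 := by
        have := pow_orderOf_eq_one (e (X i))
        rwa [heq] at this
      refine ⟨hp4, fun h2 => ?_⟩
      have := orderOf_dvd_of_pow_eq_one h2
      rw [heq] at this
      omega
    have hmaps : ∀ i ∈ (Finset.univ : Finset (Fin 7)), (e (X i)) ^ 2 ∈ s4Squares := by
      intro i _
      rw [s4Squares, Finset.mem_filter]
      exact ⟨Finset.mem_univ _, e (X i), (hσ4 i).1, (hσ4 i).2, rfl⟩
    obtain ⟨τ, -, hτ⟩ := Finset.exists_lt_card_fiber_of_mul_lt_card_of_maps_to hmaps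
      (n := 2) (by rw [card_s4Squares]; simp)
    obtain ⟨i, j, k, hi, hj, hk, hij, hik, hjk⟩ := Finset.two_lt_card_iff.mp hτ
    rw [Finset.mem_filter] at hi hj hk
    have hc : ∀ a b : Fin 7, (e (X a)) ^ 2 = τ → (e (X b)) ^ 2 = τ → X a * X b = X b * X a := by
      intro a b ha hb
      apply e.injective
      rw [map_mul, map_mul]
      exact s4_comm_of_sq_eq _ _ (hσ4 a).1 (hσ4 b).1 (hσ4 a).2 (ha.trans hb.symm)
    exact hfinish i j k hij hik hjk (hc i j hi.2 hj.2) (hc i k hi.2 hk.2) (hc j k hj.2 hk.2)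
  · -- `A₅`
    have h1 := Cfsg.Agent.Helper46.Pg.orderOf_le_of_A5 e (X 0)
    have h2 := Nat.le_of_dvd (hordpos 0) (hord4 0)
    have h4 : orderOf (X 0) = 4 := by
      obtain ⟨c, hc⟩ := hord4 0
      omega
    have hord : orderOf (e (X 0)) = 4 := by rw [MulEquiv.orderOf_eq e (X 0), h4]
    rcases Cfsg.Agent.Helper46.Mx.a5_orders (e (X 0)) with h5 | h5 | h5
    · have := orderOf_dvd_of_pow_eq_one h5; rw [hord] at this; omega
    · have := orderOf_dvd_of_pow_eq_one h5; rw [hord] at this; omega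
    · have := orderOf_dvd_of_pow_eq_one h5; rw [hord] at this; omega

end Cfsg.Agent.Helper14.ES3
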