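import Mathlib
import Cfsg.Agent.Helper45.EllDefs

/-!
# Piece (EF0) of S5988 (helper45): `starE_of_dvd`

Pure arithmetic, the `ε = -1` twin of helper49's `Helper49/QSpQF0.lean`: for an odd prime `r ∤ q`
with `i = ord_r(q)`, `r ∣ q^a - 1 ↔ i ∣ a` and `r ∣ q^a + 1 → i ∣ 2a ∧ ¬ i ∣ a`.
-/

set_option autoImplicit false
set_option linter.unusedVariables false

namespace Cfsg.Agent.Helper14.Ell

open Cfsg.Agent.Helper45.Ell

theorem dvd_of_dvd_pow_sub_one {q r : ℕ} [Fact r.Prime] {a : ℕ}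
    (h1 : (r : ℤ) ∣ (q : ℤ) ^ a - 1) : orderOf (q : ZMod r) ∣ a := by
  have h2 : (((q : ℤ) ^ a - 1 : ℤ) : ZMod r) = 0 :=
    (ZMod.intCast_zmod_eq_zero_iff_dvd _ r).mpr h1
  push_cast at h2
  rw [orderOf_dvd_iff_pow_eq_one]
  exact sub_eq_zero.mp h2

theorem dvd_of_dvd_pow_add_one {q r : ℕ} [Fact r.Prime] (hr2 : r ≠ 2) {a : ℕ}
    (h1 : (r : ℤ) ∣ (q : ℤ) ^ a + 1) :
    orderOf (q : ZMod r) ∣ 2 * a ∧ ¬ orderOf (q : ZMod r) ∣ a := by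
  have hr : r.Prime := Fact.out
  have h2 : (((q : ℤ) ^ a + 1 : ℤ) : ZMod r) = 0 :=
    (ZMod.intCast_zmod_eq_zero_iff_dvd _ r).mpr h1
  push_cast at h2
  have h3 : (q : ZMod r) ^ a = -1 := eq_neg_of_add_eq_zero_left h2
  constructor
  · rw [orderOf_dvd_iff_pow_eq_one, pow_mul', h3]
    norm_num
  · intro h4
    rw [orderOf_dvd_iff_pow_eq_one, h3] at h4
    have h5 : ((2 : ℕ) : ZMod r) = 0 := by
      have : (1 : ZMod r) + 1 = 0 := by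
        nth_rewrite 1 [← h4]
        norm_num
      push_cast
      rw [← this]
      norm_num
    have h6 : r ∣ 2 := (ZMod.natCast_eq_zero_iff 2 r).mp h5
    exact hr2 ((Nat.prime_dvd_prime_iff_eq hr Nat.prime_two).mp h6)

/-- (EF0) -/
theorem starE_of_dvd {q r : ℕ} [Fact r.Prime] (hr2 : r ≠ 2) (hrq : ¬ r ∣ q) {d e : ℕ} (he1 : 1 ≤ e)
    (hed : e < d)
    (h : (∃ k : ℕ, k + 1 < e ∧
        (r : ℤ) ∣ ((q : ℤ) ^ (d - k) - 1) * ((q : ℤ) ^ (d - k - 1) + 1)) ∨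
      (r : ℤ) ∣ ((q : ℤ) ^ (d - e + 1) - 1) * ((q : ℤ) ^ (d - e) - 1)) :
    StarE (orderOf (q : ZMod r)) d e := by
  have hr : r.Prime := Fact.out
  have hrZ : Prime (r : ℤ) := Nat.prime_iff_prime_int.mp hr
  rcases h with ⟨k, hk, hdvd⟩ | hdvd
  · left
    refine ⟨k, hk, ?_⟩
    rcases hrZ.dvd_or_dvd hdvd with h1 | h1
    · exact Or.inl (dvd_of_dvd_pow_sub_one h1)
    · exact Or.inr (dvd_of_dvd_pow_add_one hr2 h1)
  · right
    rcases hrZ.dvd_or_dvd hdvd with h1 | h1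
    · exact Or.inl (dvd_of_dvd_pow_sub_one h1)
    · exact Or.inr (dvd_of_dvd_pow_sub_one h1)

end Cfsg.Agent.Helper14.Ell
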