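import Mathlib
import Cfsg.Agent.Helper14.AutCharTwo7

/-!
Helper14: characteristic two: a non-degenerate symmetric bilinear form `B` with `B(v,v) = ℓ(v)²`,
`ℓ = B(w,·)`, `ℓ(w) = 1` lives in odd dimension.
-/

set_option autoImplicit false
set_option linter.unusedSectionVars false

namespace Cfsg.Agent.Helper14.AutPSL

open Matrix Cfsg.Agent.Helper14

variable {ι : Type} [Fintype ι] [DecidableEq ι] {F : Type*} [Field F]

theorem odd_card_of_form_one (A : Matrix ι ι F) (hA : Aᵀ = A) (hAdet : A.det ≠ 0)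
    (l w : ι → F) (hl : ∀ v, (l ⬝ᵥ v) ^ 2 = gramForm A v v) (hAw : A *ᵥ w = l)
    (htw : l ⬝ᵥ w = 1) : Odd (Fintype.card ι) := by
  classical
  have hw : ∀ v, gramForm A w v = l ⬝ᵥ v := by
    intro v
    rw [gramForm_symm hA]
    unfold gramForm
    rw [hAw, dotProduct_comm]
  have hnd : ∀ {a : ι → F}, (∀ y, gramForm A a y = 0) → a = 0 := by
    intro a ha
    apply (dotProduct_eq_zero_iff (v := a)).mp
    intro z
    have := ha (A⁻¹ *ᵥ z)
    unfold gramForm at this
    rw [Matrix.mulVec_mulVec, Matrix.mul_nonsing_inv _ (Ne.isUnit hAdet), Matrix.one_mulVec] at this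
    exact this
  obtain ⟨B, hBdef⟩ : ∃ B : LinearMap.BilinForm F (ι → F), B = Matrix.toBilin' A := ⟨_, rfl⟩
  have hB : ∀ x y, B x y = gramForm A x y := by
    intro x y
    rw [hBdef, Matrix.toBilin'_apply']
    rfl
  obtain ⟨L, hLdef⟩ : ∃ L : (ι → F) →ₗ[F] F, L = B w := ⟨_, rfl⟩
  have hL : ∀ v, L v = l ⬝ᵥ v := by
    intro v
    rw [hLdef, hB, hw]
  obtain ⟨Hs, hHsdef⟩ : ∃ Hs : Submodule F (ι → F), Hs = LinearMap.ker L := ⟨_, rfl⟩
  have hHmem : ∀ v, v ∈ Hs ↔ l ⬝ᵥ v = 0 := by
    intro v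
    rw [hHsdef, LinearMap.mem_ker, hL]
  have hBH : ∀ x : Hs, gramForm A (x : ι → F) (x : ι → F) = 0 := by
    intro x
    rw [← hl, (hHmem _).mp x.2]
    ring
  have hres : ∀ x y : Hs, (B.restrict Hs) x y = gramForm A (x : ι → F) (y : ι → F) := by
    intro x y
    rw [← hB]
    rfl
  have hAlt : (B.restrict Hs).IsAlt := by
    intro x
    rw [hres]
    exact hBH x
  obtain ⟨m', k, b, h1, h2', h3, h4⟩ := Cfsg.Agent.S0752.result (B.restrict Hs) hAlt
  have hL0 : L ≠ 0 := by
    intro h0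
    have := hL w
    rw [h0, LinearMap.zero_apply, htw] at this
    exact zero_ne_one this
  have hdimH : Module.finrank F Hs + 1 = Fintype.card ι := by
    have hsurj : LinearMap.range L = ⊤ := by
      apply LinearMap.range_eq_top.mpr
      intro c
      refine ⟨c • w, ?_⟩
      rw [map_smul, smul_eq_mul, hL, htw, mul_one]
    have := LinearMap.finrank_range_add_finrank_ker L
    rw [hsurj, finrank_top, Module.finrank_self, Module.finrank_fintype_fun_eq_card, ← hHsdef] at this
    omega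
  have hcardb : Module.finrank F Hs = 2 * m' + k := by
    rw [Module.finrank_eq_card_basis b, Fintype.card_sum, Fintype.card_sum, Fintype.card_fin,
      Fintype.card_fin]
    ring
  have hV : ∀ v : ι → F, v - (l ⬝ᵥ v) • w ∈ Hs := by
    intro v
    rw [hHmem, dotProduct_sub, dotProduct_smul, htw, smul_eq_mul, mul_one, sub_self]
  have hk0 : k = 0 := by
    by_contra hk
    have hk1 : 1 ≤ k := Nat.pos_of_ne_zero hk
    have hr := h4 ⟨0, hk1⟩
    have : ((b (Sum.inr ⟨0, hk1⟩) : Hs) : ι → F) = 0 := by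
      apply hnd
      intro y
      have e1 := hr ⟨_, hV y⟩
      rw [hres] at e1
      have e2 : gramForm A ((b (Sum.inr ⟨0, hk1⟩) : Hs) : ι → F) w = 0 := by
        rw [gramForm_symm hA, hw]
        exact (hHmem _).mp (b (Sum.inr ⟨0, hk1⟩)).2
      have e3 : y = (y - (l ⬝ᵥ y) • w) + (l ⬝ᵥ y) • w := by abel
      rw [e3, gramForm_add_right, e1]
      unfold gramForm at e2 ⊢
      rw [Matrix.mulVec_smul, dotProduct_smul, e2, smul_zero, add_zero]
    exact b.ne_zero _ (Subtype.ext this)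
  exact ⟨m', by omega⟩

end Cfsg.Agent.Helper14.AutPSL
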