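import Mathlib
import Cfsg.Agent.Helper14.EvG1
import Cfsg.Agent.Helper14.SpF8
import Cfsg.Agent.Helper14.AutGraph12
import Cfsg.Agent.Helper13.SympTrans

/-!
Helper14: characteristic two, even dimension: a non-degenerate symmetric, non-alternating bilinear
form is congruent to `f(u,v) + f(w₀,u) f(w₀,v)` (`f` the standard symplectic form).
-/

set_option autoImplicit false
set_option linter.unusedSectionVars false

namespace Cfsg.Agent.Helper14.AutPSL

open Matrix Cfsg.Agent.Helper14 Cfsg.Agent.Helper13 Cfsg.Agent.Helper14.AutPSp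

variable {F : Type*} [Field F] {m : ℕ}

local notation "Vec" => (Fin m ⊕ Fin m → F)
local notation "Mat" => Matrix (Fin m ⊕ Fin m) (Fin m ⊕ Fin m) F

/-- Gram matrix of `f(u,v) + f(w,u) f(w,v)` -/
def Nmat (m : ℕ) {F : Type*} [Field F] (w : Fin m ⊕ Fin m → F) :
    Matrix (Fin m ⊕ Fin m) (Fin m ⊕ Fin m) F :=
  Matrix.J (Fin m) F + Matrix.vecMulVec (Matrix.J (Fin m) F *ᵥ w) (Matrix.J (Fin m) F *ᵥ w)

theorem gramForm_J (u v : Vec) : gramForm (Matrix.J (Fin m) F) u v = Cfsg.sympForm m F u v := rfl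

theorem gramForm_add_mat (M M' : Mat) (u v : Vec) :
    gramForm (M + M') u v = gramForm M u v + gramForm M' u v := by
  unfold gramForm
  rw [Matrix.add_mulVec, dotProduct_add]

theorem gramForm_vecMulVec (a b u v : Vec) :
    gramForm (Matrix.vecMulVec a b) u v = (u ⬝ᵥ a) * (b ⬝ᵥ v) := by
  unfold gramForm
  simp only [dotProduct, Matrix.mulVec, Matrix.vecMulVec_apply]
  rw [Finset.sum_mul_sum]
  apply Finset.sum_congr rfl
  intro i _
  rw [Finset.mul_sum]
  apply Finset.sum_congr rfl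
  intro j _
  ring

theorem J_dot (h2 : (2 : F) = 0) (w v : Vec) :
    (Matrix.J (Fin m) F *ᵥ w) ⬝ᵥ v = Cfsg.sympForm m F w v := by
  rw [dotProduct_comm, ← sympForm_def, sympForm_swap, neg_eq_self_char_two h2]

theorem gramForm_Nmat (h2 : (2 : F) = 0) (w u v : Vec) :
    gramForm (Nmat m w) u v =
      Cfsg.sympForm m F u v + Cfsg.sympForm m F w u * Cfsg.sympForm m F w v := by
  unfold Nmat
  rw [gramForm_add_mat, gramForm_J, gramForm_vecMulVec, dotProduct_comm u, J_dot h2, J_dot h2]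

theorem exists_congr_Nmat [Fintype F] (h2 : (2 : F) = 0) (A : Mat) (hA : Aᵀ = A)
    (hAdet : A.det ≠ 0) (hna : ∃ x : Vec, gramForm A x x ≠ 0) (w₀ : Vec) (hw₀ : w₀ ≠ 0) :
    ∃ P : GL (Fin m ⊕ Fin m) F, (P : Mat)ᵀ * A * (P : Mat) = Nmat m w₀ := by
  classical
  obtain ⟨l, hl⟩ := exists_linear_sqrt h2 (fun u => gramForm A u u)
    (by
      intro u v
      rw [gramForm_add_left, gramForm_add_right, gramForm_add_right, gramForm_symm hA v u]
      have := add_self_char_two h2 (gramForm A u v)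
      linear_combination this)
    (by
      intro c v
      unfold gramForm
      rw [Matrix.mulVec_smul, dotProduct_smul, smul_dotProduct, smul_eq_mul, smul_eq_mul]
      ring)
  obtain ⟨w, hwdef⟩ : ∃ w : Vec, w = A⁻¹ *ᵥ l := ⟨_, rfl⟩
  have hAw : A *ᵥ w = l := by
    rw [hwdef, Matrix.mulVec_mulVec, Matrix.mul_nonsing_inv _ (Ne.isUnit hAdet), Matrix.one_mulVec]
  have hlw : ∀ v, gramForm A w v = l ⬝ᵥ v := by
    intro v
    rw [gramForm_symm hA]
    unfold gramForm
    rw [hAw, dotProduct_comm]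
  -- `ℓ(w) = 0`
  have htw : l ⬝ᵥ w = 0 := by
    have h5 := hl w
    rw [hlw] at h5
    have h6 : (l ⬝ᵥ w) * (l ⬝ᵥ w - 1) = 0 := by linear_combination h5
    rcases mul_eq_zero.mp h6 with h | h
    · exact h
    · exfalso
      have hodd := odd_card_of_form_one A hA hAdet l w hl hAw (sub_eq_zero.mp h)
      rw [Fintype.card_sum, Fintype.card_fin] at hodd
      rcases hodd with ⟨k, hk⟩
      omega
  have hl0 : l ≠ 0 := by
    rintro rfl
    obtain ⟨x, hx⟩ := hna
    apply hx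
    rw [← hl, zero_dotProduct]
    ring
  have hw0 : w ≠ 0 := by
    rintro rfl
    apply hl0
    rw [← hAw, Matrix.mulVec_zero]
  -- the alternating companion
  obtain ⟨A', hA'def⟩ : ∃ A' : Mat, A' = A + Matrix.vecMulVec l l := ⟨_, rfl⟩
  have hA'form : ∀ u v, gramForm A' u v = gramForm A u v + (l ⬝ᵥ u) * (l ⬝ᵥ v) := by
    intro u v
    rw [hA'def, gramForm_add_mat, gramForm_vecMulVec, dotProduct_comm u]
  have hA'alt : ∀ x : Vec, gramForm A' x x = 0 := by
    intro x
    rw [hA'form, ← hl, pow_two]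
    exact add_self_char_two h2 _
  have hA'det : A'.det ≠ 0 := by
    have e1 : A' = A * (1 + Matrix.vecMulVec w l) := by
      rw [hA'def, Matrix.mul_add, Matrix.mul_one, Matrix.mul_vecMulVec, hAw]
    have e2 : (1 + Matrix.vecMulVec w l) * (1 + Matrix.vecMulVec w l) = (1 : Mat) := by
      rw [Matrix.mul_add, Matrix.add_mul, Matrix.add_mul, Matrix.one_mul, Matrix.one_mul,
        Matrix.mul_one, Matrix.vecMulVec_mul_vecMulVec, htw, zero_smul]
      have hz : Matrix.vecMulVec w (0 : Vec) = (0 : Mat) := by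
        ext a b
        simp [Matrix.vecMulVec_apply]
      rw [hz, add_zero]
      have : Matrix.vecMulVec w l + Matrix.vecMulVec w l = (0 : Mat) := by
        ext a b
        rw [Matrix.add_apply, Matrix.zero_apply]
        exact add_self_char_two h2 _
      rw [add_assoc, this, add_zero]
    have e3 : (1 + Matrix.vecMulVec w l : Mat).det ≠ 0 := by
      intro h0
      have := congrArg Matrix.det e2
      rw [Matrix.det_mul, h0, mul_zero, Matrix.det_one] at this
      exact zero_ne_one this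
    rw [e1, Matrix.det_mul]
    exact mul_ne_zero hAdet e3
  have hA'w : ∀ x, l ⬝ᵥ x = gramForm A' w x := by
    intro x
    rw [hA'form, hlw, htw, zero_mul, add_zero]
  obtain ⟨P₁, hP₁⟩ := exists_congr_J_alt A' hA'alt hA'det
  obtain ⟨w', hw'def⟩ : ∃ w' : Vec, w' = ((P₁⁻¹ : GL (Fin m ⊕ Fin m) F) : Mat) *ᵥ w := ⟨_, rfl⟩
  have hPw' : (P₁ : Mat) *ᵥ w' = w := by
    rw [hw'def, Matrix.mulVec_mulVec, gl_mul_inv, Matrix.one_mulVec]
  have hw'0 : w' ≠ 0 := by
    rintro rfl
    apply hw0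
    rw [← hPw', Matrix.mulVec_zero]
  obtain ⟨S, -, hS⟩ := exists_transvection_map_of_ne_zero hw₀ hw'0
  have hSJ : (S : Mat)ᵀ * Matrix.J (Fin m) F * (S : Mat) = Matrix.J (Fin m) F :=
    SymplecticGroup.mem_iff'.mp S.2
  refine ⟨P₁ * spToGL S, ?_⟩
  have hPJ : ((P₁ * spToGL S : GL (Fin m ⊕ Fin m) F) : Mat)ᵀ * A' *
      ((P₁ * spToGL S : GL (Fin m ⊕ Fin m) F) : Mat) = Matrix.J (Fin m) F := by
    rw [Units.val_mul, spToGL_coe, Matrix.transpose_mul]
    calc (S : Mat)ᵀ * (P₁ : Mat)ᵀ * A' * ((P₁ : Mat) * (S : Mat))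
        = (S : Mat)ᵀ * ((P₁ : Mat)ᵀ * A' * (P₁ : Mat)) * (S : Mat) := by
          simp only [Matrix.mul_assoc]
      _ = _ := by rw [hP₁, hSJ]
  have hPw₀ : ((P₁ * spToGL S : GL (Fin m ⊕ Fin m) F) : Mat) *ᵥ w₀ = w := by
    rw [Units.val_mul, spToGL_coe, ← Matrix.mulVec_mulVec, hS, hPw']
  apply gramForm_ext
  intro u v
  rw [← gramForm_mulVec, gramForm_Nmat h2]
  have e1 : ∀ x y, gramForm A x y = gramForm A' x y + (l ⬝ᵥ x) * (l ⬝ᵥ y) := by
    intro x y
    rw [hA'form, add_assoc, add_self_char_two h2, add_zero]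
  have e2 : ∀ x : Vec, l ⬝ᵥ (((P₁ * spToGL S : GL (Fin m ⊕ Fin m) F) : Mat) *ᵥ x) =
      Cfsg.sympForm m F w₀ x := by
    intro x
    rw [hA'w, ← hPw₀, gramForm_mulVec, hPJ, gramForm_J]
  rw [e1, gramForm_mulVec, hPJ, gramForm_J, e2, e2]

end Cfsg.Agent.Helper14.AutPSL
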