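import Mathlib
import Cfsg.Agent.Helper14.EvG2
import Cfsg.Agent.Helper94.SpRootA

/-!
Helper14: characteristic two: the projective similarity group of `f(u,v) + f(w₀,u) f(w₀,v)` is the
centraliser in `Sp` of the transvection with centre `w₀`.
-/

set_option autoImplicit false
set_option linter.unusedSectionVars false

namespace Cfsg.Agent.Helper14.AutPSL

open Matrix Cfsg.Agent.Helper14 Cfsg.Agent.Helper13 Cfsg.Agent.Helper14.AutPSp
  Cfsg.Agent.Helper94.SpRoot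

variable {F : Type*} [Field F] {m : ℕ}

local notation "Vec" => (Fin m ⊕ Fin m → F)
local notation "Mat" => Matrix (Fin m ⊕ Fin m) (Fin m ⊕ Fin m) F
local notation "Sp" => Matrix.symplecticGroup (Fin m) F

theorem matrix_ext_mulVec {M M' : Mat} (h : ∀ x : Vec, M *ᵥ x = M' *ᵥ x) : M = M' := by
  ext i j
  have := congrFun (h (Pi.single j 1)) i
  rw [Matrix.mulVec_single_one, Matrix.mulVec_single_one] at this
  exact this

theorem exists_sympForm_eq_one {w₀ : Vec} (hw₀ : w₀ ≠ 0) : ∃ x : Vec, Cfsg.sympForm m F x w₀ = 1 := by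
  obtain ⟨x, hx⟩ := sympForm_nondeg_left hw₀
  refine ⟨(Cfsg.sympForm m F x w₀)⁻¹ • x, ?_⟩
  rw [sympForm_smul_left, inv_mul_cancel₀ hx]

theorem eq_zero_of_sympForm_left {a : Vec} (h : ∀ y : Vec, Cfsg.sympForm m F a y = 0) : a = 0 := by
  by_contra ha
  obtain ⟨x, hx⟩ := sympForm_nondeg_left ha
  apply hx
  rw [sympForm_swap, h, neg_zero]

section
variable (h2 : (2 : F) = 0) (w₀ : Fin m ⊕ Fin m → F) (hw₀ : w₀ ≠ 0)

theorem transvection_mulVec (x : Vec) :
    ((sympTransvectionElt w₀ (1 : F) : Sp) : Mat) *ᵥ x = x + Cfsg.sympForm m F x w₀ • w₀ := by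
  show Cfsg.sympTransvection m w₀ 1 *ᵥ x = _
  rw [sympTransvection_mulVec, one_mul]

include h2 hw₀ in
/-- an element of `Sp` commuting with the transvection fixes its centre -/
theorem fix_of_mem_centralizer {s : Sp}
    (hs : s ∈ Subgroup.centralizer ({sympTransvectionElt w₀ (1 : F)} : Set Sp)) :
    (s : Mat) *ᵥ w₀ = w₀ := by
  have hcomm := Subgroup.mem_centralizer_iff.mp hs _ (Set.mem_singleton _)
  obtain ⟨x, hx⟩ := exists_sympForm_eq_one hw₀
  have h1 : ((sympTransvectionElt w₀ (1 : F) * s : Sp) : Mat) *ᵥ x =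
      ((s * sympTransvectionElt w₀ (1 : F) : Sp) : Mat) *ᵥ x := by rw [hcomm]
  have e1 : ((sympTransvectionElt w₀ (1 : F) * s : Sp) : Mat) *ᵥ x =
      ((sympTransvectionElt w₀ (1 : F) : Sp) : Mat) *ᵥ ((s : Mat) *ᵥ x) := by
    rw [Matrix.mulVec_mulVec]; rfl
  have e2 : ((s * sympTransvectionElt w₀ (1 : F) : Sp) : Mat) *ᵥ x =
      (s : Mat) *ᵥ (((sympTransvectionElt w₀ (1 : F) : Sp) : Mat) *ᵥ x) := by
    rw [Matrix.mulVec_mulVec]; rfl
  rw [e1, e2, transvection_mulVec, transvection_mulVec, hx, one_smul, Matrix.mulVec_add] at h1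
  have h3 : (s : Mat) *ᵥ w₀ = Cfsg.sympForm m F ((s : Mat) *ᵥ x) w₀ • w₀ := (add_left_cancel h1).symm
  obtain ⟨c, hc⟩ : ∃ c, c = Cfsg.sympForm m F ((s : Mat) *ᵥ x) w₀ := ⟨_, rfl⟩
  rw [← hc] at h3
  have h4 : Cfsg.sympForm m F ((s : Mat) *ᵥ x) ((s : Mat) *ᵥ w₀) = 1 := by
    rw [sp_preserves, hx]
  rw [h3, sympForm_smul_right, ← hc] at h4
  have h5 : c = 1 := by
    apply sq_inj_char_two h2
    rw [one_pow, pow_two, h4]
  rw [h3, h5, one_smul]

include h2 in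
theorem isometry_of_fix {s : Sp} (hs : (s : Mat) *ᵥ w₀ = w₀) (u v : Vec) :
    gramForm (Nmat m w₀) ((s : Mat) *ᵥ u) ((s : Mat) *ᵥ v) = gramForm (Nmat m w₀) u v := by
  rw [gramForm_Nmat h2, gramForm_Nmat h2, sp_preserves]
  nth_rewrite 1 [← hs]
  nth_rewrite 2 [← hs]
  rw [sp_preserves, sp_preserves]

include h2 in
/-- `C_Sp(t) → Sim(B)` -/
theorem spToGL_mem_sim {s : Sp} (hs : (s : Mat) *ᵥ w₀ = w₀) :
    spToGL s ∈ Cfsg.Geo.similarityGroup (gramForm (Nmat m w₀)) := by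
  refine ⟨1, fun u v => ?_⟩
  rw [spToGL_coe, Units.val_one, one_mul]
  exact isometry_of_fix h2 w₀ hs u v

/-- the homomorphism `C_Sp(t) → Sim(B)` -/
def centToSim :
    ↥(Subgroup.centralizer ({sympTransvectionElt w₀ (1 : F)} : Set Sp)) →*
      ↥(Cfsg.Geo.similarityGroup (gramForm (Nmat m w₀))) :=
  (spToGL.comp (Subgroup.subtype _)).codRestrict _
    (fun s => spToGL_mem_sim h2 w₀ (fix_of_mem_centralizer h2 w₀ hw₀ s.2))

theorem centToSim_coe
    (s : ↥(Subgroup.centralizer ({sympTransvectionElt w₀ (1 : F)} : Set Sp))) :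
    (((centToSim h2 w₀ hw₀ s : ↥(Cfsg.Geo.similarityGroup (gramForm (Nmat m w₀)))) :
      GL (Fin m ⊕ Fin m) F) : Mat) = ((s : Sp) : Mat) := rfl

include h2 hw₀ in
theorem exists_centToSim [Fintype F]
    (k : ↥(Cfsg.Geo.similarityGroup (gramForm (Nmat m w₀)))) :
    ∃ (a : Fˣ) (s : ↥(Subgroup.centralizer ({sympTransvectionElt w₀ (1 : F)} : Set Sp))),
      ((k : GL (Fin m ⊕ Fin m) F) : Mat) = (a : F) • ((s : Sp) : Mat) := by
  obtain ⟨c, hc⟩ := k.2
  obtain ⟨a, hadef⟩ : ∃ a, a = sq2 h2 (c : F) := ⟨_, rfl⟩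
  have ha2 : a ^ 2 = (c : F) := by rw [hadef]; exact sq2_sq h2 _
  have ha0 : a ≠ 0 := by rw [hadef]; exact sq2_ne_zero h2 c.ne_zero
  obtain ⟨M, hMdef⟩ : ∃ M : Mat, M = a⁻¹ • ((k : GL (Fin m ⊕ Fin m) F) : Mat) := ⟨_, rfl⟩
  have hMv : ∀ x : Vec, M *ᵥ x = a⁻¹ • (((k : GL (Fin m ⊕ Fin m) F) : Mat) *ᵥ x) := by
    intro x
    rw [hMdef, Matrix.smul_mulVec]
  -- `M` is an isometry of `B`
  have hMiso : ∀ u v, gramForm (Nmat m w₀) (M *ᵥ u) (M *ᵥ v) = gramForm (Nmat m w₀) u v := by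
    intro u v
    rw [hMv, hMv]
    unfold gramForm
    rw [Matrix.mulVec_smul, dotProduct_smul, smul_dotProduct, smul_eq_mul, smul_eq_mul]
    have := hc u v
    unfold gramForm at this
    rw [this, ← ha2]
    field_simp
  have hself : ∀ x : Vec, gramForm (Nmat m w₀) x x = Cfsg.sympForm m F w₀ x ^ 2 := by
    intro x
    rw [gramForm_Nmat h2, sympForm_self, zero_add, pow_two]
  have hl : ∀ x : Vec, Cfsg.sympForm m F w₀ (M *ᵥ x) = Cfsg.sympForm m F w₀ x := by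
    intro x
    apply sq_inj_char_two h2
    rw [← hself, ← hself, hMiso]
  have hsymp : ∀ u v : Vec, Cfsg.sympForm m F (M *ᵥ u) (M *ᵥ v) = Cfsg.sympForm m F u v := by
    intro u v
    have e1 := hMiso u v
    rw [gramForm_Nmat h2, gramForm_Nmat h2, hl, hl] at e1
    exact add_right_cancel e1
  have hMmem : M ∈ Matrix.symplecticGroup (Fin m) F :=
    (mem_symplecticGroup_iff_preserves M).mpr hsymp
  obtain ⟨s, hs⟩ : ∃ s : Sp, (s : Mat) = M := ⟨⟨M, hMmem⟩, rfl⟩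
  have hsw : (s : Mat) *ᵥ w₀ = w₀ := by
    rw [← sub_eq_zero]
    apply eq_zero_of_sympForm_left
    intro y
    have hy : y = (s : Mat) *ᵥ (((s⁻¹ : Sp) : Mat) *ᵥ y) := by
      rw [Matrix.mulVec_mulVec]
      have : (s : Mat) * ((s⁻¹ : Sp) : Mat) = 1 := by
        have := congrArg Subtype.val (mul_inv_cancel s)
        exact this
      rw [this, Matrix.one_mulVec]
    rw [sympForm_sub_left]
    nth_rewrite 1 [hy]
    rw [sp_preserves, ← hl (((s⁻¹ : Sp) : Mat) *ᵥ y), ← hs, ← hy, sub_self]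
  have hcent : s ∈ Subgroup.centralizer ({sympTransvectionElt w₀ (1 : F)} : Set Sp) := by
    rw [Subgroup.mem_centralizer_iff]
    intro t ht
    rw [Set.mem_singleton_iff] at ht
    rw [ht]
    apply Subtype.ext
    apply matrix_ext_mulVec
    intro x
    show (((sympTransvectionElt w₀ (1 : F) : Sp) : Mat) * (s : Mat)) *ᵥ x =
      ((s : Mat) * ((sympTransvectionElt w₀ (1 : F) : Sp) : Mat)) *ᵥ x
    rw [← Matrix.mulVec_mulVec, ← Matrix.mulVec_mulVec, transvection_mulVec, transvection_mulVec,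
      Matrix.mulVec_add, Matrix.mulVec_smul, hsw]
    congr 2
    nth_rewrite 1 [← hsw]
    rw [sp_preserves]
  refine ⟨Units.mk0 a ha0, ⟨s, hcent⟩, ?_⟩
  rw [Units.val_mk0]
  show _ = a • (s : Mat)
  rw [hs, hMdef, smul_smul, mul_inv_cancel₀ ha0, one_smul]

include h2 hw₀ in
/-- `C_Sp(t) ≃* P Sim(B)` -/
theorem centralizer_transvection_equiv [Fintype F] :
    Nonempty (Cfsg.projQuot (Cfsg.Geo.similarityGroup (gramForm (Nmat m w₀))) ≃*
      ↥(Subgroup.centralizer ({sympTransvectionElt w₀ (1 : F)} : Set Sp))) := by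
  obtain ⟨Φ, hΦ⟩ : ∃ Φ : ↥(Subgroup.centralizer ({sympTransvectionElt w₀ (1 : F)} : Set Sp)) →*
      Cfsg.projQuot (Cfsg.Geo.similarityGroup (gramForm (Nmat m w₀))),
      Φ = (QuotientGroup.mk' _).comp (centToSim h2 w₀ hw₀) := ⟨_, rfl⟩
  have hinj : Function.Injective Φ := by
    rw [injective_iff_map_eq_one]
    intro s hs
    rw [hΦ, MonoidHom.comp_apply, QuotientGroup.mk'_apply, QuotientGroup.eq_one_iff,
      Subgroup.mem_subgroupOf, Cfsg.Geo.mem_scalars_iff] at hs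
    obtain ⟨c, hc⟩ := hs
    rw [centToSim_coe] at hc
    have hsw := fix_of_mem_centralizer h2 w₀ hw₀ s.2
    rw [hc, Matrix.smul_mulVec, Matrix.one_mulVec] at hsw
    have hc1 : (c : F) = 1 := by
      by_contra hne
      apply hw₀
      have : ((c : F) - 1) • w₀ = 0 := by rw [sub_smul, hsw, one_smul, sub_self]
      rcases smul_eq_zero.mp this with h | h
      · exact absurd (sub_eq_zero.mp h) hne
      · exact h
    apply Subtype.ext
    apply Subtype.ext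
    rw [hc, hc1, one_smul]
    rfl
  have hsurj : Function.Surjective Φ := by
    intro y
    obtain ⟨k, rfl⟩ := QuotientGroup.mk_surjective y
    obtain ⟨a, s, hks⟩ := exists_centToSim h2 w₀ hw₀ k
    refine ⟨s, ?_⟩
    rw [hΦ, MonoidHom.comp_apply, QuotientGroup.mk'_apply]
    apply QuotientGroup.eq.mpr
    rw [Subgroup.mem_subgroupOf, Cfsg.Geo.mem_scalars_iff]
    refine ⟨a, ?_⟩
    rw [Subgroup.coe_mul, Units.val_mul, Subgroup.coe_inv]
    have h1 : (((centToSim h2 w₀ hw₀ s : ↥(Cfsg.Geo.similarityGroup (gramForm (Nmat m w₀)))) :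
        GL (Fin m ⊕ Fin m) F)⁻¹ : GL (Fin m ⊕ Fin m) F) = spToGL (s : Sp)⁻¹ := by
      rw [map_inv]; rfl
    rw [h1, spToGL_coe, hks, Matrix.mul_smul]
    congr 1
    have := congrArg Subtype.val (inv_mul_cancel (s : Sp))
    exact this
  exact ⟨(MulEquiv.ofBijective Φ ⟨hinj, hsurj⟩).symm⟩

end

end Cfsg.Agent.Helper14.AutPSL
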