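import Mathlib
import Cfsg.Agent.Helper14.EvG3
import Cfsg.Agent.Helper14.SpF3
import Cfsg.Agent.Helper14.AutGraph13

/-!
Helper14: involutory graph automorphisms of `PSL_{2m}(q)`, `q` even: two classes under the
inner-diagonal group, with centralisers `Sp_{2m}(q)` and the centraliser of a transvection in it.
-/

set_option autoImplicit false
set_option linter.unusedSectionVars false

namespace Cfsg.Agent.Helper14.AutPSL

open Matrix Cfsg.Agent.Helper14 Cfsg.Agent.Helper13 Cfsg.Agent.Helper14.AutPSp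
  Cfsg.Agent.Helper94.SpRoot

variable {F : Type*} [Field F] {m : ℕ}

local notation "Vec" => (Fin m ⊕ Fin m → F)
local notation "Mat" => Matrix (Fin m ⊕ Fin m) (Fin m ⊕ Fin m) F
local notation "Sp" => Matrix.symplecticGroup (Fin m) F

theorem transvection_sub_one_mulVec (w₀ x : Vec) :
    (((sympTransvectionElt w₀ (1 : F) : Sp) : Mat) - 1) *ᵥ x = Cfsg.sympForm m F x w₀ • w₀ := by
  rw [Matrix.sub_mulVec, transvection_mulVec, Matrix.one_mulVec, add_sub_cancel_left]

theorem isTransvection_sympTransvectionElt {w₀ : Vec} (hw₀ : w₀ ≠ 0) :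
    Cfsg.IsTransvection ((sympTransvectionElt w₀ (1 : F) : Sp) : Mat) := by
  constructor
  · apply le_antisymm
    · have : ((sympTransvectionElt w₀ (1 : F) : Sp) : Mat) - 1 =
          Matrix.vecMulVec w₀ (Matrix.J (Fin m) F *ᵥ w₀) := by
        show Cfsg.sympTransvection m w₀ 1 - 1 = _
        unfold Cfsg.sympTransvection
        rw [add_sub_cancel_left, one_smul]
      rw [this]
      exact Matrix.rank_vecMulVec_le _ _
    · rw [Nat.one_le_iff_ne_zero]
      intro h0
      rw [Matrix.rank, Submodule.finrank_eq_zero] at h0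
      obtain ⟨x0, hx0⟩ := exists_sympForm_eq_one hw₀
      have hmem : (((sympTransvectionElt w₀ (1 : F) : Sp) : Mat) - 1) *ᵥ x0 ∈
          LinearMap.range (((sympTransvectionElt w₀ (1 : F) : Sp) : Mat) - 1).mulVecLin :=
        LinearMap.mem_range_self _ x0
      rw [h0, Submodule.mem_bot, transvection_sub_one_mulVec, hx0, one_smul] at hmem
      exact hw₀ hmem
  · apply matrix_ext_mulVec
    intro x
    rw [← Matrix.mulVec_mulVec, transvection_sub_one_mulVec, transvection_sub_one_mulVec,
      sympForm_smul_left, sympForm_self, mul_zero, zero_smul, Matrix.zero_mulVec]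

/-- in characteristic two every similitude is a scalar times a symplectic matrix -/
theorem gspN_eq_top [Fintype F] (hm : 1 ≤ m) (h2 : (2 : F) = 0) : gspN (F := F) hm = ⊤ := by
  have hch : ringChar F = 2 :=
    CharP.ringChar_of_prime_eq_zero Nat.prime_two (by exact_mod_cast h2)
  rw [eq_top_iff]
  intro g _
  unfold gspN
  rw [Subgroup.mem_comap]
  obtain ⟨a, ha⟩ := FiniteField.isSquare_of_char_two hch ((gspMult hm g : Fˣ) : F)
  have ha0 : a ≠ 0 := by
    rintro rfl
    rw [mul_zero] at ha
    exact (gspMult hm g).ne_zero ha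
  refine ⟨Units.mk0 a ha0, ?_⟩
  apply Units.ext
  rw [powMonoidHom_apply, Units.val_pow_eq_pow_val, Units.val_mk0, ha, pow_two]

/-- `PGSp_{2m}(q) ≅ Sp_{2m}(q)` for `q` even -/
theorem pgsp_equiv_sp [Fintype F] (hm : 1 ≤ m) (h2 : (2 : F) = 0) :
    Nonempty (Cfsg.PGSp m F ≃* ↥(Matrix.symplecticGroup (Fin m) F)) := by
  have hinj : Function.Injective (spToPGSp (F := F) (m := m)) := by
    rw [injective_iff_map_eq_one]
    intro s hs
    obtain ⟨c, hc⟩ := (mem_ker_spToPGSp s).mp (MonoidHom.mem_ker.mpr hs)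
    have hmem := s.2
    rw [hc] at hmem
    have hsq := sq_eq_one_of_smul_mem hm (c : F) hmem
    have hc1 : (c : F) = 1 := sq_inj_char_two h2 (by rw [hsq, one_pow])
    apply Subtype.ext
    rw [hc, hc1, one_smul]
    rfl
  have hsurj : Function.Surjective (spToPGSp (F := F) (m := m)) := by
    intro y
    obtain ⟨k, rfl⟩ := QuotientGroup.mk_surjective y
    have hk : k ∈ gspN hm := by rw [gspN_eq_top hm h2]; trivial
    obtain ⟨a, s, rfl⟩ := (mem_gspN_iff hm k).mp hk
    refine ⟨s, ?_⟩
    show (QuotientGroup.mk (spIncl s) : Cfsg.PGSp m F) = _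
    apply QuotientGroup.eq.mpr
    rw [Subgroup.mem_subgroupOf, Cfsg.Geo.mem_scalars_iff]
    refine ⟨a, ?_⟩
    rw [Subgroup.coe_mul, Subgroup.coe_mul, Units.val_mul, Units.val_mul, Subgroup.coe_inv,
      gspScalar_coe, spIncl_inv_coe, spIncl_coe, Matrix.smul_mul, Matrix.one_mul, Matrix.mul_smul]
    congr 1
    exact congrArg Subtype.val (inv_mul_cancel s)
  exact ⟨(MulEquiv.ofBijective spToPGSp ⟨hinj, hsurj⟩).symm⟩

end Cfsg.Agent.Helper14.AutPSL
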