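import Mathlib
import Cfsg.Agent.Helper14.EvG4

/-!
Helper14: involutory graph automorphisms of `PSL_{2m}(q)`, `q` even (assembly).
-/

set_option autoImplicit false
set_option linter.unusedSectionVars false

namespace Cfsg.Agent.Helper14.AutPSL

open Matrix Cfsg.Agent.Helper14 Cfsg.Agent.Helper13 Cfsg.Agent.Helper14.AutPSp
  Cfsg.Agent.Helper94.SpRoot

variable {n : ℕ} {F : Type*} [Field F] {m : ℕ}

local notation "Vec" => (Fin m ⊕ Fin m → F)
local notation "Mat" => Matrix (Fin m ⊕ Fin m) (Fin m ⊕ Fin m) F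
local notation "Sp" => Matrix.symplecticGroup (Fin m) F

/-- congruence over `Fin m ⊕ Fin m` gives conjugacy of graph automorphisms of `PSL_n` -/
theorem isConjUnder_gph_of_congr_reindex (e : Fin m ⊕ Fin m ≃ Fin n) (g : GL (Fin n) F)
    (P N : GL (Fin m ⊕ Fin m) F)
    (h : (P : Mat)ᵀ * Matrix.reindexAlgEquiv F F e.symm (g : Matrix (Fin n) (Fin n) F) * (P : Mat) =
      (N : Mat)) :
    Cfsg.IsConjUnder (Cfsg.inndiagPSL n F) (gph g) (gph (glReindex e N)) := by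
  apply isConjUnder_gph_congr (glT (glReindex e P))
  rw [glT_coe, Matrix.transpose_transpose, glReindex_coe, glReindex_coe, ← h, reindex_transpose,
    map_mul, map_mul]
  congr 2
  have : Matrix.reindexAlgEquiv F F e.symm = (Matrix.reindexAlgEquiv F F e).symm := rfl
  rw [this, AlgEquiv.apply_symm_apply]

theorem gramForm_reindex (e : Fin m ⊕ Fin m ≃ Fin n) (A : Mat) (z z' : Fin n → F) :
    gramForm (Matrix.reindexAlgEquiv F F e A) z z' = gramForm A (z ∘ e) (z' ∘ e) := by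
  unfold gramForm
  rw [Matrix.coe_reindexAlgEquiv, Matrix.reindex_apply, Matrix.submatrix_mulVec_equiv,
    Equiv.symm_symm, dotProduct_comp_equiv_symm]

theorem Nmat_transpose (h2 : (2 : F) = 0) (w : Vec) : (Nmat m w)ᵀ = Nmat m w := by
  unfold Nmat
  rw [Matrix.transpose_add, Matrix.J_transpose, Matrix.transpose_vecMulVec]
  congr 1
  ext a b
  rw [Matrix.neg_apply, neg_eq_self_char_two h2]

theorem Nmat_det (h2 : (2 : F) = 0) (w : Vec) : (Nmat m w).det ≠ 0 := by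
  obtain ⟨l, hldef⟩ : ∃ l : Vec, l = Matrix.J (Fin m) F *ᵥ w := ⟨_, rfl⟩
  have htw : l ⬝ᵥ w = 0 := by
    rw [hldef, J_dot h2, sympForm_self]
  have e1 : Nmat m w = Matrix.J (Fin m) F * (1 + Matrix.vecMulVec w l) := by
    unfold Nmat
    rw [Matrix.mul_add, Matrix.mul_one, Matrix.mul_vecMulVec, ← hldef]
  have e2 : (1 + Matrix.vecMulVec w l) * (1 + Matrix.vecMulVec w l) = (1 : Mat) := by
    rw [Matrix.mul_add, Matrix.add_mul, Matrix.add_mul, Matrix.one_mul, Matrix.one_mul,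
      Matrix.mul_one, Matrix.vecMulVec_mul_vecMulVec, htw, zero_smul]
    have hz : Matrix.vecMulVec w (0 : Vec) = (0 : Mat) := by
      ext a b
      simp [Matrix.vecMulVec_apply]
    rw [hz, add_zero]
    have : Matrix.vecMulVec w l + Matrix.vecMulVec w l = (0 : Mat) := by
      ext a b
      rw [Matrix.add_apply, Matrix.zero_apply]
      exact add_self_char_two h2 _
    rw [add_assoc, this, add_zero]
  have e3 : (1 + Matrix.vecMulVec w l : Mat).det ≠ 0 := by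
    intro h0
    have := congrArg Matrix.det e2
    rw [Matrix.det_mul, h0, mul_zero, Matrix.det_one] at this
    exact zero_ne_one this
  rw [e1, Matrix.det_mul]
  exact mul_ne_zero (Matrix.isUnit_det_J (Fin m) F).ne_zero e3

/-- involutory graph automorphisms of `PSL_{2m}(q)`, `q` even -/
theorem graph_aut_even_dim_even_q [Fintype F] (h2 : (2 : F) = 0) (hm : 2 ≤ m) (hnm : n = 2 * m) :
    ∃ (γ₁ γ₃ : MulAut (Matrix.ProjectiveSpecialLinearGroup (Fin n) F))
      (t : ↥(Matrix.symplecticGroup (Fin m) F)),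
      Cfsg.IsTransvection (t : Matrix (Fin m ⊕ Fin m) (Fin m ⊕ Fin m) F) ∧
      Cfsg.IsGraphAutClassPSL γ₁ ∧ orderOf γ₁ = 2 ∧ Cfsg.IsGraphAutClassPSL γ₃ ∧ orderOf γ₃ = 2 ∧
      ¬ Cfsg.IsConjUnder (Cfsg.inndiagPSL n F) γ₁ γ₃ ∧
      (∀ γ : MulAut (Matrix.ProjectiveSpecialLinearGroup (Fin n) F), Cfsg.IsGraphAutClassPSL γ →
        orderOf γ = 2 → Cfsg.IsConjUnder (Cfsg.inndiagPSL n F) γ₁ γ ∨
          Cfsg.IsConjUnder (Cfsg.inndiagPSL n F) γ₃ γ) ∧
      Nonempty (↥(Cfsg.inndiagPSL n F ⊓ Subgroup.centralizer {γ₁}) ≃*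
        ↥(Matrix.symplecticGroup (Fin m) F)) ∧
      Nonempty (↥(Cfsg.inndiagPSL n F ⊓ Subgroup.centralizer {γ₃}) ≃*
        ↥(Subgroup.centralizer ({t} : Set ↥(Matrix.symplecticGroup (Fin m) F)))) := by
  classical
  have hn : 2 ≤ n := by omega
  have h3 : 3 ≤ n := by omega
  have hm1 : 1 ≤ m := by omega
  have hcard₁ : Fintype.card (Fin m ⊕ Fin m) = n := by
    rw [Fintype.card_sum, Fintype.card_fin, hnm]
    ring
  obtain ⟨e₁, -⟩ : ∃ e₁ : Fin m ⊕ Fin m ≃ Fin n, e₁ = e₁ := ⟨Fintype.equivFinOfCardEq hcard₁, rfl⟩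
  obtain ⟨w₀, hw₀def⟩ : ∃ w₀ : Vec, w₀ = Pi.single (Sum.inl ⟨0, by omega⟩) 1 := ⟨_, rfl⟩
  have hw₀ : w₀ ≠ 0 := by
    intro h0
    have := congrFun h0 (Sum.inl ⟨0, by omega⟩)
    rw [hw₀def, Pi.single_eq_same] at this
    exact one_ne_zero this
  have hJdet : (Matrix.J (Fin m) F).det ≠ 0 := (Matrix.isUnit_det_J (Fin m) F).ne_zero
  obtain ⟨Jg, hJg⟩ : ∃ Jg : GL (Fin m ⊕ Fin m) F, (Jg : Mat) = Matrix.J (Fin m) F :=
    ⟨Matrix.GeneralLinearGroup.mkOfDetNeZero _ hJdet, rfl⟩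
  obtain ⟨Ng, hNg⟩ : ∃ Ng : GL (Fin m ⊕ Fin m) F, (Ng : Mat) = Nmat m w₀ :=
    ⟨Matrix.GeneralLinearGroup.mkOfDetNeZero _ (Nmat_det h2 w₀), rfl⟩
  have hg₁c : ((glReindex e₁ Jg : GL (Fin n) F) : Matrix (Fin n) (Fin n) F) =
      Matrix.reindexAlgEquiv F F e₁ (Matrix.J (Fin m) F) := by rw [glReindex_coe, hJg]
  have hg₃c : ((glReindex e₁ Ng : GL (Fin n) F) : Matrix (Fin n) (Fin n) F) =
      Matrix.reindexAlgEquiv F F e₁ (Nmat m w₀) := by rw [glReindex_coe, hNg]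
  have hg₁T : ((glReindex e₁ Jg : GL (Fin n) F) : Matrix (Fin n) (Fin n) F)ᵀ =
      -((glReindex e₁ Jg : GL (Fin n) F) : Matrix (Fin n) (Fin n) F) := by
    rw [hg₁c, reindex_transpose, Matrix.J_transpose, map_neg]
  have hg₃T : ((glReindex e₁ Ng : GL (Fin n) F) : Matrix (Fin n) (Fin n) F)ᵀ =
      ((glReindex e₁ Ng : GL (Fin n) F) : Matrix (Fin n) (Fin n) F) := by
    rw [hg₃c, reindex_transpose, Nmat_transpose h2]
  -- a vector on which `N` is non-zero
  obtain ⟨x₀, hx₀⟩ := exists_sympForm_eq_one hw₀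
  have hNx₀ : gramForm (Nmat m w₀) x₀ x₀ ≠ 0 := by
    rw [gramForm_Nmat h2, sympForm_self, zero_add, sympForm_swap, hx₀]
    simp
  refine ⟨gph (glReindex e₁ Jg), gph (glReindex e₁ Ng), sympTransvectionElt w₀ 1,
    isTransvection_sympTransvectionElt hw₀, isGraphAutClass_gph h3 _, ?_,
    isGraphAutClass_gph h3 _, ?_, ?_, ?_, ?_, ?_⟩
  · apply orderOf_gph_eq_two h3 _ (-1)
    rw [hg₁T, Units.val_neg, Units.val_one, neg_smul, one_smul]
  · apply orderOf_gph_eq_two h3 _ 1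
    rw [hg₃T, Units.val_one, one_smul]
  · intro hconj
    obtain ⟨P, μ, hμ⟩ := exists_congr_of_isConjUnder hn hconj
    apply hNx₀
    obtain ⟨z, hz⟩ : ∃ z : Fin n → F, z = x₀ ∘ e₁.symm := ⟨_, rfl⟩
    have hzx : z ∘ e₁ = x₀ := by
      funext i
      rw [hz, Function.comp_apply, Function.comp_apply, Equiv.symm_apply_apply]
    have h5 : gramForm ((glReindex e₁ Ng : GL (Fin n) F) : Matrix (Fin n) (Fin n) F) z z =
        gramForm ((μ : F) • ((P : Matrix (Fin n) (Fin n) F) *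
          ((glReindex e₁ Jg : GL (Fin n) F) : Matrix (Fin n) (Fin n) F) *
          (P : Matrix (Fin n) (Fin n) F)ᵀ)) z z := by rw [← hμ]
    rw [hg₃c, gramForm_reindex, hzx, gramForm_smul] at h5
    rw [h5]
    have h6 : (P : Matrix (Fin n) (Fin n) F) *
        ((glReindex e₁ Jg : GL (Fin n) F) : Matrix (Fin n) (Fin n) F) *
        (P : Matrix (Fin n) (Fin n) F)ᵀ = (P : Matrix (Fin n) (Fin n) F)ᵀᵀ *
        ((glReindex e₁ Jg : GL (Fin n) F) : Matrix (Fin n) (Fin n) F) *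
        (P : Matrix (Fin n) (Fin n) F)ᵀ := by rw [Matrix.transpose_transpose]
    rw [h6, ← gramForm_mulVec, hg₁c, gramForm_reindex, gramForm_J, sympForm_self, mul_zero]
  · intro γ hγ hγ2
    obtain ⟨g, rfl⟩ := exists_gph_of_isGraphAutClass hγ
    have hgd : (g : Matrix (Fin n) (Fin n) F).det ≠ 0 :=
      ((Matrix.isUnit_iff_isUnit_det _).mp (Units.isUnit g)).ne_zero
    have hs : (g : Matrix (Fin n) (Fin n) F)ᵀ = (g : Matrix (Fin n) (Fin n) F) := by
      rcases symm_or_skew_of_orderOf_gph hn g hγ2 with hs | hs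
      · exact hs
      · rw [hs]
        ext i j
        rw [Matrix.neg_apply, neg_eq_self_char_two h2]
    obtain ⟨gκ, hgκ⟩ : ∃ gκ : Mat, gκ = Matrix.reindexAlgEquiv F F e₁.symm
        (g : Matrix (Fin n) (Fin n) F) := ⟨_, rfl⟩
    have hgκT : gκᵀ = gκ := by
      rw [hgκ, Matrix.coe_reindexAlgEquiv, Matrix.transpose_reindex, hs]
    have hgκd : gκ.det ≠ 0 := by
      rw [hgκ, Matrix.coe_reindexAlgEquiv, Matrix.reindex_apply, Matrix.det_submatrix_equiv_self]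
      exact hgd
    by_cases halt : ∀ x : Vec, gramForm gκ x x = 0
    · left
      obtain ⟨P, hP⟩ := exists_congr_J_alt gκ halt hgκd
      apply isConjUnder_symm
      apply isConjUnder_gph_of_congr_reindex e₁ g P Jg
      rw [← hgκ, hP, hJg]
    · right
      push Not at halt
      obtain ⟨P, hP⟩ := exists_congr_Nmat h2 gκ hgκT hgκd halt w₀ hw₀
      apply isConjUnder_symm
      apply isConjUnder_gph_of_congr_reindex e₁ g P Ng
      rw [← hgκ, hP, hNg]
  · have e := graphCentEquiv hn e₁ Jg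
    have hform : gramForm (Jg : Mat) = Cfsg.sympForm m F := by
      funext u v
      rw [hJg]
      rfl
    rw [hform] at e
    obtain ⟨e'⟩ := pgsp_equiv_sp (F := F) hm1 h2
    exact ⟨e.trans e'⟩
  · have e := graphCentEquiv hn e₁ Ng
    rw [hNg] at e
    obtain ⟨e'⟩ := centralizer_transvection_equiv h2 w₀ hw₀
    exact ⟨e.trans e'⟩

end Cfsg.Agent.Helper14.AutPSL
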