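import Mathlib
import Cfsg.Agent.Helper13.SymmForm

set_option autoImplicit false

namespace Cfsg.Agent.Helper14

open Module

/-- Pairwise similitude: given an orthogonal family `v` indexed by `κ × Fin 2` with non-zero norms
`a`, over a finite field of odd order, and a scalar `m ≠ 0`, there is a family
`f i = p i • v (i.1, 0) + q i • v (i.1, 1)` with Gram matrix `m` times that of `v`. -/
theorem exists_pair_family {F V κ : Type*} [Field F] [Fintype F] [AddCommGroup V] [Module F V]
    [DecidableEq κ] (h2 : (2 : F) ≠ 0) (B : LinearMap.BilinForm F V)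
    (v : κ × Fin 2 → V) (a : κ × Fin 2 → F) (ha : ∀ i, a i ≠ 0)
    (hG : ∀ i j, B (v i) (v j) = if i = j then a i else 0) (m : F) (hm : m ≠ 0) :
    ∃ p q : κ × Fin 2 → F, ∀ i j,
      B (p i • v (i.1, 0) + q i • v (i.1, 1)) (p j • v (j.1, 0) + q j • v (j.1, 1))
        = if i = j then m * a i else 0 := by
  have hex : ∀ t : κ, ∃ x y : F, x ^ 2 + (a (t, 1) / a (t, 0)) * y ^ 2 = m := by
    intro t
    have h0 := ha (t, 0)
    have h1 := ha (t, 1)
    obtain ⟨x, y, hxy⟩ := Cfsg.Agent.Helper13.exists_binary_eq_one h2 (a := m⁻¹)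
      (b := a (t, 1) / (a (t, 0) * m)) (inv_ne_zero hm)
      (div_ne_zero h1 (mul_ne_zero h0 hm))
    refine ⟨x, y, ?_⟩
    field_simp at hxy
    field_simp
    linear_combination hxy
  choose x y hxy using hex
  refine ⟨fun i => if i.2 = 0 then x i.1 else -(a (i.1, 1) / a (i.1, 0)) * y i.1,
    fun i => if i.2 = 0 then y i.1 else x i.1, ?_⟩
  rintro ⟨t, ε⟩ ⟨t', ε'⟩
  have h0 := ha (t, 0)
  have h1 := ha (t, 1)
  simp only [map_add, map_smul, LinearMap.add_apply, LinearMap.smul_apply, smul_eq_mul, hG,
    Prod.mk.injEq]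
  by_cases htt : t = t'
  · subst htt
    have hx := hxy t
    fin_cases ε <;> fin_cases ε'
    · simp
      field_simp at hx
      linear_combination hx
    · simp
      field_simp
      ring
    · simp
      field_simp
      ring
    · simp
      field_simp at hx
      field_simp
      linear_combination hx
  · simp [htt]

end Cfsg.Agent.Helper14
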