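import Mathlib
import Cfsg.Agent.Helper14.PairSim

set_option autoImplicit false

namespace Cfsg.Agent.Helper14

open Module

/-- A non-degenerate symmetric form on a space of dimension `2 l` (char ≠ 2) has an orthogonal
basis indexed by `Fin l × Fin 2`, with non-zero norms. -/
theorem exists_orthogonal_pair_basis {F V : Type*} [Field F] [AddCommGroup V] [Module F V]
    [FiniteDimensional F V] (h2 : (2 : F) ≠ 0) (B : LinearMap.BilinForm F V) (hS : B.IsSymm)
    (hnd : B.Nondegenerate) (l : ℕ) (hV : finrank F V = 2 * l) :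
    ∃ (c : Basis (Fin l × Fin 2) F V) (a : Fin l × Fin 2 → F), (∀ i, a i ≠ 0) ∧
      ∀ i j, B (c i) (c j) = if i = j then a i else 0 := by
  have : Invertible (2 : F) := invertibleOfNonzero h2
  obtain ⟨v, hv⟩ := LinearMap.BilinForm.exists_orthogonal_basis
    (LinearMap.BilinForm.isSymm_iff.mp hS)
  have hne := hv.not_isOrtho_basis_self_of_separatingLeft hnd.1
  rw [LinearMap.isOrthoᵢ_def] at hv
  let e : Fin (finrank F V) ≃ Fin l × Fin 2 :=
    (finCongr hV).trans (finProdFinEquiv.symm.trans (Equiv.prodComm _ _))
  refine ⟨v.reindex e, fun i => B (v (e.symm i)) (v (e.symm i)), fun i => hne _, ?_⟩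
  intro i j
  rw [Basis.reindex_apply, Basis.reindex_apply]
  by_cases h : i = j
  · subst h
    rw [if_pos rfl]
  · rw [if_neg h]
    apply hv
    intro h'
    exact h (e.symm.injective h')

/-- Over a finite field of odd order, a non-degenerate symmetric bilinear form on an
even-dimensional space admits similitudes with any prescribed non-zero factor. -/
theorem exists_similitude_even {F W : Type*} [Field F] [Fintype F] [AddCommGroup W] [Module F W]
    [FiniteDimensional F W] (h2 : (2 : F) ≠ 0) (B : LinearMap.BilinForm F W) (hS : B.IsSymm)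
    (hnd : B.Nondegenerate) (l : ℕ) (hW : finrank F W = 2 * l) (m : F) (hm : m ≠ 0) :
    ∃ T : W →ₗ[F] W, ∀ x y, B (T x) (T y) = m * B x y := by
  classical
  obtain ⟨c, a, ha, hG⟩ := exists_orthogonal_pair_basis h2 B hS hnd l hW
  obtain ⟨p, q, hpq⟩ := exists_pair_family h2 B c a ha hG m hm
  let f : Fin l × Fin 2 → W := fun i => p i • c (i.1, 0) + q i • c (i.1, 1)
  let T : W →ₗ[F] W := c.constr F f
  have hT : ∀ i, T (c i) = f i := fun i => Basis.constr_basis c F f i
  have hform : B.comp T T = m • B := by
    apply LinearMap.BilinForm.ext_basis c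
    intro i j
    rw [LinearMap.BilinForm.comp_apply, hT, hT, LinearMap.smul_apply, LinearMap.smul_apply,
      smul_eq_mul, hG]
    simp only [f]
    rw [hpq]
    by_cases h : i = j
    · rw [if_pos h, if_pos h]
    · rw [if_neg h, if_neg h, mul_zero]
  refine ⟨T, fun x y => ?_⟩
  have := congrArg (fun B' : LinearMap.BilinForm F W => B' x y) hform
  simpa [LinearMap.BilinForm.comp_apply] using this

end Cfsg.Agent.Helper14
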