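import Mathlib
import Cfsg.Agent.Helper36.SympInv

set_option autoImplicit false

namespace Cfsg.Agent.Helper14

open Module LinearMap Matrix

section SympRep

variable {E : Type*} [AddCommGroup E] [Module (ZMod 2) E]

/-- In characteristic two an alternating form is symmetric. -/
theorem alt_symm_zmod_two (B : LinearMap.BilinForm (ZMod 2) E) (halt : B.IsAlt) (x y : E) :
    B x y = B y x := by
  have h := halt.neg_eq x y
  rw [← h]
  have : ∀ a : ZMod 2, -a = a := by decide
  exact (this _).symm

/-- Coordinates with respect to a hyperbolic family: `x ↦ (i ↦ B x (c (swap i)))`. -/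
noncomputable def sympCoord {ι : Type*} (B : LinearMap.BilinForm (ZMod 2) E) (c : ι ⊕ ι → E) :
    E →ₗ[ZMod 2] (ι ⊕ ι → ZMod 2) :=
  LinearMap.pi (fun i => B.flip (c (Sum.swap i)))

theorem sympCoord_apply {ι : Type*} (B : LinearMap.BilinForm (ZMod 2) E) (c : ι ⊕ ι → E) (x : E)
    (i : ι ⊕ ι) : sympCoord B c x i = B x (c (Sum.swap i)) := rfl

/-- A group acting on an odd-dimensional `𝔽₂`-space `E` with an invariant alternating form whose
radical is `{0, u}` (with `u` fixed) maps to the symplectic group of `E / ⟨u⟩`; the kernel acts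
trivially modulo `u`. -/
theorem exists_symplectic_rep {G : Type*} [Group G] [FiniteDimensional (ZMod 2) E]
    (B : LinearMap.BilinForm (ZMod 2) E) (halt : B.IsAlt) (u : E) (hu0 : u ≠ 0)
    (hu : ∀ y, B u y = 0) (hrad : ∀ x, (∀ y, B x y = 0) → x = 0 ∨ x = u)
    (r : ℕ) (hdim : finrank (ZMod 2) E = 2 * r + 1)
    (ρ : G →* Module.End (ZMod 2) E) (hρB : ∀ g x y, B (ρ g x) (ρ g y) = B x y)
    (hρu : ∀ g, ρ g u = u) :
    ∃ f : G →* Matrix.symplecticGroup (Fin r) (ZMod 2),
      ∀ g, f g = 1 → ∀ x, ρ g x = x ∨ ρ g x = x + u := by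
  classical
  have hsymm := alt_symm_zmod_two B halt
  have hu' : ∀ x, B x u = 0 := fun x => by rw [hsymm]; exact hu x
  -- complement of span{u}
  obtain ⟨E', hE'⟩ := Submodule.exists_isCompl (Submodule.span (ZMod 2) {u})
  have hfr : finrank (ZMod 2) E' = 2 * r := by
    have h1 := Submodule.finrank_add_eq_of_isCompl hE'
    rw [finrank_span_singleton hu0, hdim] at h1
    omega
  -- restriction nondegenerate
  have halt' : (B.restrict E').IsAlt := fun x => halt x
  have hnd : (B.restrict E').Nondegenerate := by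
    apply (LinearMap.IsRefl.nondegenerate_iff_separatingLeft halt'.isRefl).mpr
    intro x hx
    have hx' : ∀ y, B x y = 0 := by
      intro y
      have hy : y ∈ Submodule.span (ZMod 2) {u} ⊔ E' := by rw [hE'.sup_eq_top]; trivial
      obtain ⟨a, ha, b, hb, rfl⟩ := Submodule.mem_sup.mp hy
      obtain ⟨t, rfl⟩ := Submodule.mem_span_singleton.mp ha
      have h1 : B x u = 0 := hu' x
      have h2 : B x b = 0 := hx ⟨b, hb⟩
      simp [h1, h2]
    rcases hrad x hx' with h | h
    · exact Subtype.ext h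
    · exfalso
      have : u ∈ Submodule.span (ZMod 2) {u} ⊓ E' :=
        ⟨Submodule.mem_span_singleton_self u, h ▸ x.2⟩
      rw [hE'.inf_eq_bot] at this
      exact hu0 ((Submodule.mem_bot _).mp this)
  obtain ⟨r', a, b, hr', hab, haa, hbb⟩ :=
    Cfsg.Agent.Helper36.exists_hyperbolic_family (2 * r) (B.restrict E') halt' hnd hfr
  have hrr : r' = r := by omega
  subst hrr
  have hab' : ∀ i j, B (a i : E) (b j : E) = if i = j then 1 else 0 := hab
  have haa' : ∀ i j, B (a i : E) (a j : E) = 0 := haa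
  have hbb' : ∀ i j, B (b i : E) (b j : E) = 0 := hbb
  let c : Fin r' ⊕ Fin r' → E := Sum.elim (fun i => (a i : E)) (fun i => (b i : E))
  have hG : ∀ i j, B (c i) (c j) = if j = Sum.swap i then 1 else 0 := by
    rintro (i | i) (j | j)
    · simp [c, haa']
    · simp only [c, Sum.elim_inl, Sum.elim_inr, Sum.swap_inl, hab', Sum.inr.injEq]
      by_cases h : i = j
      · subst h; simp
      · rw [if_neg h, if_neg (fun h' => h h'.symm)]
    · simp only [c, Sum.elim_inl, Sum.elim_inr, Sum.swap_inr, Sum.inl.injEq]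
      rw [hsymm, hab']
    · simp [c, hbb']
  let Φ : (Fin r' ⊕ Fin r' → ZMod 2) →ₗ[ZMod 2] E := Fintype.linearCombination (ZMod 2) c
  let Ψ : E →ₗ[ZMod 2] (Fin r' ⊕ Fin r' → ZMod 2) := sympCoord B c
  have hΨΦ : ∀ v, Ψ (Φ v) = v := by
    intro v
    funext i
    simp only [Ψ, Φ]
    rw [sympCoord_apply, Fintype.linearCombination_apply, map_sum, LinearMap.sum_apply]
    simp only [map_smul, LinearMap.smul_apply, hG, smul_eq_mul]
    rw [Finset.sum_eq_single i]
    · simp
    · intro j _ hj
      have hne : ¬ (Sum.swap i = Sum.swap j) := by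
        intro h
        have h2 := congrArg Sum.swap h
        rw [Sum.swap_swap, Sum.swap_swap] at h2
        exact hj h2.symm
      rw [if_neg hne, mul_zero]
    · simp
  have hΨu : Ψ u = 0 := by
    funext i
    simp only [Ψ]
    rw [sympCoord_apply, hu]
    rfl
  have hker : ∀ y, Ψ y = 0 → ∃ ε : ZMod 2, y = ε • u := by
    have hsurj : Function.Surjective Ψ := fun v => ⟨Φ v, hΨΦ v⟩
    have hrange : LinearMap.range Ψ = ⊤ := LinearMap.range_eq_top.mpr hsurj
    have hk : finrank (ZMod 2) (LinearMap.ker Ψ) = 1 := by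
      have h := LinearMap.finrank_range_add_finrank_ker Ψ
      rw [hrange, finrank_top, hdim] at h
      simp only [Module.finrank_fintype_fun_eq_card, Fintype.card_sum, Fintype.card_fin] at h
      omega
    have huk : u ∈ LinearMap.ker Ψ := hΨu
    have hne : (⟨u, huk⟩ : LinearMap.ker Ψ) ≠ 0 := by
      intro h
      exact hu0 (congrArg Subtype.val h)
    have hall := (finrank_eq_one_iff_of_nonzero' (⟨u, huk⟩ : LinearMap.ker Ψ) hne).mp hk
    intro y hy
    obtain ⟨ε, hε⟩ := hall ⟨y, hy⟩
    exact ⟨ε, (congrArg Subtype.val hε).symm⟩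
  have hdecomp : ∀ x, ∃ ε : ZMod 2, x = Φ (Ψ x) + ε • u := by
    intro x
    have h0 : Ψ (x - Φ (Ψ x)) = 0 := by rw [map_sub, hΨΦ, sub_self]
    obtain ⟨ε, hε⟩ := hker _ h0
    exact ⟨ε, by rw [← hε]; abel⟩
  have key1 : ∀ g x, Ψ (ρ g (Φ (Ψ x))) = Ψ (ρ g x) := by
    intro g x
    obtain ⟨ε, hε⟩ := hdecomp x
    conv_rhs => rw [hε]
    rw [map_add, map_smul, hρu, map_add, map_smul, hΨu, smul_zero, add_zero]
  have key2 : ∀ x y, B (Φ (Ψ x)) (Φ (Ψ y)) = B x y := by
    intro x y
    obtain ⟨ε, hε⟩ := hdecomp x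
    obtain ⟨δ, hδ⟩ := hdecomp y
    conv_rhs => rw [hε, hδ]
    simp only [map_add, LinearMap.add_apply, map_smul, LinearMap.smul_apply, hu, hu', smul_zero,
      add_zero]
  obtain ⟨T, hT⟩ : ∃ T : G → ((Fin r' ⊕ Fin r' → ZMod 2) →ₗ[ZMod 2] (Fin r' ⊕ Fin r' → ZMod 2)),
      ∀ g v, T g v = Ψ (ρ g (Φ v)) := ⟨fun g => Ψ ∘ₗ (ρ g) ∘ₗ Φ, fun g v => rfl⟩
  have hT1 : T 1 = LinearMap.id := by
    apply LinearMap.ext
    intro v
    rw [hT, map_one, Module.End.one_apply, hΨΦ, LinearMap.id_apply]
  have hTmul : ∀ g h, T (g * h) = T g ∘ₗ T h := by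
    intro g h
    apply LinearMap.ext
    intro v
    rw [LinearMap.comp_apply, hT, hT, hT, map_mul, Module.End.mul_apply, key1]
  have hTsymp : ∀ g, (LinearMap.toMatrix' (T g))ᵀ * J (Fin r') (ZMod 2) * LinearMap.toMatrix' (T g)
      = J (Fin r') (ZMod 2) := by
    intro g
    let ω : LinearMap.BilinForm (ZMod 2) (Fin r' ⊕ Fin r' → ZMod 2) := B.comp Φ Φ
    have hω : LinearMap.BilinForm.toMatrix' ω = J (Fin r') (ZMod 2) := by
      ext i j
      rw [LinearMap.BilinForm.toMatrix'_apply]
      simp only [ω, Φ]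
      rw [LinearMap.BilinForm.comp_apply, Fintype.linearCombination_apply_single,
        Fintype.linearCombination_apply_single, one_smul, one_smul, hG]
      have hneg : (-1 : ZMod 2) = 1 := by decide
      rcases i with i | i <;> rcases j with j | j
      · simp [J]
      · simp only [J, Sum.swap_inl, Sum.inr.injEq, Matrix.fromBlocks_apply₁₂, Matrix.neg_apply,
          Matrix.one_apply]
        by_cases h : i = j
        · subst h; simp
        · rw [if_neg (fun h' => h h'.symm), if_neg h, neg_zero]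
      · simp only [J, Sum.swap_inr, Sum.inl.injEq, Matrix.fromBlocks_apply₂₁, Matrix.one_apply]
        by_cases h : i = j
        · subst h; simp
        · rw [if_neg (fun h' => h h'.symm), if_neg h]
      · simp [J]
    have hωT : ω.comp (T g) (T g) = ω := by
      apply LinearMap.ext₂
      intro v w
      simp only [ω]
      rw [LinearMap.BilinForm.comp_apply, LinearMap.BilinForm.comp_apply,
        LinearMap.BilinForm.comp_apply, hT, hT, key2, hρB]
    have h := LinearMap.BilinForm.toMatrix'_comp ω (T g) (T g)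
    rw [hωT, hω] at h
    exact h.symm
  refine ⟨{ toFun := fun g => ⟨LinearMap.toMatrix' (T g), SymplecticGroup.mem_iff'.mpr (hTsymp g)⟩
            map_one' := ?_
            map_mul' := ?_ }, ?_⟩
  · apply Subtype.ext
    show LinearMap.toMatrix' (T 1) = 1
    rw [hT1, LinearMap.toMatrix'_id]
  · intro g h
    apply Subtype.ext
    show LinearMap.toMatrix' (T (g * h)) = LinearMap.toMatrix' (T g) * LinearMap.toMatrix' (T h)
    rw [hTmul, LinearMap.toMatrix'_comp]
  · intro g hg x
    have hM : LinearMap.toMatrix' (T g) = 1 := congrArg Subtype.val hg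
    have hid : T g = LinearMap.id := by
      apply LinearMap.toMatrix'.injective
      rw [hM, LinearMap.toMatrix'_id]
    have h1 : Ψ (ρ g x) = Ψ x := by
      rw [← key1, ← hT, hid, LinearMap.id_apply]
    have h0 : Ψ (ρ g x - x) = 0 := by rw [map_sub, h1, sub_self]
    obtain ⟨ε, hε⟩ := hker _ h0
    have hcases : ∀ ε : ZMod 2, ε = 0 ∨ ε = 1 := by decide
    rcases hcases ε with h | h
    · left
      rw [h, zero_smul, sub_eq_zero] at hε
      exact hε
    · right
      rw [h, one_smul] at hε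
      rw [← hε]; abel

end SympRep

end Cfsg.Agent.Helper14
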