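import Mathlib
import Cfsg.Agent.Helper14.SympRep

set_option autoImplicit false

namespace Cfsg.Agent.Helper14

open Module LinearMap Matrix

section EvenWeight

variable (ι : Type*) [Fintype ι]

/-- The coordinate-sum functional on `𝔽₂^ι`. -/
noncomputable def sumL : (ι → ZMod 2) →ₗ[ZMod 2] ZMod 2 := ∑ i, LinearMap.proj i

theorem sumL_apply (x : ι → ZMod 2) : sumL ι x = ∑ i, x i := by
  simp [sumL, LinearMap.sum_apply]

/-- The even-weight subspace of `𝔽₂^ι`. -/
noncomputable def evenSub : Submodule (ZMod 2) (ι → ZMod 2) := LinearMap.ker (sumL ι)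

theorem mem_evenSub (x : ι → ZMod 2) : x ∈ evenSub ι ↔ ∑ i, x i = 0 := by
  rw [evenSub, LinearMap.mem_ker, sumL_apply]

/-- The standard dot product on `𝔽₂^ι`, restricted to the even-weight subspace. -/
noncomputable def evenForm [DecidableEq ι] : LinearMap.BilinForm (ZMod 2) (evenSub ι) :=
  (Matrix.toBilin' (1 : Matrix ι ι (ZMod 2))).restrict (evenSub ι)

theorem evenForm_apply [DecidableEq ι] (x y : evenSub ι) :
    evenForm ι x y = ∑ i, x.1 i * y.1 i := by
  rw [evenForm, LinearMap.BilinForm.restrict_apply, LinearMap.domRestrict_apply,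
    Matrix.toBilin'_apply', Matrix.one_mulVec]
  rfl

theorem evenForm_isAlt [DecidableEq ι] : (evenForm ι).IsAlt := by
  intro x
  rw [evenForm_apply]
  have hsq : ∀ a : ZMod 2, a * a = a := by decide
  simp only [hsq]
  exact (mem_evenSub ι x.1).mp x.2

/-- Permutations act on the even-weight subspace. -/
noncomputable def permEnd (σ : Equiv.Perm ι) : Module.End (ZMod 2) (evenSub ι) where
  toFun x := ⟨fun i => x.1 (σ.symm i), by
    rw [mem_evenSub]
    rw [Equiv.sum_comp σ.symm (fun i => x.1 i)]
    exact (mem_evenSub ι x.1).mp x.2⟩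
  map_add' x y := by
    apply Subtype.ext
    funext i
    rfl
  map_smul' t x := by
    apply Subtype.ext
    funext i
    rfl

theorem permEnd_apply (σ : Equiv.Perm ι) (x : evenSub ι) (i : ι) :
    (permEnd ι σ x).1 i = x.1 (σ.symm i) := rfl

/-- The permutation representation on the even-weight subspace. -/
noncomputable def permRep : Equiv.Perm ι →* Module.End (ZMod 2) (evenSub ι) where
  toFun := permEnd ι
  map_one' := by
    apply LinearMap.ext
    intro x
    apply Subtype.ext
    funext i
    rfl
  map_mul' σ τ := by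
    apply LinearMap.ext
    intro x
    apply Subtype.ext
    funext i
    rfl

theorem permRep_apply (σ : Equiv.Perm ι) (x : evenSub ι) (i : ι) :
    (permRep ι σ x).1 i = x.1 (σ.symm i) := rfl

theorem evenForm_permRep [DecidableEq ι] (σ : Equiv.Perm ι) (x y : evenSub ι) :
    evenForm ι (permRep ι σ x) (permRep ι σ y) = evenForm ι x y := by
  rw [evenForm_apply, evenForm_apply]
  simp only [permRep_apply]
  exact Equiv.sum_comp σ.symm (fun i => x.1 i * y.1 i)

/-- The sum of two standard basis vectors has even weight. -/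
noncomputable def pairVec [DecidableEq ι] (a c : ι) : evenSub ι :=
  ⟨Pi.single a 1 + Pi.single c 1, by
    rw [mem_evenSub]
    simp only [Pi.add_apply]
    rw [Finset.sum_add_distrib, Finset.sum_pi_single', Finset.sum_pi_single']
    simp only [Finset.mem_univ, if_true]
    decide⟩

theorem pairVec_apply [DecidableEq ι] (a c i : ι) :
    (pairVec ι a c).1 i = (if i = a then 1 else 0) + (if i = c then 1 else 0) := by
  simp [pairVec, Pi.single_apply]

theorem evenForm_pairVec [DecidableEq ι] (x : evenSub ι) (a c : ι) :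
    evenForm ι x (pairVec ι a c) = x.1 a + x.1 c := by
  rw [evenForm_apply]
  simp only [pairVec_apply, mul_add, mul_ite, mul_one, mul_zero]
  rw [Finset.sum_add_distrib, Finset.sum_ite_eq', Finset.sum_ite_eq']
  simp

/-- The all-ones vector (for `ι` of even cardinality). -/
noncomputable def onesVec (h : Even (Fintype.card ι)) : evenSub ι :=
  ⟨fun _ => 1, by
    rw [mem_evenSub, Finset.sum_const, Finset.card_univ, nsmul_eq_mul, mul_one]
    exact (ZMod.natCast_eq_zero_iff _ _).mpr h.two_dvd⟩

theorem onesVec_apply (h : Even (Fintype.card ι)) (i : ι) : (onesVec ι h).1 i = 1 := rfl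

theorem evenForm_onesVec [DecidableEq ι] (h : Even (Fintype.card ι)) (y : evenSub ι) :
    evenForm ι (onesVec ι h) y = 0 := by
  rw [evenForm_apply]
  simp only [onesVec_apply, one_mul]
  exact (mem_evenSub ι y.1).mp y.2

theorem evenForm_radical [DecidableEq ι] (h : Even (Fintype.card ι)) (x : evenSub ι)
    (hx : ∀ y, evenForm ι x y = 0) : x = 0 ∨ x = onesVec ι h := by
  have hc : ∀ a c, x.1 a = x.1 c := by
    intro a c
    have h1 := hx (pairVec ι a c)
    rw [evenForm_pairVec] at h1
    exact CharTwo.add_eq_zero.mp h1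
  have hcases : ∀ t : ZMod 2, t = 0 ∨ t = 1 := by decide
  by_cases hne : Nonempty ι
  · obtain ⟨a0⟩ := hne
    rcases hcases (x.1 a0) with h0 | h1
    · left
      apply Subtype.ext
      funext i
      rw [hc i a0, h0]
      rfl
    · right
      apply Subtype.ext
      funext i
      rw [hc i a0, h1]
      rfl
  · left
    apply Subtype.ext
    funext i
    exact (hne ⟨i⟩).elim

theorem finrank_evenSub [DecidableEq ι] [Nonempty ι] :
    finrank (ZMod 2) (evenSub ι) + 1 = Fintype.card ι := by
  obtain ⟨a0⟩ := ‹Nonempty ι›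
  have hsurj : Function.Surjective (sumL ι) := by
    intro t
    refine ⟨Pi.single a0 t, ?_⟩
    rw [sumL_apply, Finset.sum_pi_single']
    simp
  have hrange : LinearMap.range (sumL ι) = ⊤ := LinearMap.range_eq_top.mpr hsurj
  have h := LinearMap.finrank_range_add_finrank_ker (sumL ι)
  rw [hrange, finrank_top, Module.finrank_self, Module.finrank_fintype_fun_eq_card] at h
  rw [evenSub]
  omega

theorem onesVec_ne_zero [Nonempty ι] (h : Even (Fintype.card ι)) : onesVec ι h ≠ 0 := by
  obtain ⟨a0⟩ := ‹Nonempty ι›
  intro h0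
  have h1 : (onesVec ι h).1 a0 = (0 : evenSub ι).1 a0 := by rw [h0]
  rw [onesVec_apply] at h1
  exact one_ne_zero h1

theorem permRep_onesVec (h : Even (Fintype.card ι)) (σ : Equiv.Perm ι) :
    permRep ι σ (onesVec ι h) = onesVec ι h := by
  apply Subtype.ext
  funext i
  rfl

/-- A permutation acting trivially on the even-weight subspace modulo the all-ones vector is
trivial, provided there are at least five points. -/
theorem permRep_faithful [DecidableEq ι] (h : Even (Fintype.card ι)) (h5 : 5 ≤ Fintype.card ι)
    (σ : Equiv.Perm ι)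
    (hσ : ∀ x, permRep ι σ x = x ∨ permRep ι σ x = x + onesVec ι h) : σ = 1 := by
  by_contra hne
  obtain ⟨a0, ha0⟩ : ∃ a, σ a ≠ a := by
    by_contra hall
    push Not at hall
    exact hne (Equiv.ext hall)
  -- a' = σ a0, σ.symm a' = a0 ≠ a'
  obtain ⟨c, -, hc⟩ : ∃ c ∈ (Finset.univ : Finset ι), c ∉ ({σ a0, a0} : Finset ι) := by
    apply Finset.exists_mem_notMem_of_card_lt_card
    have h2 : ({σ a0, a0} : Finset ι).card ≤ 2 := Finset.card_le_two
    rw [Finset.card_univ]
    omega
  rw [Finset.mem_insert, Finset.mem_singleton, not_or] at hc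
  obtain ⟨hc1, hc2⟩ := hc
  rcases hσ (pairVec ι (σ a0) c) with h1 | h1
  · have h2 := congrArg (fun y : evenSub ι => y.1 (σ a0)) h1
    simp only [permRep_apply, pairVec_apply, Equiv.symm_apply_apply] at h2
    rw [if_neg (fun h => ha0 h.symm), if_neg (fun h => hc2 h.symm), if_pos trivial,
      if_neg (fun h => hc1 h.symm)] at h2
    revert h2
    decide
  · have hval : ∀ t : ZMod 2, (t + 1).val + t.val = 1 := by decide
    have hx : ∀ i, ((pairVec ι (σ a0) c).1 i).val
        = (if i = σ a0 then 1 else 0) + (if i = c then 1 else 0) := by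
      intro i
      rw [pairVec_apply]
      by_cases hi1 : i = σ a0
      · have hi2 : i ≠ c := fun h => hc1 (h ▸ hi1)
        rw [if_pos hi1, if_neg hi2, if_pos hi1, if_neg hi2]
        decide
      · by_cases hi2 : i = c
        · rw [if_neg hi1, if_pos hi2, if_neg hi1, if_pos hi2]
          decide
        · rw [if_neg hi1, if_neg hi2, if_neg hi1, if_neg hi2]
          decide
    have hsum : ∑ i, ((pairVec ι (σ a0) c).1 i).val = 2 := by
      simp only [hx]
      rw [Finset.sum_add_distrib, Finset.sum_ite_eq', Finset.sum_ite_eq']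
      simp
    have hsum' : ∑ i, ((pairVec ι (σ a0) c).1 (σ.symm i)).val = 2 := by
      rw [Equiv.sum_comp σ.symm (fun i => ((pairVec ι (σ a0) c).1 i).val)]
      exact hsum
    have hpt : ∀ i, ((pairVec ι (σ a0) c).1 (σ.symm i)).val + ((pairVec ι (σ a0) c).1 i).val = 1 := by
      intro i
      have h2 := congrArg (fun y : evenSub ι => y.1 i) h1
      simp only [permRep_apply] at h2
      rw [h2]
      exact hval _
    have htot : ∑ i : ι, (((pairVec ι (σ a0) c).1 (σ.symm i)).val + ((pairVec ι (σ a0) c).1 i).val)
        = Fintype.card ι := by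
      simp only [hpt]
      simp
    rw [Finset.sum_add_distrib, hsum, hsum'] at htot
    omega

end EvenWeight

end Cfsg.Agent.Helper14
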