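import Cfsg.Agent.Helper19.FH.Defs
import Cfsg.Agent.Helper6.Cox1

/-!
# Feit–Higman (S1142), piece (A4): dihedral combinatorics

A finite group with `ExchData f`, `f : ι → W`, `ι = {i, j}`, `f i ≠ f j` is dihedral of order
`2 n`, `n = orderOf (f i * f j)`; alternating words of length `≤ n` are reduced and the two of
length `n` agree.
-/

set_option autoImplicit false

namespace Cfsg.Agent.Helper14.FH

open Cfsg.Agent.Helper19.FH Cfsg.Agent.Helper6

section Dihedral

variable {W : Type*} [Group W] {a b : W}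

theorem inv_eq_self_of_mul_self (ha : a * a = 1) : a⁻¹ = a :=
  inv_eq_of_mul_eq_one_left ha

theorem alt_add_two (a b : W) (k : ℕ) : alt a b (k + 2) = a * b * alt a b k := by
  rw [alt_succ, alt_succ, mul_assoc]

theorem mul_inv_eq_swap (ha : a * a = 1) (hb : b * b = 1) : b * a = (a * b)⁻¹ := by
  rw [_root_.mul_inv_rev, inv_eq_self_of_mul_self ha, inv_eq_self_of_mul_self hb]

/-- closed formula for the alternating word starting with `a` -/
theorem alt_ab (a b : W) (k : ℕ) :
    alt a b k = (a * b) ^ ((k / 2 : ℕ) : ℤ) * a ^ (k % 2) := by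
  induction k using Nat.twoStepInduction with
  | zero => simp
  | one => simp [alt_succ]
  | more k ih _ =>
    rw [alt_add_two, ih]
    have h1 : (k + 2) / 2 = k / 2 + 1 := by omega
    have h2 : (k + 2) % 2 = k % 2 := by omega
    rw [h1, h2, Nat.cast_add, Nat.cast_one, add_comm, zpow_one_add]
    simp only [mul_assoc]

/-- closed formula for the alternating word starting with `b`, in terms of `a * b` and `a` -/
theorem alt_ba (ha : a * a = 1) (hb : b * b = 1) (k : ℕ) :
    alt b a k = (a * b) ^ (-(((k + 1) / 2 : ℕ) : ℤ)) * a ^ (k % 2) := by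
  induction k using Nat.twoStepInduction with
  | zero => simp
  | one =>
    simp only [alt_succ, alt_zero, mul_one]
    norm_num
    rw [inv_eq_self_of_mul_self hb]
  | more k ih _ =>
    rw [alt_add_two, ih, mul_inv_eq_swap ha hb]
    have h1 : (k + 2 + 1) / 2 = (k + 1) / 2 + 1 := by omega
    have h2 : (k + 2) % 2 = k % 2 := by omega
    rw [h1, h2, ← mul_assoc, ← zpow_neg_one, ← zpow_add]
    congr 2
    push_cast
    ring

theorem not_mem_zpowers (ha : a * a = 1) (hb : b * b = 1) (ha1 : a ≠ 1) (hb1 : b ≠ 1) :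
    a ∉ Subgroup.zpowers (a * b) := by
  intro hmem
  obtain ⟨e, he⟩ := Subgroup.mem_zpowers_iff.1 hmem
  have hcomm : Commute a (a * b) := by
    have hc : Commute ((a * b) ^ e) (a * b) := (Commute.refl (a * b)).zpow_left e
    rwa [he] at hc
  have h1 : a * (a * b) * a = (a * b)⁻¹ := by
    rw [← mul_inv_eq_swap ha hb, ← mul_assoc, ha, one_mul]
  have h2 : a * (a * b) * a = a * b := by
    rw [hcomm.eq, mul_assoc, ha, mul_one]
  have hinv : (a * b)⁻¹ = a * b := h1.symm.trans h2
  have hc2 : (a * b) * (a * b) = 1 := by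
    calc (a * b) * (a * b) = (a * b)⁻¹ * (a * b) := by rw [hinv]
      _ = 1 := inv_mul_cancel _
  have h01 : (a * b) ^ e = 1 ∨ (a * b) ^ e = a * b := by
    rcases Int.emod_two_eq_zero_or_one e with h | h
    · left
      have h' : e = 2 * (e / 2) := by omega
      rw [h', _root_.zpow_mul, zpow_two, hc2, one_zpow]
    · right
      have h' : e = 2 * (e / 2) + 1 := by omega
      rw [h', zpow_add_one, _root_.zpow_mul, zpow_two, hc2, one_zpow, one_mul]
  rcases h01 with h | h
  · exact ha1 (he ▸ h)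
  · rw [he] at h
    exact hb1 (by simpa using h.symm)

theorem zpow_mul_pow_cancel {c a : W} (hnm : a ∉ Subgroup.zpowers c) (e e' : ℤ) (ε ε' : ℕ)
    (hε : ε < 2) (hε' : ε' < 2) (h : c ^ e * a ^ ε = c ^ e' * a ^ ε') :
    ε = ε' ∧ (orderOf c : ℤ) ∣ e - e' := by
  have hdvd : c ^ e = c ^ e' → (orderOf c : ℤ) ∣ e - e' := by
    intro h'
    have := (zpow_eq_zpow_iff_modEq.1 h').symm
    exact (Int.modEq_iff_dvd.1 this)
  interval_cases ε <;> interval_cases ε'
  · simp only [pow_zero, mul_one] at h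
    exact ⟨rfl, hdvd h⟩
  · exfalso
    apply hnm
    simp only [pow_zero, mul_one, pow_one] at h
    have : a = c ^ (-e' + e) := by
      rw [zpow_add, h, ← mul_assoc, ← zpow_add]
      simp
    rw [this]
    exact Subgroup.zpow_mem_zpowers c _
  · exfalso
    apply hnm
    simp only [pow_zero, mul_one, pow_one] at h
    have : a = c ^ (-e + e') := by
      rw [zpow_add, ← h, ← mul_assoc, ← zpow_add]
      simp
    rw [this]
    exact Subgroup.zpow_mem_zpowers c _
  · exact ⟨rfl, hdvd (mul_right_cancel h)⟩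

theorem alt_ne_of_lt (ha : a * a = 1) (hb : b * b = 1) (ha1 : a ≠ 1) (hb1 : b ≠ 1)
    {k k' : ℕ} (hk : k ≤ orderOf (a * b)) (hk' : k' < k) :
    alt a b k ≠ alt a b k' ∧ alt a b k ≠ alt b a k' := by
  have hnm := not_mem_zpowers ha hb ha1 hb1
  have hm2 : k % 2 < 2 := Nat.mod_lt _ (by norm_num)
  have hm2' : k' % 2 < 2 := Nat.mod_lt _ (by norm_num)
  constructor
  · intro h
    rw [alt_ab a b k, alt_ab a b k'] at h
    obtain ⟨h1, h2⟩ := zpow_mul_pow_cancel hnm _ _ _ _ hm2 hm2' h
    have h0 := Int.eq_zero_of_abs_lt_dvd h2 (abs_lt.2 ⟨by omega, by omega⟩)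
    omega
  · intro h
    rw [alt_ab a b k, alt_ba ha hb k'] at h
    obtain ⟨h1, h2⟩ := zpow_mul_pow_cancel hnm _ _ _ _ hm2 hm2' h
    have h0 := Int.eq_zero_of_abs_lt_dvd h2 (abs_lt.2 ⟨by omega, by omega⟩)
    omega

end Dihedral

section Exch

variable {W ι : Type*} [Group W] {f : ι → W}

theorem wl_alt_le (hE : ExchData f) (x y : ι) (k : ℕ) : wl f (alt (f x) (f y) k) ≤ k := by
  induction k generalizing x y with
  | zero => rw [alt_zero, wl_one]
  | succ k ih =>
    rw [alt_succ]
    exact (wl_mul_le hE.gen x _).trans (Nat.succ_le_succ (ih y x))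

theorem red_alt (hE : ExchData f) (i j : ι) (hij : ∀ k, k = i ∨ k = j) :
    ∀ l : List ι, Red f l →
      wp f l = alt (f i) (f j) l.length ∨ wp f l = alt (f j) (f i) l.length := by
  intro l
  induction l with
  | nil =>
    intro _
    left
    simp
  | cons x l ih =>
    intro hr
    have hr' := hr.tail hE
    have key : ∀ p q : ι, x = p →
        (wp f l = alt (f q) (f p) l.length ∨ wp f l = alt (f p) (f q) l.length) →
        wp f (x :: l) = alt (f p) (f q) (l.length + 1) := by
      intro p q hx h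
      rcases h with h | h
      · rw [wp_cons, alt_succ, hx, h]
      · rcases Nat.eq_zero_or_pos l.length with h0 | h0
        · rw [wp_cons, alt_succ, hx, h, h0]
          simp
        · exfalso
          obtain ⟨m, hm⟩ := Nat.exists_eq_succ_of_ne_zero h0.ne'
          have h' : wp f (x :: l) = alt (f q) (f p) m := by
            rw [wp_cons, hx, h, hm, alt_succ, ← mul_assoc, hE.inv, one_mul]
          have hle := wl_alt_le hE q p m
          unfold Red at hr
          rw [h'] at hr
          simp only [List.length_cons] at hr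
          omega
    rcases hij x with hx | hx
    · left
      exact key i j hx (ih hr').symm
    · right
      exact key j i hx (ih hr')

theorem eq_alt (hE : ExchData f) (i j : ι) (hij : ∀ k, k = i ∨ k = j) (w : W) :
    w = alt (f i) (f j) (wl f w) ∨ w = alt (f j) (f i) (wl f w) := by
  obtain ⟨l, hl, hlen⟩ := exists_red hE.gen w
  have hr : Red f l := by
    unfold Red
    rw [hl, hlen]
  have h := red_alt hE i j hij l hr
  rw [hl, hlen] at h
  rcases h with h | h
  · exact Or.inl h
  · exact Or.inr h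

theorem ne_one_of_exch (hE : ExchData f) (i : ι) : f i ≠ 1 :=
  fun h => hE.ne i 1 (by rw [h, one_mul])

theorem wl_alt_eq (hE : ExchData f) (i j : ι) (hij : ∀ k, k = i ∨ k = j)
    {k : ℕ} (hk : k ≤ orderOf (f i * f j)) : wl f (alt (f i) (f j) k) = k := by
  have hle := wl_alt_le hE i j k
  by_contra hne'
  have hlt : wl f (alt (f i) (f j) k) < k := lt_of_le_of_ne hle hne'
  obtain ⟨h1, h2⟩ := alt_ne_of_lt (hE.inv i) (hE.inv j) (ne_one_of_exch hE i)
    (ne_one_of_exch hE j) hk hlt
  rcases eq_alt hE i j hij (alt (f i) (f j) k) with h | h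
  · exact h1 h
  · exact h2 h

/-- **(A4)** dihedral combinatorics. -/
theorem dihedral_pkg {W ι : Type*} [Group W] [Finite W] (f : ι → W) (hE : ExchData f)
    (i j : ι) (hij : ∀ k, k = i ∨ k = j) (hne : f i ≠ f j) :
    ∃ n : ℕ, 2 ≤ n ∧ Nat.card W = 2 * n ∧ alt (f i) (f j) n = alt (f j) (f i) n ∧
      ∀ k ≤ n, wl f (alt (f i) (f j) k) = k ∧ wl f (alt (f j) (f i) k) = k := by
  have hs : f i * f i = 1 := hE.inv i
  have ht : f j * f j = 1 := hE.inv j
  have hs1 : f i ≠ 1 := ne_one_of_exch hE i
  have ht1 : f j ≠ 1 := ne_one_of_exch hE j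
  refine ⟨orderOf (f i * f j), ?_, ?_, ?_, ?_⟩
  · have h0 : 0 < orderOf (f i * f j) := orderOf_pos _
    have h1 : orderOf (f i * f j) ≠ 1 := by
      intro h
      rw [orderOf_eq_one_iff, mul_eq_one_iff_eq_inv, inv_eq_self_of_mul_self ht] at h
      exact hne h
    omega
  · have hnm := not_mem_zpowers hs ht hs1 ht1
    have hidx : (Subgroup.zpowers (f i * f j)).index = 2 := by
      rw [Subgroup.index_eq_two_iff]
      refine ⟨f i, fun w => ?_⟩
      have hw : ∃ (e : ℤ) (ε : ℕ), ε < 2 ∧ w = (f i * f j) ^ e * (f i) ^ ε := by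
        rcases eq_alt hE i j hij w with h | h
        · exact ⟨_, _, Nat.mod_lt _ (by norm_num), h.trans (alt_ab _ _ _)⟩
        · exact ⟨_, _, Nat.mod_lt _ (by norm_num), h.trans (alt_ba hs ht _)⟩
      obtain ⟨e, ε, hε, rfl⟩ := hw
      interval_cases ε
      · simp only [pow_zero, mul_one]
        exact Or.inr ⟨Subgroup.zpow_mem_zpowers _ _, fun h =>
          hnm ((Subgroup.mul_mem_cancel_left _ (Subgroup.zpow_mem_zpowers _ _)).1 h)⟩
      · simp only [pow_one]
        refine Or.inl ⟨?_, fun h =>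
          hnm ((Subgroup.mul_mem_cancel_left _ (Subgroup.zpow_mem_zpowers _ _)).1 h)⟩
        rw [mul_assoc, hs, mul_one]
        exact Subgroup.zpow_mem_zpowers _ _
    have hc := Subgroup.card_mul_index (Subgroup.zpowers (f i * f j))
    rw [hidx, Nat.card_zpowers] at hc
    omega
  · rw [alt_ab, alt_ba hs ht]
    congr 1
    rw [zpow_eq_zpow_iff_modEq]
    apply Int.modEq_iff_dvd.2
    exact ⟨-1, by omega⟩
  · intro k hk
    refine ⟨wl_alt_eq hE i j hij hk, wl_alt_eq hE j i (fun k => (hij k).symm) ?_⟩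
    rw [mul_inv_eq_swap hs ht, orderOf_inv]
    exact hk

end Exch

end Cfsg.Agent.Helper14.FH
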