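import Mathlib

/-!
# Trigonometric sums over a full period (for Feit–Higman (NM))

`∑_{k<n} cos (k θ + φ) = 0 = ∑_{k<n} sin (k θ + φ)` when `e^{iθ} ≠ 1` is an `n`-th root of unity;
instance `θ = 2 * (2π j / n)` with `0 < 2 j < n`.
-/

set_option autoImplicit false

namespace Cfsg.Agent.Helper14.FHTrig


theorem sum_exp_eq_zero_aux (n : ℕ) (θ φ : ℝ) (h1 : Complex.exp (θ * Complex.I) ≠ 1)
    (hn : Complex.exp (θ * Complex.I) ^ n = 1) :
    ∑ k ∈ Finset.range n, Complex.exp (((k : ℝ) * θ + φ : ℝ) * Complex.I) = 0 := by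
  have h : ∀ k : ℕ, Complex.exp (((k : ℝ) * θ + φ : ℝ) * Complex.I) =
      Complex.exp (φ * Complex.I) * Complex.exp (θ * Complex.I) ^ k := by
    intro k
    rw [← Complex.exp_nat_mul, ← Complex.exp_add]
    congr 1
    push_cast
    ring
  simp_rw [h]
  rw [← Finset.mul_sum, geom_sum_eq h1, hn, sub_self, zero_div, mul_zero]

theorem sum_cos_sin_eq_zero (n : ℕ) (θ φ : ℝ) (h1 : Complex.exp (θ * Complex.I) ≠ 1)
    (hn : Complex.exp (θ * Complex.I) ^ n = 1) :
    ∑ k ∈ Finset.range n, Real.cos ((k : ℝ) * θ + φ) = 0 ∧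
    ∑ k ∈ Finset.range n, Real.sin ((k : ℝ) * θ + φ) = 0 := by
  have h := sum_exp_eq_zero_aux n θ φ h1 hn
  constructor
  · have := congrArg Complex.re h
    rw [Complex.re_sum] at this
    simp only [Complex.exp_ofReal_mul_I_re, Complex.zero_re] at this
    exact this
  · have := congrArg Complex.im h
    rw [Complex.im_sum] at this
    simp only [Complex.exp_ofReal_mul_I_im, Complex.zero_im] at this
    exact this

/-- the instance used for Feit–Higman: `θ = 2 * (2π j / n)`, `0 < 2 j < n`. -/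
theorem sum_cos_sin_two_mul (n j : ℕ) (hj : 0 < j) (hjn : 2 * j < n) (φ : ℝ) :
    ∑ k ∈ Finset.range n, Real.cos ((k : ℝ) * (2 * (2 * Real.pi * (j : ℝ) / (n : ℝ))) + φ) = 0 ∧
    ∑ k ∈ Finset.range n, Real.sin ((k : ℝ) * (2 * (2 * Real.pi * (j : ℝ) / (n : ℝ))) + φ) = 0 := by
  have hn0 : (n : ℝ) ≠ 0 := by
    have : 0 < n := by omega
    exact_mod_cast this.ne'
  apply sum_cos_sin_eq_zero
  · intro h
    rw [Complex.exp_eq_one_iff] at h
    obtain ⟨m, hm⟩ := h
    have h2 : (2 * (2 * Real.pi * (j : ℝ) / (n : ℝ)) : ℝ) = (m : ℝ) * (2 * Real.pi) := by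
      have h3 : ((2 * (2 * Real.pi * (j : ℝ) / (n : ℝ)) : ℝ) : ℂ) * Complex.I
          = ((m : ℝ) * (2 * Real.pi) : ℝ) * Complex.I := by
        rw [hm]; push_cast; ring
      exact_mod_cast mul_right_cancel₀ Complex.I_ne_zero h3
    have hpi := Real.pi_pos
    have h4 : (2 * (j : ℝ)) = (m : ℝ) * n := by
      field_simp at h2
      nlinarith [h2]
    have h5 : (2 * (j : ℤ)) = m * n := by exact_mod_cast h4
    have hm1 : 0 < m := by
      by_contra hneg
      rw [not_lt] at hneg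
      have : m * (n : ℤ) ≤ 0 := mul_nonpos_of_nonpos_of_nonneg hneg (by positivity)
      omega
    have : (n : ℤ) ≤ m * n := by nlinarith
    omega
  · rw [← Complex.exp_nat_mul, Complex.exp_eq_one_iff]
    refine ⟨2 * j, ?_⟩
    have hn0' : (n : ℂ) ≠ 0 := by exact_mod_cast hn0
    push_cast
    field_simp

end Cfsg.Agent.Helper14.FHTrig
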