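import Cfsg.Agent.Helper91.FTC.Fi24.Pres

/-!
Helper14 for helper91, FastTC farm 2 (S1690, #15288), piece (GGEN): the generators generate.
-/

set_option autoImplicit false

namespace Cfsg.Agent.Helper14.FTC

open Cfsg.Agent.Helper91.FTC Cfsg.Agent.Helper91.FTC.Fi24 Cfsg.Spor

/-- the number of a generator (inverse of `gen`) -/
def GGEN_num : Fi24.Gen → ℕ
  | .l => 0 | .k => 1 | .a => 2 | .b => 3 | .c => 4 | .d => 5
  | .e => 6 | .f => 7 | .g => 8 | .j => 9 | .h => 10 | .i => 11

theorem GGEN_num_lt (x : Fi24.Gen) : GGEN_num x < 12 := by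
  cases x <;> decide

theorem GGEN_gen_num (x : Fi24.Gen) : gen (GGEN_num x) = x := by
  cases x <;> rfl

/-- (GGEN) the generators generate. -/
theorem closure_γ : Subgroup.closure {x | ∃ y, y < 12 ∧ x = γ y} = ⊤ := by
  rw [eq_top_iff, ← PresentedGroup.closure_range_of rels]
  apply Subgroup.closure_mono
  rintro _ ⟨z, rfl⟩
  refine ⟨GGEN_num z, GGEN_num_lt z, ?_⟩
  show PresentedGroup.of z = PresentedGroup.mk rels (FreeGroup.of (gen (GGEN_num z)))
  rw [GGEN_gen_num]
  rfl

end Cfsg.Agent.Helper14.FTC
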