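import Cfsg.Agent.Helper91.FTC.Fi24.Pres

/-!
Helper14 for helper91, FastTC farm 2 (S1690, #15288), piece (GINV): the generators are involutions.
-/

set_option autoImplicit false

namespace Cfsg.Agent.Helper14.FTC

open Cfsg.Agent.Helper91.FTC Cfsg.Agent.Helper91.FTC.Fi24 Cfsg.Spor

theorem GINV_node (x : Fi24.Gen) : x ∈ coxNodes Fi24.edges := by
  cases x <;> decide

theorem GINV_label (x : Fi24.Gen) : coxLabel Fi24.edges x x = 1 := by
  unfold coxLabel
  rw [if_pos rfl]

/-- (GINV) the generators are involutions. -/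
theorem γ_inv : ∀ y, y < 12 → γ y * γ y = 1 := by
  intro y _
  have hmem : (FreeGroup.of (gen y) * FreeGroup.of (gen y)) ^ coxLabel Fi24.edges (gen y) (gen y)
      ∈ rels :=
    Or.inl ⟨gen y, GINV_node _, gen y, GINV_node _, rfl⟩
  have h := PresentedGroup.one_of_mem hmem
  rw [GINV_label, pow_one, map_mul] at h
  exact h

end Cfsg.Agent.Helper14.FTC
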