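import Cfsg.Agent.Helper91.FTC.Fi24.Pres

/-!
Helper14 for helper91, FastTC farm 2 (S1690, #15288), piece (GMEM): the generators other than `k`
lie in `H`.
-/

set_option autoImplicit false

namespace Cfsg.Agent.Helper14.FTC

open Cfsg.Agent.Helper91.FTC Cfsg.Agent.Helper91.FTC.Fi24 Cfsg.Spor

/-- (GMEM) the generators other than `k` lie in `H`. -/
theorem γ_mem_H : ∀ y, y < 12 → y ≠ 1 → γ y ∈ H := by
  intro y hy hy1
  refine Subgroup.mem_map_of_mem _ (Subgroup.subset_closure ?_)
  interval_cases y
  · simp [gen]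
  · exact absurd rfl hy1
  all_goals simp [gen]

end Cfsg.Agent.Helper14.FTC
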