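import Cfsg.Agent.Helper91.FTC.Sound
import Cfsg.Agent.Helper28.CosetBase
import Cfsg.Agent.Helper65.FTC_TRANS

/-!
Helper14 for helper91, FastTC farm 2 (S1690, #15288), piece (MAIN): the index theorem.
-/

set_option autoImplicit false

namespace Cfsg.Agent.Helper14.FTC

open Cfsg.Agent.Helper91.FTC

/-- what a successful involution check says -/
theorem MAIN_chkInv (P : PTab) (y p : ℕ) (h : chkInv P y p = true) :
    P.t y p < P.n ∧ P.t y (P.t y p) = p := by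
  have h0 : chkInv P y p =
      frc (P.t y p) fun q => sel (Nat.blt q P.n) (Nat.beq (P.t y q) p) false := rfl
  rw [h0, frc_eq] at h
  cases h1 : Nat.blt (P.t y p) P.n with
  | false =>
    rw [h1] at h
    exact absurd h (by simp)
  | true =>
    rw [h1] at h
    have h2 : Nat.beq (P.t y (P.t y p)) p = true := h
    rw [Nat.blt_eq] at h1
    exact ⟨h1, Nat.eq_of_beq_eq_true h2⟩

/-- (MAIN) the index theorem: a checked certificate (upper bound) and a permutation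
representation on the final table (lower bound) give the exact index. -/
theorem index_of_cert {Γ : Type*} [Group Γ] (T : Tabs) (P : PTab) (γ : ℕ → Γ) (H : Subgroup Γ)
    (hy : Hyp T γ H) (hn : P.n = T.n) (hg : P.g = T.g) (hpos : 0 < P.n)
    (hgen : Subgroup.closure {x | ∃ y, y < T.g ∧ x = γ y} = ⊤)
    (hfin : ∀ y, y < T.g → ∀ p, p < T.n → fin T y p = P.t y p)
    (hinv : ∀ y, y < P.g → ∀ p, p < P.n → chkInv P y p = true)
    (pl : ℕ → ℕ) (hpar : ∀ p, 0 < p → p < P.n → chkPar P pl p = true)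
    (ρ : Γ →* Equiv.Perm (Fin P.n))
    (hρ : ∀ y, y < P.g → ∀ p : Fin P.n, ((ρ (γ y) p : Fin P.n) : ℕ) = P.t y p)
    (hfix : ∀ h ∈ H, ρ h ⟨0, hpos⟩ = ⟨0, hpos⟩) :
    H.index = P.n := by
  have hinvγ : ∀ y, y < T.g → (γ y)⁻¹ = γ y := fun y hy' =>
    inv_eq_of_mul_eq_one_left (hy.hinv y hy')
  -- one step of the table
  have hone : ∀ i : Fin P.n, ∀ y, y < T.g →
      ∃ j : Fin P.n, rep T γ (i : ℕ) * γ y * (rep T γ (j : ℕ))⁻¹ ∈ H := by
    intro i y hy'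
    have hi : (i : ℕ) < T.n := hn ▸ i.2
    obtain ⟨-, hmem⟩ := fin_valid T γ H hy y i hy' hi
    rw [hfin y hy' i hi] at hmem
    obtain ⟨hlt, -⟩ := MAIN_chkInv P y i (hinv y (hg ▸ hy') i i.2)
    exact ⟨⟨P.t y i, hlt⟩, hmem⟩
  have hstep : ∀ i : Fin P.n, ∀ s ∈ {x | ∃ y, y < T.g ∧ x = γ y},
      (∃ j : Fin P.n, rep T γ (i : ℕ) * s * (rep T γ (j : ℕ))⁻¹ ∈ H) ∧
      (∃ j : Fin P.n, rep T γ (i : ℕ) * s⁻¹ * (rep T γ (j : ℕ))⁻¹ ∈ H) := by
    rintro i s ⟨y, hy', rfl⟩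
    rw [hinvγ y hy']
    exact ⟨hone i y hy', hone i y hy'⟩
  -- transitivity
  have hσ : ∀ y, y < P.g →
      (∀ p : Fin P.n, ((ρ (γ y) p : Fin P.n) : ℕ) = P.t y p) ∧ ρ (γ y) * ρ (γ y) = 1 := by
    intro y hy'
    refine ⟨hρ y hy', ?_⟩
    rw [← map_mul, hy.hinv y (hg ▸ hy'), map_one]
  have htrans : ∀ x : Fin P.n, ∃ z : Γ, ρ z ⟨0, hpos⟩ = x := by
    intro x
    obtain ⟨w, -, hw⟩ :=
      Cfsg.Agent.Helper65.FTC.exists_word_of_par P (fun y => ρ (γ y)) hσ pl hpar hpos x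
    refine ⟨(w.map γ).prod, ?_⟩
    rw [map_list_prod, List.map_map]
    exact hw
  have h0 : rep T γ ((⟨0, hpos⟩ : Fin P.n) : ℕ) ∈ H := by
    show rep T γ 0 ∈ H
    rw [rep_zero]
    exact H.one_mem
  exact (Cfsg.Agent.Helper28.index_eq_of_table_of_action H _ hgen P.n
    (fun i : Fin P.n => rep T γ (i : ℕ)) ⟨0, hpos⟩ h0 hstep ρ ⟨0, hpos⟩ hfix htrans).1

end Cfsg.Agent.Helper14.FTC
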