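import Cfsg.Agent.Helper91.FTC.Spec
import Cfsg.Agent.Helper53.FTC_TRACE
import Cfsg.Agent.Helper53.FTC_ITER

/-!
Helper14 for helper91, FastTC farm 2 (S1690, #15288), piece (PERM): relations `x = w^k`, `w^k = 1`
read off the table via an auxiliary table `f` of the word `w`.
-/

set_option autoImplicit false

namespace Cfsg.Agent.Helper14.FTC

open Cfsg.Agent.Helper91.FTC

/-- the auxiliary table of the word `w` agrees with the product permutation -/
theorem PERM_aux (P : PTab) (σ : ℕ → Equiv.Perm (Fin P.n))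
    (hσ : ∀ y, y < P.g → ∀ p : Fin P.n, ((σ y p : Fin P.n) : ℕ) = P.t y p)
    (w : List ℕ) (hw : ∀ z ∈ w, z < P.g) (f : ℕ → ℕ)
    (hf : ∀ p, p < P.n → f p = trace P w p) (k : ℕ) (p : Fin P.n) :
    iter f k p = (((((w.map σ).reverse.prod) ^ k) p : Fin P.n) : ℕ) := by
  apply Cfsg.Agent.Helper53.FTC.iter_eq_pow f ((w.map σ).reverse.prod)
  intro q
  rw [hf q q.2]
  exact Cfsg.Agent.Helper53.FTC.trace_eq P σ hσ w hw q

/-- (PERM) a relation `x = w^k` read off the table. -/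
theorem perm_eq_pow_of_iter (P : PTab) (σ : ℕ → Equiv.Perm (Fin P.n))
    (hσ : ∀ y, y < P.g → ∀ p : Fin P.n, ((σ y p : Fin P.n) : ℕ) = P.t y p)
    (w : List ℕ) (hw : ∀ z ∈ w, z < P.g) (f : ℕ → ℕ)
    (hf : ∀ p, p < P.n → f p = trace P w p)
    (x : ℕ) (hx : x < P.g) (k : ℕ) (h : ∀ p, p < P.n → P.t x p = iter f k p) :
    σ x = ((w.map σ).reverse.prod) ^ k := by
  apply Equiv.ext
  intro p
  apply Fin.ext
  rw [hσ x hx p, h p p.2, PERM_aux P σ hσ w hw f hf k p]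

/-- (PERM) a relation `w^k = 1` read off the table. -/
theorem perm_pow_eq_one_of_iter (P : PTab) (σ : ℕ → Equiv.Perm (Fin P.n))
    (hσ : ∀ y, y < P.g → ∀ p : Fin P.n, ((σ y p : Fin P.n) : ℕ) = P.t y p)
    (w : List ℕ) (hw : ∀ z ∈ w, z < P.g) (f : ℕ → ℕ)
    (hf : ∀ p, p < P.n → f p = trace P w p)
    (k : ℕ) (h : ∀ p, p < P.n → iter f k p = p) :
    ((w.map σ).reverse.prod) ^ k = 1 := by
  apply Equiv.ext
  intro p
  apply Fin.ext
  rw [← PERM_aux P σ hσ w hw f hf k p, h p p.2]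
  rfl

end Cfsg.Agent.Helper14.FTC
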