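import Cfsg.Agent.Helper91.FTC.Fi24.Pres

/-!
Helper14 for helper91, FastTC farm 2 (S1690, #15288), piece (RHO): involutory permutations satisfying
the relations of the presentation of Fi₂₄ give a permutation representation.
-/

set_option autoImplicit false

namespace Cfsg.Agent.Helper14.FTC

open Cfsg.Agent.Helper91.FTC Cfsg.Agent.Helper91.FTC.Fi24 Cfsg.Spor

/-- the number of a generator (inverse of `gen`) -/
def RHO_num : Fi24.Gen → ℕ
  | .l => 0 | .k => 1 | .a => 2 | .b => 3 | .c => 4 | .d => 5
  | .e => 6 | .f => 7 | .g => 8 | .j => 9 | .h => 10 | .i => 11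

theorem RHO_num_lt (x : Fi24.Gen) : RHO_num x < 12 := by
  cases x <;> decide

theorem RHO_num_gen (y : ℕ) (hy : y < 12) : RHO_num (gen y) = y := by
  interval_cases y <;> rfl

theorem RHO_num_inj (x y : Fi24.Gen) (h : RHO_num x = RHO_num y) : x = y := by
  cases x <;> cases y <;> first | rfl | exact absurd h (by decide)

/-- the Coxeter labels of `Y₅₄₂` in generator numbers -/
theorem RHO_label (x y : Fi24.Gen) :
    coxLabel Fi24.edges x y =
      if RHO_num x = RHO_num y then 1
      else if isEdge (min (RHO_num x) (RHO_num y)) (max (RHO_num x) (RHO_num y)) = true then 3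
      else 2 := by
  cases x <;> cases y <;> decide

theorem RHO_braid_pow {G : Type*} [Group G] (a b : G) (ha : a * a = 1) (hb : b * b = 1)
    (h : a * b * a = b * a * b) : (a * b) ^ 3 = 1 := by
  have e : (a * b) ^ 3 = (a * b * a) * (b * a * b) := by
    rw [pow_succ, pow_succ, pow_one]
    group
  rw [e, h]
  calc b * a * b * (b * a * b) = b * a * (b * b) * a * b := by group
    _ = b * (a * a) * b := by rw [hb]; group
    _ = 1 := by rw [ha, mul_one, hb]

theorem RHO_comm_pow {G : Type*} [Group G] (a b : G) (ha : a * a = 1) (hb : b * b = 1)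
    (h : a * b = b * a) : (a * b) ^ 2 = 1 := by
  calc (a * b) ^ 2 = a * (b * a) * b := by rw [pow_two]; group
    _ = a * (a * b) * b := by rw [h]
    _ = (a * a) * (b * b) := by group
    _ = 1 := by rw [ha, hb, mul_one]

/-- (RHO) involutory permutations satisfying the relations give a representation. -/
theorem exists_rho (n : ℕ) (σ : ℕ → Equiv.Perm (Fin n))
    (hinv : ∀ y, y < 12 → σ y * σ y = 1)
    (hcomm : ∀ x y, x < y → y < 12 → isEdge x y = false → σ x * σ y = σ y * σ x)
    (hbraid : ∀ x y, x < y → y < 12 → isEdge x y = true → σ x * σ y * σ x = σ y * σ x * σ y)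
    (h1 : σ 0 = (σ 2 * σ 3 * σ 4 * σ 5 * σ 6 * σ 7 * σ 10) ^ 9)
    (h2 : (σ 5 * σ 4 * σ 3 * σ 2 * σ 1 * σ 0 * σ 5 * σ 6 * σ 7 * σ 8 * σ 9 * σ 5 * σ 10 * σ 11) ^ 17
      = 1) :
    ∃ ρ : PresentedGroup rels →* Equiv.Perm (Fin n), ∀ y, y < 12 → ρ (γ y) = σ y := by
  let f : Fi24.Gen → Equiv.Perm (Fin n) := fun x => σ (RHO_num x)
  have hcox : ∀ x y : Fi24.Gen, (f x * f y) ^ coxLabel Fi24.edges x y = 1 := by
    intro x y
    have hx := RHO_num_lt x
    have hy := RHO_num_lt y
    rw [RHO_label]
    show (σ (RHO_num x) * σ (RHO_num y)) ^ _ = 1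
    by_cases heq : RHO_num x = RHO_num y
    · rw [if_pos heq, pow_one, heq]
      exact hinv _ hy
    · rw [if_neg heq]
      rcases lt_or_gt_of_ne heq with hlt | hgt
      · rw [min_eq_left hlt.le, max_eq_right hlt.le]
        by_cases hE : isEdge (RHO_num x) (RHO_num y) = true
        · rw [if_pos hE]
          exact RHO_braid_pow _ _ (hinv _ hx) (hinv _ hy) (hbraid _ _ hlt hy hE)
        · rw [if_neg hE]
          have hE' : isEdge (RHO_num x) (RHO_num y) = false := by simpa using hE
          exact RHO_comm_pow _ _ (hinv _ hx) (hinv _ hy) (hcomm _ _ hlt hy hE')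
      · rw [min_eq_right hgt.le, max_eq_left hgt.le]
        by_cases hE : isEdge (RHO_num y) (RHO_num x) = true
        · rw [if_pos hE]
          exact RHO_braid_pow _ _ (hinv _ hx) (hinv _ hy) (hbraid _ _ hgt hx hE).symm
        · rw [if_neg hE]
          have hE' : isEdge (RHO_num y) (RHO_num x) = false := by simpa using hE
          exact RHO_comm_pow _ _ (hinv _ hx) (hinv _ hy) (hcomm _ _ hgt hx hE').symm
  have hrels : ∀ r ∈ rels, FreeGroup.lift f r = 1 := by
    intro r hr
    rcases hr with hr | hr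
    · obtain ⟨x, -, y, -, rfl⟩ := hr
      rw [map_pow, map_mul, FreeGroup.lift_apply_of, FreeGroup.lift_apply_of]
      exact hcox x y
    · have hr' : r ∈ Fi24.extra := hr
      simp only [Fi24.extra, List.mem_cons, List.not_mem_nil, or_false] at hr'
      rcases hr' with rfl | rfl
      · simp only [map_mul, map_inv, map_pow, FreeGroup.lift_apply_of]
        show σ 0 * ((σ 2 * σ 3 * σ 4 * σ 5 * σ 6 * σ 7 * σ 10) ^ 9)⁻¹ = 1
        rw [← h1, mul_inv_cancel]
      · simp only [map_mul, map_pow, FreeGroup.lift_apply_of]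
        exact h2
  refine ⟨PresentedGroup.toGroup hrels, ?_⟩
  intro y hy
  have : γ y = PresentedGroup.of (gen y) := rfl
  rw [this, PresentedGroup.toGroup.of]
  show σ (RHO_num (gen y)) = σ y
  rw [RHO_num_gen y hy]

end Cfsg.Agent.Helper14.FTC
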