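import Mathlib

/-!
# GA-B2 for S4840 (helper14 -> helper81), part a: linear groups on a plane over `ZMod p`

Matrix representation in a basis, orbit-stabilizer count, and the shape of the matrices of
`p`-elements fixing a basis vector.
-/

set_option autoImplicit false
set_option linter.unusedSectionVars false
set_option linter.style.haveILetI false

namespace Cfsg.Agent.Helper14.GAB2

open Matrix

section mat

variable {p : ℕ} [Fact p.Prime] {V : Type*} [AddCommGroup V] [Module (ZMod p) V]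
  (B : Module.Basis (Fin 2) (ZMod p) V)

/-- the matrix of a linear automorphism in the basis `B` -/
noncomputable def matHom : (V ≃ₗ[ZMod p] V) →* GL (Fin 2) (ZMod p) :=
  (Units.map ((LinearMap.toMatrixAlgEquiv B : (V →ₗ[ZMod p] V) ≃ₐ[ZMod p]
    Matrix (Fin 2) (Fin 2) (ZMod p)) : (V →ₗ[ZMod p] V) →* Matrix (Fin 2) (Fin 2) (ZMod p))).comp
    (LinearMap.GeneralLinearGroup.generalLinearEquiv (ZMod p) V).symm.toMonoidHom

theorem matHom_apply (f : V ≃ₗ[ZMod p] V) (i j : Fin 2) :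
    ((matHom B f : GL (Fin 2) (ZMod p)) : Matrix (Fin 2) (Fin 2) (ZMod p)) i j
      = B.repr (f (B j)) i := by
  show LinearMap.toMatrixAlgEquiv B (f : V →ₗ[ZMod p] V) i j = _
  rw [LinearMap.toMatrixAlgEquiv_apply]
  rfl

theorem matHom_injective : Function.Injective (matHom B) := by
  intro f g h
  have h1 : LinearMap.toMatrixAlgEquiv B (f : V →ₗ[ZMod p] V)
      = LinearMap.toMatrixAlgEquiv B (g : V →ₗ[ZMod p] V) := congrArg Units.val h
  have h2 : (f : V →ₗ[ZMod p] V) = g := (LinearMap.toMatrixAlgEquiv B).injective h1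
  exact LinearEquiv.toLinearMap_injective h2

theorem det_eq_one_of_pow {M : GL (Fin 2) (ZMod p)} {k : ℕ} (h : M ^ (p ^ k) = 1) :
    (M : Matrix (Fin 2) (Fin 2) (ZMod p)).det = 1 := by
  have h1 := congrArg (fun N : GL (Fin 2) (ZMod p) => (N : Matrix (Fin 2) (Fin 2) (ZMod p)).det) h
  simp only [Units.val_pow_eq_pow_val, Matrix.det_pow, Units.val_one, Matrix.det_one] at h1
  rwa [ZMod.pow_card_pow] at h1

theorem mat_fix0 (f : V ≃ₗ[ZMod p] V) (hf : f (B 0) = B 0)
    (hdet : ((matHom B f : GL (Fin 2) (ZMod p)) : Matrix (Fin 2) (Fin 2) (ZMod p)).det = 1) :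
    ((matHom B f : GL (Fin 2) (ZMod p)) : Matrix (Fin 2) (Fin 2) (ZMod p))
      = !![1, ((matHom B f : GL (Fin 2) (ZMod p)) : Matrix (Fin 2) (Fin 2) (ZMod p)) 0 1; 0, 1] := by
  have h00 : ((matHom B f : GL (Fin 2) (ZMod p)) : Matrix (Fin 2) (Fin 2) (ZMod p)) 0 0 = 1 := by
    rw [matHom_apply, hf, Module.Basis.repr_self, Finsupp.single_eq_same]
  have h10 : ((matHom B f : GL (Fin 2) (ZMod p)) : Matrix (Fin 2) (Fin 2) (ZMod p)) 1 0 = 0 := by
    rw [matHom_apply, hf, Module.Basis.repr_self, Finsupp.single_eq_of_ne (by decide)]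
  have h11 : ((matHom B f : GL (Fin 2) (ZMod p)) : Matrix (Fin 2) (Fin 2) (ZMod p)) 1 1 = 1 := by
    rw [Matrix.det_fin_two, h00, h10, mul_zero, sub_zero, one_mul] at hdet
    exact hdet
  ext i j
  fin_cases i <;> fin_cases j
  · exact h00
  · rfl
  · exact h10
  · exact h11

theorem mat_fix1 (f : V ≃ₗ[ZMod p] V) (hf : f (B 1) = B 1)
    (hdet : ((matHom B f : GL (Fin 2) (ZMod p)) : Matrix (Fin 2) (Fin 2) (ZMod p)).det = 1) :
    ((matHom B f : GL (Fin 2) (ZMod p)) : Matrix (Fin 2) (Fin 2) (ZMod p))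
      = !![1, 0; ((matHom B f : GL (Fin 2) (ZMod p)) : Matrix (Fin 2) (Fin 2) (ZMod p)) 1 0, 1] := by
  have h11 : ((matHom B f : GL (Fin 2) (ZMod p)) : Matrix (Fin 2) (Fin 2) (ZMod p)) 1 1 = 1 := by
    rw [matHom_apply, hf, Module.Basis.repr_self, Finsupp.single_eq_same]
  have h01 : ((matHom B f : GL (Fin 2) (ZMod p)) : Matrix (Fin 2) (Fin 2) (ZMod p)) 0 1 = 0 := by
    rw [matHom_apply, hf, Module.Basis.repr_self, Finsupp.single_eq_of_ne (by decide)]
  have h00 : ((matHom B f : GL (Fin 2) (ZMod p)) : Matrix (Fin 2) (Fin 2) (ZMod p)) 0 0 = 1 := by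
    rw [Matrix.det_fin_two, h11, h01, zero_mul, sub_zero, mul_one] at hdet
    exact hdet
  ext i j
  fin_cases i <;> fin_cases j
  · exact h00
  · exact h01
  · rfl
  · exact h11

end mat

section act

variable {p : ℕ} [Fact p.Prime] {V : Type*} [AddCommGroup V] [Module (ZMod p) V] [Finite V]
  {Γ : Type*} [Group Γ] [Finite Γ] (ρ : Γ →* (V ≃ₗ[ZMod p] V))

/-- the stabilizer of a vector -/
def stab (v : V) : Subgroup Γ where
  carrier := {g | ρ g v = v}
  mul_mem' := by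
    intro a b ha hb
    show ρ (a * b) v = v
    rw [map_mul, LinearEquiv.mul_apply, (show ρ b v = v from hb), (show ρ a v = v from ha)]
  one_mem' := by
    show ρ 1 v = v
    rw [map_one]
    rfl
  inv_mem' := by
    intro a ha
    show ρ a⁻¹ v = v
    have h : ρ a v = v := ha
    rw [map_inv]
    nth_rewrite 1 [← h]
    exact (ρ a).symm_apply_apply v

theorem mem_stab {v : V} {g : Γ} : g ∈ stab ρ v ↔ ρ g v = v := Iff.rfl

theorem card_eq_mul_stab (htrans : ∀ v w : V, v ≠ 0 → w ≠ 0 → ∃ g : Γ, ρ g v = w) {v : V}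
    (hv : v ≠ 0) : Nat.card Γ = (Nat.card V - 1) * Nat.card (stab ρ v) := by
  letI : MulAction Γ V := MulAction.compHom V ρ
  have hst : stab ρ v = MulAction.stabilizer Γ v := by
    ext g
    rfl
  have horb : MulAction.orbit Γ v = ({0}ᶜ : Set V) := by
    ext u
    constructor
    · rintro ⟨g, rfl⟩
      show ρ g v ≠ 0
      intro h
      exact hv ((ρ g).map_eq_zero_iff.1 h)
    · intro hu
      obtain ⟨g, hg⟩ := htrans v u hv hu
      exact ⟨g, hg⟩
  have h1 := Subgroup.card_mul_index (MulAction.stabilizer Γ v)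
  rw [MulAction.index_stabilizer, horb, Set.ncard_compl, Set.ncard_singleton, ← hst] at h1
  rw [← h1, mul_comm]

end act

section mu

variable {p : ℕ} [Fact p.Prime] {V : Type*} [AddCommGroup V] [Module (ZMod p) V] [Finite V]
  {Γ : Type*} [Group Γ] [Finite Γ] (B : Module.Basis (Fin 2) (ZMod p) V)
  (ρ : Γ →* (V ≃ₗ[ZMod p] V))

/-- the matrix representation of `Γ` -/
noncomputable def mu : Γ →* GL (Fin 2) (ZMod p) := (matHom B).comp ρ

theorem mu_injective (hρ : Function.Injective ρ) : Function.Injective (mu B ρ) :=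
  (matHom_injective B).comp hρ

variable (hstab : ∀ v : V, v ≠ 0 → ∀ g : Γ, ρ g v = v → ∃ k : ℕ, orderOf g = p ^ k)

include hstab in
theorem det_mu_of_fix {v : V} (hv : v ≠ 0) {g : Γ} (hg : ρ g v = v) :
    ((mu B ρ g : GL (Fin 2) (ZMod p)) : Matrix (Fin 2) (Fin 2) (ZMod p)).det = 1 := by
  obtain ⟨k, hk⟩ := hstab v hv g hg
  apply det_eq_one_of_pow (k := k)
  rw [← map_pow, ← hk, pow_orderOf_eq_one, map_one]

include hstab in
theorem mu_fix0 {g : Γ} (hg : ρ g (B 0) = B 0) :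
    ((mu B ρ g : GL (Fin 2) (ZMod p)) : Matrix (Fin 2) (Fin 2) (ZMod p))
      = !![1, ((mu B ρ g : GL (Fin 2) (ZMod p)) : Matrix (Fin 2) (Fin 2) (ZMod p)) 0 1; 0, 1] :=
  mat_fix0 B (ρ g) hg (det_mu_of_fix B ρ hstab (B.ne_zero 0) hg)

include hstab in
theorem mu_fix1 {g : Γ} (hg : ρ g (B 1) = B 1) :
    ((mu B ρ g : GL (Fin 2) (ZMod p)) : Matrix (Fin 2) (Fin 2) (ZMod p))
      = !![1, 0; ((mu B ρ g : GL (Fin 2) (ZMod p)) : Matrix (Fin 2) (Fin 2) (ZMod p)) 1 0, 1] :=
  mat_fix1 B (ρ g) hg (det_mu_of_fix B ρ hstab (B.ne_zero 1) hg)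

include hstab in
theorem card_stab_le (hρ : Function.Injective ρ) : Nat.card (stab ρ (B 0)) ≤ p := by
  have hinj : Function.Injective (fun g : stab ρ (B 0) =>
      ((mu B ρ g.1 : GL (Fin 2) (ZMod p)) : Matrix (Fin 2) (Fin 2) (ZMod p)) 0 1) := by
    intro a b hab
    apply Subtype.ext
    apply mu_injective B ρ hρ
    apply Units.ext
    rw [mu_fix0 B ρ hstab a.2, mu_fix0 B ρ hstab b.2]
    have hab' : ((mu B ρ a.1 : GL (Fin 2) (ZMod p)) : Matrix (Fin 2) (Fin 2) (ZMod p)) 0 1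
      = ((mu B ρ b.1 : GL (Fin 2) (ZMod p)) : Matrix (Fin 2) (Fin 2) (ZMod p)) 0 1 := hab
    rw [hab']
  have h := Nat.card_le_card_of_injective _ hinj
  rwa [Nat.card_zmod] at h

include hstab in
theorem isPGroup_stab {v : V} (hv : v ≠ 0) : IsPGroup p (stab ρ v) := by
  intro g
  obtain ⟨k, hk⟩ := hstab v hv g.1 g.2
  refine ⟨k, ?_⟩
  apply Subtype.ext
  rw [Subgroup.coe_pow, ← hk, pow_orderOf_eq_one]
  rfl

include hstab B in
/-- every point stabilizer has order `1` or `p` -/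
theorem card_stab (hρ : Function.Injective ρ)
    (htrans : ∀ v w : V, v ≠ 0 → w ≠ 0 → ∃ g : Γ, ρ g v = w) (hV : 1 < Nat.card V) :
    ∃ k : ℕ, k ≤ 1 ∧ ∀ v : V, v ≠ 0 → Nat.card (stab ρ v) = p ^ k := by
  obtain ⟨k, hk⟩ := (isPGroup_stab ρ hstab (B.ne_zero 0)).exists_card_eq
  have hp : 1 < p := (Fact.out : p.Prime).one_lt
  refine ⟨k, ?_, fun v hv => ?_⟩
  · have h := card_stab_le B ρ hstab hρ
    rw [hk] at h
    by_contra hcon
    have h2 : p ^ 2 ≤ p ^ k := Nat.pow_le_pow_right hp.le (by omega)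
    have h3 : p < p ^ 2 := by nlinarith
    omega
  · have h1 := card_eq_mul_stab ρ htrans hv
    have h2 := card_eq_mul_stab ρ htrans (B.ne_zero 0)
    rw [h1, hk] at h2
    exact Nat.eq_of_mul_eq_mul_left (by omega) h2

end mu

end Cfsg.Agent.Helper14.GAB2
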