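import Mathlib
import Cfsg.Agent.Helper14.GAB2a
import Cfsg.Agent.Helper11.SL2Recog
import Cfsg.Agent.Helper5.ProjLine

/-!
# GA-B2 for S4840 (helper14 -> helper81), part b: the group is `SL(2, p)` when `p` divides its order
-/

set_option autoImplicit false
set_option linter.unusedSectionVars false
set_option linter.style.haveILetI false

namespace Cfsg.Agent.Helper14.GAB2

open Matrix

section sl

variable {p : ℕ} [Fact p.Prime] {V : Type*} [AddCommGroup V] [Module (ZMod p) V] [Finite V]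
  {Γ : Type*} [Group Γ] [Finite Γ] (B : Module.Basis (Fin 2) (ZMod p) V)
  (ρ : Γ →* (V ≃ₗ[ZMod p] V))
  (hρ : Function.Injective ρ)
  (htrans : ∀ v w : V, v ≠ 0 → w ≠ 0 → ∃ g : Γ, ρ g v = w)
  (hstab : ∀ v : V, v ≠ 0 → ∀ g : Γ, ρ g v = v → ∃ k : ℕ, orderOf g = p ^ k)
  (hcard : Nat.card V = p ^ 2)
  (hp1 : ∀ v : V, v ≠ 0 → Nat.card (stab ρ v) = p)

include hρ hstab hp1 in
/-- every element of `SL(2, p)` is the matrix of an element of `Γ` -/
theorem exists_mu_eq (A : SpecialLinearGroup (Fin 2) (ZMod p)) :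
    ∃ g : Γ, mu B ρ g = SpecialLinearGroup.toGL A := by
  have hp : 1 < p := (Fact.out : p.Prime).one_lt
  -- nontrivial elements of the two stabilizers
  have hex : ∀ v : V, v ≠ 0 → ∃ a : Γ, ρ a v = v ∧ a ≠ 1 := by
    intro v hv
    have h1 : 1 < Nat.card (stab ρ v) := by rw [hp1 v hv]; exact hp
    have : Nontrivial (stab ρ v) := (Finite.one_lt_card_iff_nontrivial).1 h1
    obtain ⟨a, ha⟩ := exists_ne (1 : stab ρ v)
    exact ⟨a.1, a.2, fun h => ha (Subtype.ext h)⟩
  obtain ⟨a, ha, ha1⟩ := hex (B 0) (B.ne_zero 0)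
  obtain ⟨b, hb, hb1⟩ := hex (B 1) (B.ne_zero 1)
  have hMa := mu_fix0 B ρ hstab ha
  have hMb := mu_fix1 B ρ hstab hb
  set c := ((mu B ρ a : GL (Fin 2) (ZMod p)) : Matrix (Fin 2) (Fin 2) (ZMod p)) 0 1 with hc
  set d := ((mu B ρ b : GL (Fin 2) (ZMod p)) : Matrix (Fin 2) (Fin 2) (ZMod p)) 1 0 with hd
  have hc0 : c ≠ 0 := by
    intro h0
    apply ha1
    apply mu_injective B ρ hρ
    apply Units.ext
    rw [hMa, h0, map_one, Units.val_one]
    ext i j
    fin_cases i <;> fin_cases j <;> simp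
  have hd0 : d ≠ 0 := by
    intro h0
    apply hb1
    apply mu_injective B ρ hρ
    apply Units.ext
    rw [hMb, h0, map_one, Units.val_one]
    ext i j
    fin_cases i <;> fin_cases j <;> simp
  have hS := Cfsg.Agent.Helper11.SL2Recog.eq_top_of_transvections
    ((mu B ρ).range.comap SpecialLinearGroup.toGL) hc0 hd0 ?_ ?_
  · have hA : A ∈ (mu B ρ).range.comap SpecialLinearGroup.toGL := by rw [hS]; trivial
    exact hA
  · refine ⟨a, ?_⟩
    apply Units.ext
    rw [hMa]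
    show _ = ((SpecialLinearGroup.transvection (zero_ne_one : (0 : Fin 2) ≠ 1) c :
      SpecialLinearGroup (Fin 2) (ZMod p)) : Matrix (Fin 2) (Fin 2) (ZMod p))
    rw [SpecialLinearGroup.transvection_coe]
    ext i j
    fin_cases i <;> fin_cases j <;> simp [Matrix.single_apply]
  · refine ⟨b, ?_⟩
    apply Units.ext
    rw [hMb]
    show _ = ((SpecialLinearGroup.transvection (one_ne_zero : (1 : Fin 2) ≠ 0) d :
      SpecialLinearGroup (Fin 2) (ZMod p)) : Matrix (Fin 2) (Fin 2) (ZMod p))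
    rw [SpecialLinearGroup.transvection_coe]
    ext i j
    fin_cases i <;> fin_cases j <;> simp [Matrix.single_apply]

include hρ htrans hstab hcard hp1 in
/-- all matrices have determinant one -/
theorem det_mu_eq_one (g : Γ) :
    ((mu B ρ g : GL (Fin 2) (ZMod p)) : Matrix (Fin 2) (Fin 2) (ZMod p)).det = 1 := by
  choose θ hθ using exists_mu_eq B ρ hρ hstab hp1
  have hinj : Function.Injective θ := by
    intro A A' h
    apply SpecialLinearGroup.toGL_injective
    rw [← hθ A, ← hθ A', h]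
  have hcΓ : Nat.card Γ = (p ^ 2 - 1) * p := by
    rw [card_eq_mul_stab ρ htrans (B.ne_zero 0), hcard, hp1 _ (B.ne_zero 0)]
  have hcS : Nat.card (SpecialLinearGroup (Fin 2) (ZMod p)) = p * (p ^ 2 - 1) := by
    rw [Cfsg.Agent.Helper5.card_SL2, ZMod.card]
  have hbij := hinj.bijective_of_nat_card_le (by rw [hcΓ, hcS, mul_comm])
  obtain ⟨A, rfl⟩ := hbij.2 g
  rw [hθ A]
  exact A.2

/-- the isomorphism with `SL(2, p)` -/
noncomputable def psi (hdet : ∀ g : Γ,
    ((mu B ρ g : GL (Fin 2) (ZMod p)) : Matrix (Fin 2) (Fin 2) (ZMod p)).det = 1) :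
    Γ →* SpecialLinearGroup (Fin 2) (ZMod p) where
  toFun g := ⟨((mu B ρ g : GL (Fin 2) (ZMod p)) : Matrix (Fin 2) (Fin 2) (ZMod p)), hdet g⟩
  map_one' := by
    apply Subtype.ext
    show ((mu B ρ 1 : GL (Fin 2) (ZMod p)) : Matrix (Fin 2) (Fin 2) (ZMod p)) = 1
    rw [map_one, Units.val_one]
  map_mul' a b := by
    apply Subtype.ext
    show ((mu B ρ (a * b) : GL (Fin 2) (ZMod p)) : Matrix (Fin 2) (Fin 2) (ZMod p)) = _
    rw [map_mul, Units.val_mul]
    rfl

theorem toGL_psi (hdet : ∀ g : Γ,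
    ((mu B ρ g : GL (Fin 2) (ZMod p)) : Matrix (Fin 2) (Fin 2) (ZMod p)).det = 1) (g : Γ) :
    SpecialLinearGroup.toGL (psi B ρ hdet g) = mu B ρ g := by
  apply Units.ext
  rfl

include hρ in
theorem psi_injective (hdet : ∀ g : Γ,
    ((mu B ρ g : GL (Fin 2) (ZMod p)) : Matrix (Fin 2) (Fin 2) (ZMod p)).det = 1) :
    Function.Injective (psi B ρ hdet) := by
  intro a b h
  apply mu_injective B ρ hρ
  rw [← toGL_psi B ρ hdet a, ← toGL_psi B ρ hdet b, h]

include hρ hstab hp1 in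
theorem psi_surjective (hdet : ∀ g : Γ,
    ((mu B ρ g : GL (Fin 2) (ZMod p)) : Matrix (Fin 2) (Fin 2) (ZMod p)).det = 1) :
    Function.Surjective (psi B ρ hdet) := by
  intro A
  obtain ⟨g, hg⟩ := exists_mu_eq B ρ hρ hstab hp1 A
  refine ⟨g, ?_⟩
  apply SpecialLinearGroup.toGL_injective
  rw [toGL_psi, hg]

end sl

end Cfsg.Agent.Helper14.GAB2
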