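import Mathlib
import Cfsg.Agent.S1303
import Cfsg.Agent.Helper5.ProjLine

/-!
# GA-B2 for S4840 (helper14 -> helper81), part c: the normal `3`-complement of `SL(2, 3)`
-/

set_option autoImplicit false

namespace Cfsg.Agent.Helper14.GAB2

open Cfsg.Agent.Helper22 Cfsg.Agent.S1303

set_option maxRecDepth 100000 in
theorem t_pow8' : ∀ a b c d : ZMod 3, tdet (a, b, c, d) = 1 →
    tpow4 (tsq (a, b, c, d)) = tone → tpow4 (a, b, c, d) = tone := by decide

theorem pow_four_of_pow_eight (x : SL23) (h : x ^ 8 = 1) : x ^ 4 = 1 := by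
  apply ent_injective
  rw [ent_pow4, ent_one]
  have h8 : x ^ 8 = (x ^ 2) ^ 4 := by rw [← pow_mul]
  have h1 : tpow4 (tsq (ent x)) = tone := by
    rw [← ent_sq, ← ent_pow4, ← h8, h, ent_one]
  exact t_pow8' _ _ _ _ (tdet_ent x) h1 

theorem card_SL23' : Nat.card SL23 = 24 := by
  show Nat.card (Matrix.SpecialLinearGroup (Fin 2) (ZMod 3)) = 24
  rw [Cfsg.Agent.Helper5.card_SL2, ZMod.card]
  norm_num

theorem factorization_24 : (Nat.factorization 24) 2 = 3 := by
  have : (24 : ℕ) = 2 ^ 3 * 3 := by norm_num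
  rw [this, Nat.factorization_mul (by norm_num) (by norm_num), Finsupp.add_apply,
    Nat.factorization_pow, Finsupp.smul_apply, Nat.prime_two.factorization_self,
    Nat.factorization_eq_zero_of_not_dvd (show ¬ 2 ∣ 3 by norm_num)]
  rfl

theorem isPGroup_sgN : IsPGroup 2 ↥sgN := by
  intro x
  refine ⟨2, ?_⟩
  apply Subtype.ext
  have := x.2
  rw [mem_sgN] at this
  simpa using this

theorem card_sgN : Nat.card ↥sgN = 8 := by
  have : Fact (Nat.Prime 2) := ⟨Nat.prime_two⟩
  obtain ⟨P⟩ : Nonempty (Sylow 2 SL23) := inferInstance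
  have hP : Nat.card P = 8 := by
    rw [Sylow.card_eq_multiplicity, card_SL23', factorization_24]
    norm_num
  have hle : (P : Subgroup SL23) ≤ sgN := by
    intro x hx
    rw [mem_sgN]
    apply pow_four_of_pow_eight
    have h := pow_card_eq_one' (G := P) (x := ⟨x, hx⟩)
    rw [hP] at h
    exact congrArg Subtype.val h
  have h8 : 8 ∣ Nat.card ↥sgN := by
    rw [← hP]
    exact Subgroup.card_dvd_of_le hle
  have h24 : Nat.card ↥sgN ∣ 24 := by
    rw [← card_SL23']
    exact Subgroup.card_subgroup_dvd_card sgN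
  obtain ⟨k, hk⟩ := isPGroup_sgN.exists_card_eq
  rw [hk] at h8 h24 ⊢
  have hk3 : k ≤ 3 := by
    by_contra hcon
    have : (2 : ℕ) ^ 4 ∣ 2 ^ k := pow_dvd_pow 2 (by omega)
    have h16 : (16 : ℕ) ∣ 24 := (by norm_num : (16 : ℕ) = 2 ^ 4) ▸ this.trans h24
    omega
  interval_cases k <;> omega

end Cfsg.Agent.Helper14.GAB2
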