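import Mathlib
import Cfsg.Agent.Helper14.GAB2b
import Cfsg.Agent.Helper14.GAB2c
import Cfsg.Agent.Helper5.PSL2Simple
import Cfsg.Agent.Helper4.RankTwoSolv
import Cfsg.Agent.Helper81.GA0

/-!
# GA-B2 for S4840 (helper14 -> helper81): `|V| = p²`, `p` odd
-/

set_option autoImplicit false
set_option linter.unusedSectionVars false
set_option linter.style.haveILetI false

namespace Cfsg.Agent.Helper14.GAB2

open Matrix Cfsg.Agent.Helper81.GA

universe u

theorem not_dvd_sq_sub_one {p : ℕ} (hp : p.Prime) : ¬ p ∣ p ^ 2 - 1 := by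
  intro h
  have h1 : p ∣ p ^ 2 := dvd_pow_self p two_ne_zero
  have h2 : 1 ≤ p ^ 2 := Nat.one_le_pow _ _ hp.pos
  have h3 := Nat.dvd_sub h1 h
  have h4 : p ^ 2 - (p ^ 2 - 1) = 1 := by omega
  rw [h4] at h3
  exact hp.one_lt.ne' (Nat.dvd_one.1 h3)

/-- the Sylow `p`-subgroups of a group of order `(p² - 1) p^k`, `k ≤ 1`, are commutative -/
theorem sylow_comm {p : ℕ} [Fact p.Prime] {Γ : Type*} [Group Γ] [Finite Γ] {k : ℕ} (hk : k ≤ 1)
    (hΓ : Nat.card Γ = (p ^ 2 - 1) * p ^ k) (Q : Sylow p Γ) :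
    IsMulCommutative (Q : Subgroup Γ) := by
  have hp : p.Prime := Fact.out
  have hQ : Nat.card Q = p ^ k := by
    rw [Sylow.card_eq_multiplicity, hΓ]
    have h1 : p ^ 2 - 1 ≠ 0 := by
      have : 2 ≤ p := hp.two_le
      have : 4 ≤ p ^ 2 := by nlinarith
      omega
    rw [Nat.factorization_mul h1 (pow_ne_zero _ hp.ne_zero), Finsupp.add_apply,
      Nat.factorization_eq_zero_of_not_dvd (not_dvd_sq_sub_one hp), zero_add,
      Nat.factorization_pow, Finsupp.smul_apply, hp.factorization_self, smul_eq_mul, mul_one]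
  interval_cases k
  · rw [pow_zero] at hQ
    have : Subsingleton Q := (Nat.card_eq_one_iff_unique.1 hQ).1
    exact ⟨⟨fun a b => Subsingleton.elim _ _⟩⟩
  · rw [pow_one] at hQ
    have : IsCyclic Q := isCyclic_of_prime_card hQ
    infer_instance

/-- the case `p = 3`: `Γ ≃ SL(2, 3)` has a normal `3`-complement -/
theorem hasNormalPComplement_three {Γ : Type u} [Group Γ] [Finite Γ]
    (ψ : Γ →* SpecialLinearGroup (Fin 2) (ZMod 3)) (hinj : Function.Injective ψ)
    (hsurj : Function.Surjective ψ) : Cfsg.HasNormalPComplement 3 Γ := by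
  haveI : Fact (Nat.Prime 3) := ⟨Nat.prime_three⟩
  haveI : Fact (Nat.Prime 2) := ⟨Nat.prime_two⟩
  have hN : (Cfsg.Agent.S1303.sgN.comap ψ).Normal := inferInstance
  have hpg : IsPGroup 2 ↥(Cfsg.Agent.S1303.sgN.comap ψ) := by
    intro g
    refine ⟨2, ?_⟩
    apply Subtype.ext
    apply hinj
    have h := g.2
    rw [Subgroup.mem_comap, Cfsg.Agent.S1303.mem_sgN] at h
    rw [Subgroup.coe_pow, map_pow, Subgroup.coe_one, map_one]
    simpa using h
  obtain ⟨j, hj⟩ := hpg.exists_card_eq
  have hco : (Nat.card ↥(Cfsg.Agent.S1303.sgN.comap ψ)).Coprime 3 := by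
    rw [hj]
    exact Nat.Coprime.pow_left _ (by norm_num)
  have hidx : (Cfsg.Agent.S1303.sgN.comap ψ).index = 3 ^ 1 := by
    rw [Subgroup.index_comap_of_surjective _ hsurj, pow_one]
    have h1 := Subgroup.card_mul_index Cfsg.Agent.S1303.sgN
    rw [card_sgN, card_SL23'] at h1
    omega
  exact Cfsg.Agent.Helper4.hasNormalPComplement_of_coprime_of_index 3
    (Cfsg.Agent.S1303.sgN.comap ψ) hco 1 hidx

/-- **GA-B2** -/
theorem linConcl_of_card_sq (p : ℕ) [Fact p.Prime] (hp2 : p ≠ 2) {V : Type*} [AddCommGroup V]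
    [Module (ZMod p) V] [Finite V] {Γ : Type u} [Group Γ] [Finite Γ] (hsol : Group.IsSolvable Γ)
    (ρ : Γ →* (V ≃ₗ[ZMod p] V)) (hρ : Function.Injective ρ)
    (htrans : ∀ v w : V, v ≠ 0 → w ≠ 0 → ∃ g : Γ, ρ g v = w)
    (hstab : ∀ v : V, v ≠ 0 → ∀ g : Γ, ρ g v = v → ∃ k : ℕ, orderOf g = p ^ k)
    (hcard : Nat.card V = p ^ 2) : LinConcl p Γ := by
  have hp : p.Prime := Fact.out
  have hp1 : 1 < p := hp.one_lt
  have hV : 1 < Nat.card V := by rw [hcard]; nlinarith
  -- a basis
  have hfr : Module.finrank (ZMod p) V = 2 := by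
    haveI : Fintype V := Fintype.ofFinite V
    have h := Module.card_eq_pow_finrank (K := ZMod p) (V := V)
    rw [ZMod.card, ← Nat.card_eq_fintype_card, hcard] at h
    exact (Nat.pow_right_injective hp.two_le h).symm
  let B : Module.Basis (Fin 2) (ZMod p) V := Module.finBasisOfFinrankEq (ZMod p) V hfr
  obtain ⟨k, hk1, hk⟩ := card_stab B ρ hstab hρ htrans hV
  have hΓ : Nat.card Γ = (p ^ 2 - 1) * p ^ k := by
    rw [card_eq_mul_stab ρ htrans (B.ne_zero 0), hcard, hk _ (B.ne_zero 0)]
  refine ⟨?_, fun Q => sylow_comm hk1 hΓ Q⟩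
  interval_cases k
  · -- `p ∤ |Γ|`
    rw [pow_zero, mul_one] at hΓ
    refine Cfsg.Agent.Helper4.hasNormalPComplement_of_coprime_of_index p
      (⊤ : Subgroup Γ) ?_ 0 (by rw [Subgroup.index_top, pow_zero])
    rw [Subgroup.card_top, hΓ]
    exact ((Nat.Prime.coprime_iff_not_dvd hp).2 (not_dvd_sq_sub_one hp)).symm
  · -- `Γ ≃ SL(2, p)`
    have hp1' : ∀ v : V, v ≠ 0 → Nat.card (stab ρ v) = p := fun v hv => by
      rw [hk v hv, pow_one]
    have hdet := det_mu_eq_one B ρ hρ htrans hstab hcard hp1'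
    have hinj := psi_injective B ρ hρ hdet
    have hsurj := psi_surjective B ρ hρ hstab hp1' hdet
    by_cases h3 : p = 3
    · subst h3
      exact hasNormalPComplement_three (psi B ρ hdet) hinj hsurj
    · exfalso
      have h5 : 5 ≤ p := by
        have h2 := hp.two_le
        rcases Nat.lt_or_ge p 5 with h | h
        · interval_cases p
          · exact absurd rfl hp2
          · exact absurd rfl h3
          · exact absurd hp (by decide)
        · exact h
      haveI : Group.IsSolvable (SpecialLinearGroup (Fin 2) (ZMod p)) :=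
        Group.isSolvable_of_surjective hsurj
      have hperf : commutator (SpecialLinearGroup (Fin 2) (ZMod p)) = ⊤ := by
        apply Cfsg.Agent.Helper5.commutator_SL_eq_top_of_exists
        refine ⟨2, ?_, ?_⟩
        · intro h
          have h' : ((2 : ℕ) : ZMod p) = 0 := by exact_mod_cast h
          rw [ZMod.natCast_eq_zero_iff] at h'
          exact absurd (Nat.le_of_dvd (by norm_num) h') (by omega)
        · intro h
          have h' : ((3 : ℕ) : ZMod p) = 0 := by
            push_cast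
            linear_combination h
          rw [ZMod.natCast_eq_zero_iff] at h'
          exact absurd (Nat.le_of_dvd (by norm_num) h') (by omega)
      haveI : Nontrivial (SpecialLinearGroup (Fin 2) (ZMod p)) := by
        apply (Finite.one_lt_card_iff_nontrivial).1
        rw [Cfsg.Agent.Helper5.card_SL2, ZMod.card]
        have h4 : 4 ≤ p ^ 2 := by nlinarith
        have h6 : 3 ≤ p ^ 2 - 1 := by omega
        have h7 : 2 * 3 ≤ p * (p ^ 2 - 1) := Nat.mul_le_mul hp.two_le h6
        omega
      have hlt := Group.IsSolvable.commutator_lt_top_of_nontrivial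
        (SpecialLinearGroup (Fin 2) (ZMod p))
      rw [hperf] at hlt
      exact lt_irrefl _ hlt

end Cfsg.Agent.Helper14.GAB2
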