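import Mathlib
import Cfsg.Agent.Helper44.MinusInndiag

/-!
Helper14 (for helper12, S2717): the similarity `diag(ν; 1) ⊕ M_η` of the minus form, where `M_η`
is multiplication by `η = c - dζ` on the binary part and `ν = c² + a c d + b d²` its norm:
multiplier `ν`, determinant `ν^(k+1)`.
-/

set_option autoImplicit false
set_option linter.unusedSectionVars false

namespace Cfsg.Agent.Helper14.GFCent

open Matrix Cfsg Cfsg.Agent.Helper44

variable {F : Type*} [Field F] (k : ℕ) (a b c d : F)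

/-- multiplication by `c - dζ` (`ζ² + aζ + b = 0`) in the coordinates `z₁ - ζ z₂` -/
def etaMat : Matrix (Fin 2) (Fin 2) F := !![c, -(b * d); d, c + a * d]

/-- the similarity `diag(ν; 1) ⊕ M_η` -/
def nuMat : Matrix ((Fin k ⊕ Fin k) ⊕ Fin 2) ((Fin k ⊕ Fin k) ⊕ Fin 2) F :=
  Matrix.fromBlocks
    (Matrix.fromBlocks ((c ^ 2 + a * c * d + b * d ^ 2) • (1 : Matrix (Fin k) (Fin k) F)) 0 0 1)
    0 0 (etaMat a b c d)

theorem nuMat_mulVec_x (v : (Fin k ⊕ Fin k) ⊕ Fin 2 → F) (j : Fin k) :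
    (nuMat k a b c d *ᵥ v) (Sum.inl (Sum.inl j))
      = (c ^ 2 + a * c * d + b * d ^ 2) * v (Sum.inl (Sum.inl j)) := by
  unfold nuMat
  rw [Matrix.fromBlocks_mulVec, Sum.elim_inl, Matrix.zero_mulVec, add_zero,
    Matrix.fromBlocks_mulVec, Sum.elim_inl, Matrix.zero_mulVec, add_zero, Matrix.smul_mulVec,
    Matrix.one_mulVec]
  rfl

theorem nuMat_mulVec_y (v : (Fin k ⊕ Fin k) ⊕ Fin 2 → F) (j : Fin k) :
    (nuMat k a b c d *ᵥ v) (Sum.inl (Sum.inr j)) = v (Sum.inl (Sum.inr j)) := by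
  unfold nuMat
  rw [Matrix.fromBlocks_mulVec, Sum.elim_inl, Matrix.zero_mulVec, add_zero,
    Matrix.fromBlocks_mulVec, Sum.elim_inr, Matrix.zero_mulVec, zero_add, Matrix.one_mulVec]
  rfl

theorem nuMat_mulVec_z0 (v : (Fin k ⊕ Fin k) ⊕ Fin 2 → F) :
    (nuMat k a b c d *ᵥ v) (Sum.inr 0) = c * v (Sum.inr 0) - b * d * v (Sum.inr 1) := by
  unfold nuMat etaMat
  rw [Matrix.fromBlocks_mulVec, Sum.elim_inr, Matrix.zero_mulVec, zero_add]
  simp [Matrix.mulVec, dotProduct, Fin.sum_univ_two]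
  ring

theorem nuMat_mulVec_z1 (v : (Fin k ⊕ Fin k) ⊕ Fin 2 → F) :
    (nuMat k a b c d *ᵥ v) (Sum.inr 1) = d * v (Sum.inr 0) + (c + a * d) * v (Sum.inr 1) := by
  unfold nuMat etaMat
  rw [Matrix.fromBlocks_mulVec, Sum.elim_inr, Matrix.zero_mulVec, zero_add]
  simp [Matrix.mulVec, dotProduct, Fin.sum_univ_two]

theorem quadFormMinus_nuMat (v : (Fin k ⊕ Fin k) ⊕ Fin 2 → F) :
    quadFormMinus k F a b (nuMat k a b c d *ᵥ v)
      = (c ^ 2 + a * c * d + b * d ^ 2) * quadFormMinus k F a b v := by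
  unfold quadFormMinus
  simp only [nuMat_mulVec_x, nuMat_mulVec_y, nuMat_mulVec_z0, nuMat_mulVec_z1]
  have hs : ∑ x, (c ^ 2 + a * c * d + b * d ^ 2) * v (Sum.inl (Sum.inl x)) * v (Sum.inl (Sum.inr x))
      = (c ^ 2 + a * c * d + b * d ^ 2) * ∑ x, v (Sum.inl (Sum.inl x)) * v (Sum.inl (Sum.inr x)) := by
    rw [Finset.mul_sum]
    exact Finset.sum_congr rfl (fun j _ => by ring)
  rw [hs]
  ring

theorem det_etaMat : (etaMat a b c d).det = c ^ 2 + a * c * d + b * d ^ 2 := by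
  unfold etaMat
  rw [Matrix.det_fin_two_of]
  ring

theorem det_nuMat :
    (nuMat k a b c d).det = (c ^ 2 + a * c * d + b * d ^ 2) ^ (k + 1) := by
  unfold nuMat
  rw [Matrix.det_fromBlocks_zero₂₁, Matrix.det_fromBlocks_zero₂₁, Matrix.det_smul, Matrix.det_one,
    det_etaMat, Fintype.card_fin, mul_one, mul_one]
  ring

variable (hν : c ^ 2 + a * c * d + b * d ^ 2 ≠ 0)

/-- the similarity in `GL` -/
noncomputable def nuGL : GL ((Fin k ⊕ Fin k) ⊕ Fin 2) F :=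
  Matrix.GeneralLinearGroup.mkOfDetNeZero (nuMat k a b c d)
    (by rw [det_nuMat]; exact pow_ne_zero _ hν)

theorem nuGL_coe : ((nuGL k a b c d hν : GL ((Fin k ⊕ Fin k) ⊕ Fin 2) F) :
    Matrix ((Fin k ⊕ Fin k) ⊕ Fin 2) ((Fin k ⊕ Fin k) ⊕ Fin 2) F) = nuMat k a b c d := rfl

/-- the similarity as an element of the similarity group of the minus form -/
noncomputable def nuGO : ↥(Cfsg.Geo.quadSimilarityGroup (F := F) ⇑(minusForm k F a b)) :=
  ⟨nuGL k a b c d hν, ⟨Units.mk0 _ hν, fun v => quadFormMinus_nuMat k a b c d v⟩⟩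

theorem nuGO_coe : ((nuGO k a b c d hν : ↥(Cfsg.Geo.quadSimilarityGroup (F := F)
    ⇑(minusForm k F a b))) : GL ((Fin k ⊕ Fin k) ⊕ Fin 2) F) = nuGL k a b c d hν := rfl

theorem multHom_nuGO {t : (Fin k ⊕ Fin k) ⊕ Fin 2 → F} (ht : minusForm k F a b t ≠ 0) :
    multHom ⇑(minusForm k F a b) ht (nuGO k a b c d hν) = Units.mk0 _ hν :=
  multHom_eq ⇑(minusForm k F a b) ht _ _ (fun v => quadFormMinus_nuMat k a b c d v)

theorem dHom_nuGO {t : (Fin k ⊕ Fin k) ⊕ Fin 2 → F} (ht : minusForm k F a b t ≠ 0) :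
    dHom (minusForm k F a b) ht (k + 1) (nuGO k a b c d hν) = 1 := by
  rw [dHom_apply, multHom_nuGO]
  apply Units.ext
  rw [Units.val_mul, Matrix.GeneralLinearGroup.val_det_apply, Units.val_pow_eq_pow_val,
    Units.val_inv_eq_inv_val, Units.val_mk0, Units.val_one]
  show (nuMat k a b c d).det * _ = _
  rw [det_nuMat, ← mul_pow, mul_inv_cancel₀ hν, one_pow]

end Cfsg.Agent.Helper14.GFCent
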