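import Mathlib
import Cfsg.Agent.Helper14.GFLBA
import Cfsg.Agent.Helper44.MinusSplit
import Cfsg.Agent.Helper44.InndiagPlus2
import Cfsg.Agent.Helper12.GFG

/-!
Helper14 (for helper12, S2717): over a field where the binary part splits (`ζ`, `ζ'` the roots) and
`ν = λ²`, the similarity `nuGO` is carried by the splitting isomorphism to
`λ • diag(A, A⁻ᵀ)` with `A = diag(λ, …, λ, η/λ)`; hence it induces an inner automorphism of
`PΩ` iff `det A` is a square (when `-1 ∈ Ω`).
-/

set_option autoImplicit false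
set_option linter.unusedSectionVars false

namespace Cfsg.Agent.Helper14.GFCent

open Matrix Cfsg Cfsg.Agent.Helper44 Cfsg.Agent.Helper12.GF

section diag

variable {K : Type*} [Field K] {n : ℕ}

/-- an invertible diagonal matrix -/
def diagGL (u : Fin n → K) (hu : ∀ j, u j ≠ 0) : GL (Fin n) K :=
  ⟨Matrix.diagonal u, Matrix.diagonal (fun j => (u j)⁻¹), by
    rw [Matrix.diagonal_mul_diagonal]
    have : (fun j => u j * (u j)⁻¹) = fun _ => (1 : K) := by
      funext j
      exact mul_inv_cancel₀ (hu j)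
    rw [this, Matrix.diagonal_one], by
    rw [Matrix.diagonal_mul_diagonal]
    have : (fun j => (u j)⁻¹ * u j) = fun _ => (1 : K) := by
      funext j
      exact inv_mul_cancel₀ (hu j)
    rw [this, Matrix.diagonal_one]⟩

theorem diagGL_coe (u : Fin n → K) (hu : ∀ j, u j ≠ 0) :
    ((diagGL u hu : GL (Fin n) K) : Matrix (Fin n) (Fin n) K) = Matrix.diagonal u := rfl

theorem diagGL_inv_coe (u : Fin n → K) (hu : ∀ j, u j ≠ 0) :
    (((diagGL u hu)⁻¹ : GL (Fin n) K) : Matrix (Fin n) (Fin n) K)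
      = Matrix.diagonal (fun j => (u j)⁻¹) := rfl

theorem plusEmbedMat_diagGL_mulVec (u : Fin n → K) (hu : ∀ j, u j ≠ 0)
    (w : Fin n ⊕ Fin n → K) :
    plusEmbedMat (diagGL u hu) *ᵥ w
      = Sum.elim (fun j => u j * w (Sum.inl j)) (fun j => (u j)⁻¹ * w (Sum.inr j)) := by
  unfold plusEmbedMat
  rw [Matrix.fromBlocks_mulVec, diagGL_coe, diagGL_inv_coe, Matrix.diagonal_transpose]
  simp only [Matrix.zero_mulVec, add_zero, zero_add]
  funext j
  rcases j with j | j
  · simp [Matrix.mulVec_diagonal]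
  · simp [Matrix.mulVec_diagonal]

end diag

section split

variable {K : Type*} [Field K] (k : ℕ) (a b c d ζ ζ' lam : K)
  (h1 : ζ + ζ' = -a) (h2 : ζ * ζ' = b) (hζ : ζ ≠ ζ')
  (hν : c ^ 2 + a * c * d + b * d ^ 2 ≠ 0) (hlam : lam * lam = c ^ 2 + a * c * d + b * d ^ 2)

include h1 h2 in
theorem eta_mul_eta' : (c - d * ζ) * (c - d * ζ') = c ^ 2 + a * c * d + b * d ^ 2 := by
  have ha : a = -(ζ + ζ') := by rw [h1, neg_neg]
  rw [ha, ← h2]
  ring

include h1 h2 hν in
theorem eta_ne_zero : c - d * ζ ≠ 0 := by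
  intro h0
  apply hν
  rw [← eta_mul_eta' a b c d ζ ζ' h1 h2, h0, zero_mul]

include hν hlam in
theorem lam_ne_zero : lam ≠ 0 := by
  rintro rfl
  apply hν
  rw [← hlam, mul_zero]

/-- the diagonal entries of `A` -/
noncomputable def aVec : Fin (k + 1) → K := Fin.lastCases ((c - d * ζ) / lam) (fun _ => lam)

include h1 h2 hν hlam in
theorem aVec_ne_zero (j : Fin (k + 1)) : aVec k c d ζ lam j ≠ 0 := by
  have hl := lam_ne_zero a b c d lam hν hlam
  have he := eta_ne_zero a b c d ζ ζ' h1 h2 hν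
  unfold aVec
  refine Fin.lastCases ?_ (fun i => ?_) j
  · rw [Fin.lastCases_last]
    exact div_ne_zero he hl
  · rw [Fin.lastCases_castSucc]
    exact hl

/-- the matrix `A = diag(λ, …, λ, η/λ)` -/
noncomputable def aGL : GL (Fin (k + 1)) K :=
  diagGL (aVec k c d ζ lam) (aVec_ne_zero k a b c d ζ ζ' lam h1 h2 hν hlam)

theorem det_aGL :
    ((aGL k a b c d ζ ζ' lam h1 h2 hν hlam : GL (Fin (k + 1)) K) :
      Matrix (Fin (k + 1)) (Fin (k + 1)) K).det = lam ^ k * ((c - d * ζ) / lam) := by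
  unfold aGL
  rw [diagGL_coe, Matrix.det_diagonal, Fin.prod_univ_castSucc]
  unfold aVec
  simp only [Fin.lastCases_last, Fin.lastCases_castSucc, Finset.prod_const, Finset.card_univ,
    Fintype.card_fin]

include h1 h2 hν hlam in
/-- the splitting map intertwines `nuMat` and `λ • diag(A, A⁻ᵀ)` -/
theorem splitFun_nuMat (v : (Fin k ⊕ Fin k) ⊕ Fin 2 → K) :
    splitFun k ζ ζ' (nuMat k a b c d *ᵥ v)
      = lam • (plusEmbedMat (aGL k a b c d ζ ζ' lam h1 h2 hν hlam) *ᵥ splitFun k ζ ζ' v) := by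
  have hl := lam_ne_zero a b c d lam hν hlam
  have he := eta_ne_zero a b c d ζ ζ' h1 h2 hν
  have hee := eta_mul_eta' a b c d ζ ζ' h1 h2
  have hb : b = ζ * ζ' := h2.symm
  have ha : a = -(ζ + ζ') := by rw [h1, neg_neg]
  unfold aGL
  rw [plusEmbedMat_diagGL_mulVec]
  funext j
  rcases j with j | j <;> refine Fin.lastCases ?_ (fun i => ?_) j
  · simp only [splitFun_inl_last, nuMat_mulVec_z0, nuMat_mulVec_z1, Pi.smul_apply, smul_eq_mul,
      Sum.elim_inl, aVec, Fin.lastCases_last]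
    rw [hb, ha]
    field_simp
    ring
  · simp only [splitFun_inl_castSucc, nuMat_mulVec_x, Pi.smul_apply, smul_eq_mul,
      Sum.elim_inl, aVec, Fin.lastCases_castSucc]
    rw [← hlam]
    ring
  · simp only [splitFun_inr_last, nuMat_mulVec_z0, nuMat_mulVec_z1, Pi.smul_apply, smul_eq_mul,
      Sum.elim_inr, aVec, Fin.lastCases_last]
    have h3 : lam * ((c - d * ζ) / lam)⁻¹ = c - d * ζ' := by
      rw [inv_div, ← mul_div_assoc, hlam, ← hee, mul_div_cancel_left₀ _ he]
    rw [← mul_assoc, h3, hb, ha]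
    ring
  · simp only [splitFun_inr_castSucc, nuMat_mulVec_y, Pi.smul_apply, smul_eq_mul,
      Sum.elim_inr, aVec, Fin.lastCases_castSucc]
    rw [← mul_assoc, mul_inv_cancel₀ hl, one_mul]

end split

end Cfsg.Agent.Helper14.GFCent
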