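import Mathlib
import Cfsg.Agent.Helper14.GFLBB

/-!
Helper14 (for helper12, S2717): transport of `nuGO` along the splitting isomorphism and the
criterion for `conjAut nuGO` to be inner.
-/

set_option autoImplicit false
set_option linter.unusedSectionVars false

namespace Cfsg.Agent.Helper14.GFCent

open Matrix Cfsg Cfsg.Agent.Helper44 Cfsg.Agent.Helper12.GF

variable {K : Type*} [Field K] (k : ℕ) (a b c d ζ ζ' lam : K)
  (h1 : ζ + ζ' = -a) (h2 : ζ * ζ' = b) (hζ : ζ ≠ ζ')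
  (hν : c ^ 2 + a * c * d + b * d ^ 2 ≠ 0) (hlam : lam * lam = c ^ 2 + a * c * d + b * d ^ 2)

include h1 h2 in
theorem hC_split (u : (Fin k ⊕ Fin k) ⊕ Fin 2 → K) :
    plusForm (k + 1) K (splitEquiv k ζ ζ' hζ u) = minusForm k K a b u :=
  quadFormPlus_splitEquiv k ζ ζ' hζ h1 h2 u

theorem scalar_mul_mulVec {ι : Type} [Fintype ι] [DecidableEq ι] (l : Kˣ) (M : Matrix ι ι K)
    (w : ι → K) :
    (((Matrix.GeneralLinearGroup.scalar ι l : GL ι K) : Matrix ι ι K) * M) *ᵥ w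
      = (l : K) • (M *ᵥ w) := by
  rw [← Matrix.mulVec_mulVec, Matrix.GeneralLinearGroup.coe_scalar]
  ext i
  simp [Matrix.mulVec_diagonal]

theorem mat_ext_mulVec {ι : Type} [Fintype ι] [DecidableEq ι] {M N : Matrix ι ι K}
    (h : ∀ x : ι → K, M *ᵥ x = N *ᵥ x) : M = N := by
  ext i j
  have := congrFun (h (Pi.single j 1)) i
  simpa using this

/-- in `GL`: `C ∘ nuGL ∘ C⁻¹ = λ • diag(A, A⁻ᵀ)` -/
theorem glE_nuGL :
    glE (splitEquiv k ζ ζ' hζ) (nuGL k a b c d hν)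
      = Matrix.GeneralLinearGroup.scalar (Fin (k + 1) ⊕ Fin (k + 1))
          (Units.mk0 lam (lam_ne_zero a b c d lam hν hlam))
        * plusEmbedGL (aGL k a b c d ζ ζ' lam h1 h2 hν hlam) := by
  apply Units.ext
  apply mat_ext_mulVec
  intro w
  obtain ⟨v, rfl⟩ := (splitEquiv k ζ ζ' hζ).surjective w
  rw [glE_mulVec', nuGL_coe, splitEquiv_apply, splitEquiv_apply,
    splitFun_nuMat k a b c d ζ ζ' lam h1 h2 hν hlam, Units.val_mul, scalar_mul_mulVec,
    Units.val_mk0, plusEmbedGL_coe]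

/-- in the similarity group of the plus form -/
theorem simE_nuGO :
    simE (splitEquiv k ζ ζ' hζ) ⇑(minusForm k K a b) ⇑(plusForm (k + 1) K)
        (hC_split k a b ζ ζ' h1 h2 hζ) (nuGO k a b c d hν)
      = scalarGO (plusForm (k + 1) K) (Units.mk0 lam (lam_ne_zero a b c d lam hν hlam))
        * toGO (plusForm (k + 1) K) (plusEmbed (aGL k a b c d ζ ζ' lam h1 h2 hν hlam)) := by
  apply Subtype.ext
  rw [coe_simE, nuGO_coe, glE_nuGL k a b c d ζ ζ' lam h1 h2 hζ hν hlam]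
  rfl

variable [Fintype K]

include h1 h2 hζ hlam in
/-- **criterion**: `conjAut nuGO` is inner iff `det A` is a square -/
theorem conjAut_nuGO_mem_Inn_iff (hk : 3 ≤ k)
    (hneg : negOne (plusForm (k + 1) K) ∈ Cfsg.Omega K ⇑(plusForm (k + 1) K)) :
    conjAut ⇑(minusForm k K a b) (nuGO k a b c d hν)
        ∈ Cfsg.Inn (Cfsg.POmega K ⇑(minusForm k K a b))
      ↔ IsSquare (lam ^ k * ((c - d * ζ) / lam)) := by
  have hC := hC_split k a b ζ ζ' h1 h2 hζ
  set C := splitEquiv k ζ ζ' hζ with hCdef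
  have hQ := nondegenerate_plusForm (F := K) (k + 1)
  have hcard : Fintype.card (Fin (k + 1) ⊕ Fin (k + 1)) = 2 * (k + 1) := by
    rw [Fintype.card_sum, Fintype.card_fin]; omega
  have hn : 7 ≤ Fintype.card (Fin (k + 1) ⊕ Fin (k + 1)) := by rw [hcard]; omega
  have hT := map_Inn_Theta C ⇑(minusForm k K a b) ⇑(plusForm (k + 1) K) hC
  have step1 : conjAut ⇑(minusForm k K a b) (nuGO k a b c d hν)
        ∈ Cfsg.Inn (Cfsg.POmega K ⇑(minusForm k K a b)) ↔
      Theta C ⇑(minusForm k K a b) ⇑(plusForm (k + 1) K) hC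
          (conjAut ⇑(minusForm k K a b) (nuGO k a b c d hν))
        ∈ Cfsg.Inn (Cfsg.POmega K ⇑(plusForm (k + 1) K)) := by
    rw [← hT]
    constructor
    · intro h
      exact ⟨_, h, rfl⟩
    · rintro ⟨y, hy, e⟩
      have : y = conjAut ⇑(minusForm k K a b) (nuGO k a b c d hν) :=
        (Theta C ⇑(minusForm k K a b) ⇑(plusForm (k + 1) K) hC).injective e
      rw [← this]
      exact hy
  rw [step1, Theta_conjAut C (minusForm k K a b) (plusForm (k + 1) K) hC,
    simE_nuGO k a b c d ζ ζ' lam h1 h2 hζ hν hlam, map_mul,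
    MonoidHom.mem_ker.1 (mem_ker_of_mem_scalars ⇑(plusForm (k + 1) K) _
      (scalarGO_mem_scalars (plusForm (k + 1) K) _)), one_mul]
  refine Iff.trans (conjAut_toGO_mem_Inn_iff (plusForm (k + 1) K) hQ hn hneg _) ?_
  have h3 := plusEmbed_mem_Omega_iff (F := K) (m := k + 1) (by omega) (Or.inr (by omega))
    (aGL k a b c d ζ ζ' lam h1 h2 hν hlam)
  rw [det_aGL] at h3
  exact h3

end Cfsg.Agent.Helper14.GFCent
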