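import Mathlib
import Cfsg.Agent.Helper14.GFLBC
import Cfsg.Agent.Helper14.GFCentD
import Cfsg.Agent.Helper12.GFP
import Cfsg.Agent.Helper12.GFL
import Cfsg.Agent.Helper12.ClassPresE
import Cfsg.Agent.Helper37.EvFA
import Cfsg.Agent.Helper44.PsoInnStd
import Cfsg.Agent.Helper44.StdNondeg
import Cfsg.Agent.Helper45.Isometry

/-!
# (LB) for S2717: an explicit similarity of the minus form with non-square multiplier

`exists_nonsquare_sim`: over `F₀` (odd order `q₀`), the similarity `nuGO` of the minus form with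
multiplier a non-square `ν₀ = c₀² + a₀ c₀ d₀ + b₀ d₀²` has `dHom = 1`, and its base change to the
quadratic extension `F` induces an inner automorphism of `PΩ` iff `k + 1` is odd and
`q₀ ≡ 1 (mod 4)`.
-/

set_option autoImplicit false

namespace Cfsg.Agent.Helper14.GFCent

open Matrix Cfsg Cfsg.Agent.Helper44 Cfsg.Agent.Helper37.OddF

section maps

variable {F₀ F : Type*} [Field F₀] [Field F] (φ : F₀ →+* F) (k : ℕ) (a b c d : F₀)

theorem etaMat_map : (etaMat a b c d).map φ = etaMat (φ a) (φ b) (φ c) (φ d) := by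
  ext r s
  fin_cases r <;> fin_cases s <;> simp [etaMat]

theorem nuMat_map : (nuMat k a b c d).map φ = nuMat k (φ a) (φ b) (φ c) (φ d) := by
  unfold nuMat
  rw [Matrix.fromBlocks_map, Matrix.fromBlocks_map, etaMat_map]
  congr 2
  · ext r s
    simp [Matrix.smul_apply, Matrix.one_apply]
    split_ifs <;> simp
  all_goals simp

end maps

section norm

open Polynomial in
/-- fixed points of `x ↦ x ^ card F₀` in `F` are in the range of `i` -/
theorem mem_range_of_pow_card {F₀ F : Type*} [Field F₀] [Fintype F₀] [Field F] [Fintype F]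
    (i : F₀ →+* F) (x : F) (hx : x ^ Fintype.card F₀ = x) : ∃ z : F₀, i z = x := by
  classical
  by_contra hcon0
  have hcon : ∀ z : F₀, i z ≠ x := fun z hz => hcon0 ⟨z, hz⟩
  have hq : 1 < Fintype.card F₀ := Fintype.one_lt_card
  let S : Finset F := insert x (Finset.univ.image i)
  have hS : S.card = Fintype.card F₀ + 1 := by
    rw [Finset.card_insert_of_notMem, Finset.card_image_of_injective _ i.injective,
      Finset.card_univ]
    intro h
    obtain ⟨z, -, hz⟩ := Finset.mem_image.1 h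
    exact hcon z hz
  have hsub : S.val ⊆ (X ^ Fintype.card F₀ - X : F[X]).roots := by
    intro y hy
    rw [Polynomial.mem_roots (FiniteField.X_pow_card_sub_X_ne_zero F hq), Polynomial.IsRoot,
      Polynomial.eval_sub, Polynomial.eval_pow, Polynomial.eval_X, sub_eq_zero]
    have hy' : y ∈ S := hy
    rcases Finset.mem_insert.1 hy' with rfl | h
    · exact hx
    · obtain ⟨z, -, rfl⟩ := Finset.mem_image.1 h
      rw [← map_pow, FiniteField.pow_card]
  have := Polynomial.card_le_degree_of_subset_roots hsub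
  rw [hS, FiniteField.X_pow_card_sub_X_natDegree_eq F hq] at this
  omega

/-- the norm of `c - dζ` -/
theorem eta_pow_card_succ {F₀ F : Type*} [Field F₀] [Fintype F₀] [Field F] [Fintype F]
    (i : F₀ →+* F) (a₀ b₀ : F₀)
    (hab : ∀ z₁ z₂ : F₀, z₁ ^ 2 + a₀ * z₁ * z₂ + b₀ * z₂ ^ 2 = 0 → z₁ = 0 ∧ z₂ = 0)
    (ζ : F) (hζ : ζ ^ 2 + i a₀ * ζ + i b₀ = 0) (c₀ d₀ : F₀) :
    (i c₀ - i d₀ * ζ) ^ (Fintype.card F₀ + 1) = i (c₀ ^ 2 + a₀ * c₀ * d₀ + b₀ * d₀ ^ 2) := by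
  obtain ⟨p, hp⟩ := CharP.exists F₀
  obtain ⟨n, hpp, hn⟩ := FiniteField.card F₀ p
  have : Fact p.Prime := ⟨hpp⟩
  have : CharP F p := charP_of_injective_ringHom i.injective p
  have hfix : ∀ z : F₀, (i z) ^ Fintype.card F₀ = i z := by
    intro z
    rw [← map_pow, FiniteField.pow_card]
  have hadd : ∀ x y : F, (x + y) ^ Fintype.card F₀ = x ^ Fintype.card F₀ + y ^ Fintype.card F₀ := by
    intro x y
    rw [hn]
    exact add_pow_char_pow x y p n
  have hsub : ∀ x y : F, (x - y) ^ Fintype.card F₀ = x ^ Fintype.card F₀ - y ^ Fintype.card F₀ := by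
    intro x y
    rw [hn]
    exact sub_pow_char_pow x y n
  -- `ζ ^ q₀` is a root
  have hroot : (ζ ^ Fintype.card F₀) ^ 2 + i a₀ * ζ ^ Fintype.card F₀ + i b₀ = 0 := by
    have h := congrArg (fun t : F => t ^ Fintype.card F₀) hζ
    beta_reduce at h
    rw [hadd, hadd, mul_pow, hfix, hfix, ← pow_mul, mul_comm 2, pow_mul,
      zero_pow (Fintype.card_ne_zero)] at h
    exact h
  -- it is not `ζ`
  have hne : ζ ^ Fintype.card F₀ ≠ ζ := by
    intro h
    obtain ⟨z, rfl⟩ := mem_range_of_pow_card i ζ h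
    have h0 : z ^ 2 + a₀ * z * 1 + b₀ * 1 ^ 2 = 0 := by
      apply i.injective
      rw [map_zero, ← hζ]
      simp only [map_add, map_mul, map_pow, map_one]
      ring
    exact one_ne_zero (hab z 1 h0).2
  have hconj : ζ ^ Fintype.card F₀ = -(i a₀) - ζ := by
    have h3 : (ζ ^ Fintype.card F₀ - ζ) * (ζ ^ Fintype.card F₀ - (-(i a₀) - ζ)) = 0 := by
      linear_combination hroot - hζ
    rcases mul_eq_zero.1 h3 with h | h
    · exact absurd (sub_eq_zero.1 h) hne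
    · exact sub_eq_zero.1 h
  rw [pow_succ, hsub, mul_pow, hfix, hfix, hconj]
  simp only [map_add, map_mul, map_pow]
  linear_combination (-(i d₀) ^ 2) * hζ

end norm

section final

variable {F₀ F : Type*} [Field F₀] [Fintype F₀] [Field F] [Fintype F]

theorem exists_nonsquare_sim (h2 : (2 : F) ≠ 0) (i : F₀ →+* F)
    (hcard : Fintype.card F = Fintype.card F₀ ^ 2) {k : ℕ} (hk : 3 ≤ k) (a₀ b₀ : F₀)
    (hab : ∀ z₁ z₂ : F₀, z₁ ^ 2 + a₀ * z₁ * z₂ + b₀ * z₂ ^ 2 = 0 → z₁ = 0 ∧ z₂ = 0)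
    {t₀ : (Fin k ⊕ Fin k) ⊕ Fin 2 → F₀} (ht₀ : minusForm k F₀ a₀ b₀ t₀ ≠ 0) :
    ∃ g₀ : ↥(Cfsg.Geo.quadSimilarityGroup (F := F₀) ⇑(minusForm k F₀ a₀ b₀)),
      dHom (minusForm k F₀ a₀ b₀) ht₀ (k + 1) g₀ = 1 ∧
      ¬ IsSquare ((multHom ⇑(minusForm k F₀ a₀ b₀) ht₀ g₀ : F₀ˣ) : F₀) ∧
      (conjAut ⇑(minusForm k F (i a₀) (i b₀))
          (goIncl i (minusForm k F₀ a₀ b₀) (minusForm k F (i a₀) (i b₀))
            (Cfsg.Agent.Helper12.ClassPres.minusForm_vmap i k a₀ b₀) g₀)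
        ∈ Cfsg.Inn (Cfsg.POmega F ⇑(minusForm k F (i a₀) (i b₀)))
        ↔ (Odd (k + 1) ∧ Fintype.card F₀ % 4 = 1)) := by
  classical
  obtain ⟨ζ, hζ0, hζ1⟩ : ∃ ζ : F, ζ ^ 2 + i a₀ * ζ + i b₀ = 0 ∧ 2 * ζ + i a₀ ≠ 0 := by
    let _ : Algebra F₀ F := i.toAlgebra
    exact Cfsg.Agent.Helper45.exists_root_of_aniso (finrank_toAlgebra i hcard) a₀ b₀ hab
  have h1 : ζ + (-(i a₀) - ζ) = -(i a₀) := by ring
  have h2' : ζ * (-(i a₀) - ζ) = i b₀ := by linear_combination -hζ0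
  have hne : ζ ≠ -(i a₀) - ζ := by
    intro h
    apply hζ1
    linear_combination h
  have h2₀ : (2 : F₀) ≠ 0 := by
    intro h
    apply h2
    have := congrArg i h
    rwa [map_ofNat, map_zero] at this
  have hD := disc_ne_zero i hcard a₀ b₀ hab
  obtain ⟨c₀, d₀, hns⟩ := exists_binary_nonsquare h2₀ a₀ b₀ hD
  have hν₀ : c₀ ^ 2 + a₀ * c₀ * d₀ + b₀ * d₀ ^ 2 ≠ 0 := by
    intro h
    apply hns
    rw [h]
    exact ⟨0, (mul_zero 0).symm⟩
  refine ⟨nuGO k a₀ b₀ c₀ d₀ hν₀, dHom_nuGO k a₀ b₀ c₀ d₀ hν₀ ht₀, ?_, ?_⟩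
  · rw [multHom_nuGO, Units.val_mk0]
    exact hns
  · have e : (i c₀) ^ 2 + i a₀ * i c₀ * i d₀ + i b₀ * (i d₀) ^ 2
        = i (c₀ ^ 2 + a₀ * c₀ * d₀ + b₀ * d₀ ^ 2) := by
      simp only [map_add, map_mul, map_pow]
    have hν : (i c₀) ^ 2 + i a₀ * i c₀ * i d₀ + i b₀ * (i d₀) ^ 2 ≠ 0 := by
      rw [e]
      intro h
      apply hν₀
      apply i.injective
      rw [h, map_zero]
    have hgo : goIncl i (minusForm k F₀ a₀ b₀) (minusForm k F (i a₀) (i b₀))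
          (Cfsg.Agent.Helper12.ClassPres.minusForm_vmap i k a₀ b₀) (nuGO k a₀ b₀ c₀ d₀ hν₀)
        = nuGO k (i a₀) (i b₀) (i c₀) (i d₀) hν := by
      apply Subtype.ext
      apply Units.ext
      rw [goIncl_coe]
      exact nuMat_map i k a₀ b₀ c₀ d₀
    rw [hgo]
    obtain ⟨lam, hlam⟩ := isSquare_map_of_card_sq i h2 hcard (c₀ ^ 2 + a₀ * c₀ * d₀ + b₀ * d₀ ^ 2)
    have hlam' : lam * lam = (i c₀) ^ 2 + i a₀ * i c₀ * i d₀ + i b₀ * (i d₀) ^ 2 := by
      rw [e, hlam]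
    have hneg : negOne (plusForm (k + 1) F) ∈ Cfsg.Omega F ⇑(plusForm (k + 1) F) := by
      obtain ⟨hodd, h4⟩ := Cfsg.Agent.Helper12.GF.card_mod_four_of_sq h2 hcard
      have hcrit := exists_neg_one_mem_Omega_plus_iff (F := F) rfl hodd (k + 1)
      have h5 : Fintype.card F ^ (k + 1) % 4 = 1 := by
        rw [Nat.pow_mod, h4]
        simp
      exact (negOne_mem_iff (plusForm (k + 1) F)).2 (hcrit.2 h5)
    rw [conjAut_nuGO_mem_Inn_iff k (i a₀) (i b₀) (i c₀) (i d₀) ζ (-(i a₀) - ζ) lam h1 h2' hne hν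
      hlam' hk hneg]
    have hη := eta_pow_card_succ i a₀ b₀ hab ζ hζ0 c₀ d₀
    have hfin := Cfsg.Agent.Helper12.GF.isSquare_det_iff h2 i hcard hns
      (show lam ^ 2 = i (c₀ ^ 2 + a₀ * c₀ * d₀ + b₀ * d₀ ^ 2) by rw [pow_two, hlam]) hη k
    rw [← hfin, div_eq_mul_inv, mul_assoc]

end final

end Cfsg.Agent.Helper14.GFCent
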