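import Mathlib
import Cfsg.Agent.Helper44.ScalarOfCommute
import Cfsg.Agent.Helper44.CharTwoWitt
import Cfsg.Agent.Helper44.Singular
import Cfsg.Agent.Helper5.AutOA

/-!
# GR-E for S2733 (helper14 -> helper37), part a

A linear map having every singular vector as an eigenvector is a scalar (dimension at least 5);
no similitude hypothesis.
-/

set_option autoImplicit false
set_option linter.unusedSectionVars false

namespace Cfsg.Agent.Helper14.GRE

open Module QuadraticMap Cfsg.Agent.Helper44

variable {F : Type*} [Field F] [Fintype F] {ι : Type} [Fintype ι] [DecidableEq ι]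
variable (Q : QuadraticForm F (ι → F))

/-- orthogonal singular vectors have the same eigenvalue -/
theorem eigen_eq_of_perp (G : (ι → F) →ₗ[F] (ι → F))
    (heig : ∀ u, u ≠ 0 → Q u = 0 → ∃ a : F, G u = a • u) {u z : ι → F} {a c : F}
    (hu0 : u ≠ 0) (hz0 : z ≠ 0) (hu : Q u = 0) (hz : Q z = 0) (huz : polar ⇑Q u z = 0)
    (ha : G u = a • u) (hc : G z = c • z) : a = c := by
  by_cases hdep : ∃ l : F, z = l • u
  · obtain ⟨l, rfl⟩ := hdep
    have hl : l ≠ 0 := by
      rintro rfl
      exact hz0 (zero_smul _ _)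
    rw [map_smul, ha, smul_smul, smul_smul] at hc
    have h1 : (l * a - c * l) • u = 0 := by rw [sub_smul, hc, sub_self]
    rcases smul_eq_zero.1 h1 with h | h
    · have h2 : l * (a - c) = 0 := by linear_combination h
      rcases mul_eq_zero.1 h2 with h3 | h3
      · exact absurd h3 hl
      · exact sub_eq_zero.1 h3
    · exact absurd h hu0
  · have hs : Q (u + z) = 0 := by
      rw [QuadraticMap.map_add ⇑Q, hu, hz, huz]
      simp
    have hs0 : u + z ≠ 0 := by
      intro h
      apply hdep
      exact ⟨-1, by rw [neg_smul, one_smul]; exact (eq_neg_of_add_eq_zero_right h)⟩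
    obtain ⟨b, hb⟩ := heig (u + z) hs0 hs
    rw [map_add, ha, hc, smul_add] at hb
    have h1 : (a - b) • u = (b - c) • z := by
      rw [sub_smul, sub_smul]
      have := hb
      rw [← sub_eq_zero] at this ⊢
      rw [← this]
      abel
    by_cases hbc : b - c = 0
    · rw [hbc, zero_smul] at h1
      rcases smul_eq_zero.1 h1 with h | h
      · rw [sub_eq_zero] at h hbc
        rw [h, hbc]
      · exact absurd h hu0
    · exfalso
      apply hdep
      refine ⟨(b - c)⁻¹ * (a - b), ?_⟩
      rw [mul_smul, h1, smul_smul, inv_mul_cancel₀ hbc, one_smul]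

/-- a linear map fixing every singular point is a scalar -/
theorem exists_scalar_of_eigen' (hQ : (QuadraticMap.polarBilin Q).Nondegenerate)
    (hn : 5 ≤ Fintype.card ι) (G : (ι → F) →ₗ[F] (ι → F))
    (heig : ∀ u, u ≠ 0 → Q u = 0 → ∃ a : F, G u = a • u) :
    ∃ a : F, ∀ x, G x = a • x := by
  have hfr : finrank F (ι → F) = Fintype.card ι := Module.finrank_fintype_fun_eq_card F
  have hB : ∀ {u v : ι → F} {a b : F}, u ≠ 0 → v ≠ 0 → Q u = 0 → Q v = 0 →
      G u = a • u → G v = b • v → a = b := by
    intro u v a b hu0 hv0 hu hv ha hb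
    obtain ⟨z, hz0, hz, hzs⟩ := Cfsg.Agent.Helper5.AutO.exists_singular_orth Q ![u, v] (by omega)
    obtain ⟨c, hc⟩ := heig z hz0 hz
    have h1 : polar ⇑Q u z = 0 := by
      have := hzs 0
      rw [polar_comm] at this
      exact this
    have h2 : polar ⇑Q v z = 0 := by
      have := hzs 1
      rw [polar_comm] at this
      exact this
    rw [eigen_eq_of_perp Q G heig hu0 hz0 hu hz h1 ha hc,
      eigen_eq_of_perp Q G heig hv0 hz0 hv hz h2 hb hc]
  obtain ⟨u₀, hu₀0, hu₀⟩ := exists_singular Q (by rw [hfr]; omega)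
  have heig' : ∀ x : ι → F, ∃ a : F, G x = a • x := by
    intro x
    by_cases hx0 : x = 0
    · exact ⟨0, by rw [hx0, map_zero, smul_zero]⟩
    obtain ⟨u, hu, hux⟩ : ∃ u, Q u = 0 ∧ polar ⇑Q u x ≠ 0 := by
      by_cases h : polar ⇑Q u₀ x = 0
      · obtain ⟨t, ht1, ht2⟩ := exists_polar_ne_zero_both Q hQ x u₀ hx0 hu₀0
        refine ⟨t - (Q t / polar ⇑Q u₀ t) • u₀, ?_, ?_⟩
        · have h1 : Q (t - (Q t / polar ⇑Q u₀ t) • u₀)
              = Q t + Q (-((Q t / polar ⇑Q u₀ t) • u₀))
                + polar ⇑Q t (-((Q t / polar ⇑Q u₀ t) • u₀)) := by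
            rw [sub_eq_add_neg, QuadraticMap.map_add ⇑Q]
          rw [h1, QuadraticMap.map_neg, QuadraticMap.map_smul, hu₀, polar_neg_right,
            polar_smul_right, polar_comm ⇑Q t u₀, smul_eq_mul, smul_eq_mul, mul_zero, add_zero,
            div_mul_cancel₀ _ ht2, add_neg_cancel]
        · rw [polar_sub_left, polar_smul_left, h, smul_zero, sub_zero, polar_comm]
          exact ht1
      · exact ⟨u₀, hu₀, h⟩
    have hu0 : u ≠ 0 := by
      rintro rfl
      exact hux (polar_zero_left _ _)
    set c : F := -(Q x) / polar ⇑Q u x with hc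
    have hsing : Q (x + c • u) = 0 := by
      rw [QuadraticMap.map_add ⇑Q, QuadraticMap.map_smul, hu, polar_smul_right, polar_comm ⇑Q x u,
        hc]
      simp only [smul_eq_mul, mul_zero, add_zero]
      field_simp
      ring
    have hu'0 : x + c • u ≠ 0 := by
      intro h
      have h1 : polar ⇑Q u (x + c • u) = polar ⇑Q u x := by
        rw [polar_add_right, polar_smul_right, polar_self, hu]
        simp
      rw [h, polar_zero_right] at h1
      exact hux h1.symm
    obtain ⟨a, ha⟩ := heig u hu0 hu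
    obtain ⟨b, hb⟩ := heig (x + c • u) hu'0 hsing
    have hab : a = b := hB hu0 hu'0 hu hsing ha hb
    refine ⟨a, ?_⟩
    have hx : x = (x + c • u) - c • u := by abel
    conv_lhs => rw [hx]
    rw [map_sub, map_smul, hb, ha, ← hab]
    module
  obtain ⟨a, ha⟩ := LinearMap.exists_eq_smul_id_of_forall_notLinearIndependent
    (f := G) (by
      intro v
      obtain ⟨a, ha⟩ := heig' v
      rw [LinearIndependent.pair_iff]
      intro h
      have := h a (-1) (by rw [ha]; simp)
      exact one_ne_zero (neg_eq_zero.1 this.2))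
  refine ⟨a, fun x => ?_⟩
  rw [ha]
  rfl

end Cfsg.Agent.Helper14.GRE
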