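import Mathlib
import Cfsg.Agent.Helper14.GREa
import Cfsg.Agent.Helper12.GammaOB
import Cfsg.Agent.Helper44.EichlerOmega

/-!
# GR-E for S2733 (helper14 -> helper37), part b

A semilinear map commuting with all Eichler transformations is a scalar and its field automorphism
is trivial (dimension at least 5); the same for the squares of `Ω` in odd characteristic.
-/

set_option autoImplicit false
set_option linter.unusedSectionVars false

namespace Cfsg.Agent.Helper14.GRE

open Matrix Module QuadraticMap Cfsg.Agent.Helper44 Cfsg.Agent.Helper5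
  Cfsg.Agent.Helper45.OmegaParity

variable {F : Type*} [Field F] [Fintype F] {ι : Type} [Fintype ι] [DecidableEq ι]
variable (Q : QuadraticForm F (ι → F))

theorem map_mulVec_equiv (ρ : F ≃+* F) (E : Matrix ι ι F) (x : ι → F) :
    (fun i => ρ ((E *ᵥ x) i)) = (E.map ρ) *ᵥ (fun i => ρ (x i)) := by
  funext i
  exact RingHom.map_mulVec (ρ : F →+* F) E x i

theorem eichlerO_mulVec {u w : ι → F} (hu : Q u = 0) (huw : polar ⇑Q u w = 0) (x : ι → F) :
    (((eichlerO Q u w : Cfsg.isometryGroup F ⇑Q) : GL ι F) : Matrix ι ι F) *ᵥ x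
      = Helper14.eichler Q u w x := by
  have h := lin_eichlerO Q hu huw x
  rw [lin_apply] at h
  rw [h, Helper14.eichler_apply]
  simp only [QuadraticMap.polarBilin_apply_apply]

/-- **core**: a semilinear bijection commuting with all Eichler transformations -/
theorem scalar_of_semi_commute_eichler (hQ : (QuadraticMap.polarBilin Q).Nondegenerate)
    (hn : 5 ≤ Fintype.card ι) (A : Matrix ι ι F) (hA : IsUnit A) (ρ : F ≃+* F)
    (h : ∀ u w : ι → F, Q u = 0 → polar ⇑Q u w = 0 →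
      A * ((((eichlerO Q u w : Cfsg.isometryGroup F ⇑Q) : GL ι F) : Matrix ι ι F)).map ρ
        = (((eichlerO Q u w : Cfsg.isometryGroup F ⇑Q) : GL ι F) : Matrix ι ι F) * A) :
    ρ = RingEquiv.refl F ∧ ∃ a : F, A = a • (1 : Matrix ι ι F) := by
  have hfr : finrank F (ι → F) = Fintype.card ι := Module.finrank_fintype_fun_eq_card F
  set G : (ι → F) → (ι → F) := fun v => A *ᵥ (fun i => ρ (v i)) with hGdef
  have hadd : ∀ x y, G (x + y) = G x + G y := by
    intro x y
    show A *ᵥ (fun i => ρ ((x + y) i)) = A *ᵥ (fun i => ρ (x i)) + A *ᵥ (fun i => ρ (y i))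
    rw [← Matrix.mulVec_add]
    congr 1
    funext i
    simp
  have hsmul : ∀ (c : F) x, G (c • x) = ρ c • G x := by
    intro c x
    show A *ᵥ (fun i => ρ ((c • x) i)) = ρ c • (A *ᵥ (fun i => ρ (x i)))
    rw [← Matrix.mulVec_smul]
    congr 1
    funext i
    simp
  have hinj : ∀ x, G x = 0 → x = 0 := by
    intro x hx
    have h1 : (fun i => ρ (x i)) = 0 := by
      apply (Matrix.mulVec_injective_iff_isUnit.2 hA)
      rw [Matrix.mulVec_zero]
      exact hx
    funext i
    have := congrFun h1 i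
    simpa using this
  have hcomm : ∀ u w : ι → F, Q u = 0 → polar ⇑Q u w = 0 → ∀ x,
      G (Helper14.eichler Q u w x) = Helper14.eichler Q u w (G x) := by
    intro u w hu huw x
    rw [← eichlerO_mulVec Q hu huw, ← eichlerO_mulVec Q hu huw]
    show A *ᵥ (fun i => ρ (((((eichlerO Q u w : Cfsg.isometryGroup F ⇑Q) : GL ι F) :
      Matrix ι ι F) *ᵥ x) i)) = _
    rw [map_mulVec_equiv, Matrix.mulVec_mulVec, h u w hu huw, ← Matrix.mulVec_mulVec]
  have heig : ∀ u, u ≠ 0 → Q u = 0 → ∃ a : F, G u = a • u := by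
    intro u hu0 hu
    exact Cfsg.Agent.Helper12.GammaO.exists_smul_of_commute_eichler_add Q hQ
      (by rw [hfr]; omega) G hadd u hu0 (fun w hw x => hcomm u w hu hw x)
  have hρ : ρ = RingEquiv.refl F :=
    Cfsg.Agent.Helper12.GammaO.sigma_eq_refl_of_eigen Q hQ (by rw [hfr]; omega) ρ G hadd hsmul
      hinj heig
  refine ⟨hρ, ?_⟩
  have hG : ∀ v, G v = A.mulVecLin v := by
    intro v
    show A *ᵥ (fun i => ρ (v i)) = A *ᵥ v
    rw [hρ]
    rfl
  obtain ⟨a, ha⟩ := exists_scalar_of_eigen' Q hQ hn A.mulVecLin (fun u hu0 hu => by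
    obtain ⟨a, ha⟩ := heig u hu0 hu
    exact ⟨a, by rw [← hG, ha]⟩)
  refine ⟨a, ?_⟩
  ext i j
  have h1 := congrFun (ha (Pi.single j 1)) i
  rw [Matrix.mulVecLin_apply, Matrix.mulVec_single_one] at h1
  rw [Matrix.smul_apply, Matrix.one_apply]
  simpa [Pi.single_apply, eq_comm] using h1

/-- the same for the squares of `Ω`, odd characteristic -/
theorem scalar_of_semi_commute_sq_of_five (h2 : (2 : F) ≠ 0)
    (hQ : (QuadraticMap.polarBilin Q).Nondegenerate)
    (hn : 5 ≤ Fintype.card ι) (A : Matrix ι ι F) (hA : IsUnit A) (ρ : F ≃+* F)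
    (h : ∀ t : ↥(Cfsg.Omega F ⇑Q),
      A * ((((t * t).1.1 : GL ι F) : Matrix ι ι F)).map ρ
        = (((t * t).1.1 : GL ι F) : Matrix ι ι F) * A) :
    ρ = RingEquiv.refl F ∧ ∃ a : F, A = a • (1 : Matrix ι ι F) := by
  apply scalar_of_semi_commute_eichler Q hQ hn A hA ρ
  intro u w hu huw
  have huw' : polar ⇑Q u ((2 : F)⁻¹ • w) = 0 := by
    rw [polar_smul_right, huw, smul_zero]
  have hsq : eichlerO Q u ((2 : F)⁻¹ • w) * eichlerO Q u ((2 : F)⁻¹ • w) = eichlerO Q u w := by
    rw [eichlerO_mul Q hu huw' huw', ← add_smul]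
    have : (2 : F)⁻¹ + (2 : F)⁻¹ = 1 := by
      field_simp
      norm_num
    rw [this, one_smul]
  have ht := h ⟨eichlerO Q u ((2 : F)⁻¹ • w), eichlerO_mem_Omega Q hQ hn u _⟩
  have e : ((⟨eichlerO Q u ((2 : F)⁻¹ • w), eichlerO_mem_Omega Q hQ hn u _⟩ :
      ↥(Cfsg.Omega F ⇑Q)) * ⟨eichlerO Q u ((2 : F)⁻¹ • w), eichlerO_mem_Omega Q hQ hn u _⟩).1
      = eichlerO Q u w := by
    rw [← hsq]
    rfl
  rw [e] at ht
  exact ht

end Cfsg.Agent.Helper14.GRE
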