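import Mathlib
import Cfsg.Agent.Helper5.Omega3

/-!
# GR-E for S2733 (helper14 -> helper37), part c: dimension 3

`Ω₃` contains the images of the transvections of `SL₂` under the adjoint representation, and these
are squares; a semilinear map commuting with them is a scalar with trivial field automorphism.
-/

set_option autoImplicit false
set_option linter.unusedSectionVars false

namespace Cfsg.Agent.Helper14.GRE

open Matrix Cfsg.Agent.Helper5

variable {F : Type*} [Field F]

theorem mul_apply_I3 (M N : Matrix I3 I3 F) (i j : I3) :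
    (M * N) i j = M i (.inl ()) * N (.inl ()) j
      + (M i (.inr (.inl 0)) * N (.inr (.inl 0)) j + M i (.inr (.inr 0)) * N (.inr (.inr 0)) j) := by
  rw [Matrix.mul_apply, sum_I3]

theorem adM_map (ρ : F ≃+* F) (g : Matrix (Fin 2) (Fin 2) F) :
    (adM g).map ρ = adM (g.map ρ) := by
  ext i j
  have h2 : ρ (2 : F) = 2 := map_ofNat ρ 2
  rcases i with _ | _ | _ <;> rcases j with _ | _ | _ <;> simp [adM, h2]

theorem upper_map (ρ : F ≃+* F) (c : F) :
    (!![1, c; 0, 1] : Matrix (Fin 2) (Fin 2) F).map ρ = !![1, ρ c; 0, 1] := by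
  ext i j
  fin_cases i <;> fin_cases j <;> simp

theorem lower_map (ρ : F ≃+* F) (c : F) :
    (!![1, 0; c, 1] : Matrix (Fin 2) (Fin 2) F).map ρ = !![1, 0; ρ c, 1] := by
  ext i j
  fin_cases i <;> fin_cases j <;> simp

theorem transvection01_coe (c : F) :
    ((SpecialLinearGroup.transvection (zero_ne_one : (0 : Fin 2) ≠ 1) c :
      SpecialLinearGroup (Fin 2) F) : Matrix (Fin 2) (Fin 2) F) = !![1, c; 0, 1] := by
  rw [SpecialLinearGroup.transvection_coe]
  ext i j
  fin_cases i <;> fin_cases j <;> simp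

theorem transvection10_coe (c : F) :
    ((SpecialLinearGroup.transvection (one_ne_zero : (1 : Fin 2) ≠ 0) c :
      SpecialLinearGroup (Fin 2) F) : Matrix (Fin 2) (Fin 2) F) = !![1, 0; c, 1] := by
  rw [SpecialLinearGroup.transvection_coe]
  ext i j
  fin_cases i <;> fin_cases j <;> simp

/-- the transvection images are squares in `Ω₃` -/
theorem exists_sq_eq_adM (h2 : (2 : F) ≠ 0) {i j : Fin 2} (hij : i ≠ j) (c : F) :
    ∃ t : ↥(Cfsg.Omega F (Cfsg.quadFormOdd 1 F)),
      (((t * t).1.1 : GL I3 F) : Matrix I3 I3 F)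
        = adM ((SpecialLinearGroup.transvection hij c : SpecialLinearGroup (Fin 2) F) :
            Matrix (Fin 2) (Fin 2) F) := by
  refine ⟨⟨adHom (SpecialLinearGroup.transvection hij (c / 2)),
    adHom_transvection_mem_commutator h2 hij (c / 2)⟩, ?_⟩
  have e : adHom (SpecialLinearGroup.transvection hij (c / 2))
      * adHom (SpecialLinearGroup.transvection hij (c / 2))
      = adHom (SpecialLinearGroup.transvection hij c) := by
    rw [← map_mul, ← SpecialLinearGroup.transvection_add]
    congr 2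
    field_simp
    ring
  show (((adHom (SpecialLinearGroup.transvection hij (c / 2))
      * adHom (SpecialLinearGroup.transvection hij (c / 2)) : O3 F) : GL I3 F) : Matrix I3 I3 F) = _
  rw [e, adHom_coe]

section entries

local notation "oI" => (Sum.inl () : I3)
local notation "xI" => (Sum.inr (Sum.inl 0) : I3)
local notation "yI" => (Sum.inr (Sum.inr 0) : I3)

theorem up_oo (r : F) : adM !![1, r; 0, 1] oI oI = 1 := by simp [adM]
theorem up_ox (r : F) : adM !![1, r; 0, 1] oI xI = 0 := by simp [adM]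
theorem up_oy (r : F) : adM !![1, r; 0, 1] oI yI = r := by simp [adM]
theorem up_xo (r : F) : adM !![1, r; 0, 1] xI oI = -(2 * r) := by simp [adM]
theorem up_xx (r : F) : adM !![1, r; 0, 1] xI xI = 1 := by simp [adM]
theorem up_xy (r : F) : adM !![1, r; 0, 1] xI yI = -(r ^ 2) := by simp [adM]
theorem up_yo (r : F) : adM !![1, r; 0, 1] yI oI = 0 := by simp [adM]
theorem up_yx (r : F) : adM !![1, r; 0, 1] yI xI = 0 := by simp [adM]
theorem up_yy (r : F) : adM !![1, r; 0, 1] yI yI = 1 := by simp [adM]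

theorem lo_oo (c : F) : adM !![1, 0; c, 1] oI oI = 1 := by simp [adM]
theorem lo_ox (c : F) : adM !![1, 0; c, 1] oI xI = -c := by simp [adM]
theorem lo_oy (c : F) : adM !![1, 0; c, 1] oI yI = 0 := by simp [adM]
theorem lo_xo (c : F) : adM !![1, 0; c, 1] xI oI = 0 := by simp [adM]
theorem lo_xx (c : F) : adM !![1, 0; c, 1] xI xI = 1 := by simp [adM]
theorem lo_xy (c : F) : adM !![1, 0; c, 1] xI yI = 0 := by simp [adM]
theorem lo_yo (c : F) : adM !![1, 0; c, 1] yI oI = 2 * c := by simp [adM]
theorem lo_yx (c : F) : adM !![1, 0; c, 1] yI xI = -(c ^ 2) := by simp [adM]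
theorem lo_yy (c : F) : adM !![1, 0; c, 1] yI yI = 1 := by simp [adM]

/-- entries of `A * U(r) = U(c) * A` -/
theorem upper_eq (A : Matrix I3 I3 F) (r c : F)
    (h : A * adM !![1, r; 0, 1] = adM !![1, c; 0, 1] * A) (i j : I3) :
    A i oI * adM !![1, r; 0, 1] oI j + (A i xI * adM !![1, r; 0, 1] xI j
        + A i yI * adM !![1, r; 0, 1] yI j)
      = adM !![1, c; 0, 1] i oI * A oI j + (adM !![1, c; 0, 1] i xI * A xI j
        + adM !![1, c; 0, 1] i yI * A yI j) := by
  have := congrFun (congrFun h i) j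
  rwa [mul_apply_I3, mul_apply_I3] at this

theorem lower_eq (A : Matrix I3 I3 F) (r c : F)
    (h : A * adM !![1, 0; r, 1] = adM !![1, 0; c, 1] * A) (i j : I3) :
    A i oI * adM !![1, 0; r, 1] oI j + (A i xI * adM !![1, 0; r, 1] xI j
        + A i yI * adM !![1, 0; r, 1] yI j)
      = adM !![1, 0; c, 1] i oI * A oI j + (adM !![1, 0; c, 1] i xI * A xI j
        + adM !![1, 0; c, 1] i yI * A yI j) := by
  have := congrFun (congrFun h i) j
  rwa [mul_apply_I3, mul_apply_I3] at this

/-- **dimension 3** -/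
theorem scalar_of_semi_commute_sq_three (h2 : (2 : F) ≠ 0) (A : Matrix I3 I3 F) (hA : IsUnit A)
    (ρ : F ≃+* F)
    (h : ∀ t : ↥(Cfsg.Omega F (Cfsg.quadFormOdd 1 F)),
      A * ((((t * t).1.1 : GL I3 F) : Matrix I3 I3 F)).map ρ
        = (((t * t).1.1 : GL I3 F) : Matrix I3 I3 F) * A) :
    ρ = RingEquiv.refl F ∧ ∃ a : F, A = a • (1 : Matrix I3 I3 F) := by
  have hU : ∀ c : F, A * adM !![1, ρ c; 0, 1] = adM !![1, c; 0, 1] * A := by
    intro c
    obtain ⟨t, ht⟩ := exists_sq_eq_adM h2 (zero_ne_one : (0 : Fin 2) ≠ 1) c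
    have h1 := h t
    rw [ht, adM_map, transvection01_coe, upper_map] at h1
    exact h1
  have hL : ∀ c : F, A * adM !![1, 0; ρ c, 1] = adM !![1, 0; c, 1] * A := by
    intro c
    obtain ⟨t, ht⟩ := exists_sq_eq_adM h2 (one_ne_zero : (1 : Fin 2) ≠ 0) c
    have h1 := h t
    rw [ht, adM_map, transvection10_coe, lower_map] at h1
    exact h1
  have hU1 := hU 1
  have hL1 := hL 1
  rw [map_one] at hU1 hL1
  -- the equations for `c = 1`
  have u_ox := upper_eq A 1 1 hU1 oI xI
  have u_yy := upper_eq A 1 1 hU1 yI yI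
  have u_oo := upper_eq A 1 1 hU1 oI oI
  have u_oy := upper_eq A 1 1 hU1 oI yI
  have u_xo := upper_eq A 1 1 hU1 xI oI
  have u_xy := upper_eq A 1 1 hU1 xI yI
  have l_oy := lower_eq A 1 1 hL1 oI yI
  have l_xx := lower_eq A 1 1 hL1 xI xI
  have l_yy := lower_eq A 1 1 hL1 yI yI
  simp only [up_oo, up_ox, up_oy, up_xo, up_xx, up_xy, up_yo, up_yx, up_yy] at u_ox u_yy u_oo
  simp only [up_oo, up_ox, up_oy, up_xo, up_xx, up_xy, up_yo, up_yx, up_yy] at u_oy u_xo u_xy
  simp only [lo_oo, lo_ox, lo_oy, lo_xo, lo_xx, lo_xy, lo_yo, lo_yx, lo_yy] at l_oy l_xx l_yy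
  have hyx : A yI xI = 0 := by linear_combination -u_ox
  have hyo : A yI oI = 0 := by linear_combination u_yy + hyx
  have hox : A oI xI = 0 := by
    have : 2 * A oI xI = 0 := by linear_combination -u_oo - hyo
    rcases mul_eq_zero.1 this with h' | h'
    · exact absurd h' h2
    · exact h'
  have hyy : A yI yI = A oI oI := by linear_combination -u_oy - hox
  have hxx : A xI xI = A oI oI := by
    have : 2 * (A xI xI - A oI oI) = 0 := by linear_combination -u_xo + hyo
    rcases mul_eq_zero.1 this with h' | h'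
    · exact absurd h' h2
    · exact sub_eq_zero.1 h'
  have hxy : A xI yI = 0 := by linear_combination l_oy
  have hxo : A xI oI = 0 := by linear_combination -l_xx - hxy
  have hoy : A oI yI = 0 := by
    have : 2 * A oI yI = 0 := by linear_combination -l_yy + hxy
    rcases mul_eq_zero.1 this with h' | h'
    · exact absurd h' h2
    · exact h'
  have hscal : A = A oI oI • (1 : Matrix I3 I3 F) := by
    ext i j
    rcases i with _ | i | i <;> rcases j with _ | j | j
    all_goals first
      | (obtain rfl : i = 0 := Subsingleton.elim _ _)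
      | skip
    all_goals first
      | (obtain rfl : j = 0 := Subsingleton.elim _ _)
      | skip
    all_goals simp [Matrix.smul_apply, Matrix.one_apply, hyx, hyo, hox, hyy, hxx, hxy, hxo, hoy]
  have ha0 : A oI oI ≠ 0 := by
    intro h0
    rw [h0, zero_smul] at hscal
    rw [hscal] at hA
    exact not_isUnit_zero hA
  refine ⟨?_, A oI oI, hscal⟩
  ext c
  have u := upper_eq A (ρ c) c (hU c) oI yI
  simp only [up_oo, up_ox, up_oy, up_xo, up_xx, up_xy, up_yo, up_yx, up_yy] at u
  rw [hox, hyy] at u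
  have : A oI oI * (ρ c - c) = 0 := by linear_combination u
  rcases mul_eq_zero.1 this with h' | h'
  · exact absurd h' ha0
  · exact sub_eq_zero.1 h'

end entries

end Cfsg.Agent.Helper14.GRE
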