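import Mathlib
import Cfsg.Prelude.Def_Classical
import Cfsg.Agent.Helper14.GREb
import Cfsg.Agent.Helper14.GREc
import Cfsg.Agent.Helper44.StdForms
import Cfsg.Agent.Helper5.OrthSimpleStd

/-!
# GR-E for S2733 (helper14 -> helper37)

Kernel lemma for `Ω_{2k+1}(F)`, `k ≥ 1`, `|F|` odd: a semilinear map commuting with all squares of
`Ω` is a scalar and its field automorphism is trivial.
-/

set_option autoImplicit false

namespace Cfsg.Agent.Helper14.GRE

open Matrix Cfsg.Agent.Helper44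

theorem scalar_of_semi_commute_sq {F : Type*} [Field F] [Fintype F]
    (hodd : Odd (Fintype.card F)) (k : ℕ) (hk : 1 ≤ k)
    (A : Matrix (Unit ⊕ (Fin k ⊕ Fin k)) (Unit ⊕ (Fin k ⊕ Fin k)) F) (hA : IsUnit A) (ρ : F ≃+* F)
    (h : ∀ t : ↥(Cfsg.Omega F (Cfsg.quadFormOdd k F)),
      A * (((t * t).1.1 : GL (Unit ⊕ (Fin k ⊕ Fin k)) F) :
          Matrix (Unit ⊕ (Fin k ⊕ Fin k)) (Unit ⊕ (Fin k ⊕ Fin k)) F).map ρ
        = (((t * t).1.1 : GL (Unit ⊕ (Fin k ⊕ Fin k)) F) :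
          Matrix (Unit ⊕ (Fin k ⊕ Fin k)) (Unit ⊕ (Fin k ⊕ Fin k)) F) * A) :
    ρ = RingEquiv.refl F ∧ ∃ a : F, A = a • (1 : Matrix _ _ F) := by
  have h2 : (2 : F) ≠ 0 := two_ne_zero_of_odd_card rfl hodd
  by_cases hk1 : k = 1
  · subst hk1
    exact scalar_of_semi_commute_sq_three h2 A hA ρ h
  · have hn : 5 ≤ Fintype.card (Unit ⊕ (Fin k ⊕ Fin k)) := by
      rw [Fintype.card_sum, Fintype.card_sum, Fintype.card_unit, Fintype.card_fin]
      omega
    exact scalar_of_semi_commute_sq_of_five (oddForm k F) h2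
      (Cfsg.Agent.Helper5.nondegenerate_oddForm (F := F) h2 k) hn A hA ρ h

end Cfsg.Agent.Helper14.GRE
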