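import Cfsg.Agent.Helper14.KWL3a

/-!
# S4588 piece (L2b) for helper77: `cut` of an inflated function is an average of twists
-/

set_option autoImplicit false
set_option linter.unusedSectionVars false

namespace Cfsg.Agent.Helper14.KW

open Cfsg
open scoped ComplexConjugate
open Cfsg.Agent.S4426 (cut)
open Cfsg.Agent.Helper77.KW

universe u

section L

variable {H : Type u} [Group H] [Fintype H] {p : ℕ} [Fact p.Prime] {M : Ideal AlgInt}
  (z : H) [(Subgroup.zpowers z).Normal] (n : ℕ) (D : PimData p M (H ⧸ Subgroup.zpowers z))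

/-- a linear character of `p`-power order is trivial on `p`-regular elements. -/
theorem hom_apply_eq_one_of_pRegular (l : H →* ℂˣ) (hlm : ∃ m : ℕ, ∀ c : H, l c ^ (p ^ m) = 1)
    (c : H) (hc : ¬ p ∣ orderOf c) : l c = 1 := by
  obtain ⟨m, hm⟩ := hlm
  have h1 : l c ^ (p ^ m) = 1 := hm c
  have h2 : l c ^ orderOf c = 1 := by rw [← map_pow, pow_orderOf_eq_one, map_one]
  have hcop : Nat.Coprime (p ^ m) (orderOf c) :=
    Nat.Coprime.pow_left _ ((Nat.Prime.coprime_iff_not_dvd (Fact.out : p.Prime)).2 hc)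
  have h4 : orderOf (l c) ∣ Nat.gcd (p ^ m) (orderOf c) :=
    Nat.dvd_gcd (orderOf_dvd_of_pow_eq_one h1) (orderOf_dvd_of_pow_eq_one h2)
  rw [hcop.gcd_eq_one, Nat.dvd_one, orderOf_eq_one_iff] at h4
  exact h4

/-- (L2b) `cut` of an inflated function is an average of twists -/
theorem cut_comp_mk_eq_sum (hz : z ∈ Subgroup.center H) (hzn : orderOf z = p ^ n)
    (l : H →* ℂˣ) (hl : IsPrimitiveRoot ((l z : ℂˣ) : ℂ) (p ^ n))
    (hlm : ∃ m : ℕ, ∀ c : H, l c ^ (p ^ m) = 1)
    (f : H ⧸ Subgroup.zpowers z → ℂ) (hf : ∀ k : H ⧸ Subgroup.zpowers z, p ∣ orderOf k → f k = 0)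
    (c : H) :
    cut p 1 (fun c : H => (p : ℂ) ^ n * f (QuotientGroup.mk c)) c =
      ∑ r ∈ Finset.range (p ^ n), ((l c : ℂˣ) : ℂ) ^ r * f (QuotientGroup.mk c) := by
  classical
  have hP := isPGroup_zpowers (p := p) z n hzn
  unfold cut
  by_cases hc : p ∣ orderOf c
  · rw [if_pos hc]
    by_cases hk : p ∣ orderOf (QuotientGroup.mk c : H ⧸ Subgroup.zpowers z)
    · rw [hf _ hk]; simp
    · -- the `p`-regular lift of `mk c`
      obtain ⟨x, hx, hxk⟩ := Cfsg.Agent.Helper76.exists_pRegular_lift p (Subgroup.zpowers z) hP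
        (QuotientGroup.mk c) hk
      have hu : x⁻¹ * c ∈ Subgroup.zpowers z := QuotientGroup.eq.1 hxk
      obtain ⟨k, hk'⟩ := Subgroup.mem_zpowers_iff.1 hu
      have hcx : c = x * z ^ k := by rw [hk']; group
      have hlx : l x = 1 := hom_apply_eq_one_of_pRegular l hlm x hx
      have hlc : l c = l z ^ k := by rw [hcx, map_mul, hlx, one_mul, map_zpow]
      set w : ℂ := ((l c : ℂˣ) : ℂ) with hw
      have hwk : w = ((l z : ℂˣ) : ℂ) ^ k := by rw [hw, hlc]; push_cast; rfl
      have hwN : w ^ (p ^ n) = 1 := by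
        rw [hwk, ← zpow_natCast, ← zpow_mul, mul_comm, zpow_mul, zpow_natCast, hl.pow_eq_one,
          one_zpow]
      have hw1 : w ≠ 1 := by
        intro h1
        rw [hwk] at h1
        have hdvd : ((p ^ n : ℕ) : ℤ) ∣ k := (hl.zpow_eq_one_iff_dvd k).1 h1
        have hzk : z ^ k = 1 := by
          obtain ⟨t, ht⟩ := hdvd
          rw [ht, zpow_mul, zpow_natCast, ← hzn, pow_orderOf_eq_one, one_zpow]
        rw [hzk, mul_one] at hcx
        rw [hcx] at hc
        exact hx hc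
      rw [← Finset.sum_mul, Cfsg.Agent.Helper16.sum_range_pow_of_pow_eq_one hwN, if_neg hw1,
        zero_mul]
  · rw [if_neg hc]
    have hlc : l c = 1 := hom_apply_eq_one_of_pRegular l hlm c hc
    rw [hlc]
    simp
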