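import Cfsg.Agent.Helper77.KW.Defs
import Cfsg.Agent.Helper16.PrincipalNorm
import Cfsg.Agent.Helper16.Height
import Cfsg.Agent.S4441
import Cfsg.Agent.S4513
import Cfsg.Agent.S4428
import Cfsg.Agent.S0936
import Cfsg.Agent.S4431

/-!
# S4588 piece (L3a) for helper77: sums over `p`-regular elements of `H` and of `H ⧸ ⟨z⟩`
-/

set_option autoImplicit false
set_option linter.unusedSectionVars false

namespace Cfsg.Agent.Helper14.KW

open Cfsg
open scoped ComplexConjugate
open Cfsg.Agent.S4426 (cut)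
open Cfsg.Agent.Helper77.KW

universe u

section L

variable {H : Type u} [Group H] [Fintype H] {p : ℕ} [Fact p.Prime] {M : Ideal AlgInt}
  (z : H) [(Subgroup.zpowers z).Normal] (n : ℕ) (D : PimData p M (H ⧸ Subgroup.zpowers z))

/-- `⟨z⟩` is a `p`-group when `o(z) = p^n`. -/
theorem isPGroup_zpowers (hzn : orderOf z = p ^ n) : IsPGroup p (Subgroup.zpowers z) := by
  intro u
  refine ⟨n, ?_⟩
  obtain ⟨u, hu⟩ := u
  obtain ⟨k, rfl⟩ := Subgroup.mem_zpowers_iff.1 hu
  apply Subtype.ext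
  show (z ^ k) ^ (p ^ n) = 1
  rw [← zpow_natCast, ← zpow_mul, mul_comm, zpow_mul, zpow_natCast, ← hzn, pow_orderOf_eq_one,
    one_zpow]

/-- a central element centralizes `⟨z⟩`... every element centralizes `⟨z⟩` for central `z`. -/
theorem mem_centralizer_zpowers (hz : z ∈ Subgroup.center H) (y : H) :
    y ∈ Subgroup.centralizer ((Subgroup.zpowers z : Subgroup H) : Set H) := by
  rw [Subgroup.mem_centralizer_iff]
  intro u hu
  obtain ⟨k, rfl⟩ := Subgroup.mem_zpowers_iff.1 hu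
  have hzk : z ^ k ∈ Subgroup.center H := Subgroup.zpow_mem _ hz k
  exact (Subgroup.mem_center_iff.1 hzk y).symm

/-- the image of a `p`-regular element is `p`-regular. -/
theorem not_dvd_orderOf_mk {c : H} (hc : ¬ p ∣ orderOf c) :
    ¬ p ∣ orderOf (QuotientGroup.mk c : H ⧸ Subgroup.zpowers z) := by
  intro h
  apply hc
  refine h.trans ?_
  apply orderOf_dvd_of_pow_eq_one
  rw [← QuotientGroup.mk_pow, pow_orderOf_eq_one, QuotientGroup.mk_one]

/-- (L3a) sums over `p`-regular elements of `H` and of `H ⧸ ⟨z⟩` -/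
theorem sum_pRegular_comp_mk (hz : z ∈ Subgroup.center H) (hzn : orderOf z = p ^ n)
    (f : H ⧸ Subgroup.zpowers z → ℂ) :
    ∑ c : H, (if p ∣ orderOf c then (0 : ℂ) else f (QuotientGroup.mk c)) =
      ∑ k : H ⧸ Subgroup.zpowers z, (if p ∣ orderOf k then (0 : ℂ) else f k) := by
  classical
  have hP := isPGroup_zpowers (p := p) z n hzn
  have e1 : ∑ c : H, (if p ∣ orderOf c then (0 : ℂ) else f (QuotientGroup.mk c)) =
      ∑ c ∈ (Finset.univ : Finset H).filter (fun c => ¬ p ∣ orderOf c),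
        f (QuotientGroup.mk c) := by
    rw [Finset.sum_filter]
    refine Finset.sum_congr rfl (fun c _ => ?_)
    by_cases h : p ∣ orderOf c <;> simp [h]
  have e2 : ∑ k : H ⧸ Subgroup.zpowers z, (if p ∣ orderOf k then (0 : ℂ) else f k) =
      ∑ k ∈ (Finset.univ : Finset (H ⧸ Subgroup.zpowers z)).filter
        (fun k => ¬ p ∣ orderOf k), f k := by
    rw [Finset.sum_filter]
    refine Finset.sum_congr rfl (fun c _ => ?_)
    by_cases h : p ∣ orderOf c <;> simp [h]
  rw [e1, e2]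
  refine Finset.sum_bij (fun c _ => (QuotientGroup.mk c : H ⧸ Subgroup.zpowers z)) ?_ ?_ ?_ ?_
  · intro c hc
    rw [Finset.mem_filter] at hc ⊢
    exact ⟨Finset.mem_univ _, not_dvd_orderOf_mk z hc.2⟩
  · intro c₁ h₁ c₂ h₂ h
    rw [Finset.mem_filter] at h₁ h₂
    exact Cfsg.Agent.Helper76.pRegular_lift_unique p (Subgroup.zpowers z) hP c₁ c₂ h₁.2 h₂.2
      (mem_centralizer_zpowers z hz c₂) h
  · intro k hk
    rw [Finset.mem_filter] at hk
    obtain ⟨x, hx, hxk⟩ := Cfsg.Agent.Helper76.exists_pRegular_lift p (Subgroup.zpowers z) hP k hk.2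
    exact ⟨x, Finset.mem_filter.2 ⟨Finset.mem_univ _, hx⟩, hxk⟩
  · intro c _
    rfl

end L

end Cfsg.Agent.Helper14.KW
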