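import Cfsg.Agent.Helper14.KWL3a
import Cfsg.Agent.Helper72.KWL3b

/-!
# S4588 piece (L3c) for helper77: the Gram matrix of the lifted functions
-/

set_option autoImplicit false
set_option linter.unusedSectionVars false
set_option linter.unusedVariables false

namespace Cfsg.Agent.Helper14.KW

open Cfsg
open scoped ComplexConjugate
open Cfsg.Agent.S4426 (cut)
open Cfsg.Agent.Helper77.KW

universe u


section L

variable {H : Type u} [Group H] [Fintype H] {p : ℕ} [Fact p.Prime] {M : Ideal AlgInt}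
  (z : H) [(Subgroup.zpowers z).Normal] (n : ℕ) (D : PimData p M (H ⧸ Subgroup.zpowers z))

/-- `|H| = p^n |H ⧸ ⟨z⟩|` -/
theorem card_eq_pow_mul_card_quotient (hzn : orderOf z = p ^ n) :
    Nat.card H = p ^ n * Nat.card (H ⧸ Subgroup.zpowers z) := by
  rw [Subgroup.card_eq_card_quotient_mul_card_subgroup (Subgroup.zpowers z), Nat.card_zpowers,
    hzn, mul_comm]

/-- (L3c) the Gram matrix of the lifted functions -/
theorem classInner_cut_lift_lift (hz : z ∈ Subgroup.center H) (hzn : orderOf z = p ^ n)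
    (i j : Fin D.e) :
    classInner (cut p 1 (lift z n D i)) (lift z n D j) =
      (p : ℂ) ^ n * ((if i = j then (1 : ℂ) else 0) + (D.t : ℂ)) := by
  classical
  have hp0 : (p : ℂ) ≠ 0 := Nat.cast_ne_zero.2 (Fact.out : p.Prime).ne_zero
  have hK0 : (Nat.card (H ⧸ Subgroup.zpowers z) : ℂ) ≠ 0 :=
    Nat.cast_ne_zero.2 Nat.card_pos.ne'
  -- the function on the quotient
  set g : H ⧸ Subgroup.zpowers z → ℂ := fun k =>
    ((D.ε i : ℂ) * ((p : ℂ) ^ n * D.pim i k)) * conj ((D.ε j : ℂ) * ((p : ℂ) ^ n * D.pim j k))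
    with hg
  have hterm : ∀ c : H, cut p 1 (lift z n D i) c * conj (lift z n D j c) =
      (if p ∣ orderOf c then (0 : ℂ) else g (QuotientGroup.mk c)) := by
    intro c
    unfold cut lift
    by_cases hc : p ∣ orderOf c
    · rw [if_pos hc, if_pos hc, zero_mul]
    · rw [if_neg hc, if_neg hc, one_mul]
  have hgvan : ∀ k : H ⧸ Subgroup.zpowers z, p ∣ orderOf k → g k = 0 := by
    intro k hk
    have : D.pim i k = 0 := D.hvan i k hk
    rw [hg]
    simp only [this, mul_zero, zero_mul]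
  have hsum : ∑ c : H, cut p 1 (lift z n D i) c * conj (lift z n D j c) =
      ∑ k : H ⧸ Subgroup.zpowers z, g k := by
    rw [Finset.sum_congr rfl (fun c _ => hterm c), sum_pRegular_comp_mk z n hz hzn g]
    refine Finset.sum_congr rfl (fun k _ => ?_)
    by_cases hk : p ∣ orderOf k
    · rw [if_pos hk, hgvan k hk]
    · rw [if_neg hk]
  have hgk : ∀ k : H ⧸ Subgroup.zpowers z, g k =
      ((D.ε i : ℂ) * (D.ε j : ℂ) * ((p : ℂ) ^ n * (p : ℂ) ^ n)) *
        (D.pim i k * conj (D.pim j k)) := by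
    intro k
    rw [hg]
    have hcj : conj (D.ε j : ℂ) = (D.ε j : ℂ) := by
      rw [← Complex.ofReal_intCast, Complex.conj_ofReal]
    simp only [map_mul, map_pow, Complex.conj_natCast, hcj]
    ring
  have hinner : ∑ k : H ⧸ Subgroup.zpowers z, D.pim i k * conj (D.pim j k) =
      (Nat.card (H ⧸ Subgroup.zpowers z) : ℂ) * classInner (D.pim i) (D.pim j) := by
    unfold classInner
    rw [← mul_assoc, mul_inv_cancel₀ hK0, one_mul]
  have hεi : (D.ε i : ℂ) * (D.ε i : ℂ) = 1 := by
    rcases D.hε i with h | h <;> rw [h] <;> norm_num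
  have hεj : (D.ε j : ℂ) * (D.ε j : ℂ) = 1 := by
    rcases D.hε j with h | h <;> rw [h] <;> norm_num
  unfold classInner
  rw [hsum, Finset.sum_congr rfl (fun k _ => hgk k), ← Finset.mul_sum, hinner,
    Cfsg.Agent.Helper72.KW.classInner_pim_pim D i j, card_eq_pow_mul_card_quotient z n hzn]
  push_cast
  have hpn : ((p : ℂ) ^ n) ≠ 0 := pow_ne_zero _ hp0
  by_cases hij : i = j
  · subst hij
    rw [if_pos rfl]
    field_simp
    linear_combination ((1 : ℂ) + (D.ε i : ℂ) * (D.ε i : ℂ) * (D.t : ℂ) + (D.t : ℂ)) * hεi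
  · rw [if_neg hij]
    field_simp
    linear_combination ((D.ε j : ℂ) * (D.ε j : ℂ) * (D.t : ℂ)) * hεi + (D.t : ℂ) * hεj
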