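import Mathlib
import Cfsg.Agent.Helper73.LBSpA

/-!
Helper14 (for helper73, S2730): an automorphism of `PSp_{2m}(F)` commuting with conjugation by the
subfield group `Sp_{2m}(F₀)`, `F₀` the fixed field of `σ`, is a power of the standard field
automorphism attached to `σ`.
-/

set_option autoImplicit false
set_option linter.unusedSectionVars false
set_option linter.unusedVariables false

namespace Cfsg.Agent.Helper14.LBSp

open Matrix Cfsg.Agent.Helper13 Cfsg.Agent.Helper94.SpRoot Cfsg.Agent.Helper5.AutSp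
  Cfsg.Agent.Helper14.AutPSp Cfsg.Agent.Helper37.SpFour Cfsg.Agent.Helper73.LBSp

section general

variable {F : Type*} [Field F] {m : ℕ}

local notation "Vec" => (Fin m ⊕ Fin m → F)
local notation "Mat" => Matrix (Fin m ⊕ Fin m) (Fin m ⊕ Fin m) F
local notation "Sp" => Matrix.symplecticGroup (Fin m) F
local notation "B" => Cfsg.sympForm m F

theorem sp_smul_add (g : Sp) (x y : Vec) : g • (x + y) = g • x + g • y := by
  rw [smul_def, smul_def, smul_def, Matrix.mulVec_add]

theorem sp_smul_neg (g : Sp) (x : Vec) : g • (-x) = -(g • x) := by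
  rw [smul_def, smul_def, Matrix.mulVec_neg]

/-- an isometry fixing a non-zero vector and mapping every vector to `±` itself is the identity -/
theorem eq_one_of_forall_pm {g : Sp} {e : Vec} (he : e ≠ 0) (hge : g • e = e)
    (h : ∀ b : Vec, b ≠ 0 → g • b = b ∨ g • b = -b) : g = 1 := by
  apply ext_smul
  intro b
  rw [one_smul]
  by_cases hb : b = 0
  · rw [hb, smul_def, Matrix.mulVec_zero]
  rcases h b hb with h1 | h1
  · exact h1
  -- `g b = -b`
  have key : (2 : F) = 0 → g • b = b := by
    intro h2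
    rw [h1]
    have : (2 : F) • b = 0 := by rw [h2, zero_smul]
    rw [two_smul] at this
    exact neg_eq_of_add_eq_zero_left this
  by_cases heb : e + b = 0
  · have : b = -e := eq_neg_of_add_eq_zero_right heb
    rw [this, sp_smul_neg, hge]
  rcases h (e + b) heb with h2 | h2
  · rw [sp_smul_add, hge, h1] at h2
    -- `e - b = e + b`
    have h3 : (2 : F) • b = 0 := by
      rw [two_smul]
      have := add_left_cancel h2
      nth_rewrite 1 [← this]
      exact neg_add_cancel b
    rcases smul_eq_zero.1 h3 with h4 | h4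
    · exact key h4
    · exact absurd h4 hb
  · rw [sp_smul_add, hge, h1, neg_add] at h2
    -- `e - b = -e - b`
    have h3 : (2 : F) • e = 0 := by
      rw [two_smul]
      have := add_right_cancel h2
      nth_rewrite 2 [this]
      exact add_neg_cancel e
    rcases smul_eq_zero.1 h3 with h4 | h4
    · exact key h4
    · exact absurd h4 he

/-- an isometry mapping every vector to `±` itself is trivial in `PSp` -/
theorem prj_eq_one_of_forall_pm (hm : 1 ≤ m) (g : Sp)
    (h : ∀ b : Vec, b ≠ 0 → g • b = b ∨ g • b = -b) : prj g = 1 := by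
  obtain ⟨e, f, hef⟩ := exists_pair (F := F) (m := m) hm
  have he := ne_zero_of_pair hef
  rcases h e he with h1 | h1
  · rw [eq_one_of_forall_pm he h1 h, map_one]
  · have hn : prj (Cfsg.Agent.S0246.negOne m F) = 1 :=
      (QuotientGroup.eq_one_iff _).2 Cfsg.Agent.S0246.negOne_mem_center
    have h2 : g * Cfsg.Agent.S0246.negOne m F = 1 := by
      apply eq_one_of_forall_pm he
      · rw [mul_smul, negOne_smul, sp_smul_neg, h1, neg_neg]
      · intro b hb
        rw [mul_smul, negOne_smul, sp_smul_neg]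
        rcases h b hb with h3 | h3
        · right; rw [h3]
        · left; rw [h3, neg_neg]
    have h3 := congrArg prj h2
    rw [map_mul, hn, mul_one, map_one] at h3
    exact h3

/-- `PSp_{2m}(F)` has trivial centre -/
theorem center_psp_eq_bot' (hm : 2 ≤ m) : Subgroup.center (Cfsg.PSp m F) = ⊥ := by
  rw [eq_bot_iff]
  intro x hx
  obtain ⟨g, rfl⟩ := prj_surjective x
  rw [Subgroup.mem_bot]
  apply prj_eq_one_of_forall_pm (by omega)
  intro b hb
  have h2 : Commute (prj g) (prj (tE b (1 : F))) := by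
    have := Subgroup.mem_center_iff.1 hx (prj (tE b (1 : F)))
    exact this.symm
  exact (commute_prj_tE_iff hm g hb one_ne_zero).1 h2

theorem conj_injective_psp (hm : 2 ≤ m) :
    Function.Injective (MulAut.conj : Cfsg.PSp m F →* MulAut (Cfsg.PSp m F)) := by
  rw [injective_iff_map_eq_one]
  intro x hx
  have hxc : x ∈ Subgroup.center (Cfsg.PSp m F) := by
    rw [Subgroup.mem_center_iff]
    intro y
    have := congrArg (fun β : MulAut (Cfsg.PSp m F) => β y) hx
    simp only [MulAut.conj_apply, MulAut.one_apply] at this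
    calc y * x = x * y * x⁻¹ * x := by rw [this]
      _ = x * y := by group
  rw [center_psp_eq_bot' hm, Subgroup.mem_bot] at hxc
  exact hxc

end general

section descent

variable {F : Type*} [Field F] [Fintype F] {m : ℕ}

local notation "Vec" => (Fin m ⊕ Fin m → F)
local notation "Mat" => Matrix (Fin m ⊕ Fin m) (Fin m ⊕ Fin m) F
local notation "Sp" => Matrix.symplecticGroup (Fin m) F
local notation "B" => Cfsg.sympForm m F

/-- transvections and ring homomorphisms -/
theorem sympTransvection_map {R S : Type*} [Field R] [Field S] (i : R →+* S)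
    (v : Fin m ⊕ Fin m → R) (c : R) :
    (Cfsg.sympTransvection m v c).map i = Cfsg.sympTransvection m (fun k => i (v k)) (i c) := by
  have hJ : ∀ a b, i (Matrix.J (Fin m) R a b) = Matrix.J (Fin m) S a b := by
    intro a b
    rw [← J_map i]
    rfl
  unfold Cfsg.sympTransvection
  ext a b
  simp only [Matrix.map_apply, Matrix.add_apply, Matrix.smul_apply, Matrix.vecMulVec_apply,
    Matrix.one_apply, Matrix.mulVec, dotProduct, smul_eq_mul, map_add, map_mul, map_sum, hJ]
  congr 1
  split_ifs <;> simp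

/-- conjugation by a transvection with entries in the fixed field comes from the subfield group -/
theorem subT_tE (σ : F ≃+* F) (a₀ : Fin m ⊕ Fin m → AutPSL.fixF σ) (c₀ : AutPSL.fixF σ) :
    subT m σ (tE a₀ c₀) = MulAut.conj (prj (tE (fun k => (a₀ k : F)) (c₀ : F))) := by
  have h1 : gspIncl (AutPSL.fixF σ).subtype (spIncl (tE a₀ c₀))
      = spIncl (tE (fun k => (a₀ k : F)) (c₀ : F)) := by
    apply Subtype.ext
    apply Units.ext
    rw [gspIncl_coe, spIncl_coe]
    exact sympTransvection_map (AutPSL.fixF σ).subtype a₀ c₀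
  unfold subT
  rw [MonoidHom.comp_apply, fixHomSp_apply, h1, gspHom_spIncl]

/-- an automorphism commuting with the subfield group fixes the transvections with fixed
entries -/
theorem map_tE_of_comm (hm : 2 ≤ m) (σ : F ≃+* F) (β : MulAut (Cfsg.PSp m F))
    (hβ : ∀ s, β * subT m σ s = subT m σ s * β) {a : Vec} {c : F} (ha : ∀ j, σ (a j) = a j)
    (hc : σ c = c) : β (prj (tE a c)) = prj (tE a c) := by
  set a₀ : Fin m ⊕ Fin m → AutPSL.fixF σ := fun j => ⟨a j, (AutPSL.mem_fixF σ).2 (ha j)⟩ with ha₀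
  set c₀ : AutPSL.fixF σ := ⟨c, (AutPSL.mem_fixF σ).2 hc⟩ with hc₀
  have h1 := hβ (tE a₀ c₀)
  rw [subT_tE] at h1
  have h2 : (fun k => (a₀ k : F)) = a := rfl
  have h3 : (c₀ : F) = c := rfl
  rw [h2, h3] at h1
  apply conj_injective_psp hm
  have h4 : MulAut.conj (β (prj (tE a c))) = β * MulAut.conj (prj (tE a c)) * β⁻¹ := by
    apply MulEquiv.ext
    intro y
    simp only [MulAut.mul_apply, MulAut.conj_apply, map_mul, map_inv, MulAut.apply_inv_self]
  rw [h4, h1, mul_inv_cancel_right]

end descent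

section core

variable {F : Type*} [Field F] [Fintype F] {m : ℕ}

local notation "Vec" => (Fin m ⊕ Fin m → F)
local notation "Mat" => Matrix (Fin m ⊕ Fin m) (Fin m ⊕ Fin m) F
local notation "Sp" => Matrix.symplecticGroup (Fin m) F
local notation "B" => Cfsg.sympForm m F

theorem single_fix (σ : F ≃+* F) (j : Fin m ⊕ Fin m) (j' : Fin m ⊕ Fin m) :
    σ ((Pi.single j 1 : Vec) j') = (Pi.single j 1 : Vec) j' := by
  by_cases hj : j' = j
  · rw [hj, Pi.single_eq_same, map_one]
  · rw [Pi.single_eq_of_ne hj, map_zero]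

theorem single_ne_zero (j : Fin m ⊕ Fin m) : (Pi.single j 1 : Vec) ≠ 0 := by
  intro h
  have := congrFun h j
  rw [Pi.single_eq_same, Pi.zero_apply] at this
  exact one_ne_zero this

/-- the core: a semilinear similitude `x ↦ g τ(x)` whose automorphism fixes all transvections with
`σ`-fixed data is a scalar, and `τ` fixes the fixed field of `σ` -/
theorem scalar_of_fix (hm : 2 ≤ m) (σ τ : F ≃+* F) (g : ↥(Cfsg.GSp m F))
    (hfix : ∀ (a : Vec) (c : F), (∀ j, σ (a j) = a j) → σ c = c →
      semiAut g.1 g.2 τ (prj (tE a c)) = prj (tE a c)) :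
    (∃ μ : F, μ ≠ 0 ∧ (g.1 : Mat) = μ • (1 : Mat)) ∧ ∀ k : F, σ k = k → τ k = k := by
  obtain ⟨lam, hS0⟩ := semiSim_of_mem g.2 τ
  obtain ⟨G, hG⟩ : ∃ G : Vec → Vec, G = fun x : Vec => (g.1 : Mat) *ᵥ (fun i => τ (x i)) :=
    ⟨_, rfl⟩
  have hS : SemiSim τ lam G := by rw [hG]; exact hS0
  have hgl : semiAut hS.gl hS.gl_mem τ = semiAut g.1 g.2 τ := by
    subst hG
    exact semiAut_congr hS.gl_eq_of_mulVec _ _ τ
  clear hS0
  have hlam := hS.ne
  -- lines spanned by fixed vectors are preserved
  have hline : ∀ a : Vec, a ≠ 0 → (∀ j, σ (a j) = a j) → ∃ l : F, G a = l • a := by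
    intro a ha hfa
    apply mem_span_of_perp_perp ha
    intro x hx
    by_cases hx0 : x = 0
    · rw [hx0, sympForm_zero_right]
    have hGa : G a ≠ 0 := by
      intro h0
      rw [← hS.map_zero'] at h0
      exact ha (hS.inj h0)
    have h1 : Commute (prj (tE x 1)) (prj (tE a (1 : F))) :=
      (commute_tE_iff hm hx0 ha one_ne_zero one_ne_zero).2 (B_eq_zero_symm hx)
    have h2 := hfix a 1 hfa (map_one σ)
    rw [← hgl, hS.semiAut_tE] at h2
    rw [← h2, commute_tE_iff hm hx0 hGa one_ne_zero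
      (div_ne_zero ((map_ne_zero τ).2 one_ne_zero) hlam)] at h1
    exact B_eq_zero_symm h1
  -- the two reference basis vectors
  obtain ⟨j0, hj0⟩ : ∃ j0 : Fin m ⊕ Fin m, j0 = Sum.inl ⟨0, by omega⟩ := ⟨_, rfl⟩
  obtain ⟨j1, hj1⟩ : ∃ j1 : Fin m ⊕ Fin m, j1 = Sum.inr ⟨0, by omega⟩ := ⟨_, rfl⟩
  have hj01 : j1 ≠ j0 := by rw [hj0, hj1]; exact Sum.inr_ne_inl
  obtain ⟨e, he⟩ : ∃ e : Vec, e = Pi.single j0 1 := ⟨_, rfl⟩
  have he0 : e ≠ 0 := by rw [he]; exact single_ne_zero j0
  have hfe : ∀ j, σ (e j) = e j := by rw [he]; exact single_fix σ j0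
  obtain ⟨μ, hμ⟩ := hline e he0 hfe
  have hμ0 : μ ≠ 0 := by
    rintro rfl
    rw [zero_smul, ← hS.map_zero'] at hμ
    exact he0 (hS.inj hμ)
  -- all basis vectors are scaled by `μ`
  have hbasis : ∀ j, G (Pi.single j 1) = μ • (Pi.single j 1 : Vec) := by
    intro j
    by_cases hj : j = j0
    · rw [hj, ← he]; exact hμ
    obtain ⟨l, hl⟩ := hline (Pi.single j 1) (single_ne_zero j) (single_fix σ j)
    have hea0 : e + Pi.single j 1 ≠ 0 := by
      intro h0
      have := congrFun h0 j0
      rw [Pi.add_apply, he, Pi.single_eq_same, Pi.single_eq_of_ne (Ne.symm hj), add_zero,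
        Pi.zero_apply] at this
      exact one_ne_zero this
    have hfea : ∀ j', σ ((e + Pi.single j 1 : Vec) j') = (e + Pi.single j 1 : Vec) j' := by
      intro j'
      rw [Pi.add_apply, map_add, hfe, single_fix]
    obtain ⟨l', hl'⟩ := hline _ hea0 hfea
    rw [hS.add, hμ, hl] at hl'
    have h0 := congrFun hl' j0
    have h1 := congrFun hl' j
    simp only [Pi.add_apply, Pi.smul_apply, smul_eq_mul, he, Pi.single_eq_same,
      Pi.single_eq_of_ne (Ne.symm hj), Pi.single_eq_of_ne hj, mul_one, mul_zero, add_zero,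
      zero_add] at h0 h1
    rw [hl, h1, ← h0]
  refine ⟨⟨μ, hμ0, ?_⟩, ?_⟩
  · ext i j
    have h2 := congrFun (hbasis j) i
    rw [hG] at h2
    have h1 : (fun k => τ ((Pi.single j 1 : Vec) k)) = (Pi.single j 1 : Vec) := by
      funext k
      exact single_fix τ j k
    simp only [h1, Matrix.mulVec_single_one, Matrix.col_apply] at h2
    rw [Matrix.smul_apply, Matrix.one_apply, smul_eq_mul]
    rw [Pi.smul_apply, smul_eq_mul, Pi.single_apply] at h2
    exact h2
  · intro k hk
    obtain ⟨f, hf⟩ : ∃ f : Vec, f = Pi.single j1 1 := ⟨_, rfl⟩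
    have ha0 : k • e + f ≠ 0 := by
      intro h0
      have := congrFun h0 j1
      rw [Pi.add_apply, Pi.smul_apply, he, hf, Pi.single_eq_same, Pi.single_eq_of_ne hj01,
        smul_zero, zero_add, Pi.zero_apply] at this
      exact one_ne_zero this
    have hfa : ∀ j', σ ((k • e + f : Vec) j') = (k • e + f : Vec) j' := by
      intro j'
      rw [Pi.add_apply, Pi.smul_apply, smul_eq_mul, map_add, map_mul, hk, hfe, hf, single_fix]
    obtain ⟨l, hl⟩ := hline _ ha0 hfa
    rw [hS.add, hS.semi, hμ, hf, hbasis j1] at hl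
    have h0 := congrFun hl j0
    have h1 := congrFun hl j1
    simp only [Pi.add_apply, Pi.smul_apply, smul_eq_mul, he, Pi.single_eq_same,
      Pi.single_eq_of_ne (Ne.symm hj01), Pi.single_eq_of_ne hj01, mul_one, mul_zero, add_zero,
      zero_add] at h0 h1
    -- `h0 : τ k * μ = l * k`, `h1 : μ = l`
    rw [← h1] at h0
    have h3 : μ * (τ k - k) = 0 := by linear_combination h0
    rcases mul_eq_zero.1 h3 with h4 | h4
    · exact absurd h4 hμ0
    · exact sub_eq_zero.1 h4

end core

section main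

variable {F : Type*} [Field F] [Fintype F] {m : ℕ}

local notation "Vec" => (Fin m ⊕ Fin m → F)
local notation "Mat" => Matrix (Fin m ⊕ Fin m) (Fin m ⊕ Fin m) F
local notation "Sp" => Matrix.symplecticGroup (Fin m) F
local notation "B" => Cfsg.sympForm m F

/-- an automorphism commuting with the subfield group preserves transvections -/
theorem mem_tvSub_of_comm {r : ℕ} [Fact r.Prime] [CharP F r] (hm : 2 ≤ m) (σ : F ≃+* F)
    (β : MulAut (Cfsg.PSp m F)) (hβ : ∀ s, β * subT m σ s = subT m σ s * β) :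
    β ∈ tvSub m F := by
  by_cases h : m = 2 → r ≠ 2
  · exact tvPres_of_aut (p := r) hm h β
  · push Not at h
    obtain ⟨rfl, rfl⟩ := h
    apply tvPres_of_isTv_map_t0
    have h1 : β t0 = t0 := by
      unfold t0
      apply map_tE_of_comm (le_refl 2) σ β hβ
      · intro j
        by_cases hj : j = Sum.inl 0
        · rw [hj, Pi.single_eq_same, map_one]
        · rw [Pi.single_eq_of_ne hj, map_zero]
      · exact map_one σ
    rw [h1]
    exact isTv_t0

/-- a field automorphism fixing the fixed field of `σ` pointwise is a power of `σ` -/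
theorem mem_zpowers_of_fix (σ τ : F ≃+* F) (h : ∀ k : F, σ k = k → τ k = k) :
    τ ∈ Subgroup.zpowers σ := by
  classical
  have hfin : Finite (F ≃+* F) := DFunLike.finite _
  let τ' : F ≃ₐ[AutPSL.fixF σ] F :=
    AlgEquiv.ofRingEquiv (f := τ) (fun k => h _ ((AutPSL.mem_fixF σ).1 k.2))
  obtain ⟨g, hg⟩ := (FixedPoints.toAlgAut_bijective (Subgroup.zpowers σ) F).2 τ'
  have h1 : (g : F ≃+* F) = τ := by
    ext x
    have := DFunLike.congr_fun hg x
    exact this
  rw [← h1]
  exact g.2

/-- **(B)** the centraliser of the subfield group in `Aut(PSp_{2m}(F))` consists of powers of the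
standard field automorphism -/
theorem centralizer_subT_le (hm : 2 ≤ m) (hs : m = 2 → 3 ≤ Fintype.card F) (σ : F ≃+* F)
    (β : MulAut (Cfsg.PSp m F)) (hβ : ∀ s, β * subT m σ s = subT m σ s * β) :
    β ∈ Subgroup.zpowers (spField σ : MulAut (Cfsg.PSp m F)) := by
  obtain ⟨r, hr⟩ := CharP.exists F
  have := hr
  have : Fact r.Prime := ⟨CharP.char_is_prime F r⟩
  obtain ⟨g, τ, hgτ⟩ := (mem_tvSub_iff (p := r) hm).1 (mem_tvSub_of_comm hm σ β hβ)
  have hfix : ∀ (a : Vec) (c : F), (∀ j, σ (a j) = a j) → σ c = c →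
      semiAut g.1 g.2 τ (prj (tE a c)) = prj (tE a c) := by
    intro a c ha hc
    have h1 := map_tE_of_comm hm σ β hβ ha hc
    rw [hgτ, gspHom_mul_spField] at h1
    exact h1
  obtain ⟨⟨μ, hμ0, hμ⟩, hτ⟩ := scalar_of_fix hm σ τ g hfix
  have hg : g = gspScalar (Units.mk0 μ hμ0) := by
    apply Subtype.ext
    apply Units.ext
    rw [gspScalar_coe, Units.val_mk0]
    exact hμ
  rw [hgτ, hg, gspHom_gspScalar, one_mul]
  obtain ⟨n, hn⟩ := Subgroup.mem_zpowers_iff.1 (mem_zpowers_of_fix σ τ hτ)
  rw [Subgroup.mem_zpowers_iff]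
  refine ⟨n, ?_⟩
  rw [← hn]
  exact (map_zpow (spFieldHom m F) σ n).symm

end main

end Cfsg.Agent.Helper14.LBSp
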