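import Mathlib
import Cfsg.Agent.Helper73.LBSpA

/-!
Helper14 (for helper73, S2730): an automorphism of `PSp_{2m}(F)` of prime order `p ≠ char F` which
is not inner-diagonal is conjugate under `Inndiag` to a standard field automorphism of order `p`.
-/

set_option autoImplicit false
set_option linter.unusedSectionVars false
set_option linter.unusedVariables false

namespace Cfsg.Agent.Helper14.LBSp

open Matrix Cfsg.Agent.Helper5.AutSp Cfsg.Agent.Helper14.AutPSp Cfsg.Agent.Helper14.AutPSL
  Cfsg.Agent.Helper37.SpFour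

variable {F : Type*} [Field F] [Fintype F] {m : ℕ}

/-- an automorphism of prime order different from the characteristic preserves transvections -/
theorem mem_tvSub_of_orderOf {r : ℕ} [Fact r.Prime] [CharP F r] (hm : 2 ≤ m) {p : ℕ}
    [Fact p.Prime] (hpr : p ≠ r) (x : MulAut (Cfsg.PSp m F)) (hord : orderOf x = p) :
    x ∈ tvSub m F := by
  by_cases h : m = 2 → r ≠ 2
  · exact tvPres_of_aut (p := r) hm h x
  · push Not at h
    obtain ⟨rfl, rfl⟩ := h
    have hp : p.Prime := Fact.out
    have hodd : Odd p := hp.odd_of_ne_two hpr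
    obtain ⟨k, hk⟩ := hodd
    have h2 : x ^ 2 ∈ tvSub 2 F := Subgroup.sq_mem_of_index_two index_tvSub x
    have h3 : (x ^ 2) ^ (k + 1) = x := by
      rw [← pow_mul, show 2 * (k + 1) = p + 1 by omega, pow_succ, ← hord, pow_orderOf_eq_one,
        one_mul]
    rw [← h3]
    exact Subgroup.pow_mem _ h2 _

/-- **(R)** reduction to a standard field automorphism -/
theorem exists_conj_std {r : ℕ} [Fact r.Prime] [CharP F r] (hm : 2 ≤ m)
    (hs : m = 2 → 3 ≤ Fintype.card F) {p : ℕ} [Fact p.Prime] (hpr : p ≠ r)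
    (x : MulAut (Cfsg.PSp m F)) (hord : orderOf x = p) (hnot : ¬ Cfsg.IsInnerDiagonalAutPSp x) :
    ∃ (h : MulAut (Cfsg.PSp m F)) (σ : F ≃+* F), h ∈ Cfsg.inndiagPSp m F ∧ orderOf σ = p ∧
      x = h * spField σ * h⁻¹ := by
  have hp : p.Prime := Fact.out
  obtain ⟨g, σ, rfl⟩ := (mem_tvSub_iff (p := r) hm).1 (mem_tvSub_of_orderOf hm hpr x hord)
  have hσ1 : σ ≠ 1 := by
    rintro rfl
    apply hnot
    rw [spField_one, mul_one]
    exact ⟨g.1, g.2, semiAut_isInduced g.1 g.2 _⟩
  have hxp : (gspHom m F g * spField σ) ^ p = 1 := by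
    rw [← hord]
    exact pow_orderOf_eq_one _
  have hσp : σ ^ p = 1 := by
    have h1 := hxp
    rw [pow_gspHom_spField] at h1
    have h2 : gspHom m F (NrmG σ g p) * spField (σ ^ p) = gspHom m F 1 * spField 1 := by
      rw [h1, map_one, spField_one, mul_one]
    exact sigma_unique_sp hm h2
  have hσord : orderOf σ = p := orderOf_eq_prime hσp hσ1
  obtain ⟨h, hh⟩ := sp_field_case hm σ hp.pos hσord g hxp
  exact ⟨gspHom m F h, σ, mem_inndiagPSp.mpr ⟨h, rfl⟩, hσord, hh⟩

end Cfsg.Agent.Helper14.LBSp
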