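import Mathlib
import Cfsg.Agent.S0280

/-!
Helper14: local balance for `PSU_n(q)` (S2687), part D: the number of fixed points of an
automorphism of order dividing the prime `ℓ` is congruent to the group order mod `ℓ`; `PSU_n(q)`
has even order for `q` odd; hence an involutory automorphism of `PSU_n(q)`, `q` odd, has an even
number of fixed points.
-/

set_option autoImplicit false
set_option linter.unusedSectionVars false
set_option linter.unusedVariables false

namespace Cfsg.Agent.Helper14.LBU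

/-- fixed points of an automorphism of order dividing the prime `ℓ` -/
theorem card_eqLocus_modEq {K : Type*} [Group K] [Finite K] {ℓ : ℕ} [Fact ℓ.Prime]
    (β : MulAut K) (hβ : β ^ ℓ = 1) :
    Nat.card K ≡ Nat.card ↥(MonoidHom.eqLocus β.toMonoidHom (MonoidHom.id K)) [MOD ℓ] := by
  have hP : IsPGroup ℓ ↥(Subgroup.zpowers β) := by
    rintro ⟨g, hg⟩
    obtain ⟨j, rfl⟩ := Subgroup.mem_zpowers_iff.mp hg
    refine ⟨1, ?_⟩
    apply Subtype.ext
    show (β ^ j) ^ ℓ ^ 1 = 1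
    rw [pow_one, ← zpow_natCast, ← zpow_mul, mul_comm, zpow_mul, zpow_natCast, hβ, one_zpow]
  have h1 := hP.card_modEq_card_fixedPoints K
  have h2 : Nat.card ↥(MonoidHom.eqLocus β.toMonoidHom (MonoidHom.id K)) =
      Nat.card ↑(MulAction.fixedPoints ↥(Subgroup.zpowers β) K) := by
    apply Nat.card_congr
    refine Equiv.subtypeEquivRight (fun x => ?_)
    constructor
    · intro hx g
      obtain ⟨g, hg⟩ := g
      obtain ⟨j, rfl⟩ := Subgroup.mem_zpowers_iff.mp hg
      have hx' : β ∈ MulAction.stabilizer (MulAut K) x := by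
        rw [MulAction.mem_stabilizer_iff]
        exact hx
      have := Subgroup.zpow_mem _ hx' j
      rw [MulAction.mem_stabilizer_iff] at this
      exact this
    · intro hx
      exact hx ⟨β, Subgroup.mem_zpowers β⟩
  rw [h2]
  exact h1

/-- `PSU_n(q)` has even order for odd `q`, `n ≥ 3` -/
theorem two_dvd_card_PSU {F : Type*} [Field F] [Fintype F] {q n : ℕ}
    (hF : Fintype.card F = q ^ 2) (hn : 3 ≤ n) (hq : Odd q) :
    2 ∣ Nat.card (Cfsg.PSU n F q) := by
  obtain ⟨m, rfl⟩ : ∃ m, n = m + 2 := ⟨n - 2, by omega⟩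
  have h := Cfsg.Agent.S0280.result (F := F) hF (m + 2) (by omega)
  rw [Finset.prod_range_succ', Finset.prod_range_succ'] at h
  have e0 : (if Even 0 then q ^ (0 + 1) + 1 else q ^ (0 + 1) - 1) = q + 1 := by
    rw [if_pos Even.zero, zero_add, pow_one]
  have e1 : (if Even (0 + 1) then q ^ (0 + 1 + 1) + 1 else q ^ (0 + 1 + 1) - 1) = q ^ 2 - 1 := by
    rw [if_neg (by decide)]
  rw [e0, e1] at h
  generalize Nat.card (Cfsg.PSU (m + 2) F q) = P at h ⊢
  generalize (∏ k ∈ Finset.range m, if Even (k + 1 + 1) then q ^ (k + 1 + 1 + 1) + 1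
    else q ^ (k + 1 + 1 + 1) - 1) = R at h
  generalize q ^ ((m + 2) * (m + 2 - 1) / 2) = Q at h
  obtain ⟨d, hd⟩ : Nat.gcd (m + 2) (q + 1) ∣ q + 1 := Nat.gcd_dvd_right _ _
  have hg0 : 0 < Nat.gcd (m + 2) (q + 1) := Nat.gcd_pos_of_pos_left _ (by omega)
  generalize Nat.gcd (m + 2) (q + 1) = g at h hd hg0
  have hq1 : 1 ≤ q := hq.pos
  have hsq : q ^ 2 - 1 = (q - 1) * (q + 1) := by
    obtain ⟨t, rfl⟩ : ∃ t, q = t + 1 := ⟨q - 1, by omega⟩
    have : (t + 1) ^ 2 = (t + 1 - 1) * (t + 1 + 1) + 1 := by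
      simp only [Nat.add_sub_cancel]
      ring
    rw [this, Nat.add_sub_cancel]
  rw [hsq] at h
  have h2 : (q + 1) * (g * P) = (q + 1) * (Q * R * (q - 1) * (g * d)) := by
    rw [← hd]
    linarith
  have h3 : g * P = g * (Q * R * (q - 1) * d) := by
    have := Nat.eq_of_mul_eq_mul_left (by omega : 0 < q + 1) h2
    rw [this]
    ring
  have h4 : P = Q * R * (q - 1) * d := Nat.eq_of_mul_eq_mul_left hg0 h3
  rw [h4]
  obtain ⟨t, ht⟩ := hq
  have : 2 ∣ q - 1 := ⟨t, by omega⟩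
  exact Dvd.dvd.mul_right (Dvd.dvd.mul_left this _) _

/-- an involutory automorphism of `PSU_n(q)`, `q` odd, has an even number of fixed points -/
theorem not_coprime_two_eqLocus {F : Type*} [Field F] [Fintype F] {q n : ℕ}
    (hF : Fintype.card F = q ^ 2) (hn : 3 ≤ n) (hq : Odd q) (β : MulAut (Cfsg.PSU n F q))
    (hβ : orderOf β = 2) :
    ¬ Nat.Coprime 2 (Nat.card ↥(MonoidHom.eqLocus β.toMonoidHom (MonoidHom.id (Cfsg.PSU n F q)))) := by
  haveI : Fact (Nat.Prime 2) := ⟨Nat.prime_two⟩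
  have hβ2 : β ^ 2 = 1 := by rw [← hβ]; exact pow_orderOf_eq_one β
  have h1 := card_eqLocus_modEq (ℓ := 2) β hβ2
  have h2 := two_dvd_card_PSU hF hn hq
  have h3 : 2 ∣ Nat.card ↥(MonoidHom.eqLocus β.toMonoidHom (MonoidHom.id (Cfsg.PSU n F q))) :=
    (Nat.modEq_zero_iff_dvd.mp ((h1.symm.trans (Nat.modEq_zero_iff_dvd.mpr h2))))
  intro hc
  have := Nat.eq_one_of_dvd_coprimes hc (dvd_refl 2) h3
  omega

end Cfsg.Agent.Helper14.LBU
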