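import Mathlib
import Cfsg.Agent.Helper45.LBLB

/-!
Helper14: local balance for `PSU_n(q)` (S2687), part E (p = 2): two-field rigidity, symplectic
case.  `F₀ → F` a field embedding, `N₀` an invertible alternating matrix over `F₀`: a semilinear
map `x ↦ X ρ(x)` of `F^n` which normalises, up to scalars, every symplectic transvection of `N₀`
with coefficients in `F₀` is a scalar, and `ρ` is trivial on `F₀`.
-/

set_option autoImplicit false
set_option linter.unusedSectionVars false
set_option linter.unusedVariables false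

namespace Cfsg.Agent.Helper14.LBU

open Matrix

variable {F : Type*} [Field F] {F₀ : Type*} [Field F₀] {n : ℕ}

/-- all vectors with coordinates in `F₀` are eigenvectors: scalar, and `ρ` fixes `F₀` -/
theorem scalar_of_eigen_all (hn : 2 ≤ n) (i : F₀ →+* F) (X : GL (Fin n) F) (ρ : F ≃+* F)
    (h : ∀ v₀ : Fin n → F₀, ∃ a : F, (X : Matrix (Fin n) (Fin n) F) *ᵥ (fun k => ρ (i (v₀ k)))
      = a • (fun k => i (v₀ k))) :
    (∀ c : F₀, ρ (i c) = i c) ∧ ∃ ζ : F, (X : Matrix (Fin n) (Fin n) F) = ζ • 1 := by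
  classical
  have K1 : ∀ a : Fin n, ∃ c : F, (X : Matrix (Fin n) (Fin n) F) *ᵥ
      (fun k => ρ ((Pi.single a (1 : F) : Fin n → F) k)) = c • Pi.single a (1 : F) := by
    intro a
    obtain ⟨c, hc⟩ := h (Pi.single a 1)
    refine ⟨c, ?_⟩
    have e : (fun k => i ((Pi.single a (1 : F₀) : Fin n → F₀) k)) = Pi.single a (1 : F) := by
      ext k
      simp only [Pi.single_apply]
      split_ifs <;> simp
    have e' : (fun k => ρ (i ((Pi.single a (1 : F₀) : Fin n → F₀) k))) =
        fun k => ρ ((Pi.single a (1 : F) : Fin n → F) k) := by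
      ext k
      rw [← e]
    rw [e', e] at hc
    exact hc
  have K2 : ∀ a b : Fin n, a ≠ b → ∀ x ∈ Set.range i, ∃ c : F,
      (X : Matrix (Fin n) (Fin n) F) *ᵥ
        (fun k => ρ ((Pi.single a (1 : F) + Pi.single b x : Fin n → F) k))
        = c • (Pi.single a (1 : F) + Pi.single b x) := by
    rintro a b hab _ ⟨x, rfl⟩
    obtain ⟨c, hc⟩ := h (Pi.single a 1 + Pi.single b x)
    refine ⟨c, ?_⟩
    have e : (fun k => i ((Pi.single a (1 : F₀) + Pi.single b x : Fin n → F₀) k)) =
        Pi.single a (1 : F) + Pi.single b (i x) := by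
      ext k
      simp only [Pi.add_apply, Pi.single_apply, map_add]
      split_ifs <;> simp
    have e' : (fun k => ρ (i ((Pi.single a (1 : F₀) + Pi.single b x : Fin n → F₀) k))) =
        fun k => ρ ((Pi.single a (1 : F) + Pi.single b (i x) : Fin n → F) k) := by
      ext k
      rw [← e]
    rw [e', e] at hc
    exact hc
  obtain ⟨h1, h2⟩ := Cfsg.Agent.Helper45.LBL.scalar_of_eigen hn X ρ (Set.range i)
    ⟨1, map_one i⟩ K1 K2
  exact ⟨fun c => h1 (i c) ⟨c, rfl⟩, h2⟩

/-- a rank one nilpotent perturbation: if `X (1 + N') = l (1 + N) X` with `N² = 0 = N'²` then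
`l = 1` -/
theorem eq_one_of_unipotent (hn : 1 ≤ n) (X : GL (Fin n) F) {N N' : Matrix (Fin n) (Fin n) F}
    (hN : N * N = 0) (hN' : N' * N' = 0) {l : F}
    (h : (X : Matrix (Fin n) (Fin n) F) * (1 + N') = l • ((1 + N) * (X : Matrix (Fin n) (Fin n) F))) :
    l = 1 := by
  have hXi : (X : Matrix (Fin n) (Fin n) F) * ((X⁻¹ : GL (Fin n) F) : Matrix (Fin n) (Fin n) F) = 1 :=
    Units.mul_inv X
  -- `X N' = (l (1 + N) - 1) X`
  have h1 : (X : Matrix (Fin n) (Fin n) F) * N' =
      (l • (1 + N) - 1) * (X : Matrix (Fin n) (Fin n) F) := by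
    have : (X : Matrix (Fin n) (Fin n) F) * N' =
        (X : Matrix (Fin n) (Fin n) F) * (1 + N') - (X : Matrix (Fin n) (Fin n) F) := by
      rw [Matrix.mul_add, Matrix.mul_one, add_sub_cancel_left]
    rw [this, h, Matrix.sub_mul, Matrix.smul_mul, Matrix.one_mul]
  have h2 : (l • (1 + N) - 1) * (l • (1 + N) - 1) * (X : Matrix (Fin n) (Fin n) F) = 0 := by
    rw [Matrix.mul_assoc, ← h1, ← Matrix.mul_assoc, ← h1, Matrix.mul_assoc, hN', Matrix.mul_zero]
  have h3 : (l • (1 + N) - 1) * (l • (1 + N) - 1) = 0 := by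
    have := congrArg (fun Z => Z * ((X⁻¹ : GL (Fin n) F) : Matrix (Fin n) (Fin n) F)) h2
    simp only [Matrix.mul_assoc, hXi, Matrix.mul_one, Matrix.zero_mul] at this
    exact this
  -- expand
  have h4 : (l • (1 + N) - 1) * (l • (1 + N) - 1) =
      ((l - 1) * (l - 1)) • (1 : Matrix (Fin n) (Fin n) F) + (2 * l * (l - 1)) • N := by
    have e : l • (1 + N) - 1 = (l - 1) • (1 : Matrix (Fin n) (Fin n) F) + l • N := by
      rw [smul_add, sub_smul, one_smul]
      abel
    rw [e, Matrix.add_mul, Matrix.mul_add, Matrix.mul_add, Matrix.smul_mul, Matrix.smul_mul,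
      Matrix.smul_mul, Matrix.smul_mul, Matrix.mul_smul, Matrix.mul_smul, Matrix.mul_smul,
      Matrix.mul_smul, Matrix.one_mul, Matrix.one_mul, Matrix.mul_one, hN, smul_zero, smul_zero,
      add_zero, smul_smul, smul_smul, smul_smul]
    rw [add_assoc, ← add_smul]
    congr 2
    ring
  rw [h4] at h3
  -- multiply by `N`
  have h5 : ((l - 1) * (l - 1)) • N = 0 := by
    have := congrArg (fun Z => Z * N) h3
    simp only [Matrix.add_mul, Matrix.smul_mul, Matrix.one_mul, hN, smul_zero, add_zero,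
      Matrix.zero_mul] at this
    exact this
  by_contra hl
  have hl' : (l - 1) * (l - 1) ≠ 0 := mul_ne_zero (sub_ne_zero.mpr hl) (sub_ne_zero.mpr hl)
  have hN0 : N = 0 := by
    rcases smul_eq_zero.mp h5 with h6 | h6
    · exact absurd h6 hl'
    · exact h6
  rw [hN0, smul_zero, add_zero] at h3
  have h7 := congrFun (congrFun h3 ⟨0, by omega⟩) ⟨0, by omega⟩
  rw [Matrix.smul_apply, Matrix.one_apply_eq, smul_eq_mul, mul_one, Matrix.zero_apply] at h7
  exact hl' h7

end Cfsg.Agent.Helper14.LBU
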