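import Mathlib
import Cfsg.Agent.Helper14.LBUe

/-!
Helper14: local balance for `PSU_n(q)` (S2687), part F (p = 2): two-field rigidity for the
symplectic group of an invertible alternating matrix `N₀` over the subfield `F₀`.
-/

set_option autoImplicit false
set_option linter.unusedSectionVars false
set_option linter.unusedVariables false

namespace Cfsg.Agent.Helper14.LBU

open Matrix

variable {F : Type*} [Field F] {F₀ : Type*} [Field F₀] {n : ℕ}

theorem map_one_add_vecMulVec {R S : Type*} [CommRing R] [CommRing S] {f : R → S}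
    (hf0 : f 0 = 0) (hf1 : f 1 = 1) (hadd : ∀ x y, f (x + y) = f x + f y)
    (hmul : ∀ x y, f (x * y) = f x * f y) (c r : Fin n → R) :
    (1 + vecMulVec c r : Matrix (Fin n) (Fin n) R).map f =
      1 + vecMulVec (fun k => f (c k)) (fun k => f (r k)) := by
  ext a b
  rw [Matrix.map_apply, Matrix.add_apply, Matrix.add_apply, Matrix.vecMulVec_apply,
    Matrix.vecMulVec_apply, hadd, hmul]
  congr 1
  by_cases hab : a = b
  · rw [hab, Matrix.one_apply_eq, Matrix.one_apply_eq, hf1]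
  · rw [Matrix.one_apply_ne hab, Matrix.one_apply_ne hab, hf0]

/-- the symplectic transvection `1 + (N₀ v) vᵀ` -/
theorem tv_symp_mem (N₀ : Matrix (Fin n) (Fin n) F₀) (hN : N₀ᵀ = -N₀)
    (halt : ∀ v : Fin n → F₀, v ⬝ᵥ N₀ *ᵥ v = 0) (v : Fin n → F₀) :
    (1 + vecMulVec (N₀ *ᵥ v) v) * N₀ * (1 + vecMulVec (N₀ *ᵥ v) v)ᵀ = N₀ ∧
      (1 + vecMulVec (N₀ *ᵥ v) v).det = 1 := by
  constructor
  · have h1 : v ᵥ* N₀ = -(N₀ *ᵥ v) := by
      rw [← Matrix.mulVec_transpose, hN, Matrix.neg_mulVec]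
    have h2 : -(N₀ *ᵥ v) ⬝ᵥ v = 0 := by
      rw [neg_dotProduct, dotProduct_comm, halt, neg_zero]
    have e1 : vecMulVec (N₀ *ᵥ v) v * N₀ = -vecMulVec (N₀ *ᵥ v) (N₀ *ᵥ v) := by
      rw [Matrix.vecMulVec_mul, h1, Matrix.vecMulVec_neg]
    have e2 : N₀ * vecMulVec v (N₀ *ᵥ v) = vecMulVec (N₀ *ᵥ v) (N₀ *ᵥ v) := by
      rw [Matrix.mul_vecMulVec]
    have e3 : vecMulVec (N₀ *ᵥ v) v * N₀ * vecMulVec v (N₀ *ᵥ v) = 0 := by
      rw [Matrix.vecMulVec_mul, h1, Matrix.vecMulVec_mul_vecMulVec, h2, zero_smul,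
        Matrix.vecMulVec_zero]
    rw [Matrix.transpose_add, Matrix.transpose_one, Matrix.transpose_vecMulVec]
    calc (1 + vecMulVec (N₀ *ᵥ v) v) * N₀ * (1 + vecMulVec v (N₀ *ᵥ v))
        = N₀ + vecMulVec (N₀ *ᵥ v) v * N₀ + N₀ * vecMulVec v (N₀ *ᵥ v)
          + vecMulVec (N₀ *ᵥ v) v * N₀ * vecMulVec v (N₀ *ᵥ v) := by
          rw [Matrix.add_mul, Matrix.one_mul, Matrix.mul_add, Matrix.mul_one, Matrix.add_mul]
          abel
      _ = N₀ := by
          rw [e3, e1, e2]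
          abel
  · rw [Matrix.vecMulVec_eq Unit, Matrix.det_one_add_replicateCol_mul_replicateRow, halt, add_zero]

/-- **two-field rigidity, symplectic case** -/
theorem rigid_symp (hn : 2 ≤ n) (i : F₀ →+* F) (N₀ : Matrix (Fin n) (Fin n) F₀)
    (hN : N₀ᵀ = -N₀) (halt : ∀ v : Fin n → F₀, v ⬝ᵥ N₀ *ᵥ v = 0) (hdet : IsUnit N₀)
    (X : GL (Fin n) F) (ρ : F ≃+* F)
    (h : ∀ P : Matrix (Fin n) (Fin n) F₀, P * N₀ * Pᵀ = N₀ → P.det = 1 →
      ∃ l : F, (X : Matrix (Fin n) (Fin n) F) * (P.map i).map ρ =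
        l • (P.map i * (X : Matrix (Fin n) (Fin n) F))) :
    (∀ c : F₀, ρ (i c) = i c) ∧ ∃ ζ : F, (X : Matrix (Fin n) (Fin n) F) = ζ • 1 := by
  classical
  apply scalar_of_eigen_all hn i X ρ
  intro c₀
  by_cases hc0 : c₀ = 0
  · refine ⟨0, ?_⟩
    rw [hc0, zero_smul]
    have : (fun k => ρ (i ((0 : Fin n → F₀) k))) = 0 := by
      ext k
      simp
    rw [this, Matrix.mulVec_zero]
  obtain ⟨Ni, hNi⟩ := hdet.exists_right_inv
  -- `v` with `N₀ v = c₀`
  obtain ⟨v, hv⟩ : ∃ v : Fin n → F₀, N₀ *ᵥ v = c₀ := ⟨Ni *ᵥ c₀, by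
    rw [Matrix.mulVec_mulVec, hNi, Matrix.one_mulVec]⟩
  have hv0 : v ≠ 0 := by
    rintro rfl
    rw [Matrix.mulVec_zero] at hv
    exact hc0 hv.symm
  obtain ⟨hP1, hP2⟩ := tv_symp_mem N₀ hN halt v
  rw [hv] at hP1 hP2
  obtain ⟨l, hl⟩ := h _ hP1 hP2
  -- the matrices over `F`
  set ch : Fin n → F := fun k => i (c₀ k) with hch
  set rh : Fin n → F := fun k => i (v k) with hrh
  have hmap1 : (1 + vecMulVec c₀ v : Matrix (Fin n) (Fin n) F₀).map i = 1 + vecMulVec ch rh :=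
    map_one_add_vecMulVec (map_zero i) (map_one i) (map_add i) (map_mul i) c₀ v
  have hmap2 : (1 + vecMulVec ch rh : Matrix (Fin n) (Fin n) F).map ρ =
      1 + vecMulVec (fun k => ρ (ch k)) (fun k => ρ (rh k)) :=
    map_one_add_vecMulVec (map_zero ρ) (map_one ρ) (map_add ρ) (map_mul ρ) ch rh
  rw [hmap1, hmap2] at hl
  have hdot : rh ⬝ᵥ ch = 0 := by
    have h1 : rh ⬝ᵥ ch = i (v ⬝ᵥ c₀) := by
      simp only [dotProduct, map_sum, map_mul, hch, hrh]
    rw [h1, ← hv, halt, map_zero]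
  have hNN : vecMulVec ch rh * vecMulVec ch rh = 0 := by
    rw [Matrix.vecMulVec_mul_vecMulVec, hdot, zero_smul, Matrix.vecMulVec_zero]
  have hNN' : vecMulVec (fun k => ρ (ch k)) (fun k => ρ (rh k)) *
      vecMulVec (fun k => ρ (ch k)) (fun k => ρ (rh k)) = 0 := by
    rw [Matrix.vecMulVec_mul_vecMulVec]
    have : (fun k => ρ (rh k)) ⬝ᵥ (fun k => ρ (ch k)) = ρ (rh ⬝ᵥ ch) := by
      simp only [dotProduct, map_sum, map_mul]
    rw [this, hdot, map_zero, zero_smul, Matrix.vecMulVec_zero]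
  have hl1 : l = 1 := eq_one_of_unipotent (by omega) X hNN hNN' hl
  rw [hl1, one_smul, Matrix.mul_add, Matrix.add_mul, Matrix.mul_one, Matrix.one_mul,
    add_right_inj, Matrix.mul_vecMulVec, Matrix.vecMulVec_mul] at hl
  -- a nonzero coordinate of `ρ rh`
  obtain ⟨k, hk⟩ : ∃ k, v k ≠ 0 := by
    by_contra hcon
    push Not at hcon
    exact hv0 (funext hcon)
  have hk' : ρ (rh k) ≠ 0 := by
    rw [hrh]
    intro h0
    have h1 : i (v k) = 0 := by
      have := ρ.injective (by rw [h0, map_zero] : ρ (i (v k)) = ρ 0)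
      exact this
    exact hk (i.injective (by rw [h1, map_zero]))
  refine ⟨(rh ᵥ* (X : Matrix (Fin n) (Fin n) F)) k / ρ (rh k), ?_⟩
  ext a
  have := congrFun (congrFun hl a) k
  rw [Matrix.vecMulVec_apply, Matrix.vecMulVec_apply] at this
  rw [Pi.smul_apply, smul_eq_mul]
  field_simp
  rw [this]
  ring

end Cfsg.Agent.Helper14.LBU
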