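import Mathlib
import Cfsg.Agent.Helper14.LBUe
import Cfsg.Agent.Helper14.CharTwoRefl

/-!
Helper14: local balance for `PSU_n(q)` (S2687), part G (p = 2): the quadratic form of a symmetric
matrix, and the matrices of its Eichler transformations.
-/

set_option autoImplicit false
set_option linter.unusedSectionVars false
set_option linter.unusedVariables false

namespace Cfsg.Agent.Helper14.LBU

open Matrix QuadraticMap

variable {F₀ : Type*} [Field F₀] {n : ℕ}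

/-- the quadratic form `x ↦ xᵀ N₀ x` -/
noncomputable def qOf (N₀ : Matrix (Fin n) (Fin n) F₀) : QuadraticForm F₀ (Fin n → F₀) :=
  LinearMap.BilinMap.toQuadraticMap (Matrix.toLinearMap₂' F₀ N₀)

theorem qOf_apply (N₀ : Matrix (Fin n) (Fin n) F₀) (x : Fin n → F₀) :
    qOf N₀ x = x ⬝ᵥ N₀ *ᵥ x := by
  unfold qOf
  rw [LinearMap.BilinMap.toQuadraticMap_apply, Matrix.toLinearMap₂'_apply']

theorem dot_symm (N₀ : Matrix (Fin n) (Fin n) F₀) (hN : N₀ᵀ = N₀) (x y : Fin n → F₀) :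
    y ⬝ᵥ N₀ *ᵥ x = x ⬝ᵥ N₀ *ᵥ y := by
  rw [dotProduct_comm, ← Matrix.vecMul_transpose, hN, ← Matrix.dotProduct_mulVec]

theorem polar_qOf (N₀ : Matrix (Fin n) (Fin n) F₀) (hN : N₀ᵀ = N₀) (x y : Fin n → F₀) :
    polar (qOf N₀) x y = 2 * (x ⬝ᵥ N₀ *ᵥ y) := by
  unfold qOf
  rw [LinearMap.BilinMap.polar_toQuadraticMap, Matrix.toLinearMap₂'_apply',
    Matrix.toLinearMap₂'_apply', dot_symm N₀ hN x y]
  ring

theorem polarBilin_qOf (N₀ : Matrix (Fin n) (Fin n) F₀) (hN : N₀ᵀ = N₀) (x y : Fin n → F₀) :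
    polarBilin (qOf N₀) x y = 2 * (x ⬝ᵥ N₀ *ᵥ y) := by
  rw [polarBilin_apply_apply, polar_qOf N₀ hN]

/-- nondegeneracy -/
theorem qOf_nondegenerate (h2 : (2 : F₀) ≠ 0) (N₀ : Matrix (Fin n) (Fin n) F₀) (hN : N₀ᵀ = N₀)
    (hdet : IsUnit N₀) (x : Fin n → F₀) (hx : ∀ y, polar (qOf N₀) x y = 0) : x = 0 := by
  have h1 : x ᵥ* N₀ = 0 := by
    ext k
    have := hx (Pi.single k 1)
    rw [polar_qOf N₀ hN, Matrix.dotProduct_mulVec, dotProduct_single_one] at this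
    rcases mul_eq_zero.mp this with h | h
    · exact absurd h h2
    · exact h
  obtain ⟨Ni, hNi⟩ := hdet.exists_right_inv
  have := congrArg (fun z => z ᵥ* Ni) h1
  simp only [Matrix.vecMul_vecMul, hNi, Matrix.vecMul_one, Matrix.zero_vecMul] at this
  exact this

/-- a matrix preserving the quadratic form preserves the symmetric matrix -/
theorem transpose_mul_mul_of_isometry (h2 : (2 : F₀) ≠ 0) (N₀ : Matrix (Fin n) (Fin n) F₀)
    (hN : N₀ᵀ = N₀) (P : Matrix (Fin n) (Fin n) F₀)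
    (hP : ∀ x, qOf N₀ (P *ᵥ x) = qOf N₀ x) : Pᵀ * N₀ * P = N₀ := by
  have hD : ∀ x y : Fin n → F₀, x ⬝ᵥ (Pᵀ * N₀ * P) *ᵥ y = (P *ᵥ x) ⬝ᵥ N₀ *ᵥ (P *ᵥ y) := by
    intro x y
    rw [← Matrix.mulVec_mulVec, ← Matrix.mulVec_mulVec, Matrix.dotProduct_mulVec,
      Matrix.vecMul_transpose]
  have hpol : ∀ x y : Fin n → F₀, (P *ᵥ x) ⬝ᵥ N₀ *ᵥ (P *ᵥ y) = x ⬝ᵥ N₀ *ᵥ y := by
    intro x y
    have h1 : polar (qOf N₀) (P *ᵥ x) (P *ᵥ y) = polar (qOf N₀) x y := by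
      unfold polar
      rw [← Matrix.mulVec_add, hP, hP, hP]
    rw [polar_qOf N₀ hN, polar_qOf N₀ hN] at h1
    exact mul_left_cancel₀ h2 h1
  ext a b
  have := hD (Pi.single a 1) (Pi.single b 1)
  rw [hpol, Matrix.mulVec_single_one, Matrix.mulVec_single_one, single_one_dotProduct,
    single_one_dotProduct] at this
  exact this

end Cfsg.Agent.Helper14.LBU
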