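import Mathlib
import Cfsg.Agent.Helper14.LBUg

/-!
Helper14: local balance for `PSU_n(q)` (S2687), part H (p = 2): the matrices of the Eichler
transformations of `x ↦ xᵀ N₀ x` over `F₀`, and the semilinear maps normalising them.
-/

set_option autoImplicit false
set_option linter.unusedSectionVars false
set_option linter.unusedVariables false

namespace Cfsg.Agent.Helper14.LBU

open Matrix QuadraticMap Cfsg.Agent.Helper14

variable {F : Type*} [Field F] {F₀ : Type*} [Field F₀] {n : ℕ}

theorem eq_one_of_pow_char {K : Type*} [Field K] (p : ℕ) [Fact p.Prime] [CharP K p] {x : K}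
    (h : x ^ p = 1) : x = 1 := by
  apply frobenius_inj K p
  rw [frobenius_def, frobenius_def, h, one_pow]

/-- powers of an Eichler transformation -/
theorem eichler_pow' {V : Type*} [AddCommGroup V] [Module F₀ V] (Q : QuadraticForm F₀ V) (u w : V)
    (hu : Q u = 0) (huw : polarBilin Q u w = 0) (k : ℕ) :
    (eichler Q u w) ^ k = eichler Q u (k • w) := by
  induction k with
  | zero =>
    rw [pow_zero, zero_smul]
    apply LinearMap.ext
    intro x
    rw [eichler_zero]
    rfl
  | succ k ih =>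
    rw [pow_succ, ih]
    apply LinearMap.ext
    intro x
    rw [Module.End.mul_apply, eichler_eichler Q u (k • w) w hu (by rw [map_nsmul, huw, smul_zero]) huw,
      succ_nsmul]

theorem map_pow_matrix {R S : Type*} [CommRing R] [CommRing S] (f : R →+* S)
    (M : Matrix (Fin n) (Fin n) R) (k : ℕ) : (M.map f) ^ k = (M ^ k).map f := by
  rw [← RingHom.mapMatrix_apply, ← RingHom.mapMatrix_apply, map_pow]

/-- the matrix of an Eichler transformation -/
noncomputable def eichlerMat (N₀ : Matrix (Fin n) (Fin n) F₀) (u w : Fin n → F₀) :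
    Matrix (Fin n) (Fin n) F₀ :=
  LinearMap.toMatrix' (eichler (qOf N₀) u w)

theorem eichlerMat_mulVec (N₀ : Matrix (Fin n) (Fin n) F₀) (u w x : Fin n → F₀) :
    eichlerMat N₀ u w *ᵥ x = eichler (qOf N₀) u w x := by
  unfold eichlerMat
  rw [LinearMap.toMatrix'_mulVec]

theorem eichlerMat_isom (h2 : (2 : F₀) ≠ 0) (N₀ : Matrix (Fin n) (Fin n) F₀) (hN : N₀ᵀ = N₀)
    (u w : Fin n → F₀) (hu : qOf N₀ u = 0) (huw : polarBilin (qOf N₀) u w = 0) :
    (eichlerMat N₀ u w)ᵀ * N₀ * eichlerMat N₀ u w = N₀ := by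
  apply transpose_mul_mul_of_isometry h2 N₀ hN
  intro x
  rw [eichlerMat_mulVec, quad_eichler (qOf N₀) u w hu huw]

theorem eichlerMat_pow_char (p : ℕ) [CharP F₀ p] (N₀ : Matrix (Fin n) (Fin n) F₀)
    (u w : Fin n → F₀) (hu : qOf N₀ u = 0) (huw : polarBilin (qOf N₀) u w = 0) :
    eichlerMat N₀ u w ^ p = 1 := by
  unfold eichlerMat
  have h1 : ∀ k : ℕ, (LinearMap.toMatrix' (eichler (qOf N₀) u w)) ^ k =
      LinearMap.toMatrix' ((eichler (qOf N₀) u w) ^ k) := by
    intro k
    induction k with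
    | zero =>
      rw [pow_zero, pow_zero, Module.End.one_eq_id, LinearMap.toMatrix'_id]
    | succ k ih =>
      rw [pow_succ, pow_succ, ih, LinearMap.toMatrix'_mul]
  rw [h1, eichler_pow' (qOf N₀) u w hu huw]
  have h2 : (p • w : Fin n → F₀) = 0 := by
    rw [← Nat.cast_smul_eq_nsmul F₀, CharP.cast_eq_zero, zero_smul]
  rw [h2]
  have h3 : eichler (qOf N₀) u 0 = LinearMap.id := by
    apply LinearMap.ext
    intro x
    rw [eichler_zero]
    rfl
  rw [h3, LinearMap.toMatrix'_id]

theorem eichlerMat_det (p : ℕ) [Fact p.Prime] [CharP F₀ p] (N₀ : Matrix (Fin n) (Fin n) F₀)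
    (u w : Fin n → F₀) (hu : qOf N₀ u = 0) (huw : polarBilin (qOf N₀) u w = 0) :
    (eichlerMat N₀ u w).det = 1 := by
  apply eq_one_of_pow_char p
  rw [← Matrix.det_pow, eichlerMat_pow_char p N₀ u w hu huw, Matrix.det_one]

/-- a semilinear map normalising an Eichler matrix up to a scalar commutes with it -/
theorem semi_commute_eichler (p : ℕ) [Fact p.Prime] [CharP F₀ p] (hn : 1 ≤ n) (h2 : (2 : F₀) ≠ 0)
    (i : F₀ →+* F) (N₀ : Matrix (Fin n) (Fin n) F₀) (hN : N₀ᵀ = N₀) (X : GL (Fin n) F)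
    (ρ : F ≃+* F)
    (h : ∀ P : Matrix (Fin n) (Fin n) F₀, Pᵀ * N₀ * P = N₀ → P.det = 1 →
      ∃ l : F, (X : Matrix (Fin n) (Fin n) F) * (P.map i).map ρ =
        l • (P.map i * (X : Matrix (Fin n) (Fin n) F)))
    (u w : Fin n → F₀) (hu : qOf N₀ u = 0) (huw : polarBilin (qOf N₀) u w = 0) :
    (X : Matrix (Fin n) (Fin n) F) * ((eichlerMat N₀ u w).map i).map ρ =
      (eichlerMat N₀ u w).map i * (X : Matrix (Fin n) (Fin n) F) := by
  have : CharP F p := (RingHom.charP_iff i i.injective p).mp inferInstance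
  obtain ⟨l, hl⟩ := h _ (eichlerMat_isom h2 N₀ hN u w hu huw) (eichlerMat_det p N₀ u w hu huw)
  set A : Matrix (Fin n) (Fin n) F := ((eichlerMat N₀ u w).map i).map ρ with hA
  set B : Matrix (Fin n) (Fin n) F := (eichlerMat N₀ u w).map i with hB
  have hBp : B ^ p = 1 := by
    rw [hB, map_pow_matrix i, eichlerMat_pow_char p N₀ u w hu huw]
    exact Matrix.map_one _ (map_zero i) (map_one i)
  have hAp : A ^ p = 1 := by
    have : A = B.map (ρ : F →+* F) := rfl
    rw [this, map_pow_matrix (ρ : F →+* F), hBp]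
    exact Matrix.map_one _ (map_zero ρ) (map_one ρ)
  have hpow : ∀ k : ℕ, (X : Matrix (Fin n) (Fin n) F) * A ^ k =
      l ^ k • (B ^ k * (X : Matrix (Fin n) (Fin n) F)) := by
    intro k
    induction k with
    | zero => simp
    | succ k ih =>
      rw [pow_succ, ← Matrix.mul_assoc, ih, Matrix.smul_mul, Matrix.mul_assoc, hl, Matrix.mul_smul,
        smul_smul, ← Matrix.mul_assoc, ← pow_succ, ← pow_succ]
  have h3 := hpow p
  rw [hAp, hBp, Matrix.mul_one, Matrix.one_mul] at h3
  have hl1 : l ^ p = 1 := by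
    have h4 := congrArg (fun Z => Z * ((X⁻¹ : GL (Fin n) F) : Matrix (Fin n) (Fin n) F)) h3
    simp only [Matrix.smul_mul, Units.mul_inv] at h4
    have h5 := congrFun (congrFun h4 ⟨0, by omega⟩) ⟨0, by omega⟩
    rw [Matrix.smul_apply, Matrix.one_apply_eq, smul_eq_mul, mul_one] at h5
    exact h5.symm
  have := eq_one_of_pow_char p hl1
  rw [this, one_smul] at hl
  exact hl

end Cfsg.Agent.Helper14.LBU
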