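import Mathlib
import Cfsg.Agent.Helper14.LBUh
import Cfsg.Agent.Helper44.Witt
import Cfsg.Agent.Helper5.BalA

/-!
Helper14: local balance for `PSU_n(q)` (S2687), part I (p = 2): two-field rigidity for the special
orthogonal group of an invertible symmetric matrix `N₀` over the finite subfield `F₀`, odd
characteristic, `n ≥ 3`.
-/

set_option autoImplicit false
set_option linter.unusedSectionVars false
set_option linter.unusedVariables false

namespace Cfsg.Agent.Helper14.LBU

open Matrix QuadraticMap Cfsg.Agent.Helper14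

variable {F : Type*} [Field F] {F₀ : Type*} [Field F₀] {n : ℕ}

section geometry

variable (Q : QuadraticForm F₀ (Fin n → F₀))

/-- a non-zero vector orthogonal to two given ones -/
theorem exists_orth_two (hn : 3 ≤ n) (u v : Fin n → F₀) :
    ∃ w : Fin n → F₀, w ≠ 0 ∧ polar ⇑Q u w = 0 ∧ polar ⇑Q v w = 0 := by
  let f : (Fin n → F₀) →ₗ[F₀] (Fin 2 → F₀) :=
    LinearMap.pi ![polarBilin Q u, polarBilin Q v]
  have hker : LinearMap.ker f ≠ ⊥ := by
    apply LinearMap.ker_ne_bot_of_finrank_lt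
    rw [Module.finrank_fintype_fun_eq_card, Module.finrank_fintype_fun_eq_card, Fintype.card_fin,
      Fintype.card_fin]
    omega
  obtain ⟨w, hw, hw0⟩ := (Submodule.ne_bot_iff _).mp hker
  refine ⟨w, hw0, ?_, ?_⟩
  · have := congrFun (LinearMap.mem_ker.mp hw) 0
    exact this
  · have := congrFun (LinearMap.mem_ker.mp hw) 1
    exact this

/-- a non-singular vector orthogonal to a given singular vector -/
theorem exists_nonsingular_orth (hn : 3 ≤ n) (hnd : ∀ x : Fin n → F₀, (∀ y, polar ⇑Q x y = 0) → x = 0)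
    (s : Fin n → F₀) (hs0 : s ≠ 0) (hs : Q s = 0) :
    ∃ w t : Fin n → F₀, polar ⇑Q s w = 0 ∧ Q w ≠ 0 ∧ polar ⇑Q s t ≠ 0 := by
  obtain ⟨t, ht, hst⟩ := Cfsg.Agent.Helper44.exists_hyperbolic_partner Q hnd s hs0 hs
  obtain ⟨w₁, hw₁0, hsw₁, htw₁⟩ := exists_orth_two Q hn s t
  have hst' : polar ⇑Q s t ≠ 0 := by rw [hst]; exact one_ne_zero
  by_cases hQw₁ : Q w₁ = 0
  · obtain ⟨y, hy⟩ : ∃ y, polar ⇑Q w₁ y ≠ 0 := by
      by_contra hcon
      push Not at hcon
      exact hw₁0 (hnd w₁ hcon)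
    have hss : polar ⇑Q s s = 0 := by rw [polar_self, hs, smul_zero]
    have hw₁s : polar ⇑Q w₁ s = 0 := by rw [polar_comm, hsw₁]
    have hw₁t : polar ⇑Q w₁ t = 0 := by rw [polar_comm, htw₁]
    obtain ⟨y', hy'⟩ : ∃ y', y' = y - polar ⇑Q t y • s - polar ⇑Q s y • t := ⟨_, rfl⟩
    have h1 : polar ⇑Q s y' = 0 := by
      rw [hy', polar_sub_right, polar_sub_right, polar_smul_right, polar_smul_right, hss, hst]
      simp
    have h2 : polar ⇑Q w₁ y' ≠ 0 := by
      rw [hy', polar_sub_right, polar_sub_right, polar_smul_right, polar_smul_right, hw₁s, hw₁t]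
      simpa using hy
    by_cases hQy' : Q y' = 0
    · refine ⟨w₁ + y', t, ?_, ?_, hst'⟩
      · rw [polar_add_right, hsw₁, h1, add_zero]
      · have : Q (w₁ + y') = Q w₁ + Q y' + polar ⇑Q w₁ y' := by
          unfold polar
          ring
        rw [this, hQw₁, hQy', zero_add, zero_add]
        exact h2
    · exact ⟨y', t, h1, hQy', hst'⟩
  · exact ⟨w₁, t, hsw₁, hQw₁, hst'⟩

end geometry

end Cfsg.Agent.Helper14.LBU
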