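import Mathlib
import Cfsg.Agent.Helper14.LBUi

/-!
Helper14: local balance for `PSU_n(q)` (S2687), part J (p = 2): two-field rigidity, orthogonal
case.
-/

set_option autoImplicit false
set_option linter.unusedSectionVars false
set_option linter.unusedVariables false

namespace Cfsg.Agent.Helper14.LBU

open Matrix QuadraticMap Cfsg.Agent.Helper14

variable {F : Type*} [Field F] {F₀ : Type*} [Field F₀] {n : ℕ}

/-- applying `ρ ∘ i` to `P x` -/
theorem map_map_mulVec (i : F₀ →+* F) (ρ : F ≃+* F) (P : Matrix (Fin n) (Fin n) F₀)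
    (x : Fin n → F₀) :
    (fun k => ρ (i ((P *ᵥ x) k))) = ((P.map i).map ρ) *ᵥ (fun k => ρ (i (x k))) := by
  funext k
  have h1 := RingHom.map_mulVec ((ρ : F →+* F).comp i) P x k
  rw [RingHom.comp_apply] at h1
  rw [show ρ (i ((P *ᵥ x) k)) = (ρ : F →+* F) (i ((P *ᵥ x) k)) from rfl, h1]
  rfl

/-- **two-field rigidity, orthogonal case** -/
theorem rigid_orth [Fintype F₀] (h2 : (2 : F₀) ≠ 0) (hn : 3 ≤ n) (i : F₀ →+* F)
    (N₀ : Matrix (Fin n) (Fin n) F₀) (hN : N₀ᵀ = N₀) (hdet : IsUnit N₀) (X : GL (Fin n) F)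
    (ρ : F ≃+* F)
    (h : ∀ P : Matrix (Fin n) (Fin n) F₀, Pᵀ * N₀ * P = N₀ → P.det = 1 →
      ∃ l : F, (X : Matrix (Fin n) (Fin n) F) * (P.map i).map ρ =
        l • (P.map i * (X : Matrix (Fin n) (Fin n) F))) :
    (∀ c : F₀, ρ (i c) = i c) ∧ ∃ ζ : F, (X : Matrix (Fin n) (Fin n) F) = ζ • 1 := by
  classical
  obtain ⟨p, hchar⟩ := CharP.exists F₀
  haveI : Fact p.Prime := ⟨CharP.char_is_prime F₀ p⟩
  letI : Algebra F₀ F := i.toAlgebra
  have hsmul : ∀ (a : F₀) (y : F), a • y = i a * y := fun a y => rfl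
  set Q := qOf N₀ with hQ
  have hnd : ∀ x : Fin n → F₀, (∀ y, polar ⇑Q x y = 0) → x = 0 :=
    qOf_nondegenerate h2 N₀ hN hdet
  -- the semilinear map on the subfield space
  set S : (Fin n → F₀) → (Fin n → F) := fun x =>
    (X : Matrix (Fin n) (Fin n) F) *ᵥ (fun k => ρ (i (x k))) with hS
  have hSadd : ∀ x y, S (x + y) = S x + S y := by
    intro x y
    rw [hS]
    show (X : Matrix (Fin n) (Fin n) F) *ᵥ (fun k => ρ (i ((x + y) k))) = _
    rw [← Matrix.mulVec_add]
    congr 1
    funext k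
    simp
  -- commutation with Eichler transformations
  have hcomm : ∀ u w : Fin n → F₀, Q u = 0 → polarBilin Q u w = 0 → ∀ x,
      S (eichler Q u w x) = ((eichlerMat N₀ u w).map i) *ᵥ S x := by
    intro u w hu huw x
    have h1 := semi_commute_eichler p (by omega) h2 i N₀ hN X ρ h u w hu huw
    rw [hS]
    show (X : Matrix (Fin n) (Fin n) F) *ᵥ (fun k => ρ (i ((eichler Q u w x) k))) = _
    rw [← eichlerMat_mulVec, map_map_mulVec, Matrix.mulVec_mulVec, h1, ← Matrix.mulVec_mulVec]
  -- the key claim: `S x = ζ x`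
  have key : ∀ π : Module.Dual F₀ F, ∃ a : F₀, ∀ x : Fin n → F₀, ∀ k, π (S x k) = a * x k := by
    intro π
    let G : (Fin n → F₀) →+ (Fin n → F₀) :=
      { toFun := fun x k => π (S x k)
        map_zero' := by
          funext k
          have : S 0 = 0 := by
            have := hSadd 0 0
            rw [add_zero] at this
            exact left_eq_add.mp this
          rw [this]
          simp
        map_add' := by
          intro x y
          funext k
          rw [hSadd]
          simp }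
    have hGapp : ∀ x k, G x k = π (S x k) := fun x k => rfl
    have hGcomm : ∀ u w : Fin n → F₀, Q u = 0 → polarBilin Q u w = 0 → ∀ x,
        G (eichler Q u w x) = eichler Q u w (G x) := by
      intro u w hu huw x
      funext k
      rw [hGapp, hcomm u w hu huw, ← eichlerMat_mulVec]
      simp only [Matrix.mulVec, dotProduct, Matrix.map_apply, map_sum]
      apply Finset.sum_congr rfl
      intro j _
      rw [hGapp, ← hsmul, map_smul, smul_eq_mul]
    have heig : ∀ s ∈ (⊤ : Submodule F₀ (Fin n → F₀)), Q s = 0 →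
        ∃ a : F₀, ∀ c : F₀, G (c • s) = (c * a) • s := by
      intro s _ hs
      by_cases hs0 : s = 0
      · refine ⟨0, fun c => ?_⟩
        rw [hs0, smul_zero, map_zero, smul_zero]
      obtain ⟨w, t, hsw, hw, hst⟩ := exists_nonsingular_orth Q hn hnd s hs0 hs
      apply Cfsg.Agent.Helper5.Bal.smul_of_commute_eichler Q h2 G hw hst
      intro c x
      apply hGcomm s (c • w) hs
      rw [map_smul, polarBilin_apply_apply, hsw, smul_zero]
    obtain ⟨u, hu0, hu⟩ := Cfsg.Agent.Helper44.exists_singular Q (by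
      rw [Module.finrank_fintype_fun_eq_card, Fintype.card_fin]; exact hn)
    obtain ⟨v, hv, huv⟩ := Cfsg.Agent.Helper44.exists_hyperbolic_partner Q hnd u hu0 hu
    obtain ⟨w₀, hw₀0, huw₀, hvw₀⟩ := exists_orth_two Q hn u v
    obtain ⟨a, ha⟩ := Cfsg.Agent.Helper5.Bal.smul_of_eigen Q h2 G ⊤ hu hv huv Submodule.mem_top
      Submodule.mem_top Submodule.mem_top huw₀ hvw₀ hw₀0 heig
    refine ⟨a, fun x k => ?_⟩
    rw [← hGapp, ha x Submodule.mem_top, Pi.smul_apply, smul_eq_mul]
  -- conclusion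
  have hn0 : 0 < n := by omega
  set ζ : F := S (Pi.single ⟨0, hn0⟩ 1) ⟨0, hn0⟩ with hζ
  apply scalar_of_eigen_all (by omega) i X ρ
  intro x
  refine ⟨ζ, ?_⟩
  funext k
  show S x k = ζ * i (x k)
  rw [← sub_eq_zero, ← Module.forall_dual_apply_eq_zero_iff F₀]
  intro π
  obtain ⟨a, ha⟩ := key π
  have h1 : π ζ = a := by
    rw [hζ, ha, Pi.single_eq_same, mul_one]
  rw [map_sub, ha, mul_comm ζ, ← hsmul, map_smul, smul_eq_mul, h1, mul_comm, sub_self]

end Cfsg.Agent.Helper14.LBU
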