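import Mathlib
import Cfsg.Agent.Helper14.LBUj
import Cfsg.Agent.Helper14.LBUf
import Cfsg.Agent.Helper14.PsuO
import Cfsg.Agent.Helper37.BalA

/-!
Helper14: local balance for `PSU_n(q)` (S2687), part K (p = 2): isometries of the Gram matrix
`M₀` over the fixed field give inner automorphisms commuting with the graph involution
`pstd g τ`.
-/

set_option autoImplicit false
set_option linter.unusedSectionVars false
set_option linter.unusedVariables false

namespace Cfsg.Agent.Helper14.LBU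

open Matrix Cfsg.Agent.Helper13 Cfsg.Agent.Helper37.AutU Cfsg.Agent.Helper14.AutPSL
  Cfsg.Agent.Helper14.AutPSU Cfsg.Agent.Helper14.AutPSp Cfsg.Agent.Helper37.Bal

variable {F : Type*} [Field F] [Fintype F] {F₀ : Type*} [Field F₀] {p f q n : ℕ}
variable {i : F₀ →+* F} {τ : F ≃+* F}

local notation "Mat" => Matrix (Fin n) (Fin n) F
local notation "Mat₀" => Matrix (Fin n) (Fin n) F₀

section elements

variable (H : Hyp F p f q n) (hτ : ∀ a, τ a = a ^ q) (hi : ∀ a : F, τ a = a ↔ a ∈ i.range)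
  {g : Cfsg.GU n F q} {M₀ : GL (Fin n) F₀} {B Y : GL (Fin n) F} {k c : F}
  (R : RelW (q := q) i τ g M₀ B Y k c)

include H hτ hi R in
/-- isometries of `M₀` of determinant one give elements of `Inn ⊓ C(pstd g τ)` -/
theorem exists_mem_innCent (P₀ : Mat₀) (hP : P₀ * (M₀ : Mat₀) * P₀ᵀ = (M₀ : Mat₀))
    (hdet : P₀.det = 1) :
    ∃ u : Cfsg.GU n F q, gm u = (B : Mat) * P₀.map i * ((B⁻¹ : GL (Fin n) F) : Mat) ∧
      pstdHom n F q u ∈ innCent (pstd g τ : MulAut (Cfsg.PSU n F q)) := by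
  classical
  have hn0 : 0 < n := by have := H.hn; omega
  have hunit : IsUnit P₀ := (Matrix.isUnit_iff_isUnit_det P₀).mpr (by rw [hdet]; exact isUnit_one)
  obtain ⟨P₀g, hP₀g⟩ : ∃ P₀g : GL (Fin n) F₀, (P₀g : Mat₀) = P₀ := ⟨hunit.unit, hunit.unit_spec⟩
  obtain ⟨P, hPdef⟩ : ∃ P : GL (Fin n) F, P = glI i P₀g := ⟨_, rfl⟩
  have hPc : (P : Mat) = P₀.map i := by rw [hPdef, glI_coe, hP₀g]
  have hPτ : (P : Mat).map τ = (P : Mat) := by rw [hPdef]; exact glI_fixed i τ hi P₀g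
  have hP' : (P : Mat) * ((glI i M₀ : GL (Fin n) F) : Mat) * (P : Mat)ᵀ =
      ((glI i M₀ : GL (Fin n) F) : Mat) := by
    have h1 := congrArg (fun X : Mat₀ => X.map i) hP
    simp only [map_i_mul, Matrix.transpose_map] at h1
    rw [hPc, glI_coe]
    exact h1
  have e1 : ((B : Mat) * (P : Mat) * ((B⁻¹ : GL (Fin n) F) : Mat)) * (Y : Mat) *
      ((B : Mat) * (P : Mat) * ((B⁻¹ : GL (Fin n) F) : Mat))ᵀ = (1 : F) • (Y : Mat) := by
    rw [one_smul]
    have hT : (B : Mat)ᵀ * ((B⁻¹ : GL (Fin n) F) : Mat)ᵀ = 1 := by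
      rw [← Matrix.transpose_mul, Units.inv_mul, Matrix.transpose_one]
    calc ((B : Mat) * (P : Mat) * ((B⁻¹ : GL (Fin n) F) : Mat)) * (Y : Mat) *
          ((B : Mat) * (P : Mat) * ((B⁻¹ : GL (Fin n) F) : Mat))ᵀ
        = (B : Mat) * ((P : Mat) * ((glI i M₀ : GL (Fin n) F) : Mat) * (P : Mat)ᵀ) * (B : Mat)ᵀ := by
          rw [R.hY, Matrix.transpose_mul, Matrix.transpose_mul]
          simp only [Matrix.mul_assoc, Units.inv_mul_cancel_left]
          rw [← Matrix.mul_assoc ((B : Mat)ᵀ) (((B⁻¹ : GL (Fin n) F) : Mat)ᵀ), hT, Matrix.one_mul]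
      _ = (Y : Mat) := by rw [hP', R.hY]
  have hl := lift_map τ R.hc one_ne_zero R.hYB R.hYB hPτ e1
  rw [one_mul, mul_inv_cancel₀ R.hc, one_smul] at hl
  obtain ⟨y, hy⟩ : ∃ y : GL (Fin n) F, y = B * P * B⁻¹ := ⟨_, rfl⟩
  have hyc : (y : Mat) = (B : Mat) * (P : Mat) * ((B⁻¹ : GL (Fin n) F) : Mat) := by
    rw [hy]; rfl
  rw [← hyc] at hl e1
  have hyU : y ∈ Cfsg.GU n F q := (mem_GU_iff τ q hτ y).mpr hl
  obtain ⟨u, hu⟩ : ∃ u : Cfsg.GU n F q, u = ⟨y, hyU⟩ := ⟨_, rfl⟩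
  have hgu : gm u = (y : Mat) := by rw [hu]
  have hdetu : (gm u).det = 1 := by
    rw [hgu, hyc, Matrix.det_units_conj, hPc]
    have := RingHom.map_det i P₀
    rw [hdet, map_one] at this
    rw [this]
    rfl
  refine ⟨u, by rw [hgu, hyc, hPc], ?_⟩
  obtain ⟨A, hA⟩ : ∃ A : Cfsg.SU n F q, suMat A = gm u :=
    ⟨⟨⟨gm u, hdetu⟩, fun a b => u.2 a b⟩, rfl⟩
  have hu' : u = suGU A := by
    apply Subtype.ext
    apply Units.ext
    exact hA.symm
  refine Subgroup.mem_inf.2 ⟨?_, ?_⟩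
  · rw [hu', pstdHom_suGU]
    exact ⟨_, rfl⟩
  · -- commutation with `pstd g τ`
    have h1 := conj_gpu (τ := τ) u g
    have h2 : u * g * guMap τ u⁻¹ = g := by
      apply Subtype.ext
      apply Units.ext
      show gm (u * g * guMap τ u⁻¹) = gm g
      rw [gm_conj τ hτ, hgu, R.hg, Matrix.mul_smul, Matrix.smul_mul, e1, one_smul]
    rw [h2] at h1
    rw [Subgroup.mem_centralizer_singleton_iff]
    calc pstdHom n F q u * pstd g τ
        = pstdHom n F q u * pstd g τ * (pstdHom n F q u)⁻¹ * pstdHom n F q u := by group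
      _ = pstd g τ * pstdHom n F q u := by rw [h1]

end elements

end Cfsg.Agent.Helper14.LBU
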