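import Mathlib
import Cfsg.Agent.Helper14.LBUk

/-!
Helper14: local balance for `PSU_n(q)` (S2687), part L (p = 2): the automorphisms of `PSU_n(q)`,
`q` odd, centralising `Inn ⊓ C(β)` for a graph involution `β = pstd g τ` are `1` and `β`.
-/

set_option autoImplicit false
set_option linter.unusedSectionVars false
set_option linter.unusedVariables false

namespace Cfsg.Agent.Helper14.LBU

open Matrix Cfsg.Agent.Helper13 Cfsg.Agent.Helper37.AutU Cfsg.Agent.Helper14.AutPSL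
  Cfsg.Agent.Helper14.AutPSU Cfsg.Agent.Helper14.AutPSp Cfsg.Agent.Helper37.Bal

variable {F : Type*} [Field F] {F₀ : Type*} [Field F₀] {p f q n : ℕ}

/-- orthogonal rigidity with the isometry condition in the form `P M₀ Pᵀ = M₀` -/
theorem rigid_orth' [Fintype F₀] (h2 : (2 : F₀) ≠ 0) (hn : 3 ≤ n) (i : F₀ →+* F)
    (M₀ : Matrix (Fin n) (Fin n) F₀) (hM : M₀ᵀ = M₀) (hdet : IsUnit M₀) (X : GL (Fin n) F)
    (ρ : F ≃+* F)
    (h : ∀ P : Matrix (Fin n) (Fin n) F₀, P * M₀ * Pᵀ = M₀ → P.det = 1 →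
      ∃ l : F, (X : Matrix (Fin n) (Fin n) F) * (P.map i).map ρ =
        l • (P.map i * (X : Matrix (Fin n) (Fin n) F))) :
    (∀ c : F₀, ρ (i c) = i c) ∧ ∃ ζ : F, (X : Matrix (Fin n) (Fin n) F) = ζ • 1 := by
  have hdet' : IsUnit M₀.det := (Matrix.isUnit_iff_isUnit_det M₀).mp hdet
  have hMN : M₀ * M₀⁻¹ = 1 := Matrix.mul_nonsing_inv M₀ hdet'
  have hNM : M₀⁻¹ * M₀ = 1 := Matrix.nonsing_inv_mul M₀ hdet'
  have hNT : (M₀⁻¹)ᵀ = M₀⁻¹ := by rw [Matrix.transpose_nonsing_inv, hM]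
  have hNu : IsUnit M₀⁻¹ := by
    rw [Matrix.isUnit_iff_isUnit_det, Matrix.det_nonsing_inv]
    exact hdet'.ringInverse
  apply rigid_orth h2 hn i M₀⁻¹ hNT hNu X ρ
  intro P hP hPdet
  apply h P ?_ hPdet
  have hPu : IsUnit P.det := by rw [hPdet]; exact isUnit_one
  have h1 : P * M₀ * Pᵀ * M₀⁻¹ * P = P := by
    calc P * M₀ * Pᵀ * M₀⁻¹ * P = P * M₀ * (Pᵀ * M₀⁻¹ * P) := by simp only [Matrix.mul_assoc]
      _ = P := by rw [hP, Matrix.mul_assoc, hMN, Matrix.mul_one]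
  have h3 : P * M₀ * Pᵀ * M₀⁻¹ = 1 := by
    have := congrArg (fun Z => Z * P⁻¹) h1
    simp only [Matrix.mul_assoc, Matrix.mul_nonsing_inv P hPu, Matrix.mul_one] at this
    simp only [Matrix.mul_assoc]
    exact this
  have := congrArg (fun Z => Z * M₀) h3
  simp only [Matrix.mul_assoc, hNM, Matrix.mul_one, Matrix.one_mul] at this
  simp only [Matrix.mul_assoc]
  exact this

variable [Fintype F] {i : F₀ →+* F} {τ : F ≃+* F}

local notation "Mat" => Matrix (Fin n) (Fin n) F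
local notation "Mat₀" => Matrix (Fin n) (Fin n) F₀

/-- the reduction of `(ha)` to rigidity -/
theorem ha_two_aux (H : Hyp F p f q n) (hτ : ∀ a, τ a = a ^ q)
    (hi : ∀ a : F, τ a = a ↔ a ∈ i.range)
    {g : Cfsg.GU n F q} {M₀ : GL (Fin n) F₀} {B Y : GL (Fin n) F} {k c : F}
    (R : RelW (q := q) i τ g M₀ B Y k c)
    (hrig : ∀ (X : GL (Fin n) F) (ρ : F ≃+* F),
      (∀ P₀ : Mat₀, P₀ * (M₀ : Mat₀) * P₀ᵀ = (M₀ : Mat₀) → P₀.det = 1 →
        ∃ l : F, (X : Mat) * (P₀.map i).map ρ = l • (P₀.map i * (X : Mat))) →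
      (∀ c : F₀, ρ (i c) = i c) ∧ ∃ ζ : F, (X : Mat) = ζ • 1)
    (ψ : MulAut (Cfsg.PSU n F q))
    (hψ : ∀ z ∈ innCent (pstd g τ : MulAut (Cfsg.PSU n F q)), ψ * z = z * ψ) :
    ψ ∈ Subgroup.zpowers (pstd g τ : MulAut (Cfsg.PSU n F q)) := by
  classical
  have hK := kerHyp_of_hyp H
  have hn0 : 0 < n := by have := H.hn; omega
  obtain ⟨h, ρ, rfl⟩ := aut_eq_pstd H ψ
  obtain ⟨X, hXdef⟩ : ∃ X : GL (Fin n) F, X = B⁻¹ * (h : GL (Fin n) F) * glMap ρ B := ⟨_, rfl⟩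
  have hXc : (X : Mat) = ((B⁻¹ : GL (Fin n) F) : Mat) * gm h * (B : Mat).map ρ := by
    rw [hXdef]; rfl
  have hBρ : ((B⁻¹ : GL (Fin n) F) : Mat).map ρ * (B : Mat).map ρ = 1 := by
    rw [← Matrix.map_mul, Units.inv_mul]
    exact Matrix.map_one _ (map_zero ρ) (map_one ρ)
  obtain ⟨hρ, ζ, hζ⟩ := hrig X ρ (by
    intro P₀ hP hdet
    obtain ⟨u, hgu, hmem⟩ := exists_mem_innCent H hτ hi R P₀ hP hdet
    have hc := hψ _ hmem
    rw [pstdHom_apply, Cfsg.Agent.Helper14.AutPSU.pstd_mul, Cfsg.Agent.Helper14.AutPSU.pstd_mul,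
      mul_one, one_mul, guMap_one_apply,
      pstd_eq_pstd_iff hK] at hc
    obtain ⟨-, z, hz⟩ := hc
    rw [gm_mul, gm_mul, gm_guMap] at hz
    have hz0 : z ≠ 0 := by
      rintro rfl
      rw [zero_smul] at hz
      exact gl_ne_zero hn0 ((u * h : Cfsg.GU n F q) : GL (Fin n) F) hz
    refine ⟨z⁻¹, ?_⟩
    have hyρ : (gm u).map ρ = (B : Mat).map ρ * (P₀.map i).map ρ *
        ((B⁻¹ : GL (Fin n) F) : Mat).map ρ := by
      rw [hgu, Matrix.map_mul, Matrix.map_mul]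
    calc (X : Mat) * (P₀.map i).map ρ
        = ((B⁻¹ : GL (Fin n) F) : Mat) * (gm h * ((B : Mat).map ρ * (P₀.map i).map ρ *
            ((B⁻¹ : GL (Fin n) F) : Mat).map ρ)) * (B : Mat).map ρ := by
          rw [hXc]
          simp only [Matrix.mul_assoc, hBρ, Matrix.mul_one]
      _ = ((B⁻¹ : GL (Fin n) F) : Mat) * (z⁻¹ • (gm u * gm h)) * (B : Mat).map ρ := by
          rw [← hyρ, hz, smul_smul, inv_mul_cancel₀ hz0, one_smul]
      _ = z⁻¹ • (P₀.map i * (X : Mat)) := by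
          rw [hXc, hgu, Matrix.mul_smul, Matrix.smul_mul]
          simp only [Matrix.mul_assoc, Units.inv_mul_cancel_left])
  -- `ρ` is a power of `τ`
  have hρmem : ρ ∈ Subgroup.zpowers τ := by
    apply mem_zpowers_of_fixF τ ρ
    intro c hc
    obtain ⟨c₀, rfl⟩ := (hi c).mp hc
    exact hρ c₀
  -- `gm h = ζ B (B^ρ)⁻¹`
  have hh : gm h * (B : Mat).map ρ = ζ • (B : Mat) := by
    have h1 : (B : Mat) * (X : Mat) = gm h * (B : Mat).map ρ := by
      rw [hXc]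
      simp only [← Matrix.mul_assoc, Units.mul_inv, Matrix.one_mul]
    rw [← h1, hζ, Matrix.mul_smul, Matrix.mul_one]
  have hττ := tau_mul_self τ hτ H.hF
  obtain ⟨m, rfl⟩ := Subgroup.mem_zpowers_iff.mp hρmem
  have hτ2 : τ ^ (2 : ℤ) = 1 := by
    rw [zpow_two]
    exact hττ
  rcases Int.even_or_odd' m with ⟨r, hr | hr⟩
  · -- `ρ = 1`
    have hρ1 : τ ^ m = 1 := by rw [hr, _root_.zpow_mul, hτ2, _root_.one_zpow]
    rw [hρ1] at hh ⊢
    have hB1 : (B : Mat).map (1 : F ≃+* F) = (B : Mat) := by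
      ext a b
      rfl
    rw [hB1] at hh
    have hgh : gm h = ζ • gm (1 : Cfsg.GU n F q) := by
      rw [gm_one]
      have := congrArg (fun Z => Z * ((B⁻¹ : GL (Fin n) F) : Mat)) hh
      simp only [Matrix.mul_assoc, Units.mul_inv, Matrix.mul_one, Matrix.smul_mul] at this
      exact this
    have h1 := pstdHom_eq_of_smul hgh
    rw [pstd_eq_mul h, ← h1, map_one, map_one, one_mul]
    exact Subgroup.one_mem _
  · -- `ρ = τ`
    have hρτ : τ ^ m = τ := by rw [hr, _root_.zpow_add, _root_.zpow_mul, hτ2, _root_.one_zpow, one_mul, zpow_one]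
    rw [hρτ] at hh ⊢
    have hgh : gm h = (ζ * c⁻¹ * k⁻¹) • gm g := by
      have h1 : (Y : Mat) * (B : Mat).map τ = c • (B : Mat) := R.hYB
      have h2 : gm h * (B : Mat).map τ = (ζ * c⁻¹ * k⁻¹) • gm g * (B : Mat).map τ := by
        rw [hh, R.hg, Matrix.smul_mul, Matrix.smul_mul, h1, smul_smul, smul_smul]
        congr 1
        field_simp [R.hc, R.hk]
      have hBτ : (B : Mat).map τ * ((B⁻¹ : GL (Fin n) F) : Mat).map τ = 1 := by
        rw [← Matrix.map_mul, Units.mul_inv]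
        exact Matrix.map_one _ (map_zero τ) (map_one τ)
      have := congrArg (fun Z => Z * ((B⁻¹ : GL (Fin n) F) : Mat).map τ) h2
      simp only [Matrix.mul_assoc, hBτ, Matrix.mul_one] at this
      exact this
    have h1 := pstdHom_eq_of_smul hgh
    rw [pstd_eq_mul h, ← h1, ← pstd_eq_mul]
    exact Subgroup.mem_zpowers _

end Cfsg.Agent.Helper14.LBU
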