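import Mathlib
import Cfsg.Agent.Helper14.LBUl

/-!
Helper14: local balance for `PSU_n(q)` (S2687), part M (p = 2): the `(ha)` input of
`Helper37.Bal.pPrimeCore_eq_bot_of` for the graph involutions `pstd g τ` of `PSU_n(q)`, `q` odd.
-/

set_option autoImplicit false
set_option linter.unusedSectionVars false
set_option linter.unusedVariables false

namespace Cfsg.Agent.Helper14.LBU

open Matrix Cfsg.Agent.Helper13 Cfsg.Agent.Helper37.AutU Cfsg.Agent.Helper14.AutPSL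
  Cfsg.Agent.Helper14.AutPSU Cfsg.Agent.Helper14.AutPSp Cfsg.Agent.Helper37.Bal

variable {F : Type*} [Field F] [Fintype F] {p f q n : ℕ}

/-- `2 ≠ 0` in odd characteristic -/
theorem two_ne_zero_of_hyp (H : Hyp F p f q n) (hp2 : p ≠ 2) : (2 : F) ≠ 0 := by
  intro h0
  have h1 : addOrderOf (1 : F) ∣ 2 := by
    apply addOrderOf_dvd_of_nsmul_eq_zero
    rw [nsmul_eq_mul, mul_one]
    exact_mod_cast h0
  have h2 : addOrderOf (1 : F) ∣ Fintype.card F := addOrderOf_dvd_card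
  have h3 : addOrderOf (1 : F) ≠ 1 := by
    intro h
    rw [AddMonoid.addOrderOf_eq_one_iff] at h
    exact one_ne_zero h
  have h4 : addOrderOf (1 : F) = 2 := by
    rcases (Nat.dvd_prime Nat.prime_two).mp h1 with h | h
    · exact absurd h h3
    · exact h
  rw [h4, H.hF, H.hq, ← pow_mul] at h2
  have h5 := Nat.Prime.dvd_of_dvd_pow Nat.prime_two h2
  exact hp2 ((Nat.prime_dvd_prime_iff_eq Nat.prime_two H.hp).mp h5).symm

/-- **(ha) for p = 2**: an automorphism of `PSU_n(q)`, `q` odd, centralising `Inn ⊓ C(β)` for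
the graph involution `β = pstd g τ` (`g` symmetric or skew) is a power of `β` -/
theorem ha_two (H : Hyp F p f q n) (hp2 : p ≠ 2) (τ : F ≃+* F) (hτ : ∀ a, τ a = a ^ q)
    (g : Cfsg.GU n F q) (hg : (gm g)ᵀ = gm g ∨ (gm g)ᵀ = -gm g)
    (ψ : MulAut (Cfsg.PSU n F q))
    (hψ : ∀ z ∈ innCent (pstd g τ : MulAut (Cfsg.PSU n F q)), ψ * z = z * ψ) :
    ψ ∈ Subgroup.zpowers (pstd g τ : MulAut (Cfsg.PSU n F q)) := by
  classical
  have hn := H.hn
  have hn0 : 0 < n := by omega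
  have h2F := two_ne_zero_of_hyp H hp2
  haveI : Fintype (fixF τ) := Fintype.ofFinite _
  obtain ⟨i, hidef⟩ : ∃ i : fixF τ →+* F, i = (fixF τ).subtype := ⟨_, rfl⟩
  have hi : ∀ a : F, τ a = a ↔ a ∈ i.range := by
    intro a
    rw [← mem_fixF, hidef]
    constructor
    · intro h
      exact ⟨⟨a, h⟩, rfl⟩
    · rintro ⟨b, rfl⟩
      exact b.2
  have h2 : (2 : fixF τ) ≠ 0 := by
    intro h0
    apply h2F
    have := congrArg i h0
    rw [map_ofNat, map_zero] at this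
    exact this
  rcases hg with hg | hg
  · obtain ⟨M₀, hR⟩ := exists_rel_of_transpose i τ hτ H.hF hi hn0 g 1 (Or.inl rfl)
      (by rw [one_smul]; exact hg)
    have hM := (hR.symm_iff i τ).mp hg
    obtain ⟨B, Y, k, c, R⟩ := (rel_iff i τ g M₀).mp hR
    apply ha_two_aux H hτ hi R ?_ ψ hψ
    intro X ρ h
    exact rigid_orth' h2 hn i (M₀ : Matrix (Fin n) (Fin n) (fixF τ)) hM ⟨M₀, rfl⟩ X ρ h
  · obtain ⟨M₀, hR⟩ := exists_rel_of_transpose i τ hτ H.hF hi hn0 g (-1) (Or.inr rfl)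
      (by rw [neg_smul, one_smul]; exact hg)
    have hM := (hR.skew_iff i τ).mp hg
    obtain ⟨B, Y, k, c, R⟩ := (rel_iff i τ g M₀).mp hR
    apply ha_two_aux H hτ hi R ?_ ψ hψ
    intro X ρ h
    have halt : ∀ v : Fin n → fixF τ,
        v ⬝ᵥ (M₀ : Matrix (Fin n) (Fin n) (fixF τ)) *ᵥ v = 0 := by
      intro v
      have h1 : v ⬝ᵥ (M₀ : Matrix (Fin n) (Fin n) (fixF τ)) *ᵥ v =
          -(v ⬝ᵥ (M₀ : Matrix (Fin n) (Fin n) (fixF τ)) *ᵥ v) := by
        conv_lhs => rw [Matrix.dotProduct_mulVec, ← Matrix.mulVec_transpose, hM,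
          Matrix.neg_mulVec, neg_dotProduct, dotProduct_comm]
      have h3 : (2 : fixF τ) * (v ⬝ᵥ (M₀ : Matrix (Fin n) (Fin n) (fixF τ)) *ᵥ v) = 0 := by
        linear_combination h1
      rcases mul_eq_zero.mp h3 with h4 | h4
      · exact absurd h4 h2
      · exact h4
    exact rigid_symp (by omega) i (M₀ : Matrix (Fin n) (Fin n) (fixF τ)) hM halt ⟨M₀, rfl⟩ X ρ h

end Cfsg.Agent.Helper14.LBU
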