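import Mathlib

set_option autoImplicit false

namespace Cfsg.Agent.Helper14

open Module LinearMap

/-- A non-degenerate alternating form on a space of dimension `2k` has a totally isotropic
subspace of dimension `k`. -/
theorem exists_lagrangian {F U : Type*} [Field F] [AddCommGroup U] [Module F U]
    [FiniteDimensional F U] (B : LinearMap.BilinForm F U) (hB : B.Nondegenerate) (hA : B.IsAlt)
    (k : ℕ) (hU : finrank F U = 2 * k) :
    ∃ L : Submodule F U, finrank F L = k ∧ ∀ x ∈ L, ∀ y ∈ L, B x y = 0 := by
  -- take a maximal totally isotropic subspace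
  let S : Set (Submodule F U) := {L | ∀ x ∈ L, ∀ y ∈ L, B x y = 0}
  have hS : S.Nonempty := ⟨⊥, by
    intro x hx y _
    rw [Submodule.mem_bot] at hx
    rw [hx, map_zero, LinearMap.zero_apply]⟩
  obtain ⟨L, hL, hmax⟩ := WellFounded.has_min
    (wellFounded_gt : WellFounded ((· > ·) : Submodule F U → Submodule F U → Prop)) S hS
  refine ⟨L, ?_, hL⟩
  have hle : L ≤ B.orthogonal L := by
    intro x hx y hy
    exact hL y hy x hx
  have hge : B.orthogonal L ≤ L := by
    intro v hv
    by_contra hvL
    let L' := L ⊔ Submodule.span F {v}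
    have hL' : L' ∈ S := by
      intro x hx y hy
      rw [Submodule.mem_sup] at hx hy
      obtain ⟨l, hl, sx, hsx, rfl⟩ := hx
      obtain ⟨l', hl', sy, hsy, rfl⟩ := hy
      rw [Submodule.mem_span_singleton] at hsx hsy
      obtain ⟨a, rfl⟩ := hsx
      obtain ⟨b, rfl⟩ := hsy
      have h1 : B l l' = 0 := hL l hl l' hl'
      have h2 : B l v = 0 := hv l hl
      have h3 : B v l' = 0 := by
        rw [← hA.neg_eq l' v, hv l' hl', neg_zero]
      have h4 : B v v = 0 := hA.self_eq_zero v
      simp only [map_add, LinearMap.add_apply, map_smul, LinearMap.smul_apply, h1, h2, h3, h4,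
        smul_zero, add_zero]
    have hlt : L' > L := by
      refine lt_of_le_of_ne le_sup_left ?_
      intro h
      apply hvL
      rw [h]
      exact Submodule.mem_sup_right (Submodule.mem_span_singleton_self v)
    exact hmax L' hL' hlt
  have heq : B.orthogonal L = L := le_antisymm hge hle
  have := LinearMap.BilinForm.finrank_orthogonal hB L
  rw [heq, hU] at this
  have hle' : finrank F L ≤ finrank F U := Submodule.finrank_le L
  omega

end Cfsg.Agent.Helper14
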