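import Mathlib
import Cfsg.Prelude.Def_LocalStructure

/-!
# S3875 (helper25), piece (MIN-b): the order of a minimal non-`p`-closed group with a normal
`p'`-complement `K` (minimal normal) is `p * k`, `k = |K|` a prime power `≡ 1 mod p`.
-/

set_option autoImplicit false
set_option linter.unusedSectionVars false

namespace Cfsg.Agent.Helper14.MinNCb

open Subgroup
open scoped Pointwise

universe u

variable {H : Type u} [Group H]

/-- A `p`-group `P` acting by conjugation on a normal `p'`-subgroup `W` normalizes some Sylow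
`r`-subgroup of `W` (same proof as `Helper24.Tih.exists_invariant_sylow`). -/
theorem exists_inv_sylow [Finite H] (W : Subgroup H) [hWn : W.Normal] (P : Subgroup H)
    {p r : ℕ} [Fact p.Prime] [Fact r.Prime] (hP : IsPGroup p P) (hpW : ¬ p ∣ Nat.card W) :
    ∃ R : Sylow r W, ∀ a ∈ P, ∀ x ∈ (R : Subgroup W).map W.subtype,
      a * x * a⁻¹ ∈ (R : Subgroup W).map W.subtype := by
  let φ : P →* MulAut W := (MulAut.conjNormal (H := W)).comp P.subtype
  let _ : MulAction P (Sylow r W) := MulAction.compHom (Sylow r W) φ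
  have hcard : ¬ p ∣ Nat.card (Sylow r W) := by
    intro h
    obtain ⟨R⟩ : Nonempty (Sylow r W) := inferInstance
    exact hpW (h.trans ((Sylow.card_dvd_index R).trans (Subgroup.index_dvd_card _)))
  obtain ⟨R, hR⟩ := hP.nonempty_fixed_point_of_prime_not_dvd_card (Sylow r W) hcard
  refine ⟨R, ?_⟩
  intro a ha x hx
  obtain ⟨w, hw, rfl⟩ := hx
  have h1 : (MulAut.conjNormal a : MulAut W) • R = R := hR ⟨a, ha⟩
  have h2 : (MulAut.conjNormal a : MulAut W) • w ∈
      ((MulAut.conjNormal a : MulAut W) • (R : Subgroup W)) :=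
    smul_mem_pointwise_smul _ _ _ hw
  rw [← Sylow.pointwise_smul_def, h1] at h2
  refine ⟨_, h2, ?_⟩
  rw [MulAut.smul_def]
  simp [MulAut.conjNormal_apply]

section main

variable [Finite H] (p : ℕ) [Fact p.Prime]
  (hsub : ∀ K : Subgroup H, K ≠ ⊤ → Cfsg.IsPClosed p ↥K)
  (P : Sylow p H) (K : Subgroup H) (hPn : ¬ (P : Subgroup H).Normal) (hKn : K.Normal)
  (hpK : ¬ p ∣ Nat.card K) (hPK : (P : Subgroup H) ⊔ K = ⊤)

include hpK in
theorem inf_eq_bot' (S : Subgroup H) (hS : IsPGroup p S) : S ⊓ K = ⊥ := by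
  apply Disjoint.eq_bot
  apply Subgroup.disjoint_of_coprime_natCard
  obtain ⟨n, hn⟩ := IsPGroup.iff_card.1 hS
  rw [hn]
  exact Nat.Coprime.pow_left _ ((Nat.Prime.coprime_iff_not_dvd (Fact.out : p.Prime)).2 hpK)

include hsub in
/-- TOOL: a proper subgroup containing `P` normalizes `P`. -/
theorem le_normalizer_of_proper (L : Subgroup H) (hPL : (P : Subgroup H) ≤ L) (hL : L ≠ ⊤) :
    L ≤ normalizer ((P : Subgroup H) : Set H) := by
  have h1 : ((P.subtype hPL : Sylow p ↥L) : Subgroup ↥L).Normal := hsub L hL _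
  rw [Sylow.coe_subtype, Subgroup.normal_subgroupOf_iff_le_normalizer hPL] at h1
  exact h1

include hKn hpK in
/-- elements of `K` normalizing `P` centralize `P`. -/
theorem mem_centralizer_of_mem_normalizer {x : H} (hxK : x ∈ K)
    (hxN : x ∈ normalizer ((P : Subgroup H) : Set H)) :
    x ∈ centralizer ((P : Subgroup H) : Set H) := by
  rw [Subgroup.mem_centralizer_iff]
  intro y hy
  have hy' : y ∈ (P : Subgroup H) := hy
  have h1 : x * y * x⁻¹ * y⁻¹ ∈ (P : Subgroup H) :=
    mul_mem ((Subgroup.mem_normalizer_iff.1 hxN y).1 hy') (inv_mem hy')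
  have h2 : x * y * x⁻¹ * y⁻¹ ∈ K := by
    have : x * y * x⁻¹ * y⁻¹ = x * (y * x⁻¹ * y⁻¹) := by group
    rw [this]
    exact mul_mem hxK (hKn.conj_mem _ (inv_mem hxK) y)
  have h3 : x * y * x⁻¹ * y⁻¹ ∈ (P : Subgroup H) ⊓ K := ⟨h1, h2⟩
  rw [inf_eq_bot' p K hpK _ P.2, Subgroup.mem_bot] at h3
  calc y * x = (x * y * x⁻¹ * y⁻¹)⁻¹ * (x * y) := by group
    _ = x * y := by rw [h3, inv_one, one_mul]

include hPn hPK in
theorem not_le_centralizer : ¬ K ≤ centralizer ((P : Subgroup H) : Set H) := by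
  intro h
  apply hPn
  rw [← Subgroup.normalizer_eq_top_iff, eq_top_iff, ← hPK]
  exact sup_le Subgroup.le_normalizer (h.trans (Subgroup.centralizer_le_normalizer _))

include hsub hPn hKn hpK hPK in
/-- (a) `K` is a `q`-group. -/
theorem exists_isPGroup (hmin : ∀ L : Subgroup H, L.Normal → L ≤ K → L = ⊥ ∨ L = K) :
    ∃ q : ℕ, q.Prime ∧ IsPGroup q K := by
  by_contra hcon
  push Not at hcon
  apply not_le_centralizer p P K hPn hPK
  have hdvd : Nat.card K ∣ Nat.card ↥(K ⊓ centralizer ((P : Subgroup H) : Set H)) := by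
    rw [Nat.dvd_iff_prime_pow_dvd_dvd]
    intro q k hq hqk
    have := Fact.mk hq
    have := hKn
    obtain ⟨R, hR⟩ := exists_inv_sylow K (P : Subgroup H) (r := q) P.2 hpK
    have hR'K : (R : Subgroup K).map K.subtype ≤ K := by
      rintro _ ⟨w, -, rfl⟩
      exact w.2
    have hne : (P : Subgroup H) ⊔ (R : Subgroup K).map K.subtype ≠ ⊤ := by
      intro htop
      have hRn : ((R : Subgroup K).map K.subtype).Normal := by
        rw [← Subgroup.normalizer_eq_top_iff, eq_top_iff, ← htop]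
        refine sup_le ?_ Subgroup.le_normalizer
        intro a ha
        rw [Subgroup.mem_normalizer_iff]
        intro x
        constructor
        · exact hR a ha x
        · intro hx
          have h1 := hR a⁻¹ (inv_mem ha) _ hx
          have h2 : a⁻¹ * (a * x * a⁻¹) * a⁻¹⁻¹ = x := by group
          rwa [h2] at h1
      rcases hmin _ hRn hR'K with h | h
      · rw [h, sup_bot_eq] at htop
        apply hPn
        rw [htop]
        infer_instance
      · apply hcon q hq
        have hRtop : (R : Subgroup K) = ⊤ := by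
          rw [eq_top_iff]
          intro x _
          have hx : (x : H) ∈ (R : Subgroup K).map K.subtype := by
            rw [h]
            exact x.2
          obtain ⟨w, hw, hwx⟩ := hx
          have : w = x := Subtype.ext hwx
          rwa [← this]
        intro g
        obtain ⟨k, hk⟩ := R.2 ⟨g, hRtop ▸ Subgroup.mem_top g⟩
        refine ⟨k, ?_⟩
        have := congrArg Subtype.val hk
        simpa using this
    have hRC : (R : Subgroup K).map K.subtype ≤ K ⊓ centralizer ((P : Subgroup H) : Set H) := by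
      intro x hx
      have hxN := le_normalizer_of_proper p hsub P _ le_sup_left hne
        (le_sup_right (a := (P : Subgroup H)) hx)
      exact ⟨hR'K hx, mem_centralizer_of_mem_normalizer p P K hKn hpK (hR'K hx) hxN⟩
    have hcardR : Nat.card ↥((R : Subgroup K).map K.subtype) =
        q ^ (Nat.card K).factorization q := by
      rw [Subgroup.card_map_of_injective K.subtype_injective]
      exact R.card_eq_multiplicity
    have hk : k ≤ (Nat.card K).factorization q :=
      (hq.pow_dvd_iff_le_factorization Nat.card_pos.ne').1 hqk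
    exact (pow_dvd_pow q hk).trans (hcardR ▸ Subgroup.card_dvd_of_le hRC)
  have hCK : K ⊓ centralizer ((P : Subgroup H) : Set H) = K := by
    apply Subgroup.eq_of_le_of_card_ge inf_le_left
    exact Nat.le_of_dvd Nat.card_pos hdvd
  rw [← hCK]
  exact inf_le_right

theorem le_normalizer_of_conj_mem {A B : Subgroup H}
    (h : ∀ a ∈ A, ∀ b ∈ B, a * b * a⁻¹ ∈ B) : A ≤ normalizer (B : Set H) := by
  intro a ha
  rw [Subgroup.mem_normalizer_iff]
  intro x
  constructor
  · exact h a ha x
  · intro hx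
    have h1 := h a⁻¹ (inv_mem ha) _ hx
    have h2 : a⁻¹ * (a * x * a⁻¹) * a⁻¹⁻¹ = x := by group
    rwa [h2] at h1

include hKn in
/-- (b) `K` is abelian. -/
theorem comm_of_isPGroup {q : ℕ} [Fact q.Prime] (hq : IsPGroup q K) (hK : K ≠ ⊥)
    (hmin : ∀ L : Subgroup H, L.Normal → L ≤ K → L = ⊥ ∨ L = K) :
    ∀ x ∈ K, ∀ y ∈ K, x * y = y * x := by
  have := hKn
  have hn : (⁅K, K⁆ : Subgroup H).Normal := inferInstance
  have hle : ⁅K, K⁆ ≤ K := Subgroup.commutator_le_left K K
  rcases hmin _ hn hle with h | h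
  · intro x hx y hy
    have h1 := (Subgroup.commutator_eq_bot_iff_le_centralizer.1 h) hx
    exact (Subgroup.mem_centralizer_iff.1 h1 y hy).symm
  · exfalso
    have hnt : Nontrivial ↥K := (Subgroup.nontrivial_iff_ne_bot K).2 hK
    have hnil : Group.IsNilpotent ↥K := hq.isNilpotent
    have hlt : _root_.commutator ↥K < ⊤ := Group.IsSolvable.commutator_lt_top_of_nontrivial ↥K
    have hmap := Subgroup.map_subtype_commutator K
    rw [h] at hmap
    apply hlt.ne
    rw [eq_top_iff]
    intro x _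
    have hx : (x : H) ∈ (_root_.commutator ↥K).map K.subtype := by
      rw [hmap]
      exact x.2
    obtain ⟨w, hw, hwx⟩ := hx
    have : w = x := Subtype.ext hwx
    rwa [← this]

include hPn hPK in
/-- (c) `C_K(P) = 1`. -/
theorem inf_centralizer_eq_bot (hcomm : ∀ x ∈ K, ∀ y ∈ K, x * y = y * x)
    (hmin : ∀ L : Subgroup H, L.Normal → L ≤ K → L = ⊥ ∨ L = K) :
    K ⊓ centralizer ((P : Subgroup H) : Set H) = ⊥ := by
  have hcen : ∀ c ∈ K ⊓ centralizer ((P : Subgroup H) : Set H), ∀ g : H, g * c = c * g := by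
    intro c hc g
    have hle : (P : Subgroup H) ⊔ K ≤ centralizer ({c} : Set H) := by
      refine sup_le ?_ ?_
      · intro x hx
        rw [Subgroup.mem_centralizer_iff]
        intro y hy
        rw [Set.mem_singleton_iff] at hy
        rw [hy]
        exact (Subgroup.mem_centralizer_iff.1 hc.2 x hx).symm
      · intro k hk
        rw [Subgroup.mem_centralizer_iff]
        intro y hy
        rw [Set.mem_singleton_iff] at hy
        rw [hy]
        exact hcomm c hc.1 k hk
    have hg : g ∈ centralizer ({c} : Set H) := hle (hPK ▸ Subgroup.mem_top g)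
    exact (Subgroup.mem_centralizer_iff.1 hg c rfl).symm
  have hn : (K ⊓ centralizer ((P : Subgroup H) : Set H)).Normal := by
    refine ⟨fun c hc g => ?_⟩
    have : g * c * g⁻¹ = c := by rw [hcen c hc g, mul_inv_cancel_right]
    rw [this]
    exact hc
  rcases hmin _ hn inf_le_left with h | h
  · exact h
  · exfalso
    apply not_le_centralizer p P K hPn hPK
    rw [← h]
    exact inf_le_right

include hsub hPn hKn hpK hPK in
/-- (d) `|P| = p`. -/
theorem card_sylow_eq (hOp : ∀ R : Subgroup H, R.Normal → IsPGroup p R → R = ⊥) :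
    Nat.card (P : Subgroup H) = p := by
  have hp := (Fact.out : p.Prime)
  -- `D := P ⊓ C(K)` is a normal `p`-subgroup
  have hD : (P : Subgroup H) ⊓ centralizer (K : Set H) = ⊥ := by
    apply hOp _ ?_ (P.2.to_le inf_le_left)
    rw [← Subgroup.normalizer_eq_top_iff, eq_top_iff, ← hPK]
    refine sup_le (le_normalizer_of_conj_mem ?_) (le_normalizer_of_conj_mem ?_)
    · intro x hx d hd
      have hdP : d ∈ (P : Subgroup H) := (Subgroup.mem_inf.1 hd).1
      have hdC : d ∈ centralizer (K : Set H) := (Subgroup.mem_inf.1 hd).2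
      refine Subgroup.mem_inf.2 ⟨mul_mem (mul_mem hx hdP) (inv_mem hx), ?_⟩
      rw [Subgroup.mem_centralizer_iff]
      intro k hk
      have hk' : x⁻¹ * k * x ∈ K := by
        have := hKn.conj_mem k hk x⁻¹
        rwa [inv_inv] at this
      have h1 := (Subgroup.mem_centralizer_iff.1 hdC) _ hk'
      calc k * (x * d * x⁻¹) = x * ((x⁻¹ * k * x) * d) * x⁻¹ := by group
        _ = x * (d * (x⁻¹ * k * x)) * x⁻¹ := by rw [h1]
        _ = x * d * x⁻¹ * k := by group
    · intro k hk d hd
      have hdC : d ∈ centralizer (K : Set H) := (Subgroup.mem_inf.1 hd).2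
      have h1 := (Subgroup.mem_centralizer_iff.1 hdC) k hk
      have : k * d * k⁻¹ = d := by rw [h1, mul_inv_cancel_right]
      rw [this]
      exact hd
  obtain ⟨a, ha⟩ := IsPGroup.iff_card.1 P.2
  have ha1 : a ≠ 0 := by
    intro h0
    apply hPn
    rw [h0, pow_zero] at ha
    rw [Subgroup.card_eq_one.1 ha]
    infer_instance
  obtain ⟨P0', hP0'⟩ := Sylow.exists_subgroup_card_pow_prime p
    (show p ^ (a - 1) ∣ Nat.card ↥(P : Subgroup H) by rw [ha]; exact pow_dvd_pow p (Nat.sub_le a 1))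
  have hP0P : P0'.map (P : Subgroup H).subtype ≤ (P : Subgroup H) := by
    rintro _ ⟨w, -, rfl⟩
    exact w.2
  have hP0card : Nat.card ↥(P0'.map (P : Subgroup H).subtype) = p ^ (a - 1) := by
    rw [Subgroup.card_map_of_injective (P : Subgroup H).subtype_injective, hP0']
  have hdisjPK := inf_eq_bot' p K hpK _ P.2
  -- `L := P0 ⊔ K` is proper
  have hL : P0'.map (P : Subgroup H).subtype ⊔ K ≠ ⊤ := by
    intro htop
    have hle : (P : Subgroup H) ≤ P0'.map (P : Subgroup H).subtype := by
      intro x hx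
      have hx' : x ∈ (P0'.map (P : Subgroup H).subtype ⊔ K : Subgroup H) := htop ▸ Subgroup.mem_top x
      have := hKn
      rw [← SetLike.mem_coe, Subgroup.mul_normal, Set.mem_mul] at hx'
      obtain ⟨u, hu, k, hk, huk⟩ := hx'
      have hkP : k ∈ (P : Subgroup H) := by
        have : k = u⁻¹ * x := by rw [← huk]; group
        rw [this]
        exact mul_mem (inv_mem (hP0P hu)) hx
      have hk1 : k = 1 := by
        have : k ∈ (P : Subgroup H) ⊓ K := ⟨hkP, hk⟩
        rwa [hdisjPK, Subgroup.mem_bot] at this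
      rw [hk1, mul_one] at huk
      rw [← huk]
      exact hu
    have h1 := Subgroup.card_le_of_le hle
    rw [ha, hP0card] at h1
    have h2 : p ^ (a - 1) < p ^ a := Nat.pow_lt_pow_right hp.one_lt (by omega)
    omega
  -- a normal Sylow `S` of `L` containing `P0`
  have hP0L : P0'.map (P : Subgroup H).subtype ≤ P0'.map (P : Subgroup H).subtype ⊔ K :=
    le_sup_left
  have hKL : K ≤ P0'.map (P : Subgroup H).subtype ⊔ K := le_sup_right
  have hP0p : IsPGroup p ↥((P0'.map (P : Subgroup H).subtype).subgroupOf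
      (P0'.map (P : Subgroup H).subtype ⊔ K)) := (P.2.to_le hP0P).comap_subtype
  obtain ⟨S, hS⟩ := hP0p.exists_le_sylow
  have hSn : (S : Subgroup ↥(P0'.map (P : Subgroup H).subtype ⊔ K)).Normal := hsub _ hL S
  -- `P0` centralizes `K`
  have hcen : ∀ s ∈ P0'.map (P : Subgroup H).subtype, s ∈ centralizer (K : Set H) := by
    intro s hs
    rw [Subgroup.mem_centralizer_iff]
    intro k hk
    have hsS : (⟨s, hP0L hs⟩ : ↥(P0'.map (P : Subgroup H).subtype ⊔ K)) ∈
        (S : Subgroup ↥(P0'.map (P : Subgroup H).subtype ⊔ K)) := hS (by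
      rw [Subgroup.mem_subgroupOf]
      exact hs)
    have h1 : (⟨s, hP0L hs⟩ : ↥(P0'.map (P : Subgroup H).subtype ⊔ K)) *
        (⟨k, hKL hk⟩ * (⟨s, hP0L hs⟩)⁻¹ * (⟨k, hKL hk⟩)⁻¹) ∈
        (S : Subgroup ↥(P0'.map (P : Subgroup H).subtype ⊔ K)) :=
      mul_mem hsS (hSn.conj_mem _ (inv_mem hsS) _)
    have h2 : s * (k * s⁻¹ * k⁻¹) ∈
        (S : Subgroup ↥(P0'.map (P : Subgroup H).subtype ⊔ K)).map
          (P0'.map (P : Subgroup H).subtype ⊔ K).subtype :=
      Subgroup.mem_map.2 ⟨_, h1, rfl⟩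
    have h3 : s * (k * s⁻¹ * k⁻¹) ∈ K := by
      have : s * (k * s⁻¹ * k⁻¹) = (s * k * s⁻¹) * k⁻¹ := by group
      rw [this]
      exact mul_mem (hKn.conj_mem k hk s) (inv_mem hk)
    have hSp : IsPGroup p ↥((S : Subgroup ↥(P0'.map (P : Subgroup H).subtype ⊔ K)).map
          (P0'.map (P : Subgroup H).subtype ⊔ K).subtype) := S.2.map _
    have h4 : s * (k * s⁻¹ * k⁻¹) ∈ ((S : Subgroup ↥(P0'.map (P : Subgroup H).subtype ⊔ K)).map
          (P0'.map (P : Subgroup H).subtype ⊔ K).subtype) ⊓ K := ⟨h2, h3⟩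
    rw [inf_eq_bot' p K hpK _ hSp, Subgroup.mem_bot] at h4
    calc k * s = (s * (k * s⁻¹ * k⁻¹))⁻¹ * (s * k) := by group
      _ = s * k := by rw [h4, inv_one, one_mul]
  have hP0bot : P0'.map (P : Subgroup H).subtype = ⊥ := by
    rw [eq_bot_iff]
    intro s hs
    have : s ∈ (P : Subgroup H) ⊓ centralizer (K : Set H) := ⟨hP0P hs, hcen s hs⟩
    rwa [hD] at this
  rw [hP0bot, Subgroup.card_bot] at hP0card
  have ha0 : a - 1 = 0 := by
    by_contra hne
    have : 1 < p ^ (a - 1) := Nat.one_lt_pow hne hp.one_lt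
    omega
  have : a = 1 := by omega
  rw [ha, this, pow_one]

include hKn in
/-- (e) `|K| ≡ 1 mod p`. -/
theorem card_mod_eq_one (hC : K ⊓ centralizer ((P : Subgroup H) : Set H) = ⊥) :
    Nat.card K % p = 1 := by
  have hp := (Fact.out : p.Prime)
  have := hKn
  let φ : ↥(P : Subgroup H) →* MulAut ↥K :=
    (MulAut.conjNormal (H := K)).comp (P : Subgroup H).subtype
  let _ : MulAction ↥(P : Subgroup H) ↥K := MulAction.compHom ↥K φ
  have h := P.2.card_modEq_card_fixedPoints ↥K
  have hfix : ∀ k : ↥K, k ∈ MulAction.fixedPoints ↥(P : Subgroup H) ↥K → k = 1 := by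
    intro k hk
    have hk' : (k : H) ∈ K ⊓ centralizer ((P : Subgroup H) : Set H) := by
      refine Subgroup.mem_inf.2 ⟨k.2, ?_⟩
      rw [Subgroup.mem_centralizer_iff]
      intro y hy
      have h1 : (⟨y, hy⟩ : ↥(P : Subgroup H)) • k = k := hk ⟨y, hy⟩
      have h2 : ((MulAut.conjNormal y : MulAut ↥K) k : H) = k := congrArg Subtype.val h1
      rw [MulAut.conjNormal_apply] at h2
      calc y * (k : H) = (y * k * y⁻¹) * y := by group
        _ = k * y := by rw [h2]
    rw [hC, Subgroup.mem_bot] at hk'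
    exact Subtype.ext hk'
  have hcard : Nat.card ↥(MulAction.fixedPoints ↥(P : Subgroup H) ↥K) = 1 := by
    rw [Nat.card_eq_one_iff_unique]
    refine ⟨⟨fun a b => Subtype.ext ?_⟩, ⟨⟨1, ?_⟩⟩⟩
    · rw [hfix a a.2, hfix b b.2]
    · intro x
      show x • (1 : ↥K) = 1
      show (φ x) 1 = 1
      exact map_one _
  rw [hcard] at h
  have h1 : Nat.card K % p = 1 % p := h
  rwa [Nat.mod_eq_of_lt hp.one_lt] at h1

end main

/-- (MIN-b) -/
theorem card_eq_of_minimal_normal_complement (p : ℕ) [Fact p.Prime] {H : Type u} [Group H]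
    [Finite H] (hsub : ∀ K : Subgroup H, K ≠ ⊤ → Cfsg.IsPClosed p ↥K) (P : Sylow p H)
    (K : Subgroup H) (hPn : ¬ (P : Subgroup H).Normal) (hKn : K.Normal) (hK : K ≠ ⊥)
    (hmin : ∀ L : Subgroup H, L.Normal → L ≤ K → L = ⊥ ∨ L = K) (hpK : ¬ p ∣ Nat.card K)
    (hPK : (P : Subgroup H) ⊔ K = ⊤)
    (hOp : ∀ R : Subgroup H, R.Normal → IsPGroup p R → R = ⊥) :
    ∃ k : ℕ, IsPrimePow k ∧ k % p = 1 ∧ Nat.card H = p * k := by
  obtain ⟨q, hq, hKq⟩ := exists_isPGroup p hsub P K hPn hKn hpK hPK hmin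
  have := Fact.mk hq
  have hcomm := comm_of_isPGroup K hKn hKq hK hmin
  have hC := inf_centralizer_eq_bot p P K hPn hPK hcomm hmin
  have hP := card_sylow_eq p hsub P K hPn hKn hpK hPK hOp
  have hmod := card_mod_eq_one p P K hKn hC
  refine ⟨Nat.card K, ?_, hmod, ?_⟩
  · obtain ⟨n, hn⟩ := IsPGroup.iff_card.1 hKq
    rw [hn]
    refine hq.isPrimePow.pow ?_
    intro h0
    apply hK
    rw [h0, pow_zero] at hn
    exact Subgroup.card_eq_one.1 hn
  · have hdisj : Disjoint (P : Subgroup H) K :=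
      disjoint_iff.2 (inf_eq_bot' p K hpK _ P.2)
    have hmul : ((P : Subgroup H) : Set H) * (K : Set H) = Set.univ := by
      have := hKn
      rw [← Subgroup.mul_normal, hPK, Subgroup.coe_top]
    have hcompl := Subgroup.isComplement'_of_disjoint_and_mul_eq_univ hdisj hmul
    rw [← hcompl.card_mul_card, hP]

end Cfsg.Agent.Helper14.MinNCb
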