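import Mathlib
import Cfsg.Agent.Helper85.TransportNormal
import Cfsg.Agent.Helper85.PPowerIndex
import Cfsg.Agent.Helper86.ORSub
import Cfsg.Agent.Helper4.OliverOR3
import Cfsg.Agent.Helper41.OR6
import Cfsg.Agent.Helper67.OliverConj

/-!
(OR-12) of board #3990 for S5202 (helper14 -> helper86): canonicity of the `p`-power-index step
under an "automorphism" `g` of the pair `(F, E)`.
-/

set_option autoImplicit false

namespace Cfsg.Agent.Helper14.OR12

open Cfsg Cfsg.FusionSystem Cfsg.Agent.Helper85 Cfsg.Agent.Helper86.OR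

variable {Ω : Type*} [Group Ω]

/-- `g` maps `preAut S T (powerSub p F E)` into itself -/
theorem map_mem_preAut {S T : Subgroup Ω} [Finite S] (p : ℕ) (F : FusionSystem S) (E : FusionSystem T)
    (hTS : T ≤ S) (g : Ω → Ω) (hgF : IsImgF g F F) (hgE : IsImgF g E E) {x : Ω}
    (hx : x ∈ preAut S T (powerSub p F E)) : g x ∈ preAut S T (powerSub p F E) := by
  have : Finite T := Finite.of_injective (fun t : T => (⟨t.1, hTS t.2⟩ : S))
    (fun a b h => Subtype.ext (congrArg (fun s : S => (s : Ω)) h))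
  obtain ⟨hxS, β, hβ, hβt⟩ := hx
  obtain ⟨γ, hγ⟩ := Cfsg.Agent.Helper41.OR6.exists_mulAut_of_isIm hgE.hom hgE.im
  refine ⟨hgF.im.map_mem hxS, γ * β * γ⁻¹, ?_, fun t => ?_⟩
  · have h := (Cfsg.Agent.Helper67.OliverFN.conj_mem_sup_iff p (F.autGroup T) (E.autGroup T) γ
      (fun a => Cfsg.Agent.Helper41.OR6.conj_mem_autGroup_iff hgF hTS γ hγ a)
      (fun a => Cfsg.Agent.Helper41.OR6.conj_mem_autGroup_iff hgE le_rfl γ hγ a) β).2
    exact h.2 hβ
  · show ((γ (β (γ⁻¹ t)) : T) : Ω) = g x * (t : Ω) * (g x)⁻¹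
    have ht : (t : Ω) = g ((γ⁻¹ t : T) : Ω) := by
      rw [← hγ, MulAut.apply_inv_self]
    rw [hγ, hβt]
    have hsS : ((γ⁻¹ t : T) : Ω) ∈ S := hTS (γ⁻¹ t).2
    rw [hgF.hom.mul _ (S.mul_mem hxS hsS) _ (S.inv_mem hxS), hgF.hom.mul _ hxS _ hsS,
      hgF.hom.inv hxS, ← ht]

/-- **(OR-12)** canonicity of the `p`-power-index step -/
theorem isImgF_of_pPowerIndex_preAut {S T : Subgroup Ω} [Finite S] (p : ℕ) [Fact p.Prime]
    (hS : IsPGroup p S) (F : FusionSystem S) (hF : F.IsSaturated p) (E : FusionSystem T) (hTS : T ≤ S)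
    (hEF : E.IsSubsystemOf F) (F₁ : FusionSystem (preAut S T (powerSub p F E)))
    (hF₁ : F₁.IsSaturated p) (hidx : F₁.HasPPowerIndexIn F p) (g : Ω → Ω) (hgF : IsImgF g F F)
    (hgE : IsImgF g E E) : IsImgF g F₁ F₁ := by
  have hle : preAut S T (powerSub p F E) ≤ S := preAut_le S T _
  have hfin : Finite (preAut S T (powerSub p F E)) :=
    Finite.of_injective (fun t : preAut S T (powerSub p F E) => (⟨t.1, hle t.2⟩ : S))
      (fun a b h => Subtype.ext (congrArg (fun s : S => (s : Ω)) h))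
  have hhom : HomOn g (preAut S T (powerSub p F E)) := hgF.hom.mono hle
  -- `g` permutes `S₁`
  have him : IsIm g (preAut S T (powerSub p F E)) (preAut S T (powerSub p F E)) := by
    have hinj : Function.Injective (fun x : preAut S T (powerSub p F E) =>
        (⟨g x, map_mem_preAut p F E hTS g hgF hgE x.2⟩ : preAut S T (powerSub p F E))) := by
      intro a b hab
      exact Subtype.ext (hhom.inj a a.2 b b.2 (congrArg Subtype.val hab))
    have hsurj := (Finite.injective_iff_bijective.mp hinj).2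
    intro y
    constructor
    · intro hy
      obtain ⟨x, hx⟩ := hsurj ⟨y, hy⟩
      exact ⟨x, x.2, congrArg Subtype.val hx⟩
    · rintro ⟨x, hx, rfl⟩
      exact map_mem_preAut p F E hTS g hgF hgE hx
  obtain ⟨S₁', F₁', h₁⟩ := exists_isImgF hhom F₁
  have hS₁ : S₁' = preAut S T (powerSub p F E) := h₁.im.eq_right him
  subst hS₁
  have hsat' : F₁'.IsSaturated p := isSaturated_img (hS.to_le hle) h₁ hF₁
  have hidx' : F₁'.HasPPowerIndexIn F p :=
    Cfsg.Agent.Helper4.OliverOR3.hasPPowerIndexIn_img hS hF hgF h₁ hidx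
  have heq : F₁' = F₁ := Cfsg.Agent.Helper87.fusionSystem_ext
    (fun P => hom_eq_of_pPowerIndex hS F F₁' F₁ hsat' hF₁ hidx' hidx P)
  rw [heq] at h₁
  exact h₁

end Cfsg.Agent.Helper14.OR12
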