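import Mathlib
import Cfsg.Agent.Helper14.PairSim
import Cfsg.Agent.S0756

set_option autoImplicit false

namespace Cfsg.Agent.Helper14

open Module

/-- The index equivalence `(Fin k × Fin 2) ⊕ Fin 1 ≃ Fin (2 * k + 1)` used to pair up basis vectors. -/
def pairIdx (k : ℕ) : (Fin k × Fin 2) ⊕ Fin 1 ≃ Fin (2 * k + 1) :=
  (Equiv.sumCongr ((Equiv.prodComm _ _).trans finProdFinEquiv) (Equiv.refl (Fin 1))).trans
    finSumFinEquiv

theorem pairIdx_inr (k : ℕ) (i : Fin 1) : pairIdx k (Sum.inr i) = Fin.last (2 * k) := by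
  have hi : i = 0 := Subsingleton.elim _ _
  subst hi
  simp only [pairIdx, Equiv.trans_apply, Equiv.sumCongr_apply, Sum.map_inr, Equiv.refl_apply,
    finSumFinEquiv_apply_right]
  apply Fin.ext
  simp

theorem pairIdx_inl_ne (k : ℕ) (p : Fin k × Fin 2) : pairIdx k (Sum.inl p) ≠ Fin.last (2 * k) := by
  rw [← pairIdx_inr k 0]
  intro h
  have := (pairIdx k).injective h
  cases this

/-- Over a finite field of odd order, any two non-degenerate symmetric bilinear forms on a space of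
odd dimension are similar. -/
theorem exists_similitude_odd {F V : Type*} [Field F] [Fintype F] [AddCommGroup V] [Module F V]
    [FiniteDimensional F V] (h2 : (2 : F) ≠ 0) (B₁ B₂ : LinearMap.BilinForm F V)
    (hS₁ : B₁.IsSymm) (hS₂ : B₂.IsSymm) (h₁ : B₁.Nondegenerate) (h₂ : B₂.Nondegenerate)
    (k : ℕ) (hdim : finrank F V = 2 * k + 1) :
    ∃ (g : V ≃ₗ[F] V) (c : F), c ≠ 0 ∧ ∀ x y, B₂ (g x) (g y) = c * B₁ x y := by
  classical
  obtain ⟨α, hα⟩ := FiniteField.exists_nonsquare (F := F)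
    (Cfsg.Agent.Helper13.ringChar_ne_two_of_two_ne_zero h2)
  have hα0 : α ≠ 0 := Cfsg.Agent.Helper13.ne_zero_of_not_isSquare hα
  obtain ⟨b₁, ho₁, hn₁, hl₁⟩ := Cfsg.Agent.S0756.result h2 B₁ hS₁ h₁ hdim α hα
  obtain ⟨b₂, ho₂, hn₂, hl₂⟩ := Cfsg.Agent.S0756.result h2 B₂ hS₂ h₂ hdim α hα
  set d₁ := B₁ (b₁ (Fin.last (2 * k))) (b₁ (Fin.last (2 * k))) with hd₁
  set d₂ := B₂ (b₂ (Fin.last (2 * k))) (b₂ (Fin.last (2 * k))) with hd₂
  have hd₁0 : d₁ ≠ 0 := by
    rcases hl₁ with h | h <;> rw [h]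
    · exact one_ne_zero
    · exact hα0
  have hd₂0 : d₂ ≠ 0 := by
    rcases hl₂ with h | h <;> rw [h]
    · exact one_ne_zero
    · exact hα0
  let c : F := d₂ / d₁
  have hc0 : c ≠ 0 := div_ne_zero hd₂0 hd₁0
  let e := pairIdx k
  let c₁ : Basis ((Fin k × Fin 2) ⊕ Fin 1) F V := b₁.reindex e.symm
  let c₂ : Basis ((Fin k × Fin 2) ⊕ Fin 1) F V := b₂.reindex e.symm
  have hc₁ : ∀ i, c₁ i = b₁ (e i) := fun i => by simp [c₁, Basis.reindex_apply]
  have hc₂ : ∀ i, c₂ i = b₂ (e i) := fun i => by simp [c₂, Basis.reindex_apply]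
  -- Gram relations for the reindexed bases
  have hG₁ll : ∀ p p', B₁ (c₁ (Sum.inl p)) (c₁ (Sum.inl p')) = if p = p' then 1 else 0 := by
    intro p p'
    rw [hc₁, hc₁]
    by_cases h : p = p'
    · subst h
      rw [if_pos rfl]
      exact hn₁ _ (pairIdx_inl_ne k p)
    · rw [if_neg h]
      apply ho₁
      intro h'
      exact h (Sum.inl_injective (e.injective h'))
  have hG₂ll : ∀ p p', B₂ (c₂ (Sum.inl p)) (c₂ (Sum.inl p')) = if p = p' then 1 else 0 := by
    intro p p'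
    rw [hc₂, hc₂]
    by_cases h : p = p'
    · subst h
      rw [if_pos rfl]
      exact hn₂ _ (pairIdx_inl_ne k p)
    · rw [if_neg h]
      apply ho₂
      intro h'
      exact h (Sum.inl_injective (e.injective h'))
  have hG₁lr : ∀ p i, B₁ (c₁ (Sum.inl p)) (c₁ (Sum.inr i)) = 0 := by
    intro p i
    rw [hc₁, hc₁]
    apply ho₁
    intro h'
    have := e.injective h'
    cases this
  have hG₁rl : ∀ p i, B₁ (c₁ (Sum.inr i)) (c₁ (Sum.inl p)) = 0 := by
    intro p i
    rw [hS₁.eq]; exact hG₁lr p i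
  have hG₂lr : ∀ p i, B₂ (c₂ (Sum.inl p)) (c₂ (Sum.inr i)) = 0 := by
    intro p i
    rw [hc₂, hc₂]
    apply ho₂
    intro h'
    have := e.injective h'
    cases this
  have hG₂rl : ∀ p i, B₂ (c₂ (Sum.inr i)) (c₂ (Sum.inl p)) = 0 := by
    intro p i
    rw [hS₂.eq]; exact hG₂lr p i
  have hG₁rr : ∀ i j, B₁ (c₁ (Sum.inr i)) (c₁ (Sum.inr j)) = d₁ := by
    intro i j
    rw [hc₁, hc₁, pairIdx_inr, pairIdx_inr]
  have hG₂rr : ∀ i j, B₂ (c₂ (Sum.inr i)) (c₂ (Sum.inr j)) = d₂ := by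
    intro i j
    rw [hc₂, hc₂, pairIdx_inr, pairIdx_inr]
  -- the pair family
  obtain ⟨p, q, hpq⟩ := exists_pair_family h2 B₂ (fun p => c₂ (Sum.inl p)) (fun _ => (1 : F))
    (fun _ => one_ne_zero) hG₂ll c hc0
  let f : (Fin k × Fin 2) ⊕ Fin 1 → V :=
    Sum.elim (fun i => p i • c₂ (Sum.inl (i.1, 0)) + q i • c₂ (Sum.inl (i.1, 1)))
      (fun i => c₂ (Sum.inr i))
  let g₀ : V →ₗ[F] V := c₁.constr F f
  have hg₀ : ∀ i, g₀ (c₁ i) = f i := fun i => Basis.constr_basis c₁ F f i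
  have hform : B₂.comp g₀ g₀ = c • B₁ := by
    apply LinearMap.BilinForm.ext_basis c₁
    intro i j
    rw [LinearMap.BilinForm.comp_apply, hg₀, hg₀, LinearMap.smul_apply, LinearMap.smul_apply,
      smul_eq_mul]
    rcases i with i | i <;> rcases j with j | j
    · simp only [f, Sum.elim_inl]
      rw [hpq, hG₁ll]
      by_cases h : i = j
      · rw [if_pos h, if_pos h]
      · rw [if_neg h, if_neg h, mul_zero]
    · simp only [f, Sum.elim_inl, Sum.elim_inr]
      rw [hG₁lr]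
      simp only [map_add, map_smul, LinearMap.add_apply, LinearMap.smul_apply, hG₂lr, smul_zero,
        add_zero, mul_zero]
    · simp only [f, Sum.elim_inl, Sum.elim_inr]
      rw [hG₁rl]
      simp only [map_add, map_smul, hG₂rl, smul_zero, add_zero, mul_zero]
    · simp only [f, Sum.elim_inr]
      rw [hG₂rr, hG₁rr]
      simp only [c]
      field_simp
  have hform' : ∀ x y, B₂ (g₀ x) (g₀ y) = c * B₁ x y := by
    intro x y
    have := congrArg (fun B : LinearMap.BilinForm F V => B x y) hform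
    simpa [LinearMap.BilinForm.comp_apply] using this
  have hinj : Function.Injective g₀ := by
    rw [← LinearMap.ker_eq_bot, LinearMap.ker_eq_bot']
    intro x hx
    apply h₁.1 x
    intro y
    have := hform' x y
    rw [hx, map_zero, LinearMap.zero_apply] at this
    exact (mul_eq_zero.mp this.symm).resolve_left hc0
  refine ⟨LinearEquiv.ofInjectiveEndo g₀ hinj, c, hc0, ?_⟩
  intro x y
  rw [LinearEquiv.coe_ofInjectiveEndo]
  exact hform' x y

end Cfsg.Agent.Helper14
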