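import Mathlib
import Cfsg.Agent.Helper14.PlusForm

set_option autoImplicit false

namespace Cfsg.Agent.Helper14

open Module

section PlusForm2

variable (m : ℕ) (F : Type*) [Field F]

/-- The embedding of the second factor. -/
noncomputable def inrMap : (Fin m → F) →ₗ[F] (Fin m ⊕ Fin m → F) where
  toFun a := Sum.elim 0 a
  map_add' a b := by
    funext j
    rcases j with j | j <;> simp
  map_smul' t a := by
    funext j
    rcases j with j | j <;> simp

theorem inrMap_injective : Function.Injective (inrMap m F) := by
  intro a b h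
  funext i
  have := congrFun h (Sum.inr i)
  simpa [inrMap] using this

theorem finrank_range_inrMap : finrank F (LinearMap.range (inrMap m F)) = m := by
  rw [LinearMap.finrank_range_of_inj (inrMap_injective m F), Module.finrank_fin_fun]

theorem plusForm_range_inrMap (w : Fin m ⊕ Fin m → F) (hw : w ∈ LinearMap.range (inrMap m F)) :
    plusForm m F w = 0 := by
  obtain ⟨a, rfl⟩ := hw
  rw [plusForm_apply]
  simp [Cfsg.quadFormPlus, inrMap]

theorem range_inlMap_ne_range_inrMap (hm : 1 ≤ m) :
    LinearMap.range (inlMap m F) ≠ LinearMap.range (inrMap m F) := by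
  intro h
  have h1 : inlMap m F (Pi.single ⟨0, hm⟩ 1) ∈ LinearMap.range (inrMap m F) := by
    rw [← h]
    exact ⟨_, rfl⟩
  obtain ⟨b, hb⟩ := h1
  have h2 := congrFun hb (Sum.inl ⟨0, hm⟩)
  simp [inlMap, inrMap] at h2

end PlusForm2

end Cfsg.Agent.Helper14
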