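import Mathlib
import Cfsg.Prelude.Def_ClassicalGeometry

set_option autoImplicit false

namespace Cfsg.Agent.Helper14

open Matrix

/-- `polarVec Q w ⬝ᵥ x` is the polar form `f(w, x)`. -/
theorem polarVec_dotProduct {F : Type*} [CommRing F] {ι : Type} [Fintype ι] [DecidableEq ι]
    (Q : QuadraticForm F (ι → F)) (w x : ι → F) :
    Cfsg.polarVec (⇑Q) w ⬝ᵥ x = QuadraticMap.polar (⇑Q) w x := by
  have h := LinearMap.pi_apply_eq_sum_univ (QuadraticMap.polarBilin Q w) x
  rw [QuadraticMap.polarBilin_apply_apply] at h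
  rw [h]
  unfold Cfsg.polarVec dotProduct
  apply Finset.sum_congr rfl
  intro j _
  rw [QuadraticMap.polarBilin_apply_apply, smul_eq_mul, mul_comm]
  have : (Pi.single j 1 : ι → F) = fun k => if j = k then 1 else 0 := by
    ext k
    rw [Pi.single_apply]
    by_cases hjk : k = j
    · subst hjk; simp
    · simp [hjk, Ne.symm hjk]
  show x j * QuadraticMap.polar (⇑Q) w (Pi.single j 1) = _
  rw [this]

/-- the rank one matrix `a bᵀ` with `b = polarVec Q w` acts as `x ↦ f(w, x) a`. -/
theorem vecMulVec_polarVec_mulVec {F : Type*} [CommRing F] {ι : Type} [Fintype ι] [DecidableEq ι]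
    (Q : QuadraticForm F (ι → F)) (a w x : ι → F) :
    Matrix.vecMulVec a (Cfsg.polarVec (⇑Q) w) *ᵥ x = QuadraticMap.polar (⇑Q) w x • a := by
  rw [Matrix.vecMulVec_mulVec, polarVec_dotProduct]
  ext i
  simp [mul_comm]

end Cfsg.Agent.Helper14
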