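import Mathlib

/-!
# S2089 block A, `p'`-part, piece (FREE) (architect helper71, farm #15135)

An `r`-element of `GL_3(K)` with a nonzero fixed vector is trivial when `r ∤ Q (Q - 1) (Q + 1)`, `Q = |K|`.
-/

set_option autoImplicit false

namespace Cfsg.Agent.Helper14.PsuA

open Matrix

/-- iterating `x ↦ g *ᵥ x` -/
theorem free_end_pow {K : Type*} [Field K] (g : Matrix (Fin 3) (Fin 3) K)
    (f : Function.End (Fin 3 → K)) (hf : ∀ x, f x = g *ᵥ x) (n : ℕ) :
    ∀ x, (f ^ n) x = (g ^ n) *ᵥ x := by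
  induction n with
  | zero =>
    intro x
    rw [pow_zero, pow_zero, Function.End.one_def, Matrix.one_mulVec]
    rfl
  | succ n ih =>
    intro x
    rw [pow_succ, pow_succ]
    have h1 : (f ^ n * f) x = (f ^ n) (f x) := rfl
    rw [h1, ih, hf, Matrix.mulVec_mulVec]

/-- (FREE) an `r`-element of `GL_3(K)` with a nonzero fixed vector is trivial when
`r ∤ Q (Q - 1) (Q + 1)`, `Q = |K|`. -/
theorem eq_one_of_fixed_vector {K : Type*} [Field K] [Fintype K] (r : ℕ) (hr : r.Prime)
    (h0 : ¬ r ∣ Fintype.card K) (h1 : ¬ r ∣ Fintype.card K - 1) (h2 : ¬ r ∣ Fintype.card K + 1)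
    (g : Matrix (Fin 3) (Fin 3) K) (k : ℕ) (hg : g ^ r ^ k = 1) (v : Fin 3 → K) (hv : v ≠ 0)
    (hgv : g *ᵥ v = v) : g = 1 := by
  classical
  have : Fact r.Prime := ⟨hr⟩
  have hQ1 : 1 ≤ Fintype.card K := Fintype.card_pos
  -- the fixed space
  let W : Submodule K (Fin 3 → K) := LinearMap.ker (Matrix.toLin' g - 1)
  have hW : ∀ x, x ∈ W ↔ g *ᵥ x = x := by
    intro x
    simp [W, LinearMap.mem_ker, sub_eq_zero]
  let f : Function.End (Fin 3 → K) := fun x => g *ᵥ x
  have hf : f ^ r ^ k = 1 := by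
    funext x
    rw [free_end_pow g f (fun _ => rfl), hg, Matrix.one_mulVec]
    rfl
  have hmod := Equiv.Perm.card_fixedPoints_modEq (f := f) hf
  have hfix : Fintype.card (Function.fixedPoints f) = Fintype.card W := by
    apply Fintype.card_congr
    refine Equiv.subtypeEquivRight ?_
    intro x
    rw [Function.mem_fixedPoints, Function.IsFixedPt]
    exact (hW x).symm
  rw [hfix, Module.card_eq_pow_finrank (K := K) (V := W),
    Module.card_eq_pow_finrank (K := K) (V := Fin 3 → K)] at hmod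
  have hd3 : Module.finrank K (Fin 3 → K) = 3 := by simp
  rw [hd3] at hmod
  have hdle : Module.finrank K W ≤ 3 := by
    have := Submodule.finrank_le W
    rwa [hd3] at this
  have hdpos : 0 < Module.finrank K W := by
    rw [Module.finrank_pos_iff_exists_ne_zero]
    exact ⟨⟨v, (hW v).2 hgv⟩, fun h => hv (by simpa using congrArg Subtype.val h)⟩
  set Q := Fintype.card K with hQ
  have hcop : ∀ a b : ℕ, r ∣ a * b → r ∣ a ∨ r ∣ b := fun a b => (Nat.Prime.dvd_mul hr).1
  have key : Module.finrank K W = 3 := by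
    by_contra hne
    have hd : Module.finrank K W = 1 ∨ Module.finrank K W = 2 := by omega
    rcases hd with hd | hd
    · rw [hd, pow_one] at hmod
      have hle : Q ≤ Q ^ 3 := by
        calc Q = Q ^ 1 := (pow_one Q).symm
          _ ≤ Q ^ 3 := Nat.pow_le_pow_right hQ1 (by norm_num)
      have hdvd : r ∣ Q ^ 3 - Q := (Nat.modEq_iff_dvd' hle).1 hmod.symm
      have heq : Q ^ 3 - Q = Q * ((Q - 1) * (Q + 1)) := by
        obtain ⟨m, hm⟩ : ∃ m, Q = m + 1 := ⟨Q - 1, by omega⟩
        rw [hm]
        have : (m + 1) ^ 3 = (m + 1) * ((m + 1 - 1) * (m + 1 + 1)) + (m + 1) := by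
          simp only [Nat.add_sub_cancel]
          ring
        omega
      rw [heq] at hdvd
      rcases hcop _ _ hdvd with h | h
      · exact h0 h
      · rcases hcop _ _ h with h | h
        · exact h1 h
        · exact h2 h
    · rw [hd] at hmod
      have hle : Q ^ 2 ≤ Q ^ 3 := Nat.pow_le_pow_right hQ1 (by norm_num)
      have hdvd : r ∣ Q ^ 3 - Q ^ 2 := (Nat.modEq_iff_dvd' hle).1 hmod.symm
      have heq : Q ^ 3 - Q ^ 2 = Q * (Q * (Q - 1)) := by
        obtain ⟨m, hm⟩ : ∃ m, Q = m + 1 := ⟨Q - 1, by omega⟩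
        rw [hm]
        have : (m + 1) ^ 3 = (m + 1) * ((m + 1) * (m + 1 - 1)) + (m + 1) ^ 2 := by
          simp only [Nat.add_sub_cancel]
          ring
        omega
      rw [heq] at hdvd
      rcases hcop _ _ hdvd with h | h
      · exact h0 h
      · rcases hcop _ _ h with h | h
        · exact h0 h
        · exact h1 h
  have hWtop : W = ⊤ := by
    apply Submodule.eq_top_of_finrank_eq
    rw [key, hd3]
  have hall : ∀ x : Fin 3 → K, g *ᵥ x = x := by
    intro x
    rw [← hW, hWtop]
    exact Submodule.mem_top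
  have : Matrix.toLin' g = Matrix.toLin' (1 : Matrix (Fin 3) (Fin 3) K) := by
    apply LinearMap.ext
    intro x
    simp [hall x]
  exact Matrix.toLin'.injective this

end Cfsg.Agent.Helper14.PsuA
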