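import Mathlib
import Cfsg.Agent.S0040

/-!
# S2089 block A, `p'`-part, piece (FROB) (architect helper71, farm #15135)

A `r`-subgroup (`r` odd) of `SL_3(K)` acting freely on the nonzero vectors of `K^3` is cyclic:
Frobenius complement in the semidirect product `K^3 ⋊ R`, via `Cfsg.Agent.S0040.result`.
-/

set_option autoImplicit false

namespace Cfsg.Agent.Helper14.PsuA

open Matrix

/-- Generic form: a finite `p`-group acting freely (by automorphisms) on a nontrivial finite group is cyclic or
generalised quaternion. -/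
theorem frob_generic {V R : Type*} [Group V] [Group R] [Finite V] [Finite R] [Nontrivial V]
    (φ : R →* MulAut V) (hfree : ∀ g : R, g ≠ 1 → ∀ v : V, φ g v = v → v = 1)
    (p : ℕ) [Fact p.Prime] (hR : IsPGroup p R) :
    IsCyclic R ∨ ∃ n : ℕ, Nonempty (R ≃* QuaternionGroup (2 ^ n)) := by
  classical
  have : Finite (V ⋊[φ] R) := Finite.of_equiv _ SemidirectProduct.equivProd.symm
  let Kn : Subgroup (V ⋊[φ] R) := (SemidirectProduct.inl : V →* V ⋊[φ] R).range
  let H : Subgroup (V ⋊[φ] R) := (SemidirectProduct.inr : R →* V ⋊[φ] R).range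
  have hKn : Kn.Normal := by
    have : Kn = (SemidirectProduct.rightHom : V ⋊[φ] R →* R).ker :=
      SemidirectProduct.range_inl_eq_ker_rightHom
    rw [this]
    infer_instance
  have hdisj : Disjoint Kn H := by
    rw [Subgroup.disjoint_def]
    rintro x ⟨n, rfl⟩ ⟨g, hg⟩
    have h2 := congrArg SemidirectProduct.left hg
    simp only [SemidirectProduct.left_inr, SemidirectProduct.left_inl] at h2
    rw [← h2, map_one]
  have hcard : Nat.card Kn * Nat.card H = Nat.card (V ⋊[φ] R) := by
    rw [SemidirectProduct.card]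
    congr 1
    · exact Nat.card_range_of_injective SemidirectProduct.inl_injective
    · exact Nat.card_range_of_injective SemidirectProduct.inr_injective
  have hc : Subgroup.IsComplement' Kn H :=
    Subgroup.isComplement'_of_card_mul_and_disjoint hcard hdisj
  have hK : Kn ≠ ⊥ := by
    intro h
    obtain ⟨v, hv⟩ := exists_ne (1 : V)
    have hmem : (SemidirectProduct.inl v : V ⋊[φ] R) ∈ Kn := ⟨v, rfl⟩
    rw [h, Subgroup.mem_bot] at hmem
    exact hv (SemidirectProduct.inl_injective (by rw [hmem, map_one]))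
  have hfpf : ∀ h ∈ H, h ≠ 1 → Kn ⊓ Subgroup.centralizer {h} = ⊥ := by
    rintro _ ⟨g, rfl⟩ hne
    have hg : g ≠ 1 := by
      rintro rfl
      exact hne (map_one _)
    rw [eq_bot_iff]
    rintro _ ⟨⟨v, rfl⟩, hcen⟩
    rw [Subgroup.mem_bot]
    have hcomm := Subgroup.mem_centralizer_singleton_iff.1 hcen
    have h3 : (SemidirectProduct.inl (φ g v) : V ⋊[φ] R) = SemidirectProduct.inl v := by
      rw [SemidirectProduct.inl_aut, ← hcomm, mul_assoc, ← map_mul, mul_inv_cancel, map_one,
        mul_one]
    have := hfree g hg v (SemidirectProduct.inl_injective h3)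
    rw [this, map_one]
  have hH : IsPGroup p H :=
    hR.of_surjective (SemidirectProduct.inr : R →* V ⋊[φ] R).rangeRestrict
      (SemidirectProduct.inr : R →* V ⋊[φ] R).rangeRestrict_surjective
  let P : Sylow p H := default
  have hres := Cfsg.Agent.S0040.result Kn H hc hK hfpf p P
  have htop : (⊤ : Subgroup H) = (P : Subgroup H) :=
    P.is_maximal' (hH.to_subgroup ⊤) le_top
  let e : (P : Subgroup H) ≃* R :=
    ((MulEquiv.subgroupCongr htop.symm).trans Subgroup.topEquiv).trans
      (MonoidHom.ofInjective (SemidirectProduct.inr_injective (φ := φ))).symm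
  rcases hres with h | ⟨n, ⟨f⟩⟩
  · left
    exact (MulEquiv.isCyclic e).1 h
  · right
    exact ⟨n, ⟨e.symm.trans f⟩⟩

/-- the action of a subgroup of `SL_3(K)` on `K^3`, multiplicatively -/
noncomputable def frobPhi {K : Type*} [Field K] (R : Subgroup (Matrix.SpecialLinearGroup (Fin 3) K)) :
    R →* MulAut (Multiplicative (Fin 3 → K)) :=
  MonoidHom.mk'
    (fun g => AddEquiv.toMultiplicative
      (Matrix.SpecialLinearGroup.toLin' (g : Matrix.SpecialLinearGroup (Fin 3) K)).toAddEquiv)
    (fun a b => by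
      apply MulEquiv.ext
      intro x
      rw [MulAut.mul_apply]
      simp only [Subgroup.coe_mul, map_mul]
      rfl)

theorem frobPhi_apply {K : Type*} [Field K] (R : Subgroup (Matrix.SpecialLinearGroup (Fin 3) K))
    (g : R) (x : Multiplicative (Fin 3 → K)) :
    frobPhi R g x = Multiplicative.ofAdd
      (((g : Matrix.SpecialLinearGroup (Fin 3) K) : Matrix (Fin 3) (Fin 3) K) *ᵥ
        Multiplicative.toAdd x) := rfl

/-- (FROB) -/
theorem isCyclic_of_free {K : Type*} [Field K] [Fintype K] (r : ℕ) [Fact r.Prime] (hr2 : r ≠ 2)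
    (R : Subgroup (Matrix.SpecialLinearGroup (Fin 3) K)) (hR : IsPGroup r R)
    (hfree : ∀ g ∈ R, ∀ v : Fin 3 → K, v ≠ 0 → (g : Matrix (Fin 3) (Fin 3) K) *ᵥ v = v → g = 1) :
    IsCyclic R := by
  classical
  have hfree' : ∀ g : R, g ≠ 1 → ∀ v : Multiplicative (Fin 3 → K), frobPhi R g v = v → v = 1 := by
    intro g hg v hv
    by_contra hv1
    apply hg
    apply Subtype.ext
    rw [Subgroup.coe_one]
    refine hfree g g.2 (Multiplicative.toAdd v) ?_ ?_
    · intro h0
      apply hv1
      exact Multiplicative.toAdd.injective (by rw [h0]; rfl)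
    · have := congrArg Multiplicative.toAdd hv
      rw [frobPhi_apply] at this
      exact this
  rcases frob_generic (frobPhi R) hfree' r hR with h | ⟨n, ⟨f⟩⟩
  · exact h
  · exfalso
    have : NeZero (2 ^ n) := ⟨by positivity⟩
    have hcard : Nat.card R = 4 * 2 ^ n := by
      rw [Nat.card_congr f.toEquiv, Nat.card_eq_fintype_card, QuaternionGroup.card]
    rcases hR.card_eq_or_dvd with h1 | hdvd
    · rw [hcard] at h1
      have : 1 ≤ 2 ^ n := Nat.one_le_two_pow
      omega
    · rw [hcard, show 4 * 2 ^ n = 2 ^ (n + 2) by ring] at hdvd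
      have := (Nat.Prime.dvd_of_dvd_pow (Fact.out : r.Prime) hdvd)
      exact hr2 ((Nat.prime_dvd_prime_iff_eq Fact.out Nat.prime_two).1 this)

end Cfsg.Agent.Helper14.PsuA
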