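import Mathlib
import Cfsg.Agent.Helper14.PsuH
import Cfsg.Agent.Helper14.AutCharTwo9
import Cfsg.Agent.Helper14.AutGraph8
import Cfsg.Agent.Helper14.EvG5
import Cfsg.Agent.Helper14.AutGraph5

/-!
Helper14: automorphisms of `PSU_n(q)`, part I.  Involutory graph automorphisms of `PSU_n(q)`:
classes under `Inndiag` and centralizers, from the corresponding results for `PSL_n(F₀)`, `|F₀| = q`.
-/

set_option autoImplicit false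
set_option linter.unusedSectionVars false
set_option linter.unusedVariables false

namespace Cfsg.Agent.Helper14.AutPSU

open Matrix Cfsg.Agent.Helper13 Cfsg.Agent.Helper37.AutU Cfsg.Agent.Helper14.AutPSL
  Cfsg.Agent.Helper37.Lang Cfsg.Agent.Helper14.AutPSp

variable {F : Type*} [Field F] [Fintype F] {F₀ : Type*} [Field F₀] [Fintype F₀] {p f q n : ℕ}

local notation "Mat" => Matrix (Fin n) (Fin n) F
local notation "Mat₀" => Matrix (Fin n) (Fin n) F₀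

/-- an embedding of `F₀` onto the fixed field of `τ` -/
theorem exists_incl (H : Hyp F p f q n) (τ : F ≃+* F) (hτ : ∀ a, τ a = a ^ q)
    (hF₀ : Fintype.card F₀ = q) :
    ∃ i : F₀ →+* F, ∀ a : F, τ a = a ↔ a ∈ i.range := by
  classical
  have : Fact p.Prime := ⟨H.hp⟩
  have hft : Fintype (fixF τ) := Fintype.ofFinite _
  have hF' : Fintype.card F = p ^ (2 * f) := by
    rw [H.hF, H.hq, ← pow_mul, mul_comm]
  obtain ⟨-, hcard⟩ := card_fixF τ hF'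
  rw [orderOf_tau τ hτ H.hF, Nat.mul_div_cancel_left f (by norm_num), ← H.hq] at hcard
  obtain ⟨e⟩ : Nonempty (F₀ ≃+* fixF τ) := ⟨FiniteField.ringEquivOfCardEq (by rw [hcard, hF₀])⟩
  refine ⟨(fixF τ).subtype.comp (e : F₀ →+* fixF τ), fun a => ?_⟩
  rw [← mem_fixF]
  constructor
  · intro ha
    exact ⟨e.symm ⟨a, ha⟩, by simp⟩
  · rintro ⟨b, rfl⟩
    exact (e b).2

section bridge

variable {i : F₀ →+* F} {τ : F ≃+* F} (H : Hyp F p f q n) (hτ : ∀ a, τ a = a ^ q)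
  (hi : ∀ a : F, τ a = a ↔ a ∈ i.range)

include H hτ hi in
/-- an involutory graph automorphism of `PSU_n(q)` has a partner for `PSL_n(F₀)` -/
theorem exists_rel_gph {γ : MulAut (Cfsg.PSU n F q)} (hγ : Cfsg.IsGraphAutClassPSU γ)
    (hγ2 : orderOf γ = 2) :
    ∃ (g : Cfsg.GU n F q) (M₀ : GL (Fin n) F₀), γ = pstd g τ ∧ Rel (q := q) i τ g M₀ ∧
      Cfsg.IsGraphAutClassPSL (gph M₀) ∧ orderOf (gph M₀) = 2 := by
  have hn := H.hn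
  have hn0 : 0 < n := by omega
  obtain ⟨g, rfl, hg⟩ := exists_gpu_of_isGraphAutClass τ hτ H hγ hγ2
  rcases hg with hg | hg
  · obtain ⟨M₀, hR⟩ := exists_rel_of_transpose i τ hτ H.hF hi hn0 g 1 (Or.inl rfl)
      (by rw [one_smul]; exact hg)
    refine ⟨g, M₀, rfl, hR, isGraphAutClass_gph hn M₀, ?_⟩
    apply orderOf_gph_eq_two hn M₀ 1
    rw [Units.val_one, one_smul]
    exact (hR.symm_iff i τ).mp hg
  · obtain ⟨M₀, hR⟩ := exists_rel_of_transpose i τ hτ H.hF hi hn0 g (-1) (Or.inr rfl)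
      (by rw [neg_smul, one_smul]; exact hg)
    refine ⟨g, M₀, rfl, hR, isGraphAutClass_gph hn M₀, ?_⟩
    apply orderOf_gph_eq_two hn M₀ (-1)
    rw [Units.val_neg, Units.val_one, neg_smul, one_smul]
    exact (hR.skew_iff i τ).mp hg

include H hτ hi in
/-- an involutory graph automorphism of `PSL_n(F₀)` has a partner for `PSU_n(q)` -/
theorem exists_rel_gpu {γ₀ : MulAut (Matrix.ProjectiveSpecialLinearGroup (Fin n) F₀)}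
    (hγ₀ : Cfsg.IsGraphAutClassPSL γ₀) (hγ₀2 : orderOf γ₀ = 2) :
    ∃ (g : Cfsg.GU n F q) (M₀ : GL (Fin n) F₀), γ₀ = gph M₀ ∧ Rel (q := q) i τ g M₀ ∧
      Cfsg.IsGraphAutClassPSU (pstd g τ : MulAut (Cfsg.PSU n F q)) ∧
      orderOf (pstd g τ : MulAut (Cfsg.PSU n F q)) = 2 := by
  have hn := H.hn
  have hn0 : 0 < n := by omega
  have hτ2 := orderOf_tau τ hτ H.hF
  obtain ⟨M₀, rfl⟩ := exists_gph_of_isGraphAutClass hγ₀
  rcases symm_or_skew_of_orderOf_gph (by omega) M₀ hγ₀2 with hM | hM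
  · obtain ⟨g, hR⟩ := exists_rel_of_transpose' i τ hτ H.hF hi hn0 M₀ 1 (Or.inl rfl)
      (by rw [one_smul]; exact hM)
    refine ⟨g, M₀, rfl, hR, isGraphAutClass_gpu τ hn hτ2 g, ?_⟩
    exact orderOf_gpu τ hτ H g (Or.inl ((hR.symm_iff i τ).mpr hM))
  · obtain ⟨g, hR⟩ := exists_rel_of_transpose' i τ hτ H.hF hi hn0 M₀ (-1) (Or.inr rfl)
      (by rw [neg_smul, one_smul]; exact hM)
    refine ⟨g, M₀, rfl, hR, isGraphAutClass_gpu τ hn hτ2 g, ?_⟩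
    exact orderOf_gpu τ hτ H g (Or.inr ((hR.skew_iff i τ).mpr hM))

end bridge

/-- `S2706`: odd dimension -/
theorem psu_graph_odd_dim [Fact p.Prime] (hq : q = p ^ f) (hf : 1 ≤ f)
    (hF : Fintype.card F = q ^ 2) (hn : 3 ≤ n) (hs : ¬ (n = 3 ∧ q = 2)) {m : ℕ}
    (hnm : n = 2 * m + 1) (hF₀ : Fintype.card F₀ = q) (γ γ' : MulAut (Cfsg.PSU n F q))
    (hγ : Cfsg.IsGraphAutClassPSU γ) (hγ2 : orderOf γ = 2) (hγ' : Cfsg.IsGraphAutClassPSU γ')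
    (hγ'2 : orderOf γ' = 2) :
    Nonempty (↥(Cfsg.inndiagPSU n F q ⊓ Subgroup.centralizer {γ}) ≃*
      Cfsg.PGO F₀ (Cfsg.quadFormOdd m F₀)) ∧ Cfsg.IsConjUnder (Cfsg.inndiagPSU n F q) γ γ' := by
  have H : Hyp F p f q n := ⟨Fact.out, hq, hf, hF, hn, hs⟩
  obtain ⟨τ, hτ⟩ := exists_tau hF
  obtain ⟨i, hi⟩ := exists_incl H τ hτ hF₀
  obtain ⟨g, M₀, rfl, hR, hc, ho⟩ := exists_rel_gph H hτ hi hγ hγ2
  obtain ⟨g', M₀', rfl, hR', hc', ho'⟩ := exists_rel_gph H hτ hi hγ' hγ'2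
  obtain ⟨⟨e⟩, hconj⟩ := graph_aut_odd_dim (by rw [hF₀, hq]) hf hn hnm (gph M₀) (gph M₀') hc ho hc' ho'
  obtain ⟨e'⟩ := nonempty_centralizer_equiv_of_rel H hτ hi hR
  exact ⟨⟨e'.trans e⟩, (isConjUnder_gpu_iff H hτ hi hR hR').mpr hconj⟩

/-- `S2707`: even dimension, odd `q` -/
theorem psu_graph_even_dim_odd_q (hodd : Odd q) (hF : Fintype.card F = q ^ 2) {m : ℕ} (hm : 2 ≤ m)
    (hnm : n = 2 * m) (hF₀ : Fintype.card F₀ = q) :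
    ∃ (γ₁ γ₂ γ₃ : MulAut (Cfsg.PSU n F q)) (a b : F₀),
      (∀ z₁ z₂ : F₀, z₁ ^ 2 + a * z₁ * z₂ + b * z₂ ^ 2 = 0 → z₁ = 0 ∧ z₂ = 0) ∧
      Cfsg.IsGraphAutClassPSU γ₁ ∧ orderOf γ₁ = 2 ∧ Cfsg.IsGraphAutClassPSU γ₂ ∧ orderOf γ₂ = 2 ∧
      Cfsg.IsGraphAutClassPSU γ₃ ∧ orderOf γ₃ = 2 ∧
      ¬ Cfsg.IsConjUnder (Cfsg.inndiagPSU n F q) γ₁ γ₂ ∧
      ¬ Cfsg.IsConjUnder (Cfsg.inndiagPSU n F q) γ₁ γ₃ ∧
      ¬ Cfsg.IsConjUnder (Cfsg.inndiagPSU n F q) γ₂ γ₃ ∧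
      (∀ γ : MulAut (Cfsg.PSU n F q), Cfsg.IsGraphAutClassPSU γ → orderOf γ = 2 →
        Cfsg.IsConjUnder (Cfsg.inndiagPSU n F q) γ₁ γ ∨
        Cfsg.IsConjUnder (Cfsg.inndiagPSU n F q) γ₂ γ ∨
        Cfsg.IsConjUnder (Cfsg.inndiagPSU n F q) γ₃ γ) ∧
      Nonempty (↥(Cfsg.inndiagPSU n F q ⊓ Subgroup.centralizer {γ₁}) ≃* Cfsg.PGSp m F₀) ∧
      Nonempty (↥(Cfsg.inndiagPSU n F q ⊓ Subgroup.centralizer {γ₂}) ≃*
        Cfsg.PGO F₀ (Cfsg.quadFormPlus m F₀)) ∧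
      Nonempty (↥(Cfsg.inndiagPSU n F q ⊓ Subgroup.centralizer {γ₃}) ≃*
        Cfsg.PGO F₀ (Cfsg.quadFormMinus (m - 1) F₀ a b)) := by
  obtain ⟨p, f, H⟩ := exists_hyp hF (n := n) (by omega) (by omega)
  obtain ⟨τ, hτ⟩ := exists_tau hF
  obtain ⟨i, hi⟩ := exists_incl H τ hτ hF₀
  obtain ⟨γ₁, γ₂, γ₃, a, b, hab, hc1, ho1, hc2, ho2, hc3, ho3, hn12, hn13, hn23, hall,
    ⟨e1⟩, ⟨e2⟩, ⟨e3⟩⟩ := graph_aut_even_dim_odd_q (F := F₀) (n := n) (by rw [hF₀]; exact hodd) hm hnm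
  obtain ⟨g₁, M₁, rfl, hR1, hd1, hp1⟩ := exists_rel_gpu H hτ hi hc1 ho1
  obtain ⟨g₂, M₂, rfl, hR2, hd2, hp2⟩ := exists_rel_gpu H hτ hi hc2 ho2
  obtain ⟨g₃, M₃, rfl, hR3, hd3, hp3⟩ := exists_rel_gpu H hτ hi hc3 ho3
  obtain ⟨f1⟩ := nonempty_centralizer_equiv_of_rel H hτ hi hR1
  obtain ⟨f2⟩ := nonempty_centralizer_equiv_of_rel H hτ hi hR2
  obtain ⟨f3⟩ := nonempty_centralizer_equiv_of_rel H hτ hi hR3
  refine ⟨pstd g₁ τ, pstd g₂ τ, pstd g₃ τ, a, b, hab, hd1, hp1, hd2, hp2, hd3, hp3, ?_, ?_, ?_, ?_,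
    ⟨f1.trans e1⟩, ⟨f2.trans e2⟩, ⟨f3.trans e3⟩⟩
  · exact fun h => hn12 ((isConjUnder_gpu_iff H hτ hi hR1 hR2).mp h)
  · exact fun h => hn13 ((isConjUnder_gpu_iff H hτ hi hR1 hR3).mp h)
  · exact fun h => hn23 ((isConjUnder_gpu_iff H hτ hi hR2 hR3).mp h)
  · intro γ hγ hγ2
    obtain ⟨g, M₀, rfl, hR, hc, ho⟩ := exists_rel_gph H hτ hi hγ hγ2
    rcases hall (gph M₀) hc ho with h | h | h
    · exact Or.inl ((isConjUnder_gpu_iff H hτ hi hR1 hR).mpr h)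
    · exact Or.inr (Or.inl ((isConjUnder_gpu_iff H hτ hi hR2 hR).mpr h))
    · exact Or.inr (Or.inr ((isConjUnder_gpu_iff H hτ hi hR3 hR).mpr h))

/-- `S2708`: even dimension, even `q` -/
theorem psu_graph_even_dim_even_q [CharP F 2] (hF : Fintype.card F = q ^ 2) {m : ℕ} (hm : 2 ≤ m)
    (hnm : n = 2 * m) (hF₀ : Fintype.card F₀ = q) :
    ∃ (γ₁ γ₃ : MulAut (Cfsg.PSU n F q)) (t : ↥(Matrix.symplecticGroup (Fin m) F₀)),
      Cfsg.IsTransvection (t : Matrix (Fin m ⊕ Fin m) (Fin m ⊕ Fin m) F₀) ∧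
      Cfsg.IsGraphAutClassPSU γ₁ ∧ orderOf γ₁ = 2 ∧ Cfsg.IsGraphAutClassPSU γ₃ ∧ orderOf γ₃ = 2 ∧
      ¬ Cfsg.IsConjUnder (Cfsg.inndiagPSU n F q) γ₁ γ₃ ∧
      (∀ γ : MulAut (Cfsg.PSU n F q), Cfsg.IsGraphAutClassPSU γ → orderOf γ = 2 →
        Cfsg.IsConjUnder (Cfsg.inndiagPSU n F q) γ₁ γ ∨
        Cfsg.IsConjUnder (Cfsg.inndiagPSU n F q) γ₃ γ) ∧
      Nonempty (↥(Cfsg.inndiagPSU n F q ⊓ Subgroup.centralizer {γ₁}) ≃*
        ↥(Matrix.symplecticGroup (Fin m) F₀)) ∧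
      Nonempty (↥(Cfsg.inndiagPSU n F q ⊓ Subgroup.centralizer {γ₃}) ≃*
        ↥(Subgroup.centralizer ({t} : Set ↥(Matrix.symplecticGroup (Fin m) F₀)))) := by
  obtain ⟨p, f, H⟩ := exists_hyp hF (n := n) (by omega) (by omega)
  obtain ⟨τ, hτ⟩ := exists_tau hF
  obtain ⟨i, hi⟩ := exists_incl H τ hτ hF₀
  have h2 : (2 : F₀) = 0 := by
    apply i.injective
    rw [map_ofNat, map_zero]
    have := CharP.cast_eq_zero F 2
    exact_mod_cast this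
  obtain ⟨γ₁, γ₃, t, ht, hc1, ho1, hc3, ho3, hn13, hall, ⟨e1⟩, ⟨e3⟩⟩ :=
    graph_aut_even_dim_even_q (F := F₀) (n := n) h2 hm hnm
  obtain ⟨g₁, M₁, rfl, hR1, hd1, hp1⟩ := exists_rel_gpu H hτ hi hc1 ho1
  obtain ⟨g₃, M₃, rfl, hR3, hd3, hp3⟩ := exists_rel_gpu H hτ hi hc3 ho3
  obtain ⟨f1⟩ := nonempty_centralizer_equiv_of_rel H hτ hi hR1
  obtain ⟨f3⟩ := nonempty_centralizer_equiv_of_rel H hτ hi hR3
  refine ⟨pstd g₁ τ, pstd g₃ τ, t, ht, hd1, hp1, hd3, hp3, ?_, ?_, ⟨f1.trans e1⟩, ⟨f3.trans e3⟩⟩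
  · exact fun h => hn13 ((isConjUnder_gpu_iff H hτ hi hR1 hR3).mp h)
  · intro γ hγ hγ2
    obtain ⟨g, M₀, rfl, hR, hc, ho⟩ := exists_rel_gph H hτ hi hγ hγ2
    rcases hall (gph M₀) hc ho with h | h
    · exact Or.inl ((isConjUnder_gpu_iff H hτ hi hR1 hR).mpr h)
    · exact Or.inr ((isConjUnder_gpu_iff H hτ hi hR3 hR).mpr h)

theorem rel_one (i : F₀ →+* F) (τ : F ≃+* F) :
    Rel (q := q) i τ (1 : Cfsg.GU n F q) (1 : GL (Fin n) F₀) := by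
  refine ⟨1, 1, 1, 1, one_ne_zero, one_ne_zero, ?_, ?_, ?_⟩
  · rw [one_smul, gm_one, Units.val_one]
  · rw [map_one, Units.val_one, Matrix.mul_one, Matrix.transpose_one, Matrix.mul_one]
  · rw [Units.val_one, Matrix.one_mul, one_smul]
    ext a b
    simp [Matrix.one_apply]

/-- `S2710`: the centralizer of the `q`-power field automorphism, `4 ∣ n`, `q` odd -/
theorem psu_q_power_centralizer (hodd : Odd q) (hF : Fintype.card F = q ^ 2) {m : ℕ} (hm : 2 ≤ m)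
    (hnm : n = 2 * m) (h4 : 4 ∣ n) (hF₀ : Fintype.card F₀ = q) (σ : F ≃+* F)
    (hσ : ∀ a : F, σ a = a ^ q) (φ : MulAut (Cfsg.PSU n F q)) (hφ : Cfsg.IsFieldAutPSUOf σ φ) :
    Nonempty (↥(Cfsg.inndiagPSU n F q ⊓ Subgroup.centralizer {φ}) ≃*
      Cfsg.PGO F₀ (Cfsg.quadFormPlus m F₀)) := by
  obtain ⟨p, f, H⟩ := exists_hyp hF (n := n) (by omega) (by omega)
  obtain ⟨i, hi⟩ := exists_incl H σ hσ hF₀
  rw [(isFieldAutOf_iff σ φ).mp hφ, fldHom_apply]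
  obtain ⟨f1⟩ := nonempty_centralizer_equiv_of_rel H hσ hi (rel_one (q := q) (n := n) i σ)
  have hev : Even (n * (Fintype.card F₀ - 1) / 4) := by
    obtain ⟨k, rfl⟩ := h4
    obtain ⟨j, hj⟩ := hodd
    rw [hF₀, hj, Nat.add_sub_cancel, mul_assoc, Nat.mul_div_cancel_left _ (by norm_num : 0 < 4)]
    exact ⟨k * j, by ring⟩
  obtain ⟨e⟩ := (inverse_transpose_centralizer (F := F₀) (n := n) (by rw [hF₀]; exact hodd) hm hnm).1 hev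
  rw [invT_eq_gph_one] at e
  exact ⟨f1.trans e⟩

end Cfsg.Agent.Helper14.AutPSU
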