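import Mathlib
import Cfsg.Agent.Helper14.PsuP

/-!
Helper14: automorphisms of `PSU_n(q)`, part Q.  The preimage `cuU` in `GU` of the centralizer of an
involutory graph automorphism `pstd g τ`, its description through similitudes of the partner form
`M₀` over the fixed field, and the class count as an index in the norm-one group.
-/

set_option autoImplicit false
set_option linter.unusedSectionVars false
set_option linter.unusedVariables false

namespace Cfsg.Agent.Helper14.AutPSU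

open Matrix Cfsg.Agent.Helper13 Cfsg.Agent.Helper37.AutU Cfsg.Agent.Helper14.AutPSL
  Cfsg.Agent.Helper37.Lang Cfsg.Agent.Helper14.AutPSp Cfsg.Agent.Helper14.SplitAbs

variable {F : Type*} [Field F] [Fintype F] {F₀ : Type*} [Field F₀] {p f q n : ℕ}
variable {i : F₀ →+* F} {τ : F ≃+* F}

local notation "Mat" => Matrix (Fin n) (Fin n) F
local notation "Mat₀" => Matrix (Fin n) (Fin n) F₀
local notation "UU" => Cfsg.Agent.Helper45.GU.U1

/-- the preimage in `GU` of the centralizer of `pstd g τ` -/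
noncomputable def cuU (g : Cfsg.GU n F q) (τ : F ≃+* F) : Subgroup (Cfsg.GU n F q) :=
  (Subgroup.centralizer {(pstd g τ : MulAut (Cfsg.PSU n F q))}).comap (pstdHom n F q)

theorem mem_cuU_iff (H : Hyp F p f q n) (hτ : ∀ a, τ a = a ^ q) (g h : Cfsg.GU n F q) :
    h ∈ cuU g τ ↔ ∃ z : F, gm g = z • (gm h * gm g * (gm h)ᵀ) := by
  have hK := kerHyp_of_hyp H
  unfold cuU
  rw [Subgroup.mem_comap, Subgroup.mem_centralizer_iff]
  have e1 : (∀ y ∈ ({(pstd g τ : MulAut (Cfsg.PSU n F q))} : Set _),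
      y * pstdHom n F q h = pstdHom n F q h * y) ↔
      pstdHom n F q h * pstd g τ * (pstdHom n F q h)⁻¹ = pstd g τ := by
    constructor
    · intro hc
      rw [← hc _ (Set.mem_singleton _), mul_inv_cancel_right]
    · intro hc y hy
      rw [Set.mem_singleton_iff] at hy
      rw [hy]
      have := congrArg (· * pstdHom n F q h) hc
      simp only [inv_mul_cancel_right] at this
      exact this.symm
  rw [e1, conj_gpu, pstd_eq_pstd_iff hK, gm_conj τ hτ]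
  constructor
  · rintro ⟨-, z, hz⟩
    exact ⟨z, hz⟩
  · rintro ⟨z, hz⟩
    exact ⟨rfl, z, hz⟩

theorem map_cuU (g : Cfsg.GU n F q) (τ : F ≃+* F) :
    (cuU g τ).map (pstdHom n F q) =
      (pstdHom n F q).range ⊓ Subgroup.centralizer {(pstd g τ : MulAut (Cfsg.PSU n F q))} := by
  unfold cuU
  rw [Subgroup.map_comap_eq]

/-- the class count as an index in the norm-one group -/
theorem splitClassCount_gpu (H : Hyp F p f q n) (hτ : ∀ a, τ a = a ^ q) (g : Cfsg.GU n F q) :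
    Cfsg.splitClassCount (Cfsg.inndiagPSU n F q) (Cfsg.Inn (Cfsg.PSU n F q))
      (pstd g τ : MulAut (Cfsg.PSU n F q)) =
      ((powMonoidHom n : UU F q →* UU F q).range ⊔ (cuU g τ).map (detUU τ hτ)).index := by
  have hn1 : 1 ≤ n := by have := H.hn; omega
  rw [inndiagPSU_eq_range, ← map_innU,
    splitClassCount_abs (pstdHom n F q) (innU n F q) (cuU g τ) ker_le_innU _ (map_cuU g τ),
    index_sup_map (detUU τ hτ) (detUU_surjective τ hτ hn1) _ _ (ker_detUU_le τ hτ),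
    map_innU_detUU τ hτ H]

section desc

variable (H : Hyp F p f q n) (hτ : ∀ a, τ a = a ^ q) (hi : ∀ a : F, τ a = a ↔ a ∈ i.range)
  {g : Cfsg.GU n F q} {M₀ : GL (Fin n) F₀} {B Y : GL (Fin n) F} {k c : F}
  (R : RelW (q := q) i τ g M₀ B Y k c)

include R in
/-- the similitude identity for `B P̂ B⁻¹` -/
theorem conj_Y (P₀ : GL (Fin n) F₀) (w₀ : F₀)
    (hP : (P₀ : Mat₀) * (M₀ : Mat₀) * (P₀ : Mat₀)ᵀ = w₀ • (M₀ : Mat₀)) :
    ((B : Mat) * ((glI i P₀ : GL (Fin n) F) : Mat) * ((B⁻¹ : GL (Fin n) F) : Mat)) * (Y : Mat) *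
      ((B : Mat) * ((glI i P₀ : GL (Fin n) F) : Mat) * ((B⁻¹ : GL (Fin n) F) : Mat))ᵀ =
      i w₀ • (Y : Mat) := by
  have hP' : ((glI i P₀ : GL (Fin n) F) : Mat) * ((glI i M₀ : GL (Fin n) F) : Mat) *
      ((glI i P₀ : GL (Fin n) F) : Mat)ᵀ = i w₀ • ((glI i M₀ : GL (Fin n) F) : Mat) := by
    have h1 := congrArg (fun X : Mat₀ => X.map i) hP
    simp only [map_i_mul, map_i_smul, Matrix.transpose_map] at h1
    exact h1
  rw [R.hY, Matrix.transpose_mul, Matrix.transpose_mul]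
  have e2 : (B : Mat) * ((glI i P₀ : GL (Fin n) F) : Mat) * ((B⁻¹ : GL (Fin n) F) : Mat) *
      ((B : Mat) * ((glI i M₀ : GL (Fin n) F) : Mat) * (B : Mat)ᵀ) *
      (((B⁻¹ : GL (Fin n) F) : Mat)ᵀ * (((glI i P₀ : GL (Fin n) F) : Mat)ᵀ * (B : Mat)ᵀ)) =
      (B : Mat) * (((glI i P₀ : GL (Fin n) F) : Mat) * ((glI i M₀ : GL (Fin n) F) : Mat) *
        ((glI i P₀ : GL (Fin n) F) : Mat)ᵀ) * (B : Mat)ᵀ := by
    have hT : (B : Mat)ᵀ * ((B⁻¹ : GL (Fin n) F) : Mat)ᵀ = 1 := by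
      rw [← Matrix.transpose_mul, Units.inv_mul, Matrix.transpose_one]
    simp only [Matrix.mul_assoc, Units.inv_mul_cancel_left]
    rw [← Matrix.mul_assoc ((B : Mat)ᵀ) (((B⁻¹ : GL (Fin n) F) : Mat)ᵀ), hT, Matrix.one_mul]
  rw [e2, hP', Matrix.mul_smul, Matrix.smul_mul]

include hi R in
/-- the unitary similitude identity for `B P̂ B⁻¹` -/
theorem herm_Y (P₀ : GL (Fin n) F₀) (w₀ : F₀) (hw₀ : w₀ ≠ 0)
    (hP : (P₀ : Mat₀) * (M₀ : Mat₀) * (P₀ : Mat₀)ᵀ = w₀ • (M₀ : Mat₀)) :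
    ((B : Mat) * ((glI i P₀ : GL (Fin n) F) : Mat) * ((B⁻¹ : GL (Fin n) F) : Mat))ᵀ *
      ((B : Mat) * ((glI i P₀ : GL (Fin n) F) : Mat) * ((B⁻¹ : GL (Fin n) F) : Mat)).map τ =
      i w₀ • (1 : Mat) := by
  have hiw : i w₀ ≠ 0 := by
    intro h0
    exact hw₀ (i.injective (by rw [h0, map_zero]))
  have hl := lift_map τ R.hc hiw R.hYB R.hYB (glI_fixed i τ hi P₀) (conj_Y R P₀ w₀ hP)
  rw [hl, mul_assoc, mul_inv_cancel₀ R.hc, mul_one]

include H hτ hi R in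
/-- descent of an element of `cuU`, with the norm relation -/
theorem cuU_descent {h : Cfsg.GU n F q} (hh : h ∈ cuU g τ) :
    ∃ (P₀ : GL (Fin n) F₀) (w₀ : F₀) (ν : F), w₀ ≠ 0 ∧ ν ≠ 0 ∧
      gm h = ν • ((B : Mat) * ((glI i P₀ : GL (Fin n) F) : Mat) * ((B⁻¹ : GL (Fin n) F) : Mat)) ∧
      (P₀ : Mat₀) * (M₀ : Mat₀) * (P₀ : Mat₀)ᵀ = w₀ • (M₀ : Mat₀) ∧ ν * τ ν * i w₀ = 1 := by
  have hn0 : 0 < n := by have := H.hn; omega
  obtain ⟨z, hz⟩ := (mem_cuU_iff H hτ g h).mp hh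
  have hz0 : z ≠ 0 := by
    rintro rfl
    rw [zero_smul] at hz
    exact gl_ne_zero hn0 (g : GL (Fin n) F) hz
  have hz' : gm h * gm g * (gm h)ᵀ = z⁻¹ • gm g := by
    have := congrArg (fun X : Mat => z⁻¹ • X) hz
    simp only [smul_smul, inv_mul_cancel₀ hz0, one_smul] at this
    exact this.symm
  obtain ⟨P₀, w₀, ν, hw₀0, hν0, hgh, hP⟩ := descent_step hτ H.hF hi hn0 R R h z⁻¹ hz'
  refine ⟨P₀, w₀, ν, hw₀0, hν0, hgh, hP, ?_⟩
  have h1 := gm_transpose_mul_map τ hτ h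
  rw [hgh, map_tau_smul, Matrix.transpose_smul, Matrix.smul_mul, Matrix.mul_smul, smul_smul,
    herm_Y hi R P₀ w₀ hw₀0 hP, smul_smul] at h1
  have h3 := congrFun (congrFun h1 ⟨0, hn0⟩) ⟨0, hn0⟩
  simp only [Matrix.smul_apply, Matrix.one_apply_eq, smul_eq_mul, mul_one] at h3
  rw [← h3]

include H hτ hi R in
/-- lifting a similitude of `M₀` to `cuU` with a prescribed scalar -/
theorem cuU_lift (P₀ : GL (Fin n) F₀) (w₀ : F₀) (hw₀ : w₀ ≠ 0)
    (hP : (P₀ : Mat₀) * (M₀ : Mat₀) * (P₀ : Mat₀)ᵀ = w₀ • (M₀ : Mat₀)) (ν : F)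
    (hν : ν * τ ν * i w₀ = 1) :
    ∃ h : Cfsg.GU n F q, h ∈ cuU g τ ∧
      gm h = ν • ((B : Mat) * ((glI i P₀ : GL (Fin n) F) : Mat) * ((B⁻¹ : GL (Fin n) F) : Mat)) := by
  have hn0 : 0 < n := by have := H.hn; omega
  have hν0 : ν ≠ 0 := by
    rintro rfl
    rw [zero_mul, zero_mul] at hν
    exact zero_ne_one hν
  have hiw : i w₀ ≠ 0 := by
    intro h0
    exact hw₀ (i.injective (by rw [h0, map_zero]))
  obtain ⟨y, hy⟩ : ∃ y : GL (Fin n) F, y = B * glI i P₀ * B⁻¹ := ⟨_, rfl⟩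
  have hyc : (y : Mat) = (B : Mat) * ((glI i P₀ : GL (Fin n) F) : Mat) * ((B⁻¹ : GL (Fin n) F) : Mat) := by
    rw [hy]; rfl
  have hl := herm_Y hi R P₀ w₀ hw₀ hP
  rw [← hyc] at hl ⊢
  have hgU : scl ν hν0 y ∈ Cfsg.GU n F q := by
    rw [mem_GU_iff τ q hτ, scl_coe, map_tau_smul, Matrix.transpose_smul, Matrix.smul_mul,
      Matrix.mul_smul, smul_smul, hl, smul_smul, hν, one_smul]
  refine ⟨⟨scl ν hν0 y, hgU⟩, ?_, rfl⟩
  rw [mem_cuU_iff H hτ]
  have hgh : gm (⟨scl ν hν0 y, hgU⟩ : Cfsg.GU n F q) = ν • ((B : Mat) *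
      ((glI i P₀ : GL (Fin n) F) : Mat) * ((B⁻¹ : GL (Fin n) F) : Mat)) := by
    rw [← hyc]; rfl
  have hconj := lift_conj R R P₀ w₀ hP _ ν hgh
  have hne : ν * ν * k * i w₀ * k⁻¹ ≠ 0 :=
    mul_ne_zero (mul_ne_zero (mul_ne_zero (mul_ne_zero hν0 hν0) R.hk) hiw) (inv_ne_zero R.hk)
  refine ⟨(ν * ν * k * i w₀ * k⁻¹)⁻¹, ?_⟩
  rw [hconj, smul_smul, inv_mul_cancel₀ hne, one_smul]

/-- the determinant of a lifted similitude -/
theorem det_lift (P₀ : GL (Fin n) F₀) (ν : F) :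
    (ν • ((B : Mat) * ((glI i P₀ : GL (Fin n) F) : Mat) * ((B⁻¹ : GL (Fin n) F) : Mat))).det =
      ν ^ n * i ((P₀ : Mat₀).det) := by
  rw [Matrix.det_smul, Fintype.card_fin, Matrix.det_mul, Matrix.det_mul, glI_coe]
  have h1 : ((P₀ : Mat₀).map i).det = i ((P₀ : Mat₀).det) := by
    rw [RingHom.map_det]
    rfl
  have h2 : (B : Mat).det * ((B⁻¹ : GL (Fin n) F) : Mat).det = 1 := by
    rw [← Matrix.det_mul, Units.mul_inv, Matrix.det_one]
  rw [h1]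
  linear_combination (ν ^ n * i ((P₀ : Mat₀).det)) * h2

end desc

end Cfsg.Agent.Helper14.AutPSU
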