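import Mathlib
import Cfsg.Agent.Helper14.PsuQ

/-!
Helper14: automorphisms of `PSU_n(q)`, part R.  The determinants of `cuU` modulo `n`-th powers in
the three cases (odd dimension or even `q`; symplectic type; orthogonal type).
-/

set_option autoImplicit false
set_option linter.unusedSectionVars false
set_option linter.unusedVariables false

namespace Cfsg.Agent.Helper14.AutPSU

open Matrix Cfsg.Agent.Helper13 Cfsg.Agent.Helper37.AutU Cfsg.Agent.Helper14.AutPSL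
  Cfsg.Agent.Helper37.Lang Cfsg.Agent.Helper14.AutPSp Cfsg.Agent.Helper14.SplitAbs

variable {F : Type*} [Field F] [Fintype F] {F₀ : Type*} [Field F₀] {p f q n : ℕ}
variable {i : F₀ →+* F} {τ : F ≃+* F}

local notation "Mat" => Matrix (Fin n) (Fin n) F
local notation "Mat₀" => Matrix (Fin n) (Fin n) F₀
local notation "UU" => Cfsg.Agent.Helper45.GU.U1

/-- a square root compatible with `n`-th powers -/
theorem exists_sq_pow [Fintype F₀] (hcase : Odd n ∨ (2 : F₀) = 0) {d μ : F₀}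
    (hμ0 : μ ≠ 0) (h : d ^ 2 = μ ^ n) : ∃ e : F₀, e ^ 2 = μ ∧ e ^ n = d := by
  have hd0 : d ≠ 0 := by
    rintro rfl
    rw [zero_pow (by norm_num)] at h
    exact pow_ne_zero n hμ0 h.symm
  rcases hcase with hodd | h2
  · obtain ⟨k, hk⟩ := hodd
    obtain ⟨ν, hν⟩ : ∃ ν : F₀, ν = d * (μ ^ k)⁻¹ := ⟨_, rfl⟩
    have hμk : μ ^ k ≠ 0 := pow_ne_zero k hμ0
    have hν2 : ν ^ 2 = μ := by
      rw [hν, mul_pow, h, hk, inv_pow]
      field_simp
      ring
    have h3 : (ν ^ n) ^ 2 = d ^ 2 := by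
      rw [← pow_mul, mul_comm, pow_mul, hν2, h]
    rcases sq_eq_sq_iff_eq_or_eq_neg.mp h3 with h4 | h4
    · exact ⟨ν, hν2, h4⟩
    · refine ⟨-ν, ?_, ?_⟩
      · rw [neg_sq, hν2]
      · rw [Odd.neg_pow ⟨k, hk⟩, h4, neg_neg]
  · have hchar : ringChar F₀ = 2 :=
      CharP.ringChar_of_prime_eq_zero Nat.prime_two (by exact_mod_cast h2)
    obtain ⟨ν, hν⟩ := FiniteField.isSquare_of_char_two hchar μ
    have hν2 : ν ^ 2 = μ := by rw [hν, pow_two]
    have h3 : (ν ^ n) ^ 2 = d ^ 2 := by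
      rw [← pow_mul, mul_comm, pow_mul, hν2, h]
    have hneg : -d = d := by
      have : d + d = 0 := by rw [← two_mul, h2, zero_mul]
      exact neg_eq_of_add_eq_zero_left this
    rcases sq_eq_sq_iff_eq_or_eq_neg.mp h3 with h4 | h4
    · exact ⟨ν, hν2, h4⟩
    · exact ⟨ν, hν2, by rw [h4, hneg]⟩

/-- an element of the norm-one group -/
noncomputable def mkUU (τ : F ≃+* F) (hτ : ∀ a, τ a = a ^ q) (u : F) (hu : u * τ u = 1) :
    ↥(UU F q) :=
  ⟨Units.mk0 u (by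
    rintro rfl
    rw [zero_mul] at hu
    exact zero_ne_one hu), (mem_UU_iff τ hτ _).mpr hu⟩

theorem mkUU_coe (τ : F ≃+* F) (hτ : ∀ a, τ a = a ^ q) (u : F) (hu : u * τ u = 1) :
    (((mkUU τ hτ u hu : ↥(UU F q)) : Fˣ) : F) = u := rfl

theorem UU_ext {a b : ↥(UU F q)} (h : ((a : Fˣ) : F) = ((b : Fˣ) : F)) : a = b :=
  Subtype.ext (Units.ext h)

theorem UU_pow_coe (a : ↥(UU F q)) (k : ℕ) : (((a ^ k : ↥(UU F q)) : Fˣ) : F) = ((a : Fˣ) : F) ^ k := by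
  rw [Subgroup.coe_pow, Units.val_pow_eq_pow_val]

theorem UU_mul_coe (a b : ↥(UU F q)) :
    (((a * b : ↥(UU F q)) : Fˣ) : F) = ((a : Fˣ) : F) * ((b : Fˣ) : F) := by
  rw [Subgroup.coe_mul, Units.val_mul]

section cases

variable (H : Hyp F p f q n) (hτ : ∀ a, τ a = a ^ q) (hi : ∀ a : F, τ a = a ↔ a ∈ i.range)
  {g : Cfsg.GU n F q} {M₀ : GL (Fin n) F₀} {B Y : GL (Fin n) F} {k c : F}
  (R : RelW (q := q) i τ g M₀ B Y k c)

include hi in
theorem tau_i (a : F₀) : τ (i a) = i a := (hi (i a)).mpr ⟨a, rfl⟩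

/-- `(det P₀)² = w₀ⁿ` -/
theorem det_sq_of_sim (P₀ : GL (Fin n) F₀) (w₀ : F₀)
    (hP : (P₀ : Mat₀) * (M₀ : Mat₀) * (P₀ : Mat₀)ᵀ = w₀ • (M₀ : Mat₀)) :
    (P₀ : Mat₀).det ^ 2 = w₀ ^ n := by
  have hgd : (M₀ : Mat₀).det ≠ 0 :=
    ((Matrix.isUnit_iff_isUnit_det _).mp (Units.isUnit M₀)).ne_zero
  have h1 := congrArg Matrix.det hP
  rw [Matrix.det_mul, Matrix.det_mul, Matrix.det_transpose, Matrix.det_smul, Fintype.card_fin] at h1
  apply mul_right_cancel₀ hgd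
  rw [← h1]
  ring

include H hτ hi R in
/-- case 1: `n` odd or `q` even -/
theorem map_cuU_le_of_odd_or_even [Fintype F₀] (hcase : Odd n ∨ (2 : F₀) = 0) :
    (cuU g τ).map (detUU τ hτ) ≤ (powMonoidHom n : UU F q →* UU F q).range := by
  rintro _ ⟨h, hh, rfl⟩
  obtain ⟨P₀, w₀, ν, hw₀0, hν0, hgh, hP, hN⟩ := cuU_descent H hτ hi R hh
  obtain ⟨e, he2, hen⟩ := exists_sq_pow hcase hw₀0 (det_sq_of_sim P₀ w₀ hP)
  have hu : (ν * i e) * τ (ν * i e) = 1 := by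
    rw [map_mul, tau_i hi, ← hN, ← he2, map_pow]
    ring
  refine ⟨mkUU τ hτ (ν * i e) hu, ?_⟩
  apply UU_ext
  rw [powMonoidHom_apply, UU_pow_coe, mkUU_coe, detUU_coe, hgh, det_lift, ← hen, map_pow, mul_pow]

include H hτ hi R in
/-- case 2: symplectic type -/
theorem sup_map_cuU_skew {m : ℕ} (hnm : n = 2 * m)
    (hdet : ∀ (P₀ : GL (Fin n) F₀) (w₀ : F₀), w₀ ≠ 0 →
      (P₀ : Mat₀) * (M₀ : Mat₀) * (P₀ : Mat₀)ᵀ = w₀ • (M₀ : Mat₀) → (P₀ : Mat₀).det = w₀ ^ m)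
    (hall : ∀ w₀ : F₀, w₀ ≠ 0 → ∃ P₀ : GL (Fin n) F₀,
      (P₀ : Mat₀) * (M₀ : Mat₀) * (P₀ : Mat₀)ᵀ = w₀ • (M₀ : Mat₀)) :
    (powMonoidHom n : UU F q →* UU F q).range ⊔ (cuU g τ).map (detUU τ hτ) =
      (powMonoidHom m : UU F q →* UU F q).range := by
  have hτ2 := orderOf_tau τ hτ H.hF
  have hττ : ∀ a, τ (τ a) = a := fun a => by
    have := congrArg (fun s : F ≃+* F => s a) (tau_mul_self τ hτ H.hF)
    exact this
  apply le_antisymm
  · apply sup_le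
    · rintro _ ⟨x, rfl⟩
      refine ⟨x ^ 2, ?_⟩
      rw [powMonoidHom_apply, powMonoidHom_apply, ← pow_mul, hnm]
    · rintro _ ⟨h, hh, rfl⟩
      obtain ⟨P₀, w₀, ν, hw₀0, hν0, hgh, hP, hN⟩ := cuU_descent H hτ hi R hh
      have hu : (ν * ν * i w₀) * τ (ν * ν * i w₀) = 1 := by
        rw [map_mul, map_mul, tau_i hi]
        linear_combination (ν * τ ν * i w₀ + 1) * hN
      refine ⟨mkUU τ hτ (ν * ν * i w₀) hu, ?_⟩
      apply UU_ext
      rw [powMonoidHom_apply, UU_pow_coe, mkUU_coe, detUU_coe, hgh, det_lift, hdet P₀ w₀ hw₀0 hP,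
        map_pow, hnm]
      ring
  · rintro _ ⟨u, rfl⟩
    apply Subgroup.mem_sup_right
    have huU : ((u : Fˣ) : F) * τ ((u : Fˣ) : F) = 1 := (mem_UU_iff τ hτ _).mp u.2
    obtain ⟨ν, hν0, hν⟩ := hilbert90 τ hτ2 (by norm_num) (κ := ((u : Fˣ) : F))
      (by rw [nrm_two]; exact huU)
    have hτν0 : τ ν ≠ 0 := by
      intro h0
      apply hν0
      rw [← hττ ν, h0, map_zero]
    have hNfix : τ (ν * τ ν)⁻¹ = (ν * τ ν)⁻¹ := by
      rw [map_inv₀, map_mul, hττ, mul_comm]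
    obtain ⟨w₀, hw₀⟩ := (hi _).mp hNfix
    have hw₀0 : w₀ ≠ 0 := by
      rintro rfl
      rw [map_zero] at hw₀
      exact inv_ne_zero (mul_ne_zero hν0 hτν0) hw₀.symm
    obtain ⟨P₀, hP⟩ := hall w₀ hw₀0
    have hN : ν * τ ν * i w₀ = 1 := by
      rw [hw₀, mul_inv_cancel₀ (mul_ne_zero hν0 hτν0)]
    obtain ⟨h, hh, hgh⟩ := cuU_lift H hτ hi R P₀ w₀ hw₀0 hP ν hN
    refine ⟨h, hh, ?_⟩
    have hu_eq : ((u : Fˣ) : F) = ν / τ ν := by
      rw [eq_div_iff hτν0]; exact hν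
    have hum : ν ^ n * i (w₀ ^ m) = ((u : Fˣ) : F) ^ m := by
      rw [map_pow, hnm, hw₀, hu_eq, pow_mul, ← mul_pow]
      congr 1
      field_simp
    apply UU_ext
    rw [powMonoidHom_apply, UU_pow_coe, detUU_coe, hgh, det_lift, hdet P₀ w₀ hw₀0 hP, hum]

/-- `-1` in the norm-one group -/
noncomputable def negOneUU (τ : F ≃+* F) (hτ : ∀ a, τ a = a ^ q) : ↥(UU F q) :=
  mkUU τ hτ (-1) (by rw [map_neg, map_one]; ring)

include H hτ hi R in
/-- case 3: orthogonal type -/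
theorem sup_map_cuU_symm {m : ℕ} (hnm : n = 2 * m)
    (hall : ∀ w₀ : F₀, w₀ ≠ 0 → ∃ P₀ : GL (Fin n) F₀,
      (P₀ : Mat₀) * (M₀ : Mat₀) * (P₀ : Mat₀)ᵀ = w₀ • (M₀ : Mat₀))
    (href : ∃ P₀ : GL (Fin n) F₀,
      (P₀ : Mat₀) * (M₀ : Mat₀) * (P₀ : Mat₀)ᵀ = (1 : F₀) • (M₀ : Mat₀) ∧ (P₀ : Mat₀).det = -1) :
    (powMonoidHom n : UU F q →* UU F q).range ⊔ (cuU g τ).map (detUU τ hτ) =
      (powMonoidHom m : UU F q →* UU F q).range ⊔ Subgroup.zpowers (negOneUU τ hτ) := by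
  have hτ2 := orderOf_tau τ hτ H.hF
  have hττ : ∀ a, τ (τ a) = a := fun a => by
    have := congrArg (fun s : F ≃+* F => s a) (tau_mul_self τ hτ H.hF)
    exact this
  -- `-1` is a determinant
  have hneg : negOneUU τ hτ ∈ (cuU g τ).map (detUU τ hτ) := by
    obtain ⟨P₀, hP, hd⟩ := href
    obtain ⟨h, hh, hgh⟩ := cuU_lift H hτ hi R P₀ 1 one_ne_zero hP 1
      (by rw [map_one, map_one]; ring)
    refine ⟨h, hh, ?_⟩
    apply UU_ext
    rw [detUU_coe, hgh, det_lift, hd, one_pow, one_mul, map_neg, map_one]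
    rfl
  apply le_antisymm
  · apply sup_le
    · rintro _ ⟨x, rfl⟩
      apply Subgroup.mem_sup_left
      refine ⟨x ^ 2, ?_⟩
      rw [powMonoidHom_apply, powMonoidHom_apply, ← pow_mul, hnm]
    · rintro _ ⟨h, hh, rfl⟩
      obtain ⟨P₀, w₀, ν, hw₀0, hν0, hgh, hP, hN⟩ := cuU_descent H hτ hi R hh
      have hu : (ν * ν * i w₀) * τ (ν * ν * i w₀) = 1 := by
        rw [map_mul, map_mul, tau_i hi]
        linear_combination (ν * τ ν * i w₀ + 1) * hN
      have hsq : (P₀ : Mat₀).det ^ 2 = (w₀ ^ m) ^ 2 := by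
        rw [det_sq_of_sim P₀ w₀ hP, ← pow_mul, hnm, mul_comm]
      rcases sq_eq_sq_iff_eq_or_eq_neg.mp hsq with hd | hd
      · apply Subgroup.mem_sup_left
        refine ⟨mkUU τ hτ (ν * ν * i w₀) hu, ?_⟩
        apply UU_ext
        rw [powMonoidHom_apply, UU_pow_coe, mkUU_coe, detUU_coe, hgh, det_lift, hd, map_pow, hnm]
        ring
      · have : detUU τ hτ h = (mkUU τ hτ (ν * ν * i w₀) hu) ^ m * negOneUU τ hτ := by
          apply UU_ext
          rw [UU_mul_coe, UU_pow_coe, mkUU_coe, detUU_coe, hgh, det_lift, hd, map_neg, map_pow, hnm]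
          show _ = _ * (-1 : F)
          ring
        rw [this]
        exact Subgroup.mul_mem_sup ⟨_, rfl⟩ (Subgroup.mem_zpowers _)
  · apply sup_le
    · rintro _ ⟨u, rfl⟩
      have huU : ((u : Fˣ) : F) * τ ((u : Fˣ) : F) = 1 := (mem_UU_iff τ hτ _).mp u.2
      obtain ⟨ν, hν0, hν⟩ := hilbert90 τ hτ2 (by norm_num) (κ := ((u : Fˣ) : F))
        (by rw [nrm_two]; exact huU)
      have hτν0 : τ ν ≠ 0 := by
        intro h0
        apply hν0
        rw [← hττ ν, h0, map_zero]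
      have hNfix : τ (ν * τ ν)⁻¹ = (ν * τ ν)⁻¹ := by
        rw [map_inv₀, map_mul, hττ, mul_comm]
      obtain ⟨w₀, hw₀⟩ := (hi _).mp hNfix
      have hw₀0 : w₀ ≠ 0 := by
        rintro rfl
        rw [map_zero] at hw₀
        exact inv_ne_zero (mul_ne_zero hν0 hτν0) hw₀.symm
      obtain ⟨P₀, hP⟩ := hall w₀ hw₀0
      have hN : ν * τ ν * i w₀ = 1 := by
        rw [hw₀, mul_inv_cancel₀ (mul_ne_zero hν0 hτν0)]
      obtain ⟨h, hh, hgh⟩ := cuU_lift H hτ hi R P₀ w₀ hw₀0 hP ν hN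
      have hsq : (P₀ : Mat₀).det ^ 2 = (w₀ ^ m) ^ 2 := by
        rw [det_sq_of_sim P₀ w₀ hP, ← pow_mul, hnm, mul_comm]
      have hmem : detUU τ hτ h ∈
          (powMonoidHom n : UU F q →* UU F q).range ⊔ (cuU g τ).map (detUU τ hτ) :=
        Subgroup.mem_sup_right ⟨h, hh, rfl⟩
      have hu_eq : ((u : Fˣ) : F) = ν / τ ν := by
        rw [eq_div_iff hτν0]; exact hν
      have hum : ν ^ n * i (w₀ ^ m) = ((u : Fˣ) : F) ^ m := by
        rw [map_pow, hnm, hw₀, hu_eq, pow_mul, ← mul_pow]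
        congr 1
        field_simp
      rcases sq_eq_sq_iff_eq_or_eq_neg.mp hsq with hd | hd
      · have : powMonoidHom m u = detUU τ hτ h := by
          apply UU_ext
          rw [powMonoidHom_apply, UU_pow_coe, detUU_coe, hgh, det_lift, hd, hum]
        rw [this]
        exact hmem
      · have : powMonoidHom m u = detUU τ hτ h * negOneUU τ hτ := by
          apply UU_ext
          rw [powMonoidHom_apply, UU_pow_coe, UU_mul_coe, detUU_coe, hgh, det_lift, hd, map_neg,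
            ← hum]
          show _ = _ * (-1 : F)
          ring
        rw [this]
        exact Subgroup.mul_mem _ hmem (Subgroup.mem_sup_right hneg)
    · rw [Subgroup.zpowers_le]
      exact Subgroup.mem_sup_right hneg

end cases

end Cfsg.Agent.Helper14.AutPSU
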