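import Mathlib
import Cfsg.Agent.Helper14.PsuR
import Cfsg.Agent.Helper14.PsuI
import Cfsg.Agent.Helper14.AutGraph13

/-!
Helper14: automorphisms of `PSU_n(q)`, part S.  Class splitting of the involutory graph
automorphisms of `PSU_n(q)` (S2709).
-/

set_option autoImplicit false
set_option linter.unusedSectionVars false
set_option linter.unusedVariables false

namespace Cfsg.Agent.Helper14.AutPSU

open Matrix Cfsg.Agent.Helper13 Cfsg.Agent.Helper37.AutU Cfsg.Agent.Helper14.AutPSL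
  Cfsg.Agent.Helper37.Lang Cfsg.Agent.Helper14.AutPSp Cfsg.Agent.Helper14.SplitAbs
  Cfsg.Agent.Helper14

section forms

variable {K : Type*} [Field K] {n : ℕ}

/-- similitudes of the standard alternating form have determinant `w^m` -/
theorem J_hdet {m : ℕ} (e : Fin m ⊕ Fin m ≃ Fin n) (g₁ : GL (Fin n) K)
    (hg₁ : (g₁ : Matrix (Fin n) (Fin n) K) = Matrix.reindexAlgEquiv K K e (Matrix.J (Fin m) K))
    (P₀ : GL (Fin n) K) (w₀ : K) (hw₀ : w₀ ≠ 0)
    (hP : (P₀ : Matrix (Fin n) (Fin n) K) * (g₁ : Matrix (Fin n) (Fin n) K) *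
      (P₀ : Matrix (Fin n) (Fin n) K)ᵀ = w₀ • (g₁ : Matrix (Fin n) (Fin n) K)) :
    (P₀ : Matrix (Fin n) (Fin n) K).det = w₀ ^ m := by
  obtain ⟨A, hA⟩ : ∃ A, Matrix.reindexAlgEquiv K K e A = (P₀ : Matrix (Fin n) (Fin n) K) :=
    (Matrix.reindexAlgEquiv K K e).surjective _
  have hdet : (P₀ : Matrix (Fin n) (Fin n) K).det = A.det := by
    rw [← hA, Matrix.coe_reindexAlgEquiv, Matrix.reindex_apply, Matrix.det_submatrix_equiv_self]
  rw [hdet]
  have := det_of_J_sim A (Units.mk0 w₀ hw₀) (by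
    apply (Matrix.reindexAlgEquiv K K e).injective
    rw [map_mul, map_mul, ← reindex_transpose, hA, ← hg₁, hP, map_smul, hg₁]
    rfl)
  exact this

/-- every nonzero scalar is a multiplier of the standard alternating form -/
theorem J_hall {m : ℕ} (e : Fin m ⊕ Fin m ≃ Fin n) (g₁ : GL (Fin n) K)
    (hg₁ : (g₁ : Matrix (Fin n) (Fin n) K) = Matrix.reindexAlgEquiv K K e (Matrix.J (Fin m) K))
    (w₀ : K) (hw₀ : w₀ ≠ 0) :
    ∃ P₀ : GL (Fin n) K, (P₀ : Matrix (Fin n) (Fin n) K) * (g₁ : Matrix (Fin n) (Fin n) K) *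
      (P₀ : Matrix (Fin n) (Fin n) K)ᵀ = w₀ • (g₁ : Matrix (Fin n) (Fin n) K) := by
  have hd : (dmu m w₀).det ≠ 0 := by
    rw [dmu_det]
    exact pow_ne_zero _ hw₀
  refine ⟨glReindex e (Matrix.GeneralLinearGroup.mkOfDetNeZero _ hd), ?_⟩
  rw [glReindex_coe, hg₁, reindex_transpose, ← map_mul, ← map_mul, ← map_smul]
  congr 1
  exact dmu_J w₀

/-- every nonzero scalar is a multiplier of a symmetric form of even dimension -/
theorem dgd_hall [Fintype K] (h2 : (2 : K) ≠ 0) (hn : 2 ≤ n) {m : ℕ} (hnm : n = 2 * m)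
    (D : GL (Fin n) K) (d : K) (hD : (D : Matrix (Fin n) (Fin n) K) = dgd hn d)
    (w₀ : K) (hw₀ : w₀ ≠ 0) :
    ∃ P₀ : GL (Fin n) K, (P₀ : Matrix (Fin n) (Fin n) K) * (D : Matrix (Fin n) (Fin n) K) *
      (P₀ : Matrix (Fin n) (Fin n) K)ᵀ = w₀ • (D : Matrix (Fin n) (Fin n) K) := by
  have hd0 : d ≠ 0 := by
    have := ((Matrix.isUnit_iff_isUnit_det _).mp (Units.isUnit D)).ne_zero
    rwa [hD, dgd_det] at this
  have hDT : (D : Matrix (Fin n) (Fin n) K)ᵀ = (D : Matrix (Fin n) (Fin n) K) := by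
    rw [hD, dgd_transpose]
  have hsymm : (w₀ • (D : Matrix (Fin n) (Fin n) K))ᵀ = w₀ • (D : Matrix (Fin n) (Fin n) K) := by
    rw [Matrix.transpose_smul, hDT]
  have hDd : (D : Matrix (Fin n) (Fin n) K).det = d := by rw [hD, dgd_det]
  have hdet2 : (w₀ • (D : Matrix (Fin n) (Fin n) K)).det = w₀ ^ n * d := by
    rw [Matrix.det_smul, Fintype.card_fin, hDd]
  exact exists_congr_of_disc h2 (by rw [Fintype.card_fin]; omega)
    (D : Matrix (Fin n) (Fin n) K) (w₀ • (D : Matrix (Fin n) (Fin n) K)) hDT hsymm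
    (by rw [hDd]; exact hd0)
    (by rw [hdet2]; exact mul_ne_zero (pow_ne_zero _ hw₀) hd0)
    (by
      rw [hdet2, hDd]
      refine ⟨w₀ ^ m * d, ?_⟩
      rw [hnm, two_mul, pow_add]
      ring)

/-- a reflection of a diagonal form -/
theorem dgd_href (hn : 2 ≤ n) (D : GL (Fin n) K) (d : K)
    (hD : (D : Matrix (Fin n) (Fin n) K) = dgd hn d) :
    ∃ P₀ : GL (Fin n) K, (P₀ : Matrix (Fin n) (Fin n) K) * (D : Matrix (Fin n) (Fin n) K) *
      (P₀ : Matrix (Fin n) (Fin n) K)ᵀ = (1 : K) • (D : Matrix (Fin n) (Fin n) K) ∧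
      (P₀ : Matrix (Fin n) (Fin n) K).det = -1 := by
  have hr : (dgd hn (-1 : K)).det ≠ 0 := by
    rw [dgd_det]; exact neg_ne_zero.mpr one_ne_zero
  refine ⟨Matrix.GeneralLinearGroup.mkOfDetNeZero _ hr, ?_, ?_⟩
  · show dgd hn (-1 : K) * (D : Matrix (Fin n) (Fin n) K) * (dgd hn (-1 : K))ᵀ = _
    rw [hD, dgd_transpose, dgd_mul_dgd, dgd_mul_dgd, one_smul]
    congr 1
    ring
  · show (dgd hn (-1 : K)).det = _
    rw [dgd_det]

end forms

variable {F : Type*} [Field F] [Fintype F] {F₀ : Type*} [Field F₀] [Fintype F₀] {p f q n : ℕ}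
variable {i : F₀ →+* F} {τ : F ≃+* F}

local notation "Mat" => Matrix (Fin n) (Fin n) F
local notation "Mat₀" => Matrix (Fin n) (Fin n) F₀
local notation "UU" => Cfsg.Agent.Helper45.GU.U1

theorem splitClassCount_eq_of_isConjUnderU (H : Hyp F p f q n)
    {x y : MulAut (Cfsg.PSU n F q)} (h : Cfsg.IsConjUnder (Cfsg.inndiagPSU n F q) x y) :
    Cfsg.splitClassCount (Cfsg.inndiagPSU n F q) (Cfsg.Inn (Cfsg.PSU n F q)) y =
    Cfsg.splitClassCount (Cfsg.inndiagPSU n F q) (Cfsg.Inn (Cfsg.PSU n F q)) x := by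
  have hHn : (Cfsg.inndiagPSU n F q).Normal := inndiagPSU_normal H
  have hKn : (Cfsg.Inn (Cfsg.PSU n F q)).Normal := Inn_normal _
  obtain ⟨a, -, rfl⟩ := h
  exact splitClassCount_conj _ _ a x

theorem index_pow_range_UU (hF : Fintype.card F = q ^ 2) (k : ℕ) :
    ((powMonoidHom k : UU F q →* UU F q).range).index = Nat.gcd k (q + 1) := by
  have := index_pow_sup (G := ↥(UU F q)) k ⊥
  rw [sup_bot_eq, Subgroup.card_bot, Nat.div_one, Cfsg.Agent.Helper45.GU.card_U1 hF] at this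
  exact this

section counts

variable (H : Hyp F p f q n) (hτ : ∀ a, τ a = a ^ q) (hi : ∀ a : F, τ a = a ↔ a ∈ i.range)
  {g : Cfsg.GU n F q} {M₀ : GL (Fin n) F₀}

include H hτ hi in
/-- class count: `n` odd or `q` even -/
theorem splitClassCount_gpu_of_odd_or_even (hcase : Odd n ∨ (2 : F₀) = 0)
    (hR : Rel (q := q) i τ g M₀) :
    Cfsg.splitClassCount (Cfsg.inndiagPSU n F q) (Cfsg.Inn (Cfsg.PSU n F q))
      (pstd g τ : MulAut (Cfsg.PSU n F q)) = Nat.gcd n (q + 1) := by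
  obtain ⟨B, Y, k, c, R⟩ := (rel_iff i τ g M₀).mp hR
  rw [splitClassCount_gpu H hτ, sup_eq_left.mpr (map_cuU_le_of_odd_or_even H hτ hi R hcase),
    index_pow_range_UU H.hF]

include H hτ hi in
/-- class count: symplectic type -/
theorem splitClassCount_gpu_skew (h2 : (2 : F₀) ≠ 0) {m : ℕ} (hnm : n = 2 * m)
    (hs : (M₀ : Mat₀)ᵀ = -(M₀ : Mat₀)) (hR : Rel (q := q) i τ g M₀) :
    Cfsg.splitClassCount (Cfsg.inndiagPSU n F q) (Cfsg.Inn (Cfsg.PSU n F q))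
      (pstd g τ : MulAut (Cfsg.PSU n F q)) = Nat.gcd m (q + 1) := by
  have hn := H.hn
  have hn2 : 2 ≤ n := by omega
  have hn0 : 0 < n := by omega
  have hcard₁ : Fintype.card (Fin m ⊕ Fin m) = n := by
    rw [Fintype.card_sum, Fintype.card_fin, hnm]
    ring
  obtain ⟨e, -⟩ : ∃ e : Fin m ⊕ Fin m ≃ Fin n, e = e := ⟨Fintype.equivFinOfCardEq hcard₁, rfl⟩
  have hJdet : (Matrix.J (Fin m) F₀).det ≠ 0 := (Matrix.isUnit_det_J (Fin m) F₀).ne_zero
  obtain ⟨Jg, hJg⟩ : ∃ Jg : GL (Fin m ⊕ Fin m) F₀,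
      (Jg : Matrix (Fin m ⊕ Fin m) (Fin m ⊕ Fin m) F₀) = Matrix.J (Fin m) F₀ :=
    ⟨Matrix.GeneralLinearGroup.mkOfDetNeZero _ hJdet, rfl⟩
  obtain ⟨J', hJ'⟩ : ∃ J' : GL (Fin n) F₀, J' = glReindex e Jg := ⟨_, rfl⟩
  have hg₁c : (J' : Mat₀) = Matrix.reindexAlgEquiv F₀ F₀ e (Matrix.J (Fin m) F₀) := by
    rw [hJ', glReindex_coe, hJg]
  obtain ⟨Q, hQ⟩ := exists_congr_J h2 e M₀ hs
  have hconj₀ : Cfsg.IsConjUnder (Cfsg.inndiagPSL n F₀) (gph M₀) (gph J') := by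
    apply isConjUnder_gph_of_congr_smul hn2 Q M₀ _ (-1)
    rw [hQ, hg₁c, Units.val_neg, Units.val_one, neg_smul, one_smul, neg_neg]
  have hJ'T : (J' : Mat₀)ᵀ = (-1 : F₀) • (J' : Mat₀) := by
    rw [hg₁c, reindex_transpose, neg_smul, one_smul, ← map_neg]
    congr 1
    rw [Matrix.J_transpose]
  obtain ⟨g', hR'⟩ := exists_rel_of_transpose' (q := q) i τ hτ H.hF hi hn0 J' (-1) (Or.inr rfl) hJ'T
  have hconj := (isConjUnder_gpu_iff H hτ hi hR hR').mpr hconj₀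
  rw [← splitClassCount_eq_of_isConjUnderU H hconj]
  obtain ⟨B, Y, k, c, R'⟩ := (rel_iff i τ g' J').mp hR'
  rw [splitClassCount_gpu H hτ,
    sup_map_cuU_skew H hτ hi R' hnm (J_hdet e J' hg₁c) (J_hall e J' hg₁c),
    index_pow_range_UU H.hF]

theorem orderOf_negOneUU (hτ : ∀ a, τ a = a ^ q) (h2 : (2 : F) ≠ 0) :
    orderOf (negOneUU (q := q) τ hτ) = 2 := by
  apply orderOf_eq_prime
  · apply UU_ext
    rw [UU_pow_coe]
    show (-1 : F) ^ 2 = 1
    ring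
  · intro h
    have h1 := congrArg (fun a : ↥(UU F q) => ((a : Fˣ) : F)) h
    have h3 : (-1 : F) = 1 := h1
    apply h2
    linear_combination -h3

include H hτ hi in
/-- class count: orthogonal type -/
theorem splitClassCount_gpu_symm (h2 : (2 : F₀) ≠ 0) {m : ℕ} (hnm : n = 2 * m)
    (hs : (M₀ : Mat₀)ᵀ = (M₀ : Mat₀)) (hR : Rel (q := q) i τ g M₀) :
    Cfsg.splitClassCount (Cfsg.inndiagPSU n F q) (Cfsg.Inn (Cfsg.PSU n F q))
      (pstd g τ : MulAut (Cfsg.PSU n F q)) = Nat.gcd m ((q + 1) / 2) := by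
  have hn := H.hn
  have hn2 : 2 ≤ n := by omega
  have hn0 : 0 < n := by omega
  have h2F : (2 : F) ≠ 0 := by
    intro h0
    apply h2
    apply i.injective
    rw [map_ofNat, map_zero]
    exact h0
  have hgd : (M₀ : Mat₀).det ≠ 0 :=
    ((Matrix.isUnit_iff_isUnit_det _).mp (Units.isUnit M₀)).ne_zero
  have hDdet : (dgd hn2 (M₀ : Mat₀).det).det ≠ 0 := by
    rw [dgd_det]; exact hgd
  obtain ⟨D, hD⟩ : ∃ D : GL (Fin n) F₀, (D : Mat₀) = dgd hn2 (M₀ : Mat₀).det :=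
    ⟨Matrix.GeneralLinearGroup.mkOfDetNeZero _ hDdet, rfl⟩
  obtain ⟨P, hP⟩ := exists_congr_of_disc h2 (by rw [Fintype.card_fin]; omega)
    (D : Mat₀) (M₀ : Mat₀)
    (by rw [hD, dgd_transpose]) hs (by rw [hD]; exact hDdet) hgd
    (by rw [hD, dgd_det]; exact ⟨_, rfl⟩)
  have hconj₀ := isConjUnder_gph_congr P D M₀ hP
  have hDT : (D : Mat₀)ᵀ = (1 : F₀) • (D : Mat₀) := by
    rw [hD, dgd_transpose, one_smul]
  obtain ⟨g', hR'⟩ := exists_rel_of_transpose' (q := q) i τ hτ H.hF hi hn0 D 1 (Or.inl rfl) hDT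
  have hconj := (isConjUnder_gpu_iff H hτ hi hR' hR).mpr hconj₀
  rw [splitClassCount_eq_of_isConjUnderU H hconj]
  obtain ⟨B, Y, k, c, R'⟩ := (rel_iff i τ g' D).mp hR'
  rw [splitClassCount_gpu H hτ,
    sup_map_cuU_symm H hτ hi R' hnm (dgd_hall h2 hn2 hnm D _ hD) (dgd_href hn2 D _ hD),
    index_pow_sup, Cfsg.Agent.Helper45.GU.card_U1 H.hF, Nat.card_zpowers,
    orderOf_negOneUU hτ h2F]

end counts

/-- S2709: class splitting of the involutory graph automorphisms of `PSU_n(q)` -/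
theorem psu_graph_class_splitting [hp : Fact p.Prime] (hq : q = p ^ f) (hf : 1 ≤ f)
    (hF : Fintype.card F = q ^ 2) (hn : 3 ≤ n) (hs : ¬ (n = 3 ∧ q = 2))
    (hF₀ : Fintype.card F₀ = q) (γ : MulAut (Cfsg.PSU n F q))
    (hγ : Cfsg.IsGraphAutClassPSU γ) (hγ2 : orderOf γ = 2) :
    ((Even n ∧ Odd q ∧ Nonempty (↥(Cfsg.inndiagPSU n F q ⊓ Subgroup.centralizer {γ}) ≃*
        Cfsg.PGSp (n / 2) F₀)) →
      Cfsg.splitClassCount (Cfsg.inndiagPSU n F q) (Cfsg.Inn (Cfsg.PSU n F q)) γ =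
        Nat.gcd (n / 2) (q + 1)) ∧
    ((Even n ∧ Odd q ∧ ¬ Nonempty (↥(Cfsg.inndiagPSU n F q ⊓ Subgroup.centralizer {γ}) ≃*
        Cfsg.PGSp (n / 2) F₀)) →
      Cfsg.splitClassCount (Cfsg.inndiagPSU n F q) (Cfsg.Inn (Cfsg.PSU n F q)) γ =
        Nat.gcd n (q + 1) / 2) ∧
    (¬ (Even n ∧ Odd q) →
      Cfsg.splitClassCount (Cfsg.inndiagPSU n F q) (Cfsg.Inn (Cfsg.PSU n F q)) γ =
        Nat.gcd n (q + 1)) := by
  have H : Hyp F p f q n := ⟨Fact.out, hq, hf, hF, hn, hs⟩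
  have hn2 : 2 ≤ n := by omega
  obtain ⟨τ, hτ⟩ := exists_tau hF
  obtain ⟨i, hi⟩ := exists_incl H τ hτ hF₀
  obtain ⟨g, M₀, rfl, hR, hc, ho⟩ := exists_rel_gph H hτ hi hγ hγ2
  obtain ⟨e0⟩ := nonempty_centralizer_equiv_of_rel H hτ hi hR
  have hmain : Even n → Odd q →
      ((M₀ : Mat₀)ᵀ = -(M₀ : Mat₀) ∧
        Nonempty (↥(Cfsg.inndiagPSU n F q ⊓
          Subgroup.centralizer {(pstd g τ : MulAut (Cfsg.PSU n F q))}) ≃* Cfsg.PGSp (n / 2) F₀) ∧
        Cfsg.splitClassCount (Cfsg.inndiagPSU n F q) (Cfsg.Inn (Cfsg.PSU n F q))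
          (pstd g τ : MulAut (Cfsg.PSU n F q)) = Nat.gcd (n / 2) (q + 1)) ∨
      (¬ Nonempty (↥(Cfsg.inndiagPSU n F q ⊓
          Subgroup.centralizer {(pstd g τ : MulAut (Cfsg.PSU n F q))}) ≃* Cfsg.PGSp (n / 2) F₀) ∧
        Cfsg.splitClassCount (Cfsg.inndiagPSU n F q) (Cfsg.Inn (Cfsg.PSU n F q))
          (pstd g τ : MulAut (Cfsg.PSU n F q)) = Nat.gcd n (q + 1) / 2) := by
    intro hev hqo
    obtain ⟨m, hm⟩ := hev
    have hnm : n = 2 * m := by omega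
    have hm2 : 2 ≤ m := by omega
    have hdiv : n / 2 = m := by rw [hnm]; exact Nat.mul_div_cancel_left m (by norm_num)
    have hodd : Odd (Fintype.card F₀) := by rw [hF₀]; exact hqo
    have h2 : (2 : F₀) ≠ 0 := two_ne_zero_of_odd_card hodd
    rw [hdiv]
    rcases symm_or_skew_of_orderOf_gph hn2 M₀ ho with hsy | hsk
    · right
      constructor
      · rintro ⟨e⟩
        rcases centralizer_gph_symm h2 hn2 hm2 hnm M₀ hsy with ⟨⟨e1⟩⟩ | ⟨a, b, hab, ⟨e1⟩⟩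
        · exact not_PGO_plus_equiv_PGSp hodd hm2 ⟨e1.symm.trans (e0.symm.trans e)⟩
        · exact not_PGO_minus_equiv_PGSp hodd hm2 a b hab ⟨e1.symm.trans (e0.symm.trans e)⟩
      · rw [splitClassCount_gpu_symm H hτ hi h2 hnm hsy hR]
        obtain ⟨k, hk⟩ := hqo
        have h1 : q + 1 = 2 * (k + 1) := by omega
        rw [h1, Nat.mul_div_cancel_left _ (by norm_num : 0 < 2), hnm, Nat.gcd_mul_left,
          Nat.mul_div_cancel_left _ (by norm_num : 0 < 2)]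
    · left
      obtain ⟨e1⟩ := centralizer_gph_skew h2 hn2 hnm M₀ hsk
      exact ⟨hsk, ⟨e0.trans e1⟩, splitClassCount_gpu_skew H hτ hi h2 hnm hsk hR⟩
  refine ⟨?_, ?_, ?_⟩
  · rintro ⟨hev, hqo, hiso⟩
    rcases hmain hev hqo with ⟨-, -, hcount⟩ | ⟨hno, -⟩
    · exact hcount
    · exact absurd hiso hno
  · rintro ⟨hev, hqo, hiso⟩
    rcases hmain hev hqo with ⟨-, hyes, -⟩ | ⟨-, hcount⟩
    · exact absurd hyes hiso
    · exact hcount
  · intro hcase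
    have hcase' : Odd n ∨ (2 : F₀) = 0 := by
      by_cases hno : Odd n
      · exact Or.inl hno
      · right
        have hev : Even n := Nat.not_odd_iff_even.mp hno
        have hqe : ¬ Odd q := fun hqo => hcase ⟨hev, hqo⟩
        have hpe : ¬ Odd p := fun hpo => hqe (by rw [hq]; exact hpo.pow)
        have hp2 : p = 2 := by
          rcases hp.out.eq_two_or_odd' with h | h
          · exact h
          · exact absurd h hpe
        have h0 : ((Fintype.card F₀ : ℕ) : F₀) = 0 := Nat.cast_card_eq_zero F₀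
        rw [hF₀, hq, hp2] at h0
        push_cast at h0
        exact pow_eq_zero_iff (by omega) |>.mp h0
    exact splitClassCount_gpu_of_odd_or_even H hτ hi hcase' hR

end Cfsg.Agent.Helper14.AutPSU
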