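import Mathlib
import Cfsg.Agent.Helper14.QuatSylow

set_option autoImplicit false

namespace Cfsg.Agent.Helper14

open QuaternionGroup
open scoped commutatorElement

section algebraic

variable {G : Type*} [Group G] {m : ℕ} (S : Subgroup G)

/-- `S ∩ C_G(D)` is exactly the image of the rotation subgroup. -/
theorem inf_centralizer_eq [NeZero m] (e : S ≃* QuaternionGroup m) (h4 : (4 : ZMod (2 * m)) ≠ 0) :
    S ⊓ Subgroup.centralizer ((⁅S, S⁆ : Subgroup G) : Set G) =
      (Subgroup.zpowers (e.symm (a 1))).map S.subtype := by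
  apply le_antisymm (inf_centralizer_le S e h4)
  rintro _ ⟨x, ⟨k, rfl⟩, rfl⟩
  show ((e.symm (a 1) ^ k : S) : G) ∈ _
  refine ⟨SetLike.coe_mem _, ?_⟩
  intro d hd
  obtain ⟨d', hd', rfl⟩ := mem_commutator_of_mem S hd
  have hd'' : e d' ∈ commutator (QuaternionGroup m) := by
    rw [← map_commutator_equiv S e]; exact ⟨d', hd', rfl⟩
  obtain ⟨i, hi⟩ := (mem_zpowers_a_one_iff _).mp (commutator_le_zpowers hd'')
  have hk : ∃ j, e ((e.symm (a 1)) ^ k) = a j := by
    rw [map_zpow, e.apply_symm_apply]
    exact (mem_zpowers_a_one_iff _).mp ⟨k, rfl⟩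
  obtain ⟨j, hj⟩ := hk
  have : e (d' * (e.symm (a 1)) ^ k) = e ((e.symm (a 1)) ^ k * d') := by
    rw [map_mul, map_mul, hi, hj, a_mul_a, a_mul_a, add_comm]
  have h2 := e.injective this
  exact congrArg Subtype.val h2

theorem card_inf_centralizer [NeZero m] (e : S ≃* QuaternionGroup m)
    (h4 : (4 : ZMod (2 * m)) ≠ 0) :
    Nat.card ↥(S ⊓ Subgroup.centralizer ((⁅S, S⁆ : Subgroup G) : Set G)) = 2 * m := by
  rw [inf_centralizer_eq S e h4]
  rw [← Nat.card_congr ((Subgroup.zpowers (e.symm (a 1))).equivMapOfInjective S.subtype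
    S.subtype_injective).toEquiv, Nat.card_zpowers]
  exact (e.symm.orderOf_eq (a 1)).trans orderOf_a_one

theorem card_of_equiv [NeZero m] (e : S ≃* QuaternionGroup m) : Nat.card S = 4 * m := by
  rw [Nat.card_congr e.toEquiv, Nat.card_eq_fintype_card, QuaternionGroup.card]

end algebraic

section sylow

variable {G : Type*} [Group G] [Finite G] {p : ℕ} [Fact p.Prime]

/-- a `p`-subgroup of `C_G(D)` can be conjugated by an element of `N_G(D)` into `S ∩ C_G(D)`,
for a Sylow `p`-subgroup `S` of `G` normalizing `D`. -/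
theorem exists_conj_le_inf_centralizer (S : Sylow p G) (D : Subgroup G)
    (hSN : (S : Subgroup G) ≤ Subgroup.normalizer (D : Set G)) (R : Subgroup G)
    (hRC : R ≤ Subgroup.centralizer (D : Set G)) (hR : IsPGroup p R) :
    ∃ g ∈ Subgroup.normalizer (D : Set G), R.map (MulAut.conj g).toMonoidHom ≤
      (S : Subgroup G) ⊓ Subgroup.centralizer (D : Set G) := by
  set N := Subgroup.normalizer (D : Set G) with hN
  have hCN : Subgroup.centralizer (D : Set G) ≤ N := Subgroup.centralizer_le_normalizer _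
  let S' : Sylow p N := S.subtype hSN
  have hR' : IsPGroup p (R.subgroupOf N) := hR.comap_subtype
  obtain ⟨Q, hQ⟩ := hR'.exists_le_sylow
  obtain ⟨g, hg⟩ := MulAction.exists_smul_eq N Q S'
  refine ⟨g, g.2, ?_⟩
  rintro _ ⟨r, hr, rfl⟩
  have hrN : r ∈ N := hCN (hRC hr)
  have hrQ : (⟨r, hrN⟩ : N) ∈ Q := hQ (by rw [Subgroup.mem_subgroupOf]; exact hr)
  have h1 : g * ⟨r, hrN⟩ * g⁻¹ ∈ ((g • Q : Sylow p N) : Subgroup N) := by
    rw [Sylow.coe_subgroup_smul]
    have := Subgroup.smul_mem_pointwise_smul (⟨r, hrN⟩ : N) (MulAut.conj g) (Q : Subgroup N) hrQ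
    simpa [MulAut.smul_def] using this
  rw [hg] at h1
  have h2 : ((g * ⟨r, hrN⟩ * g⁻¹ : N) : G) ∈ (S : Subgroup G) := by
    have := h1
    rw [Sylow.coe_subtype, Subgroup.mem_subgroupOf] at this
    exact this
  constructor
  · show (MulAut.conj (g : G)) r ∈ (S : Subgroup G)
    rw [MulAut.conj_apply]
    exact h2
  · show (MulAut.conj (g : G)) r ∈ Subgroup.centralizer (D : Set G)
    rw [MulAut.conj_apply]
    exact conj_mem_centralizer g.2 (hRC hr)

/-- `S ∩ C_G(D)` is a Sylow `p`-subgroup of `C_G(D)`. -/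
noncomputable def sylowCentralizer (S : Sylow p G) (D : Subgroup G)
    (hSN : (S : Subgroup G) ≤ Subgroup.normalizer (D : Set G)) :
    Sylow p ↥(Subgroup.centralizer (D : Set G)) where
  toSubgroup := ((S : Subgroup G) ⊓ Subgroup.centralizer (D : Set G)).subgroupOf
    (Subgroup.centralizer (D : Set G))
  isPGroup' := (S.2.to_le inf_le_left).comap_subtype
  is_maximal' := @fun Q hQ hle => by
    symm
    apply Subgroup.eq_of_le_of_card_ge hle
    -- |Q| ≤ |S ⊓ C|
    have hQ' : IsPGroup p (Q.map (Subgroup.centralizer (D : Set G)).subtype) := hQ.map _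
    obtain ⟨g, _, hg⟩ := exists_conj_le_inf_centralizer S D hSN
      (Q.map (Subgroup.centralizer (D : Set G)).subtype) (Subgroup.map_subtype_le Q) hQ'
    have h1 : Nat.card Q = Nat.card (Q.map (Subgroup.centralizer (D : Set G)).subtype) :=
      Nat.card_congr (Q.equivMapOfInjective (Subgroup.centralizer (D : Set G)).subtype
        (Subgroup.centralizer (D : Set G)).subtype_injective).toEquiv
    have h2 : Nat.card (Q.map (Subgroup.centralizer (D : Set G)).subtype) =
        Nat.card ((Q.map (Subgroup.centralizer (D : Set G)).subtype).map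
          (MulAut.conj g).toMonoidHom) :=
      Nat.card_congr ((Q.map (Subgroup.centralizer (D : Set G)).subtype).equivMapOfInjective
        (MulAut.conj g).toMonoidHom (MulAut.conj g).injective).toEquiv
    have h3 := Subgroup.card_le_of_le hg
    have h4 : Nat.card (((S : Subgroup G) ⊓ Subgroup.centralizer (D : Set G)).subgroupOf
        (Subgroup.centralizer (D : Set G))) =
        Nat.card ↥((S : Subgroup G) ⊓ Subgroup.centralizer (D : Set G)) :=
      Nat.card_congr (Subgroup.subgroupOfEquivOfLe inf_le_right).toEquiv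
    rw [h4, h1, h2]
    exact h3

theorem coe_sylowCentralizer (S : Sylow p G) (D : Subgroup G)
    (hSN : (S : Subgroup G) ≤ Subgroup.normalizer (D : Set G)) :
    ((sylowCentralizer S D hSN : Sylow p ↥(Subgroup.centralizer (D : Set G))) :
      Subgroup ↥(Subgroup.centralizer (D : Set G))) =
    ((S : Subgroup G) ⊓ Subgroup.centralizer (D : Set G)).subgroupOf
      (Subgroup.centralizer (D : Set G)) := rfl

end sylow

end Cfsg.Agent.Helper14
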