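import Mathlib
import Cfsg.Prelude.Def_ClassicalGeometry
import Cfsg.Agent.Helper14.Polar

set_option autoImplicit false

namespace Cfsg.Agent.Helper14

open Matrix

variable {F : Type*} [Field F] {ι : Type} [Fintype ι] [DecidableEq ι]

/-- the reflection matrix acts as `x ↦ x - Q(w)⁻¹ f(w, x) w`. -/
theorem reflectionMatrix_mulVec (Q : QuadraticForm F (ι → F)) (w x : ι → F) :
    Cfsg.reflectionMatrix (⇑Q) w *ᵥ x = x - ((Q w)⁻¹ * QuadraticMap.polar (⇑Q) w x) • w := by
  unfold Cfsg.reflectionMatrix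
  rw [Matrix.sub_mulVec, Matrix.one_mulVec, Matrix.smul_mulVec, vecMulVec_polarVec_mulVec, smul_smul]

/-- reflections preserve the form. -/
theorem reflectionMatrix_isometry (Q : QuadraticForm F (ι → F)) (w : ι → F) (hw : Q w ≠ 0)
    (x : ι → F) : Q (Cfsg.reflectionMatrix (⇑Q) w *ᵥ x) = Q x := by
  rw [reflectionMatrix_mulVec, sub_eq_add_neg, ← neg_smul, QuadraticMap.map_add (⇑Q),
    QuadraticMap.map_smul, QuadraticMap.polar_smul_right, QuadraticMap.polar_comm (⇑Q) x w]
  simp only [smul_eq_mul]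
  field_simp
  ring

/-- reflections are involutions. -/
theorem reflectionMatrix_mul_self (Q : QuadraticForm F (ι → F)) (w : ι → F) (hw : Q w ≠ 0) :
    Cfsg.reflectionMatrix (⇑Q) w * Cfsg.reflectionMatrix (⇑Q) w = 1 := by
  apply Matrix.toLin'.injective
  apply LinearMap.ext
  intro x
  rw [Matrix.toLin'_mul, LinearMap.comp_apply, Matrix.toLin'_apply, Matrix.toLin'_apply,
    Matrix.toLin'_one, LinearMap.id_apply]
  rw [reflectionMatrix_mulVec Q w x, reflectionMatrix_mulVec]
  rw [QuadraticMap.polar_sub_right, QuadraticMap.polar_smul_right, QuadraticMap.polar_self]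
  ext i
  simp only [Pi.sub_apply, Pi.smul_apply, smul_eq_mul, nsmul_eq_mul, Nat.cast_ofNat]
  field_simp
  ring

theorem reflectionMatrix_apply_self (Q : QuadraticForm F (ι → F)) (w : ι → F) (hw : Q w ≠ 0) :
    Cfsg.reflectionMatrix (⇑Q) w *ᵥ w = -w := by
  rw [reflectionMatrix_mulVec, QuadraticMap.polar_self]
  ext i
  simp only [Pi.sub_apply, Pi.smul_apply, smul_eq_mul, nsmul_eq_mul, Nat.cast_ofNat, Pi.neg_apply]
  field_simp
  ring

theorem reflectionMatrix_apply_of_polar_eq_zero (Q : QuadraticForm F (ι → F)) (w x : ι → F)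
    (h : QuadraticMap.polar (⇑Q) w x = 0) : Cfsg.reflectionMatrix (⇑Q) w *ᵥ x = x := by
  rw [reflectionMatrix_mulVec, h, mul_zero, zero_smul, sub_zero]

/-- the reflection in `w` (with `Q w ≠ 0`) as an element of the general linear group. -/
noncomputable def reflectionGL (Q : QuadraticForm F (ι → F)) (w : ι → F) (hw : Q w ≠ 0) :
    Matrix.GeneralLinearGroup ι F :=
  ⟨Cfsg.reflectionMatrix (⇑Q) w, Cfsg.reflectionMatrix (⇑Q) w,
    reflectionMatrix_mul_self Q w hw, reflectionMatrix_mul_self Q w hw⟩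

theorem reflectionGL_coe (Q : QuadraticForm F (ι → F)) (w : ι → F) (hw : Q w ≠ 0) :
    ((reflectionGL Q w hw : Matrix.GeneralLinearGroup ι F) : Matrix ι ι F) =
      Cfsg.reflectionMatrix (⇑Q) w := rfl

theorem reflectionGL_mem (Q : QuadraticForm F (ι → F)) (w : ι → F) (hw : Q w ≠ 0) :
    reflectionGL Q w hw ∈ Cfsg.isometryGroup F (⇑Q) := by
  intro u _
  exact reflectionMatrix_isometry Q w hw u

end Cfsg.Agent.Helper14
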