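import Mathlib
import Cfsg.Prelude.Def_DegreeGraph

/-!
# Piece (GA) of #7754 (helper80, S4776): graph assembly
-/

set_option autoImplicit false
set_option linter.unusedSectionVars false
set_option linter.unusedVariables false

namespace Cfsg.Agent.Helper14.RelDeg

open Cfsg

/-- two vertices with a common prime divisor are reachable from each other -/
theorem reachable_of_common_prime (V : Set ℕ) (p : ℕ) (hp : p.Prime) (a b : ℕ) (ha : a ∈ V)
    (hb : b ∈ V) (hpa : p ∣ a) (hpb : p ∣ b) :
    (commonDivisorGraph.induce V).Reachable ⟨a, ha⟩ ⟨b, hb⟩ := by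
  by_cases hab : a = b
  · subst hab
    exact SimpleGraph.Reachable.refl _
  · apply SimpleGraph.Adj.reachable
    show commonDivisorGraph.Adj a b
    refine ⟨hab, ?_⟩
    have hd : p ∣ Nat.gcd a b := Nat.dvd_gcd hpa hpb
    have hne : Nat.gcd a b ≠ 0 := by
      intro h0
      rw [Nat.gcd_eq_zero_iff] at h0
      exact hab (h0.1.trans h0.2.symm)
    exact lt_of_lt_of_le hp.one_lt (Nat.le_of_dvd (Nat.pos_of_ne_zero hne) hd)

/-- (GA) graph assembly -/
theorem graph_assembly (V : Set ℕ) (m : ℕ) (hm : 1 < m)
    (hL : ∀ p q : ℕ, p.Prime → q.Prime → p ∣ m → q ∣ m → ∀ (a b : ℕ) (ha : a ∈ V) (hb : b ∈ V),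
      ¬ p ∣ a → ¬ q ∣ b → (commonDivisorGraph.induce V).Reachable ⟨a, ha⟩ ⟨b, hb⟩) :
    Nat.card (commonDivisorGraph.induce V).ConnectedComponent ≤ 2 ∧
      ∀ (a b : ℕ) (ha : a ∈ V) (hb : b ∈ V),
        ¬ (commonDivisorGraph.induce V).Reachable ⟨a, ha⟩ ⟨b, hb⟩ →
        (Nat.Coprime a m ∧ ∀ r : ℕ, r.Prime → r ∣ m → r ∣ b) ∨
          (Nat.Coprime b m ∧ ∀ r : ℕ, r.Prime → r ∣ m → r ∣ a) := by
  classical
  obtain ⟨p, hp, hpm⟩ := Nat.exists_prime_and_dvd hm.ne'
  constructor
  · -- at most two components
    let f : (commonDivisorGraph.induce V).ConnectedComponent → Bool :=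
      fun C => decide (p ∣ (Quot.out C).1)
    have hf : Function.Injective f := by
      intro C D hCD
      have hC : (commonDivisorGraph.induce V).connectedComponentMk (Quot.out C) = C :=
        Quot.out_eq C
      have hD : (commonDivisorGraph.induce V).connectedComponentMk (Quot.out D) = D :=
        Quot.out_eq D
      rw [← hC, ← hD]
      apply SimpleGraph.ConnectedComponent.sound
      have hCD' : decide (p ∣ (Quot.out C).1) = decide (p ∣ (Quot.out D).1) := hCD
      by_cases h1 : p ∣ (Quot.out C).1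
      · have h2 : p ∣ (Quot.out D).1 := by
          have := hCD'
          rw [decide_eq_decide] at this
          exact this.mp h1
        exact reachable_of_common_prime V p hp _ _ (Quot.out C).2 (Quot.out D).2 h1 h2
      · have h2 : ¬ p ∣ (Quot.out D).1 := by
          have := hCD'
          rw [decide_eq_decide] at this
          exact fun h => h1 (this.mpr h)
        exact hL p p hp hp hpm hpm _ _ (Quot.out C).2 (Quot.out D).2 h1 h2
    have h := Nat.card_le_card_of_injective f hf
    have h2 : Nat.card Bool = 2 := by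
      rw [Nat.card_eq_fintype_card, Fintype.card_bool]
    rw [h2] at h
    exact h
  · intro a b ha hb hnr
    -- no prime divides both
    have hnb : ∀ r : ℕ, r.Prime → r ∣ a → ¬ r ∣ b := fun r hr h1 h2 =>
      hnr (reachable_of_common_prime V r hr a b ha hb h1 h2)
    have hor : ∀ r s : ℕ, r.Prime → s.Prime → r ∣ m → s ∣ m → r ∣ a ∨ s ∣ b := by
      intro r s hr hs hrm hsm
      by_contra hcon
      push Not at hcon
      exact hnr (hL r s hr hs hrm hsm a b ha hb hcon.1 hcon.2)
    by_cases hall : ∀ r : ℕ, r.Prime → r ∣ m → r ∣ a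
    · right
      refine ⟨?_, hall⟩
      rw [Nat.coprime_comm]
      apply Nat.Coprime.symm
      apply Nat.coprime_of_dvd
      intro r hr hrb hrm
      exact hnb r hr (hall r hr hrm) hrb
    · push Not at hall
      obtain ⟨r₀, hr₀, hr₀m, hr₀a⟩ := hall
      have hallb : ∀ s : ℕ, s.Prime → s ∣ m → s ∣ b := by
        intro s hs hsm
        rcases hor r₀ s hr₀ hs hr₀m hsm with h | h
        · exact absurd h hr₀a
        · exact h
      left
      refine ⟨?_, hallb⟩
      apply Nat.coprime_of_dvd
      intro r hr hra hrm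
      exact hnb r hr hra (hallb r hr hrm)

end Cfsg.Agent.Helper14.RelDeg
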