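import Mathlib

/-!
# Piece (OP) of #7754 (helper80, S4776): the orbit-product lemma
-/

set_option autoImplicit false
set_option linter.unusedSectionVars false
set_option linter.unusedVariables false

namespace Cfsg.Agent.Helper14.RelDeg

/-- (OP) orbit-product lemma (pure group actions) -/
theorem orbProd {G A : Type*} [Group G] [Finite G] [CommGroup A] [MulDistribMulAction G A]
    (p : ℕ) (hp : p.Prime) (x y : A)
    (hcop : Nat.Coprime (MulAction.stabilizer G x).index (MulAction.stabilizer G y).index)
    (hy : (MulAction.stabilizer G y).index ≠ 1)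
    (hpx : ¬ p ∣ (MulAction.stabilizer G x).index)
    (hyp : ∃ k : ℕ, y ^ (p ^ k) = 1) :
    ¬ Nat.Coprime (MulAction.stabilizer G (x * y)).index (MulAction.stabilizer G y).index := by
  classical
  intro hn
  obtain ⟨k, hk⟩ := hyp
  have hOx : (MulAction.orbit G x).Finite := Set.finite_range _
  have hOy : (MulAction.orbit G y).Finite := Set.finite_range _
  have hOxy : (MulAction.orbit G (x * y)).Finite := Set.finite_range _
  have hix := MulAction.index_stabilizer (G := G) x
  have hiy := MulAction.index_stabilizer (G := G) y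
  have hixy := MulAction.index_stabilizer (G := G) (x * y)
  have hipair := MulAction.index_stabilizer (G := G) ((x, y) : A × A)
  -- the stabilizer of the pair
  have hle1 : MulAction.stabilizer G ((x, y) : A × A) ≤ MulAction.stabilizer G x := by
    intro g hg
    rw [MulAction.mem_stabilizer_iff, Prod.smul_mk, Prod.mk.injEq] at hg
    exact hg.1
  have hle2 : MulAction.stabilizer G ((x, y) : A × A) ≤ MulAction.stabilizer G y := by
    intro g hg
    rw [MulAction.mem_stabilizer_iff, Prod.smul_mk, Prod.mk.injEq] at hg
    exact hg.2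
  have hle3 : MulAction.stabilizer G ((x, y) : A × A) ≤ MulAction.stabilizer G (x * y) := by
    intro g hg
    rw [MulAction.mem_stabilizer_iff, Prod.smul_mk, Prod.mk.injEq] at hg
    rw [MulAction.mem_stabilizer_iff, smul_mul', hg.1, hg.2]
  -- `G` is transitive on the pairs
  have hpair : MulAction.orbit G ((x, y) : A × A) =
      MulAction.orbit G x ×ˢ MulAction.orbit G y := by
    apply Set.eq_of_subset_of_ncard_le
    · rintro _ ⟨g, rfl⟩
      exact ⟨⟨g, rfl⟩, ⟨g, rfl⟩⟩
    · rw [Set.ncard_prod, ← hix, ← hiy, ← hipair]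
      apply Nat.le_of_dvd (Nat.pos_of_ne_zero Subgroup.index_ne_zero_of_finite)
      exact Nat.Coprime.mul_dvd_of_dvd_of_dvd hcop (Subgroup.index_dvd_of_le hle1)
        (Subgroup.index_dvd_of_le hle2)
    · exact hOx.prod hOy
  have hipair' : (MulAction.stabilizer G ((x, y) : A × A)).index =
      (MulAction.stabilizer G x).index * (MulAction.stabilizer G y).index := by
    rw [hipair, hpair, Set.ncard_prod, ← hix, ← hiy]
  -- products of orbit elements
  have hprod : ∀ x' ∈ MulAction.orbit G x, ∀ y' ∈ MulAction.orbit G y,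
      x' * y' ∈ MulAction.orbit G (x * y) := by
    intro x' hx' y' hy'
    have hmem : ((x', y') : A × A) ∈ MulAction.orbit G ((x, y) : A × A) := by
      rw [hpair]; exact ⟨hx', hy'⟩
    obtain ⟨g, hg⟩ := hmem
    have hg' : (g • x, g • y) = ((x', y') : A × A) := hg
    rw [Prod.mk.injEq] at hg'
    refine ⟨g, ?_⟩
    show g • (x * y) = x' * y'
    rw [smul_mul', hg'.1, hg'.2]
  -- the orbit of `x * y` has the size of the orbit of `x`
  have hdvd : (MulAction.stabilizer G (x * y)).index ∣ (MulAction.stabilizer G x).index := by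
    have h1 : (MulAction.stabilizer G (x * y)).index ∣
        (MulAction.stabilizer G x).index * (MulAction.stabilizer G y).index := by
      rw [← hipair']
      exact Subgroup.index_dvd_of_le hle3
    exact Nat.Coprime.dvd_of_dvd_mul_right hn h1
  have hle : (MulAction.orbit G (x * y)).ncard ≤ (MulAction.orbit G x).ncard := by
    rw [← hix, ← hixy]
    exact Nat.le_of_dvd (Nat.pos_of_ne_zero Subgroup.index_ne_zero_of_finite) hdvd
  have himage : ∀ y' ∈ MulAction.orbit G y,
      (fun t => t * y') '' MulAction.orbit G x = MulAction.orbit G (x * y) := by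
    intro y' hy'
    apply Set.eq_of_subset_of_ncard_le
    · rintro _ ⟨t, ht, rfl⟩
      exact hprod t ht y' hy'
    · rw [Set.ncard_image_of_injective _ (mul_left_injective y')]
      exact hle
    · exact hOxy
  -- a second point of the orbit of `y`
  obtain ⟨y', hy', hne⟩ : ∃ y' ∈ MulAction.orbit G y, y' ≠ y := by
    by_contra hcon
    push Not at hcon
    apply hy
    have : MulAction.orbit G y = {y} := by
      ext z
      constructor
      · intro hz; exact hcon z hz
      · rintro rfl; exact MulAction.mem_orbit_self _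
    rw [hiy, this, Set.ncard_singleton]
  set γ : A := y * y'⁻¹ with hγ
  -- multiplication by `γ` preserves the orbit of `x`
  have hstab : ∀ t ∈ MulAction.orbit G x, t * γ ∈ MulAction.orbit G x := by
    intro t ht
    have h1 : t * y ∈ (fun t => t * y') '' MulAction.orbit G x := by
      rw [himage y' hy', ← himage y (MulAction.mem_orbit_self _)]
      exact ⟨t, ht, rfl⟩
    obtain ⟨t', ht', he⟩ := h1
    have he' : t' * y' = t * y := he
    have : t * γ = t' := by
      rw [hγ, ← mul_assoc, ← he', mul_inv_cancel_right]
    rw [this]; exact ht'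
  -- the product trick
  set O : Finset A := hOx.toFinset with hO
  have hOmem : ∀ t, t ∈ O ↔ t ∈ MulAction.orbit G x := fun t => Set.Finite.mem_toFinset hOx
  have himg : O.image (fun t => t * γ) = O := by
    apply Finset.eq_of_subset_of_card_le
    · intro z hz
      obtain ⟨t, ht, rfl⟩ := Finset.mem_image.mp hz
      exact (hOmem _).mpr (hstab t ((hOmem t).mp ht))
    · rw [Finset.card_image_of_injective _ (mul_left_injective γ)]
  have hprodeq : ∏ t ∈ O, t = (∏ t ∈ O, t) * γ ^ O.card := by
    conv_lhs => rw [← himg]
    rw [Finset.prod_image (fun a _ b _ h => mul_left_injective γ h), Finset.prod_mul_distrib,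
      Finset.prod_const]
  have hγa : γ ^ O.card = 1 := by
    have h := hprodeq
    exact (mul_eq_left.mp h.symm)
  have hOcard : O.card = (MulAction.stabilizer G x).index := by
    rw [hix, Set.ncard_eq_toFinset_card _ hOx]
  -- `γ` has `p`-power order
  have hy'k : y' ^ (p ^ k) = 1 := by
    obtain ⟨g, rfl⟩ := hy'
    show (g • y) ^ (p ^ k) = 1
    rw [← smul_pow', hk, smul_one]
  have hγk : γ ^ (p ^ k) = 1 := by
    rw [hγ, mul_pow, inv_pow, hk, hy'k, inv_one, mul_one]
  have hcopk : Nat.Coprime O.card (p ^ k) := by
    rw [hOcard]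
    exact Nat.Coprime.pow_right k ((Nat.Prime.coprime_iff_not_dvd hp).mpr hpx).symm
  have hγ1 : γ = 1 := by
    have h : γ ^ Nat.gcd O.card (p ^ k) = 1 := pow_gcd_eq_one.mpr ⟨hγa, hγk⟩
    have h2 : Nat.gcd O.card (p ^ k) = 1 := hcopk
    rw [h2, pow_one] at h
    exact h
  apply hne
  have : y * y'⁻¹ = 1 := hγ1
  rw [mul_inv_eq_one] at this
  exact this.symm

end Cfsg.Agent.Helper14.RelDeg
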