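import Mathlib

/-!
# (W3) for S3793 (helper47): a cyclic group acting freely on the non-identity cosets
-/

set_option autoImplicit false

namespace Cfsg.Agent.Helper14.SG

open scoped commutatorElement

/-- A permutation all of whose non-identity powers have exactly one fixed point `x₀`: the number
of points is `1` modulo the order. -/
theorem card_modEq_one_of_perm {X : Type*} [Fintype X] [DecidableEq X] (σ : Equiv.Perm X) (x₀ : X)
    (h : ∀ i : ℕ, σ ^ i ≠ 1 → ∀ x, (σ ^ i) x = x ↔ x = x₀) :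
    Fintype.card X ≡ 1 [MOD orderOf σ] := by
  classical
  have hB := MulAction.sum_card_fixedBy_eq_card_orbits_mul_card_group (Subgroup.zpowers σ) X
  have h1 : ∀ a : Subgroup.zpowers σ, Fintype.card (MulAction.fixedBy X a) =
      if a = 1 then Fintype.card X else 1 := by
    intro a
    split_ifs with ha
    · subst ha
      exact Fintype.card_congr (Equiv.subtypeUnivEquiv (fun x => one_smul _ x))
    · have ha' : (a : Equiv.Perm X) ≠ 1 := fun h' => ha (Subtype.ext h')
      obtain ⟨i, hi⟩ : ∃ i : ℕ, σ ^ i = (a : Equiv.Perm X) :=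
        (Submonoid.mem_powers_iff _ _).mp (mem_powers_iff_mem_zpowers.mpr a.2)
      rw [← hi] at ha'
      have hfix : ∀ x, (a : Equiv.Perm X) x = x ↔ x = x₀ := by
        intro x; rw [← hi]; exact h i ha' x
      rw [Fintype.card_eq_one_iff]
      refine ⟨⟨x₀, ?_⟩, ?_⟩
      · exact (hfix x₀).mpr rfl
      · rintro ⟨x, hx⟩
        exact Subtype.ext ((hfix x).mp hx)
  simp_rw [h1] at hB
  rw [← Finset.add_sum_erase Finset.univ _ (Finset.mem_univ (1 : Subgroup.zpowers σ)),
    if_pos rfl] at hB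
  have h2 : ∑ a ∈ (Finset.univ : Finset (Subgroup.zpowers σ)).erase 1,
      (if a = 1 then Fintype.card X else 1) = Fintype.card (Subgroup.zpowers σ) - 1 := by
    rw [Finset.sum_congr rfl (fun a ha => if_neg (Finset.ne_of_mem_erase ha))]
    rw [Finset.sum_const, smul_eq_mul, mul_one, Finset.card_erase_of_mem (Finset.mem_univ _),
      Finset.card_univ]
  rw [h2, Fintype.card_zpowers] at hB
  have hpos : 0 < orderOf σ := orderOf_pos σ
  set n := orderOf σ
  set c := Fintype.card X
  set q := Fintype.card (Quotient (MulAction.orbitRel (Subgroup.zpowers σ) X))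
  have h3 : c + n = q * n + 1 := by omega
  have h4 : (c + n) % n = (q * n + 1) % n := by rw [h3]
  rw [Nat.add_mod_right, Nat.mul_add_mod_self_right] at h4
  exact h4

variable {Γ : Type*} [Group Γ]

/-- W3: a cyclic group acting freely on the non-identity cosets. -/
theorem free_index [Finite Γ] (U Z : Subgroup Γ) [Z.Normal] (_hZU : Z ≤ U) (y : Γ)
    (hyU : ∀ a ∈ U, y * a * y⁻¹ ∈ U)
    (hfree : ∀ i : ℕ, y ^ i ≠ 1 → ∀ a ∈ U, ⁅y ^ i, a⁆ ∈ Z → a ∈ Z) :
    Z.relIndex U ≡ 1 [MOD orderOf y] := by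
  classical
  let π : Γ →* Γ ⧸ Z := QuotientGroup.mk' Z
  have hrel : Z.relIndex U = Nat.card (U.map π) := by
    have := Subgroup.relIndex_ker (K := U) π
    rwa [QuotientGroup.ker_mk'] at this
  rw [hrel]
  set Ub : Subgroup (Γ ⧸ Z) := U.map π with hUb
  letI : Fintype Ub := Fintype.ofFinite _
  rw [Nat.card_eq_fintype_card]
  -- the conjugation map
  have hstab : ∀ x ∈ Ub, π y * x * (π y)⁻¹ ∈ Ub := by
    rintro x ⟨a, ha, rfl⟩
    exact ⟨y * a * y⁻¹, hyU a ha, by simp⟩
  let f : Ub → Ub := fun x => ⟨π y * x * (π y)⁻¹, hstab x x.2⟩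
  have hf : Function.Injective f := by
    intro x x' hxx
    have h1 : π y * (x : Γ ⧸ Z) * (π y)⁻¹ = π y * (x' : Γ ⧸ Z) * (π y)⁻¹ :=
      congrArg Subtype.val hxx
    exact Subtype.ext (mul_left_cancel (mul_right_cancel h1))
  let σ : Equiv.Perm Ub := Equiv.ofBijective f (Finite.injective_iff_bijective.mp hf)
  have hσ1 : ∀ x : Ub, ((σ x : Ub) : Γ ⧸ Z) = π y * x * (π y)⁻¹ := fun x => rfl
  have hσ : ∀ (i : ℕ) (x : Ub), (((σ ^ i) x : Ub) : Γ ⧸ Z) = π y ^ i * x * (π y ^ i)⁻¹ := by
    intro i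
    induction i with
    | zero => intro x; simp
    | succ i ih =>
      intro x
      rw [pow_succ', Equiv.Perm.mul_apply, hσ1, ih, pow_succ']
      group
  -- `y ^ i = 1` gives `σ ^ i = 1`
  have hy1 : ∀ i : ℕ, y ^ i = 1 → σ ^ i = 1 := by
    intro i hi
    ext x
    rw [hσ, ← map_pow, hi, map_one]
    simp
  -- fixed points of `σ ^ i`
  have hfix : ∀ i : ℕ, y ^ i ≠ 1 → ∀ x : Ub, (σ ^ i) x = x ↔ x = 1 := by
    intro i hi x
    constructor
    · intro hx
      obtain ⟨a, ha, hax⟩ := x.2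
      have h1 := congrArg Subtype.val hx
      rw [hσ, ← hax, ← map_pow, ← map_inv, ← map_mul, ← map_mul] at h1
      have h2 : π (⁅y ^ i, a⁆) = 1 := by
        rw [commutatorElement_def, map_mul, h1, ← map_mul, mul_inv_cancel, map_one]
      have h3 : ⁅y ^ i, a⁆ ∈ Z := by
        rw [← QuotientGroup.ker_mk' Z]; exact h2
      have h4 := hfree i hi a ha h3
      apply Subtype.ext
      rw [← hax]
      show π a = 1
      rw [← QuotientGroup.ker_mk' Z] at h4; exact h4
    · rintro rfl
      apply Subtype.ext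
      rw [hσ]
      simp
  by_cases htriv : ∀ x : Ub, x = 1
  · have : Fintype.card Ub = 1 := by
      rw [Fintype.card_eq_one_iff]; exact ⟨1, htriv⟩
    rw [this]
  · push Not at htriv
    obtain ⟨x₁, hx₁⟩ := htriv
    have hiff : ∀ i : ℕ, σ ^ i = 1 ↔ y ^ i = 1 := by
      intro i
      refine ⟨fun h => ?_, hy1 i⟩
      by_contra hne
      exact hx₁ ((hfix i hne x₁).mp (by rw [h]; rfl))
    have hord : orderOf σ = orderOf y := orderOf_eq_orderOf_iff.mpr hiff
    rw [← hord]
    refine card_modEq_one_of_perm σ 1 (fun i hi x => hfix i (fun h => hi (hy1 i h)) x)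

end Cfsg.Agent.Helper14.SG
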