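import Mathlib

/-!
# (W4b) for S3793 (helper47): the multiplicative order of `2` modulo `p ^ N` when
`p ^ b = 2 ^ k + 1`.
-/

set_option autoImplicit false

namespace Cfsg.Agent.Helper14.SG

/-- W4b: the multiplicative order of `2` modulo `p ^ N` when `p ^ b = 2 ^ k + 1`. -/
theorem nt_order {p b k N d : ℕ} (hp : p.Prime) (hp2 : p ≠ 2) (hb : 1 ≤ b) (hbN : b ≤ N)
    (hpk : p ^ b = 2 ^ k + 1) (hd : 2 ^ d ≡ 1 [MOD p ^ N]) : 2 * k * p ^ (N - b) ∣ d := by
  have : Fact p.Prime := ⟨hp⟩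
  have hodd : Odd p := hp.odd_of_ne_two hp2
  rcases Nat.eq_zero_or_pos d with rfl | hdpos
  · exact dvd_zero _
  have hpdvd : p ∣ p ^ b := dvd_pow_self p (by omega)
  -- `k ≥ 1`
  have hk : 1 ≤ k := by
    by_contra h
    have hk0 : k = 0 := by omega
    subst hk0
    have h2 : p ∣ 2 := by
      have : p ^ b = 2 := by simpa using hpk
      rw [← this]; exact hpdvd
    exact hp2 ((Nat.prime_dvd_prime_iff_eq hp Nat.prime_two).mp h2)
  have h2k : 2 ≤ 2 ^ k := by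
    calc 2 = 2 ^ 1 := by norm_num
      _ ≤ 2 ^ k := Nat.pow_le_pow_right (by norm_num) hk
  -- `p ^ N ∣ 2 ^ d - 1`
  have hone : ∀ m : ℕ, 1 ≤ 2 ^ m := fun m => Nat.one_le_two_pow
  have hdN : p ^ N ∣ 2 ^ d - 1 := (Nat.modEq_iff_dvd' (hone d)).mp hd.symm
  have hdb : p ^ b ∣ 2 ^ d - 1 := (pow_dvd_pow p hbN).trans hdN
  -- factorization of `2 ^ (2 k) - 1`
  have hfac : 2 ^ (2 * k) - 1 = (2 ^ k - 1) * p ^ b := by
    rw [hpk, two_mul, pow_add]
    have := hone k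
    zify [this, Nat.one_le_iff_ne_zero.mpr (mul_ne_zero (pow_ne_zero k two_ne_zero) (pow_ne_zero k two_ne_zero))]
    ring
  -- the order of `2` modulo `p ^ b`
  have hcast : ∀ m : ℕ, p ^ b ∣ 2 ^ m - 1 ↔ ((2 : ZMod (p ^ b)) ^ m = 1) := by
    intro m
    rw [← (ZMod.natCast_eq_zero_iff (2 ^ m - 1) (p ^ b))]
    rw [Nat.cast_sub (hone m)]
    push_cast
    rw [sub_eq_zero]
  set e := orderOf (2 : ZMod (p ^ b)) with he
  have he2k : e ∣ 2 * k := by
    rw [he, orderOf_dvd_iff_pow_eq_one, ← hcast, hfac]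
    exact dvd_mul_left _ _
  have hed : e ∣ d := by
    rw [he, orderOf_dvd_iff_pow_eq_one, ← hcast]
    exact hdb
  have hepos : 0 < e := Nat.pos_of_dvd_of_pos he2k (by omega)
  have hek : k < e := by
    have h1 : p ^ b ∣ 2 ^ e - 1 := by
      rw [hcast, he]; exact pow_orderOf_eq_one _
    have h2 : 0 < 2 ^ e - 1 := by
      have : 2 ^ 1 ≤ 2 ^ e := Nat.pow_le_pow_right (by norm_num) hepos
      omega
    have h3 := Nat.le_of_dvd h2 h1
    have h4 : 2 ^ k < 2 ^ e := by omega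
    exact (Nat.pow_lt_pow_iff_right (by norm_num)).mp h4
  have he_eq : e = 2 * k := by
    obtain ⟨c, hc⟩ := he2k
    rcases c with _ | _ | c
    · omega
    · omega
    · exfalso
      have : 2 * k = e * (c + 2) := by rw [hc]
      nlinarith
  obtain ⟨t, ht⟩ : 2 * k ∣ d := he_eq ▸ hed
  have htpos : t ≠ 0 := by
    rintro rfl
    omega
  -- `p ∤ 2 ^ k - 1`
  have hnd : ¬ p ∣ 2 ^ k - 1 := by
    intro h
    have h1 : p ∣ 2 ^ k + 1 := hpk ▸ hpdvd
    have h2 : p ∣ (2 ^ k + 1) - (2 ^ k - 1) := Nat.dvd_sub h1 h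
    have h3 : (2 ^ k + 1) - (2 ^ k - 1) = 2 := by omega
    rw [h3] at h2
    exact hp2 ((Nat.prime_dvd_prime_iff_eq hp Nat.prime_two).mp h2)
  have hval : padicValNat p (2 ^ (2 * k) - 1) = b := by
    rw [hfac, padicValNat.mul (by omega) (pow_ne_zero b hp.ne_zero),
      padicValNat.eq_zero_of_not_dvd hnd, padicValNat.prime_pow, zero_add]
  -- lifting the exponent
  have hlte : padicValNat p ((2 ^ (2 * k)) ^ t - 1 ^ t) =
      padicValNat p (2 ^ (2 * k) - 1) + padicValNat p t := by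
    refine padicValNat.pow_sub_pow hodd ?_ ?_ ?_ htpos
    · calc 1 < 2 ^ 1 := by norm_num
        _ ≤ 2 ^ (2 * k) := Nat.pow_le_pow_right (by norm_num) (by omega)
    · rw [hfac]; exact Dvd.dvd.mul_left hpdvd _
    · intro h
      have := hp.dvd_of_dvd_pow h
      exact hp2 ((Nat.prime_dvd_prime_iff_eq hp Nat.prime_two).mp this)
  rw [one_pow, ← pow_mul, ← ht, hval] at hlte
  have hne : 2 ^ d - 1 ≠ 0 := by
    have : 2 ^ 1 ≤ 2 ^ d := Nat.pow_le_pow_right (by norm_num) hdpos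
    omega
  have hN : N ≤ b + padicValNat p t := by
    rw [← hlte]
    exact (padicValNat_dvd_iff_le hne).mp hdN
  have ht' : p ^ (N - b) ∣ t := (padicValNat_dvd_iff_le htpos).mpr (by omega)
  rw [ht]
  exact Nat.mul_dvd_mul_left _ ht'

end Cfsg.Agent.Helper14.SG
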