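import Cfsg.Agent.Helper14.SN_T3core
import Cfsg.Agent.Helper74.SN_FS

/-!
helper14, bundle (T3) of helper74's farm SN (S4073): `SN.structure_of_solvable` (T3) and `SN.sylow_of_central_of_solvable` (CT3A),
statements verbatim from `tools/helper74_sn/Skel.lean.txt`; (FS) is helper74's `SN.sylow_comm_of_solvable`.
-/

set_option autoImplicit false

namespace Cfsg.Agent.Helper14.SNG

open Cfsg Cfsg.Agent.Helper74.SNG

universe u

/-- (T3) Structure of a solvable non-nilpotent SN-group: `H = K ⋊ <y>`, `K` abelian normal of order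
prime to `s`, `<y>` an `s`-group, and `y` acts fixed-point-freely on `K`. -/
theorem SN.structure_of_solvable {H : Type u} [Group H] [Finite H] (h : SN H) [Group.IsSolvable H]
    (hnn : ¬ Group.IsNilpotent H) :
    ∃ (s : ℕ) (K : Subgroup H) (y : H), s.Prime ∧ K.Normal ∧ IsMulCommutative K ∧
      (Nat.card K).Coprime s ∧ IsPGroup s (Subgroup.zpowers y) ∧
      K ⊔ Subgroup.zpowers y = ⊤ ∧ (∀ k ∈ K, k * y = y * k → k = 1) := by
  obtain ⟨s, K, hs, hKn, hKc, hKcop, hall⟩ :=
    t3_core h hnn (fun _ _ P hP => SN.sylow_comm_of_solvable h P hP)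
  have : Fact s.Prime := ⟨hs⟩
  obtain ⟨S⟩ := (inferInstance : Nonempty (Sylow s H))
  obtain ⟨y, hSy, -, hKZtop, hfpf⟩ := hall S
  exact ⟨s, K, y, hs, hKn, hKc, hKcop, hSy ▸ S.isPGroup', hKZtop, hfpf⟩

/-- (CT3A) In a solvable non-nilpotent SN-group `H`, a central element `x` of prime order `r`: the Sylow
`r`-subgroups of `H` are cyclic and self-normalizing. -/
theorem SN.sylow_of_central_of_solvable {H : Type u} [Group H] [Finite H] (h : SN H) [Group.IsSolvable H]
    (hnn : ¬ Group.IsNilpotent H) (x : H) (hx : x ∈ Subgroup.center H) {r : ℕ} [Fact r.Prime]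
    (hxr : orderOf x = r) (S : Sylow r H) :
    IsCyclic (S : Subgroup H) ∧ Subgroup.normalizer ((S : Subgroup H) : Set H) = S :=
  t3_sylow_core h hnn (fun _ _ P hP => SN.sylow_comm_of_solvable h P hP) x hx hxr S

end Cfsg.Agent.Helper14.SNG
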