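import Cfsg.Agent.Helper74.SN.Defs

/-!
helper14, bundle (T3) of helper74's farm SN (S4073): the structure of a solvable non-nilpotent `SN`-group, with (FS) as a hypothesis.
The verbatim statements are in `Cfsg/Agent/Helper14/SN_T3.lean`.
-/

set_option autoImplicit false

namespace Cfsg.Agent.Helper14.SNG

open Cfsg Cfsg.Agent.Helper74.SNG

universe u

section general

variable {G : Type*} [Group G]

/-- A nontrivial finite solvable group has a normal subgroup of prime index. -/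
theorem t3_exists_normal_prime_index [Finite G] [Nontrivial G] [Group.IsSolvable G] :
    ∃ M : Subgroup G, M.Normal ∧ M.index.Prime := by
  have hlt : commutator G < ⊤ := Group.IsSolvable.commutator_lt_top_of_nontrivial G
  obtain ⟨M, hM, hcM⟩ := (eq_top_or_exists_le_coatom (commutator G)).resolve_left hlt.ne
  have hMn : M.Normal := by
    rw [← Subgroup.commutator_top_left_le_iff]
    refine le_trans (Subgroup.commutator_mono le_rfl le_top) ?_
    exact hcM
  refine ⟨M, hMn, ?_⟩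
  have hsurj : Function.Surjective (QuotientGroup.mk' M) := QuotientGroup.mk'_surjective _
  have hnt : Nontrivial (G ⧸ M) := by
    rw [← Finite.one_lt_card_iff_nontrivial, ← Subgroup.index_eq_card]
    have h1 : M.index ≠ 1 := fun h => hM.1 (Subgroup.index_eq_one.mp h)
    have h0 : M.index ≠ 0 := M.index_ne_zero_of_finite
    omega
  have hsimple : IsSimpleGroup (G ⧸ M) := by
    refine ⟨fun N hN => ?_⟩
    have hle : M ≤ N.comap (QuotientGroup.mk' M) := by
      intro x hx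
      rw [Subgroup.mem_comap, QuotientGroup.mk'_apply, (QuotientGroup.eq_one_iff x).mpr hx]
      exact N.one_mem
    rcases eq_or_lt_of_le hle with h | h
    · left
      rw [← Subgroup.map_comap_eq_self_of_surjective hsurj N, ← h]
      exact QuotientGroup.map_mk'_self M
    · right
      have := hM.2 _ h
      rw [← Subgroup.map_comap_eq_self_of_surjective hsurj N, this]
      exact Subgroup.map_top_of_surjective _ hsurj
  have hcomm : IsMulCommutative (G ⧸ M) :=
    Subgroup.Normal.quotient_commutative_iff_commutator_le.mpr hcM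
  have := Group.is_simple_iff_prime_card.mp hsimple
  rwa [← Subgroup.index_eq_card] at this

/-- the elements of `A ⊔ B` when `B` normalizes `A` -/
theorem t3_mem_sup {A B : Subgroup G} (hn : ∀ b ∈ B, ∀ a ∈ A, b * a * b⁻¹ ∈ A) {x : G} (hx : x ∈ A ⊔ B) :
    ∃ a ∈ A, ∃ b ∈ B, x = a * b := by
  rw [Subgroup.sup_eq_closure] at hx
  induction hx using Subgroup.closure_induction with
  | mem x hx =>
    rcases hx with hx | hx
    · exact ⟨x, hx, 1, B.one_mem, (mul_one x).symm⟩
    · exact ⟨1, A.one_mem, x, hx, (one_mul x).symm⟩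
  | one => exact ⟨1, A.one_mem, 1, B.one_mem, (mul_one 1).symm⟩
  | mul x y _ _ hx hy =>
    obtain ⟨a, ha, b, hb, rfl⟩ := hx
    obtain ⟨a', ha', b', hb', rfl⟩ := hy
    exact ⟨a * (b * a' * b⁻¹), A.mul_mem ha (hn b hb a' ha'), b * b', B.mul_mem hb hb', by group⟩
  | inv x _ hx =>
    obtain ⟨a, ha, b, hb, rfl⟩ := hx
    refine ⟨b⁻¹ * a⁻¹ * b⁻¹⁻¹, hn b⁻¹ (B.inv_mem hb) a⁻¹ (A.inv_mem ha), b⁻¹, B.inv_mem hb, by group⟩

/-- a subgroup of prime index together with an element outside generates the group -/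
theorem t3_sup_zpowers_eq_top {M : Subgroup G} (hidx : M.index.Prime) {y : G} (hy : y ∉ M) :
    M ⊔ Subgroup.zpowers y = ⊤ := by
  have h1 : M ≤ M ⊔ Subgroup.zpowers y := le_sup_left
  have h2 := Subgroup.relIndex_mul_index h1
  have h3 : (M ⊔ Subgroup.zpowers y).index ∣ M.index := Dvd.intro_left _ h2
  rcases (Nat.dvd_prime hidx).1 h3 with h4 | h4
  · exact Subgroup.index_eq_one.1 h4
  · exfalso
    rw [h4] at h2
    have h5 : M.relIndex (M ⊔ Subgroup.zpowers y) = 1 := by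
      have h6 : M.index ≠ 0 := hidx.ne_zero
      have h7 : M.relIndex (M ⊔ Subgroup.zpowers y) * M.index = 1 * M.index := by rw [h2, one_mul]
      exact Nat.eq_of_mul_eq_mul_right (Nat.pos_of_ne_zero h6) h7
    have h8 : M ⊔ Subgroup.zpowers y ≤ M := Subgroup.relIndex_eq_one.1 h5
    exact hy (h8 (le_sup_right (a := M) (Subgroup.mem_zpowers y)))

/-- conjugation by an element which normalizes `K` and commutes with `y` maps `K ⊔ ⟨y⟩` into itself -/
theorem t3_conj_mem_sup {K : Subgroup G} [K.Normal] {y t : G} (hty : t * y = y * t) {x : G}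
    (hx : x ∈ K ⊔ Subgroup.zpowers y) : t * x * t⁻¹ ∈ K ⊔ Subgroup.zpowers y := by
  obtain ⟨k, hk, z, hz, rfl⟩ := t3_mem_sup (A := K) (B := Subgroup.zpowers y)
    (fun b _ a ha => Subgroup.Normal.conj_mem inferInstance a ha b) hx
  have h1 : t * (k * z) * t⁻¹ = (t * k * t⁻¹) * (t * z * t⁻¹) := by group
  rw [h1]
  have h2 : t * z * t⁻¹ = z := by
    obtain ⟨i, rfl⟩ := Subgroup.mem_zpowers_iff.1 hz
    have h3 : Commute t (y ^ i) := Commute.zpow_right hty i
    rw [h3.eq, mul_inv_cancel_right]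
  rw [h2]
  exact Subgroup.mul_mem _ (le_sup_left (a := K) (Subgroup.Normal.conj_mem inferInstance k hk t))
    (le_sup_right (a := K) hz)

end general

section core

variable {H : Type u} [Group H] [Finite H]

/-- (T3), strong form: every Sylow `s`-subgroup is a cyclic fixed-point-free complement of `K`. -/
theorem t3_core (h : SN H) [Group.IsSolvable H] (hnn : ¬ Group.IsNilpotent H)
    (FS : ∀ (p : ℕ) [Fact p.Prime] (P : Sylow p H), (P : Subgroup H) ≠ ⊤ →
      IsMulCommutative (P : Subgroup H)) :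
    ∃ (s : ℕ) (K : Subgroup H), s.Prime ∧ K.Normal ∧ IsMulCommutative K ∧ (Nat.card K).Coprime s ∧
      ∀ S : Sylow s H, ∃ y : H, (S : Subgroup H) = Subgroup.zpowers y ∧
        K ⊓ Subgroup.zpowers y = ⊥ ∧ K ⊔ Subgroup.zpowers y = ⊤ ∧ ∀ k ∈ K, k * y = y * k → k = 1 := by
  classical
  have : Nontrivial H := by
    by_contra hnt
    rw [not_nontrivial_iff_subsingleton] at hnt
    exact hnn inferInstance
  obtain ⟨M, hMn, hMp⟩ := t3_exists_normal_prime_index (G := H)
  obtain ⟨s, hs⟩ : ∃ s, s = M.index := ⟨_, rfl⟩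
  rw [← hs] at hMp
  have : Fact s.Prime := ⟨hMp⟩
  have hMtop : M ≠ ⊤ := by
    intro hc
    rw [hc, Subgroup.index_top] at hs
    rw [hs] at hMp
    exact Nat.not_prime_one hMp
  have hMc : IsMulCommutative M := h.comm_of_normal M hMtop
  have hMcomm := (isMulCommutative_iff M).1 hMc
  obtain ⟨n, hn⟩ : ∃ n, n = Nat.card H := ⟨_, rfl⟩
  have hn0 : n ≠ 0 := by rw [hn]; exact Nat.card_pos.ne'
  obtain ⟨n', hn'⟩ : ∃ n', n' = ordCompl[s] n := ⟨_, rfl⟩
  have hcop : Nat.Coprime s n' := by rw [hn']; exact Nat.coprime_ordCompl hMp hn0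
  have hnn' : s ^ n.factorization s * n' = n := by rw [hn']; exact Nat.ordProj_mul_ordCompl_eq_self n s
  have hn'n : n' ∣ n := Dvd.intro_left _ hnn'
  have hcardM : Nat.card M * s = n := by rw [hs, hn]; exact Subgroup.card_mul_index M
  -- the `s'`-part of `M`
  let K : Subgroup H :=
    { carrier := {x | x ∈ M ∧ x ^ n' = 1}
      mul_mem' := fun {a b} ha hb => ⟨M.mul_mem ha.1 hb.1, by
        rw [Commute.mul_pow (hMcomm a ha.1 b hb.1) n', ha.2, hb.2, one_mul]⟩
      one_mem' := ⟨M.one_mem, one_pow _⟩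
      inv_mem' := fun {a} ha => ⟨M.inv_mem ha.1, by rw [inv_pow, ha.2, inv_one]⟩ }
  have hKmem : ∀ x, x ∈ K ↔ x ∈ M ∧ x ^ n' = 1 := fun x => Iff.rfl
  have hKM : K ≤ M := fun x hx => hx.1
  have hKn : K.Normal := ⟨fun x hx g => ⟨hMn.conj_mem x hx.1 g, by
    rw [conj_pow, hx.2, mul_one, mul_inv_cancel]⟩⟩
  have hKc : IsMulCommutative K := isMulCommutative_mono hKM hMc
  have hKcomm := (isMulCommutative_iff K).1 hKc
  have hKcop : (Nat.card K).Coprime s := by
    rw [Nat.coprime_comm, hMp.coprime_iff_not_dvd]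
    intro hdvd
    obtain ⟨x, hx⟩ := exists_prime_orderOf_dvd_card' s hdvd
    have h1 : (x : H) ^ n' = 1 := x.2.2
    have h2 : orderOf (x : H) ∣ n' := orderOf_dvd_of_pow_eq_one h1
    rw [Subgroup.orderOf_coe, hx] at h2
    exact hMp.one_lt.ne' (Nat.Coprime.eq_one_of_dvd hcop h2)
  have hn'K : n' ∣ Nat.card K := by
    rw [Nat.dvd_iff_prime_pow_dvd_dvd]
    intro r k hr hrk
    rcases Nat.eq_zero_or_pos k with hk0 | hk0
    · rw [hk0, pow_zero]; exact one_dvd _
    have : Fact r.Prime := ⟨hr⟩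
    have hrs : r ≠ s := by
      intro hc
      have h1 : s ∣ n' := by
        rw [← hc]
        exact (dvd_pow_self r hk0.ne').trans hrk
      exact hMp.one_lt.ne' (Nat.Coprime.eq_one_of_dvd hcop h1)
    have h2 : r ^ k ∣ Nat.card M := by
      have h3 : r ^ k ∣ Nat.card M * s := by rw [hcardM]; exact hrk.trans hn'n
      have h4 : Nat.Coprime (r ^ k) s := Nat.Coprime.pow_left k ((Nat.coprime_primes hr hMp).2 hrs)
      exact h4.dvd_of_dvd_mul_right h3
    obtain ⟨R, hR⟩ := Sylow.exists_subgroup_card_pow_prime r h2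
    have h5 : R.map M.subtype ≤ K := by
      rintro _ ⟨x, hx, rfl⟩
      refine ⟨x.2, ?_⟩
      have h6 : (⟨x, hx⟩ : R) ^ Nat.card R = 1 := pow_card_eq_one'
      have h7 : (x : H) ^ r ^ k = 1 := by
        rw [hR] at h6
        have h8 := congrArg (fun z : R => ((z : M) : H)) h6
        simpa using h8
      obtain ⟨c, hc⟩ := hrk
      show (M.subtype x) ^ n' = 1
      rw [hc, pow_mul, Subgroup.coe_subtype, h7, one_pow]
    have h9 : Nat.card (R.map M.subtype) = r ^ k := by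
      rw [Subgroup.card_map_of_injective M.subtype_injective, hR]
    rw [← h9]
    exact Subgroup.card_dvd_of_le h5
  refine ⟨s, K, hMp, hKn, hKc, hKcop, ?_⟩
  intro S
  have hScard : Nat.card S = s ^ n.factorization s := by rw [hn]; exact S.card_eq_multiplicity
  -- `K ⊓ S = ⊥`, `K ⊔ S = ⊤`
  have hKS : K ⊓ (S : Subgroup H) = ⊥ := by
    apply (Subgroup.disjoint_of_coprime_natCard _).eq_bot
    rw [hScard]
    exact Nat.Coprime.pow_right _ hKcop
  have hKStop : K ⊔ (S : Subgroup H) = ⊤ := by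
    apply (Subgroup.card_eq_iff_eq_top _).1
    apply Nat.dvd_antisymm (Subgroup.card_subgroup_dvd_card _)
    rw [← hn, ← hnn']
    apply Nat.Coprime.mul_dvd_of_dvd_of_dvd (Nat.Coprime.pow_left _ hcop)
    · rw [← hScard]
      exact Subgroup.card_dvd_of_le le_sup_right
    · exact hn'K.trans (Subgroup.card_dvd_of_le le_sup_left)
  -- `S` is abelian
  have hStop : (S : Subgroup H) ≠ ⊤ := by
    intro hc
    apply hnn
    have h1 : Nat.card H = s ^ n.factorization s := by
      rw [← hScard, hc, Subgroup.card_top]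
    exact (IsPGroup.of_card h1).isNilpotent
  have hSc : IsMulCommutative (S : Subgroup H) := FS s S hStop
  have hScomm := (isMulCommutative_iff (S : Subgroup H)).1 hSc
  -- `y ∈ S \ M`
  obtain ⟨y, hyS, hyM⟩ : ∃ y ∈ (S : Subgroup H), y ∉ M := by
    by_contra hc
    push Not at hc
    have h1 : K ⊔ (S : Subgroup H) ≤ M := sup_le hKM hc
    rw [hKStop] at h1
    exact hMtop (top_le_iff.1 h1)
  have hZS : Subgroup.zpowers y ≤ (S : Subgroup H) := Subgroup.zpowers_le.2 hyS
  have hMZ : M ⊔ Subgroup.zpowers y = ⊤ := t3_sup_zpowers_eq_top (by rw [← hs]; exact hMp) hyM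
  -- `y` does not centralize `K`
  have hF : ∃ k ∈ K, k * y ≠ y * k := by
    by_contra hc
    push Not at hc
    apply hnn
    have hKcen : K ≤ Subgroup.center H := by
      intro k hk
      have h1 : M ⊔ Subgroup.zpowers y ≤ Subgroup.centralizer ({k} : Set H) := by
        apply sup_le
        · intro m hm
          rw [Subgroup.mem_centralizer_singleton_iff]
          exact hMcomm m hm k (hKM hk)
        · rw [Subgroup.zpowers_le, Subgroup.mem_centralizer_singleton_iff]
          exact (hc k hk).symm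
      rw [hMZ] at h1
      rw [Subgroup.mem_center_iff]
      intro g
      have h2 := h1 (Subgroup.mem_top g)
      rw [Subgroup.mem_centralizer_singleton_iff] at h2
      exact h2
    have hScen : (S : Subgroup H) ≤ Subgroup.center H := by
      intro t ht
      have h1 : K ⊔ (S : Subgroup H) ≤ Subgroup.centralizer ({t} : Set H) := by
        apply sup_le
        · intro k hk
          rw [Subgroup.mem_centralizer_singleton_iff]
          exact ((Subgroup.mem_center_iff.1 (hKcen hk)) t).symm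
        · intro u hu
          rw [Subgroup.mem_centralizer_singleton_iff]
          exact hScomm u hu t ht
      rw [hKStop] at h1
      rw [Subgroup.mem_center_iff]
      intro g
      have h2 := h1 (Subgroup.mem_top g)
      rw [Subgroup.mem_centralizer_singleton_iff] at h2
      exact h2
    have hcen : Subgroup.center H = ⊤ := by
      apply top_le_iff.1
      rw [← hKStop]
      exact sup_le hKcen hScen
    exact ⟨⟨1, by rw [Subgroup.upperCentralSeries_one]; exact hcen⟩⟩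
  obtain ⟨k₁, hk₁, hk₁y⟩ := hF
  -- `L = K ⟨y⟩` is self-normalizing, so `S ≤ L` and `S = ⟨y⟩`
  have hL : ¬ IsMulCommutative (K ⊔ Subgroup.zpowers y : Subgroup H) := by
    rw [not_isMulCommutative_iff]
    exact ⟨k₁, le_sup_left (a := K) hk₁, y, le_sup_right (a := K) (Subgroup.mem_zpowers y), hk₁y⟩
  have hSL : (S : Subgroup H) ≤ K ⊔ Subgroup.zpowers y := by
    apply h.le_of_le_normalizer hL
    intro t ht
    have hty : t * y = y * t := hScomm t ht y hyS
    have hty' : t⁻¹ * y = y * t⁻¹ := hScomm t⁻¹ (Subgroup.inv_mem _ ht) y hyS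
    rw [Subgroup.mem_normalizer_iff]
    intro x
    constructor
    · exact fun hx => t3_conj_mem_sup hty hx
    · intro hx
      have h1 := t3_conj_mem_sup hty' hx
      have h2 : t⁻¹ * (t * x * t⁻¹) * t⁻¹⁻¹ = x := by group
      rwa [h2] at h1
  have hZnK : ∀ b ∈ Subgroup.zpowers y, ∀ a ∈ K, b * a * b⁻¹ ∈ K := fun b _ a ha => hKn.conj_mem a ha b
  have hSZ : (S : Subgroup H) = Subgroup.zpowers y := by
    apply le_antisymm _ hZS
    intro t ht
    obtain ⟨k, hk, z, hz, rfl⟩ := t3_mem_sup hZnK (hSL ht)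
    have h1 : k ∈ K ⊓ (S : Subgroup H) := by
      refine ⟨hk, ?_⟩
      have h2 : k = k * z * z⁻¹ := by group
      rw [h2]
      exact Subgroup.mul_mem _ ht (Subgroup.inv_mem _ (hZS hz))
    rw [hKS, Subgroup.mem_bot] at h1
    rw [h1, one_mul]
    exact hz
  have hKZ : K ⊓ Subgroup.zpowers y = ⊥ := by rw [← hSZ]; exact hKS
  have hKZtop : K ⊔ Subgroup.zpowers y = ⊤ := by rw [← hSZ]; exact hKStop
  refine ⟨y, hSZ, hKZ, hKZtop, ?_⟩
  -- fixed points: `φ k = [k, y]`
  obtain ⟨φ, hφ⟩ : ∃ φ : H → H, ∀ k, φ k = k * y * k⁻¹ * y⁻¹ := ⟨fun k => k * y * k⁻¹ * y⁻¹, fun _ => rfl⟩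
  have hφK : ∀ k ∈ K, φ k ∈ K := by
    intro k hk
    have h1 : φ k = k * (y * k⁻¹ * y⁻¹) := by rw [hφ]; group
    rw [h1]
    exact K.mul_mem hk (hKn.conj_mem k⁻¹ (K.inv_mem hk) y)
  have hφ1 : φ 1 = 1 := by rw [hφ]; group
  have hφy : ∀ k, φ k * y = k * y * k⁻¹ := by intro k; rw [hφ]; group
  have hφfix : ∀ k, φ k = 1 ↔ k * y = y * k := by
    intro k
    rw [hφ]
    constructor
    · intro h1
      have h2 : k * y = (k * y * k⁻¹ * y⁻¹) * (y * k) := by group
      rw [h2, h1, one_mul]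
    · intro h1
      rw [h1]
      group
  have hφmul : ∀ a ∈ K, ∀ b ∈ K, φ (a * b) = φ a * φ b := by
    intro a ha b hb
    have hA : y * a⁻¹ * y⁻¹ ∈ K := hKn.conj_mem a⁻¹ (K.inv_mem ha) y
    have hB : y * b⁻¹ * y⁻¹ ∈ K := hKn.conj_mem b⁻¹ (K.inv_mem hb) y
    have c1 := hKcomm _ hA b hb
    have c2 := hKcomm _ hA _ hB
    have e1 : φ (a * b) = a * b * ((y * b⁻¹ * y⁻¹) * (y * a⁻¹ * y⁻¹)) := by rw [hφ]; group
    have e2 : φ a * φ b = a * ((y * a⁻¹ * y⁻¹) * b) * (y * b⁻¹ * y⁻¹) := by rw [hφ, hφ]; group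
    rw [e1, e2, c1, ← c2]
    group
  have hφinv : ∀ k ∈ K, φ k⁻¹ = (φ k)⁻¹ := by
    intro k hk
    apply eq_inv_of_mul_eq_one_right
    rw [← hφmul k hk k⁻¹ (K.inv_mem hk), mul_inv_cancel, hφ1]
  have hφconj : ∀ b : H, b * y = y * b → ∀ k, b * φ k * b⁻¹ = φ (b * k * b⁻¹) := by
    intro b hby k
    have e : b * y * b⁻¹ = y := by rw [hby, mul_inv_cancel_right]
    rw [hφ, hφ]
    have h1 : b * k * b⁻¹ * y * (b * k * b⁻¹)⁻¹ * y⁻¹ =
        b * k * b⁻¹ * (b * y * b⁻¹) * (b * k * b⁻¹)⁻¹ * (b * y * b⁻¹)⁻¹ := by rw [e]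
    rw [h1]
    group
  let K₁ : Subgroup H :=
    { carrier := {x | ∃ k ∈ K, x = φ k}
      mul_mem' := by
        rintro _ _ ⟨a, ha, rfl⟩ ⟨b, hb, rfl⟩
        exact ⟨a * b, K.mul_mem ha hb, (hφmul a ha b hb).symm⟩
      one_mem' := ⟨1, K.one_mem, hφ1.symm⟩
      inv_mem' := by
        rintro _ ⟨a, ha, rfl⟩
        exact ⟨a⁻¹, K.inv_mem ha, (hφinv a ha).symm⟩ }
  have hK₁mem : ∀ x, x ∈ K₁ ↔ ∃ k ∈ K, x = φ k := fun x => Iff.rfl
  have hK₁K : K₁ ≤ K := by
    rintro _ ⟨k, hk, rfl⟩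
    exact hφK k hk
  have hZnK₁ : ∀ b ∈ Subgroup.zpowers y, ∀ a ∈ K₁, b * a * b⁻¹ ∈ K₁ := by
    rintro b hb _ ⟨k, hk, rfl⟩
    obtain ⟨i, rfl⟩ := Subgroup.mem_zpowers_iff.1 hb
    have h1 : y ^ i * y = y * y ^ i := (Commute.zpow_left (Commute.refl y) i).eq
    exact ⟨y ^ i * k * (y ^ i)⁻¹, hKn.conj_mem k hk _, hφconj _ h1 k⟩
  -- `K` normalizes `N = K₁ ⟨y⟩`
  have hconjN : ∀ k ∈ K, ∀ x ∈ K₁ ⊔ Subgroup.zpowers y, k * x * k⁻¹ ∈ K₁ ⊔ Subgroup.zpowers y := by
    intro k hk x hx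
    obtain ⟨c, hc, z, hz, rfl⟩ := t3_mem_sup hZnK₁ hx
    have h1 : k * (c * z) * k⁻¹ = (k * c * k⁻¹) * (k * z * k⁻¹) := by group
    rw [h1]
    apply Subgroup.mul_mem
    · have h2 : k * c * k⁻¹ = c := by
        rw [hKcomm k hk c (hK₁K hc), mul_inv_cancel_right]
      rw [h2]
      exact le_sup_left (a := K₁) hc
    · obtain ⟨i, rfl⟩ := Subgroup.mem_zpowers_iff.1 hz
      rw [← conj_zpow, ← hφy]
      apply Subgroup.zpow_mem
      exact Subgroup.mul_mem _ (le_sup_left (a := K₁) ⟨k, hk, rfl⟩)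
        (le_sup_right (a := K₁) (Subgroup.mem_zpowers y))
  have hKnorm : K ≤ Subgroup.normalizer ((K₁ ⊔ Subgroup.zpowers y : Subgroup H) : Set H) := by
    intro k hk
    rw [Subgroup.mem_normalizer_iff]
    intro x
    constructor
    · exact fun hx => hconjN k hk x hx
    · intro hx
      have h1 := hconjN k⁻¹ (K.inv_mem hk) _ hx
      have h2 : k⁻¹ * (k * x * k⁻¹) * k⁻¹⁻¹ = x := by group
      rwa [h2] at h1
  by_cases hN : IsMulCommutative (K₁ ⊔ Subgroup.zpowers y : Subgroup H)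
  · -- `y` centralizes `φ K`, so `φ = 1`
    exfalso
    apply hk₁y
    rw [← hφfix]
    have hNcomm := (isMulCommutative_iff _).1 hN
    have hcy : φ k₁ * y = y * φ k₁ :=
      hNcomm _ (le_sup_left (a := K₁) ⟨k₁, hk₁, rfl⟩) _ (le_sup_right (a := K₁) (Subgroup.mem_zpowers y))
    have h1 : (φ k₁ * y) ^ orderOf y = 1 := by
      rw [hφy, conj_pow, pow_orderOf_eq_one, mul_one, mul_inv_cancel]
    rw [Commute.mul_pow hcy, pow_orderOf_eq_one, mul_one] at h1
    have h2 : orderOf (φ k₁) ∣ orderOf y := orderOf_dvd_of_pow_eq_one h1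
    have h3 : orderOf (φ k₁) ∣ Nat.card K := Subgroup.orderOf_dvd_natCard K (hφK k₁ hk₁)
    obtain ⟨j, hj⟩ := IsPGroup.iff_orderOf.1 S.isPGroup' ⟨y, hyS⟩
    rw [Subgroup.orderOf_mk] at hj
    rw [hj] at h2
    have h4 : Nat.Coprime (Nat.card K) (s ^ j) := Nat.Coprime.pow_right _ hKcop
    have h5 : orderOf (φ k₁) = 1 := Nat.eq_one_of_dvd_coprimes h4 h3 h2
    exact orderOf_eq_one_iff.1 h5
  · -- `N` is self-normalizing, so `K ≤ N`, `K = φ K`, `φ` is injective
    have hKN : K ≤ K₁ ⊔ Subgroup.zpowers y := h.le_of_le_normalizer hN hKnorm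
    have hsurj : ∀ k ∈ K, ∃ k' ∈ K, k = φ k' := by
      intro k hk
      obtain ⟨c, hc, z, hz, rfl⟩ := t3_mem_sup hZnK₁ (hKN hk)
      have h1 : z ∈ K ⊓ Subgroup.zpowers y := by
        refine ⟨?_, hz⟩
        have h2 : z = c⁻¹ * (c * z) := by group
        rw [h2]
        exact K.mul_mem (K.inv_mem (hK₁K hc)) hk
      rw [hKZ, Subgroup.mem_bot] at h1
      rw [h1, mul_one]
      exact hc
    let f : K → K := fun k => ⟨φ k, hφK k k.2⟩
    have hfsurj : Function.Surjective f := by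
      rintro ⟨k, hk⟩
      obtain ⟨k', hk', rfl⟩ := hsurj k hk
      exact ⟨⟨k', hk'⟩, rfl⟩
    have hfinj : Function.Injective f := Finite.injective_iff_surjective.2 hfsurj
    intro k hk hky
    have h1 : f ⟨k, hk⟩ = f 1 := by
      apply Subtype.ext
      show φ k = φ 1
      rw [hφ1, hφfix]
      exact hky
    have h2 := congrArg Subtype.val (hfinj h1)
    exact h2

/-- (CT3A) with (FS) as a hypothesis -/
theorem t3_sylow_core (h : SN H) [Group.IsSolvable H] (hnn : ¬ Group.IsNilpotent H)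
    (FS : ∀ (p : ℕ) [Fact p.Prime] (P : Sylow p H), (P : Subgroup H) ≠ ⊤ →
      IsMulCommutative (P : Subgroup H))
    (x : H) (hx : x ∈ Subgroup.center H) {r : ℕ} [hr : Fact r.Prime]
    (hxr : orderOf x = r) (S : Sylow r H) :
    IsCyclic (S : Subgroup H) ∧ Subgroup.normalizer ((S : Subgroup H) : Set H) = S := by
  obtain ⟨s, K, hs, hKn, hKc, hKcop, hall⟩ := t3_core h hnn FS
  have hZnK : ∀ y : H, ∀ b ∈ Subgroup.zpowers y, ∀ a ∈ K, b * a * b⁻¹ ∈ K :=
    fun _ b _ a ha => hKn.conj_mem a ha b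
  have hrs : s = r := by
    by_contra hne
    have : Fact s.Prime := ⟨hs⟩
    obtain ⟨S₁⟩ := (inferInstance : Nonempty (Sylow s H))
    obtain ⟨y, hSy, hKZ, hKZtop, hfpf⟩ := hall S₁
    have hx1 : x ≠ 1 := by
      intro hc
      rw [hc, orderOf_one] at hxr
      exact hr.out.one_lt.ne hxr
    obtain ⟨k, hk, z, hz, hxkz⟩ := t3_mem_sup (hZnK y)
      (show x ∈ K ⊔ Subgroup.zpowers y by rw [hKZtop]; exact Subgroup.mem_top x)
    have hzr : z ^ r ∈ K := by
      have h1 : ((x : H) : H ⧸ K) = ((z : H) : H ⧸ K) := by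
        rw [hxkz, QuotientGroup.mk_mul, (QuotientGroup.eq_one_iff k).2 hk, one_mul]
      have h2 : (((z ^ r : H)) : H ⧸ K) = 1 := by
        rw [QuotientGroup.mk_pow, ← h1, ← QuotientGroup.mk_pow, ← hxr, pow_orderOf_eq_one,
          QuotientGroup.mk_one]
      exact (QuotientGroup.eq_one_iff _).1 h2
    have hzr1 : z ^ r = 1 := by
      have h1 : z ^ r ∈ K ⊓ Subgroup.zpowers y := ⟨hzr, Subgroup.pow_mem _ hz r⟩
      rwa [hKZ, Subgroup.mem_bot] at h1
    have hzS : z ∈ (S₁ : Subgroup H) := by rw [hSy]; exact hz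
    obtain ⟨j, hj⟩ := S₁.isPGroup' ⟨z, hzS⟩
    have hzs : z ^ s ^ j = 1 := by
      have h1 := congrArg Subtype.val hj
      simpa using h1
    have hz1 : z = 1 := by
      have h3 : z ^ Nat.gcd r (s ^ j) = 1 := pow_gcd_eq_one.2 ⟨hzr1, hzs⟩
      have h4 : Nat.gcd r (s ^ j) = 1 :=
        Nat.Coprime.pow_right j ((Nat.coprime_primes hr.out hs).2 (fun hc => hne hc.symm))
      rwa [h4, pow_one] at h3
    have hxk : x = k := by rw [hxkz, hz1, mul_one]
    apply hx1
    rw [hxk]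
    apply hfpf k hk
    rw [← hxk]
    exact ((Subgroup.mem_center_iff.1 hx) y).symm
  subst hrs
  obtain ⟨y, hSy, hKZ, hKZtop, hfpf⟩ := hall S
  constructor
  · rw [hSy]
    infer_instance
  · rw [hSy]
    apply le_antisymm _ Subgroup.le_normalizer
    intro g hg
    obtain ⟨k, hk, z, hz, rfl⟩ := t3_mem_sup (hZnK y)
      (show g ∈ K ⊔ Subgroup.zpowers y by rw [hKZtop]; exact Subgroup.mem_top g)
    have hkn : k ∈ Subgroup.normalizer ((Subgroup.zpowers y : Subgroup H) : Set H) := by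
      have h1 : k = k * z * z⁻¹ := by group
      rw [h1]
      exact Subgroup.mul_mem _ hg (Subgroup.inv_mem _ (Subgroup.le_normalizer hz))
    have h2 : k * y * k⁻¹ ∈ Subgroup.zpowers y :=
      (Subgroup.mem_normalizer_iff.1 hkn y).1 (Subgroup.mem_zpowers y)
    have h3 : k * y * k⁻¹ * y⁻¹ ∈ K ⊓ Subgroup.zpowers y := by
      refine ⟨?_, Subgroup.mul_mem _ h2 (Subgroup.inv_mem _ (Subgroup.mem_zpowers y))⟩
      have h4 : k * y * k⁻¹ * y⁻¹ = k * (y * k⁻¹ * y⁻¹) := by group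
      rw [h4]
      exact K.mul_mem hk (hKn.conj_mem k⁻¹ (K.inv_mem hk) y)
    rw [hKZ, Subgroup.mem_bot] at h3
    have h5 : k * y = y * k := by
      have h6 : k * y = (k * y * k⁻¹ * y⁻¹) * (y * k) := by group
      rw [h6, h3, one_mul]
    rw [hfpf k hk h5, one_mul]
    exact hz

end core

end Cfsg.Agent.Helper14.SNG
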