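import Mathlib
import Cfsg.Statements.S0823
import Cfsg.Agent.Helper13.Isom

/-!
# `SO_3(3) ≅ S_4` : the deleted permutation module of `S_4` over a field of characteristic 3
-/

namespace Cfsg.Agent.Helper14.SO33

open Matrix

abbrev ι3 : Type := Unit ⊕ (Fin 1 ⊕ Fin 1)

/-- the embedding matrix of the sum-zero hyperplane -/
def E (F : Type*) [Field F] : Matrix (Fin 4) ι3 F := Matrix.of fun i j =>
  match j with
  | .inl _ => ![0, 1, -1, 0] i
  | .inr (.inl _) => ![1, 1, 1, 0] i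
  | .inr (.inr _) => ![0, -1, -1, -1] i

/-- the left inverse of `E` killing the all-ones vector -/
def L (F : Type*) [Field F] : Matrix ι3 (Fin 4) F := Matrix.of fun i j =>
  match i with
  | .inl _ => ![0, -1, 1, 0] j
  | .inr (.inl _) => ![0, -1, -1, -1] j
  | .inr (.inr _) => ![1, 1, 1, 0] j

/-- the all-ones matrix -/
def J (F : Type*) [Field F] : Matrix (Fin 4) (Fin 4) F := Matrix.of fun _ _ => 1

variable {F : Type*} [Field F]

theorem L_mul_E (h3 : (3 : F) = 0) : L F * E F = 1 := by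
  ext i j
  rcases i with ⟨⟩ | ⟨i⟩ | ⟨i⟩ <;> rcases j with ⟨⟩ | ⟨j⟩ | ⟨j⟩ <;>
    simp [Matrix.mul_apply, Fin.sum_univ_four, E, L, Matrix.one_apply, eq_iff_true_of_subsingleton] <;>
    first
    | linear_combination h3
    | linear_combination -h3

theorem E_mul_L (h3 : (3 : F) = 0) : E F * L F = 1 - J F := by
  ext i j
  fin_cases i <;> fin_cases j <;>
    simp [Matrix.mul_apply, E, L, J] <;>
    first
    | linear_combination h3
    | linear_combination -h3

theorem J_mul_E (h3 : (3 : F) = 0) : J F * E F = 0 := by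
  ext i j
  rcases j with ⟨⟩ | ⟨j⟩ | ⟨j⟩ <;>
    simp [Matrix.mul_apply, Fin.sum_univ_four, E, J] <;>
    first
    | linear_combination h3
    | linear_combination -h3


/-- the quadratic form `-Σ xᵢ²` on `F^4` -/
def Q4 (x : Fin 4 → F) : F := -∑ i, x i ^ 2

theorem Q4_perm (σ : Equiv.Perm (Fin 4)) (x : Fin 4 → F) : Q4 (x ∘ σ) = Q4 x := by
  unfold Q4
  rw [← Equiv.sum_comp σ (fun i => x i ^ 2)]
  rfl

theorem Q_eq (h3 : (3 : F) = 0) (v : ι3 → F) :
    Cfsg.quadFormOdd 1 F v = Q4 (E F *ᵥ v) := by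
  unfold Q4 Cfsg.quadFormOdd
  simp [Matrix.mulVec, dotProduct, Fin.sum_univ_four, E]
  linear_combination
    (v (Sum.inl ()) ^ 2 + v (Sum.inr (Sum.inl 0)) ^ 2 + v (Sum.inr (Sum.inr 0)) ^ 2
      - v (Sum.inr (Sum.inl 0)) * v (Sum.inr (Sum.inr 0))) * h3

theorem Q_smul (c : F) (v : ι3 → F) :
    Cfsg.quadFormOdd 1 F (c • v) = c ^ 2 * Cfsg.quadFormOdd 1 F v := by
  unfold Cfsg.quadFormOdd
  simp
  ring

theorem J_mul_perm (σ : Equiv.Perm (Fin 4)) : J F * Equiv.Perm.permMatrix F σ = J F := by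
  ext i j
  simp only [Matrix.mul_apply, J, Matrix.of_apply, one_mul, Equiv.Perm.permMatrix,
    PEquiv.toMatrix_apply, Equiv.toPEquiv_apply, Option.mem_def, Option.some.injEq]
  rw [Finset.sum_eq_single (σ.symm j)]
  · simp
  · intro b _ hb
    rw [if_neg]
    intro h
    exact hb (by rw [← h]; simp)
  · simp

theorem perm_mul_J (σ : Equiv.Perm (Fin 4)) : Equiv.Perm.permMatrix F σ * J F = J F := by
  ext i j
  simp only [Matrix.mul_apply, J, Matrix.of_apply, mul_one, Equiv.Perm.permMatrix,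
    PEquiv.toMatrix_apply, Equiv.toPEquiv_apply, Option.mem_def, Option.some.injEq]
  simp

/-- the matrix of `σ` on the deleted permutation module. -/
def ψmat (F : Type*) [Field F] (σ : Equiv.Perm (Fin 4)) : Matrix ι3 ι3 F :=
  L F * Equiv.Perm.permMatrix F σ⁻¹ * E F

theorem E_mul_ψmat (h3 : (3 : F) = 0) (σ : Equiv.Perm (Fin 4)) :
    E F * ψmat F σ = Equiv.Perm.permMatrix F σ⁻¹ * E F := by
  unfold ψmat
  rw [← Matrix.mul_assoc, ← Matrix.mul_assoc, E_mul_L h3, Matrix.sub_mul, Matrix.sub_mul,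
    Matrix.one_mul, J_mul_perm, J_mul_E h3, sub_zero]

theorem ψmat_one (h3 : (3 : F) = 0) : ψmat F 1 = 1 := by
  unfold ψmat
  rw [inv_one, Matrix.permMatrix_one, Matrix.mul_one, L_mul_E h3]

theorem ψmat_mul (h3 : (3 : F) = 0) (σ τ : Equiv.Perm (Fin 4)) :
    ψmat F (σ * τ) = ψmat F σ * ψmat F τ := by
  have h := E_mul_ψmat h3 τ
  unfold ψmat at h ⊢
  rw [_root_.mul_inv_rev, Matrix.permMatrix_mul]
  calc L F * (Equiv.Perm.permMatrix F σ⁻¹ * Equiv.Perm.permMatrix F τ⁻¹) * E F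
      = L F * Equiv.Perm.permMatrix F σ⁻¹ * (Equiv.Perm.permMatrix F τ⁻¹ * E F) := by
        simp only [Matrix.mul_assoc]
    _ = L F * Equiv.Perm.permMatrix F σ⁻¹ * (E F * (L F * Equiv.Perm.permMatrix F τ⁻¹ * E F)) := by
        rw [h]
    _ = _ := by simp only [Matrix.mul_assoc]

theorem Q_ψmat (h3 : (3 : F) = 0) (σ : Equiv.Perm (Fin 4)) (v : ι3 → F) :
    Cfsg.quadFormOdd 1 F (ψmat F σ *ᵥ v) = Cfsg.quadFormOdd 1 F v := by
  rw [Q_eq h3, Q_eq h3 v, Matrix.mulVec_mulVec, E_mul_ψmat h3, ← Matrix.mulVec_mulVec,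
    Matrix.permMatrix_mulVec, Q4_perm]

/-- `ψmat` as a monoid hom. -/
def ψhom (h3 : (3 : F) = 0) : Equiv.Perm (Fin 4) →* Matrix ι3 ι3 F where
  toFun := ψmat F
  map_one' := ψmat_one h3
  map_mul' := ψmat_mul h3

theorem ψmat_injective (h3 : (3 : F) = 0) (σ : Equiv.Perm (Fin 4)) (c : F)
    (h : ψmat F σ = Matrix.scalar ι3 c) : σ = 1 := by
  have h1 : E F * ψmat F σ * L F = Equiv.Perm.permMatrix F σ⁻¹ - J F := by
    rw [E_mul_ψmat h3, Matrix.mul_assoc, E_mul_L h3, Matrix.mul_sub, Matrix.mul_one, perm_mul_J]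
  have h2 : E F * ψmat F σ * L F = c • (1 - J F) := by
    rw [h, Matrix.mul_assoc, Matrix.scalar_apply, ← Matrix.smul_eq_diagonal_mul, Matrix.mul_smul,
      E_mul_L h3]
  have h4 : ∀ i, σ⁻¹ i = i := by
    intro i
    have h5 := congrFun (congrFun (h1.symm.trans h2) i) i
    simp only [Matrix.sub_apply, J, Matrix.of_apply, Matrix.smul_apply, Matrix.one_apply_eq,
      sub_self, smul_zero, Equiv.Perm.permMatrix, PEquiv.toMatrix_apply, Equiv.toPEquiv_apply,
      Option.mem_def, Option.some.injEq] at h5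
    by_contra hne
    rw [if_neg hne] at h5
    simp at h5
  have : σ⁻¹ = 1 := Equiv.ext h4
  simpa using this

end Cfsg.Agent.Helper14.SO33
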