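import Mathlib
import Cfsg.Prelude.Def_ClassicalGeometry
import Cfsg.Agent.Helper14.OmegaTwo
import Cfsg.Agent.Helper44.OmegaIndex

/-!
# The special orthogonal group has a unique subgroup of index two
-/

set_option autoImplicit false

namespace Cfsg.Agent.Helper14

open Module Matrix
open scoped commutatorElement

section SOIndexTwo

variable {F : Type*} [Field F] {n : ℕ}

/-- The determinant on the isometry group. -/
noncomputable def detO (Q : QuadraticForm F (Fin n → F)) : ↥(Cfsg.isometryGroup F (⇑Q)) →* Fˣ :=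
  Matrix.GeneralLinearGroup.det.comp (Cfsg.isometryGroup F (⇑Q)).subtype

theorem specialIsometryGroup_eq_ker (Q : QuadraticForm F (Fin n → F)) :
    Cfsg.specialIsometryGroup F (⇑Q) = (detO Q).ker := rfl

theorem detO_reflIso (Q : QuadraticForm F (Fin n → F)) (w : {w : Fin n → F // Q w ≠ 0}) :
    detO Q (reflIso Q w) = -1 := by
  apply Units.ext
  change ((reflIso Q w : Matrix.GeneralLinearGroup (Fin n) F) : Matrix (Fin n) (Fin n) F).det = _
  rw [reflIso_val, Cfsg.Agent.Helper13.reflectionMatrix_det Q w.1 w.2]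
  simp

theorem detO_prod (Q : QuadraticForm F (Fin n → F)) (l : List {w : Fin n → F // Q w ≠ 0}) :
    detO Q ((l.map (reflIso Q)).prod) = (-1) ^ l.length := by
  induction l with
  | nil => simp
  | cons a l ih =>
    rw [List.map_cons, List.prod_cons, map_mul, ih, detO_reflIso, List.length_cons, pow_succ']

/-- The set of squares of elements of `SO`. -/
def sqSet (Q : QuadraticForm F (Fin n → F)) : Set ↥(Cfsg.isometryGroup F (⇑Q)) :=
  {z | ∃ y ∈ (detO Q).ker, z = y * y}

theorem sqSet_conj (Q : QuadraticForm F (Fin n → F)) (g z : ↥(Cfsg.isometryGroup F (⇑Q)))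
    (hz : z ∈ sqSet Q) : g * z * g⁻¹ ∈ sqSet Q := by
  obtain ⟨y, hy, rfl⟩ := hz
  refine ⟨g * y * g⁻¹, ?_, by group⟩
  exact (MonoidHom.normal_ker (detO Q)).conj_mem y hy g

theorem closure_sqSet_normal (Q : QuadraticForm F (Fin n → F)) :
    (Subgroup.closure (sqSet Q)).Normal := by
  constructor
  intro x hx g
  induction hx using Subgroup.closure_induction with
  | mem x hx => exact Subgroup.subset_closure (sqSet_conj Q g x hx)
  | one => simp
  | mul a b _ _ iha ihb =>
    have e : g * (a * b) * g⁻¹ = (g * a * g⁻¹) * (g * b * g⁻¹) := by group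
    rw [e]
    exact Subgroup.mul_mem _ iha ihb
  | inv a _ iha =>
    have e : g * a⁻¹ * g⁻¹ = (g * a * g⁻¹)⁻¹ := by group
    rw [e]
    exact Subgroup.inv_mem _ iha

/-- The commutator subgroup of `O` is generated by squares of elements of `SO`. -/
theorem commutator_le_closure_sqSet [Fintype F] (Q : QuadraticForm F (Fin n → F))
    (hQ : (QuadraticMap.polarBilin Q).Nondegenerate) (h : Fintype.card F ≠ 2 ∨ n ≠ 4) :
    commutator ↥(Cfsg.isometryGroup F (⇑Q)) ≤ Subgroup.closure (sqSet Q) := by
  have := closure_sqSet_normal Q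
  have hcomm : ∀ u v : {w : Fin n → F // Q w ≠ 0},
      Commute (QuotientGroup.mk (s := Subgroup.closure (sqSet Q)) (reflIso Q u))
        (QuotientGroup.mk (s := Subgroup.closure (sqSet Q)) (reflIso Q v)) := by
    intro u v
    have h1 : (reflIso Q u * reflIso Q v) * (reflIso Q u * reflIso Q v)
        ∈ Subgroup.closure (sqSet Q) := by
      apply Subgroup.subset_closure
      refine ⟨reflIso Q u * reflIso Q v, ?_, rfl⟩
      rw [MonoidHom.mem_ker, map_mul, detO_reflIso, detO_reflIso]
      simp
    have h2 := (QuotientGroup.eq_one_iff _).mpr h1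
    rw [QuotientGroup.mk_mul, QuotientGroup.mk_mul] at h2
    have h3 : ∀ w : {w : Fin n → F // Q w ≠ 0},
        (QuotientGroup.mk (s := Subgroup.closure (sqSet Q)) (reflIso Q w))
          * (QuotientGroup.mk (s := Subgroup.closure (sqSet Q)) (reflIso Q w)) = 1 := by
      intro w
      rw [← QuotientGroup.mk_mul, reflIso_mul_self]
      rfl
    unfold Commute SemiconjBy
    set a := (QuotientGroup.mk (s := Subgroup.closure (sqSet Q)) (reflIso Q u)) with ha
    set b := (QuotientGroup.mk (s := Subgroup.closure (sqSet Q)) (reflIso Q v)) with hb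
    have ha2 : a * a = 1 := h3 u
    have hb2 : b * b = 1 := h3 v
    have hai : a⁻¹ = a := inv_eq_of_mul_eq_one_right ha2
    have hbi : b⁻¹ = b := inv_eq_of_mul_eq_one_right hb2
    have hab : a * b = (a * b)⁻¹ := eq_inv_of_mul_eq_one_left h2
    rw [hab, _root_.mul_inv_rev, hai, hbi]
  -- all elements of the quotient commute
  rw [commutator_def, Subgroup.commutator_le]
  intro x _ y _
  obtain ⟨lx, rfl⟩ := exists_reflIso_list_all Q hQ h x
  obtain ⟨ly, rfl⟩ := exists_reflIso_list_all Q hQ h y
  have e : ∀ a b : ↥(Cfsg.isometryGroup F (⇑Q)),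
      (QuotientGroup.mk (s := Subgroup.closure (sqSet Q)) ⁅a, b⁆)
        = ⁅QuotientGroup.mk (s := Subgroup.closure (sqSet Q)) a,
            QuotientGroup.mk (s := Subgroup.closure (sqSet Q)) b⁆ :=
    fun a b => map_commutatorElement (QuotientGroup.mk' (Subgroup.closure (sqSet Q))) a b
  rw [← QuotientGroup.eq_one_iff, e, commutatorElement_eq_one_iff_commute]
  have hmk : ∀ l : List {w : Fin n → F // Q w ≠ 0},
      (QuotientGroup.mk (s := Subgroup.closure (sqSet Q)) ((l.map (reflIso Q)).prod))
        = (l.map (fun w => QuotientGroup.mk (s := Subgroup.closure (sqSet Q)) (reflIso Q w))).prod := by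
    intro l
    induction l with
    | nil => rfl
    | cons a l ih =>
      rw [List.map_cons, List.prod_cons, QuotientGroup.mk_mul, ih, List.map_cons, List.prod_cons]
  rw [hmk lx, hmk ly]
  apply Commute.list_prod_left
  intro a ha
  rw [List.mem_map] at ha
  obtain ⟨u, _, rfl⟩ := ha
  apply Commute.list_prod_right
  intro b hb
  rw [List.mem_map] at hb
  obtain ⟨v, _, rfl⟩ := hb
  exact hcomm u v

theorem detO_eq_one_or_neg_one [Fintype F] (Q : QuadraticForm F (Fin n → F))
    (hQ : (QuadraticMap.polarBilin Q).Nondegenerate) (h : Fintype.card F ≠ 2 ∨ n ≠ 4)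
    (g : ↥(Cfsg.isometryGroup F (⇑Q))) : detO Q g = 1 ∨ detO Q g = -1 := by
  obtain ⟨l, rfl⟩ := exists_reflIso_list_all Q hQ h g
  rw [detO_prod]
  exact neg_one_pow_eq_or Fˣ l.length

/-- `Ω` has index two in `SO`. -/
theorem index_commutator_subgroupOf_special [Fintype F] (hn : 2 ≤ n)
    (Q : QuadraticForm F (Fin n → F)) (hQ : (QuadraticMap.polarBilin Q).Nondegenerate)
    (h : Fintype.card F ≠ 2 ∨ n ≠ 4) :
    ((commutator ↥(Cfsg.isometryGroup F (⇑Q))).subgroupOf (detO Q).ker).index = 2 := by
  have hle : commutator ↥(Cfsg.isometryGroup F (⇑Q)) ≤ (detO Q).ker :=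
    Abelianization.commutator_subset_ker (detO Q)
  have hmul := Subgroup.relIndex_mul_index hle
  change (commutator ↥(Cfsg.isometryGroup F (⇑Q))).relIndex (detO Q).ker = 2
  obtain ⟨w, hw⟩ := exists_nonsingular Q hQ (by omega)
  by_cases h2 : (2 : F) = 0
  · have : CharP F 2 := CharTwo.of_one_ne_zero_of_two_eq_zero one_ne_zero h2
    have hneg : (-1 : Fˣ) = 1 := by
      apply Units.ext
      rw [Units.val_neg, Units.val_one, CharTwo.neg_eq]
    have htop : (detO Q).ker = ⊤ := by
      rw [eq_top_iff]
      intro g _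
      rw [MonoidHom.mem_ker]
      rcases detO_eq_one_or_neg_one Q hQ h g with h1 | h1
      · exact h1
      · rw [h1, hneg]
    rw [htop, Subgroup.index_top, mul_one] at hmul
    rw [htop, hmul]
    exact index_commutator_eq_two Q hQ h (by omega)
  · have hneg : (-1 : Fˣ) ≠ 1 := by
      intro h1
      have h3 := congrArg (fun u : Fˣ => (u : F)) h1
      simp only [Units.val_neg, Units.val_one] at h3
      apply h2
      linear_combination -h3
    have hidx : (detO Q).ker.index = 2 := by
      rw [Subgroup.index_eq_two_iff]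
      refine ⟨reflIso Q ⟨w, hw⟩, fun b => ?_⟩
      rcases detO_eq_one_or_neg_one Q hQ h b with h1 | h1
      · right
        refine ⟨?_, ?_⟩
        · rw [MonoidHom.mem_ker]
          exact h1
        · rw [MonoidHom.mem_ker, map_mul, h1, detO_reflIso, one_mul]
          exact hneg
      · left
        refine ⟨?_, ?_⟩
        · rw [MonoidHom.mem_ker, map_mul, h1, detO_reflIso]
          simp
        · rw [MonoidHom.mem_ker, h1]
          exact hneg
    have h4 : (commutator ↥(Cfsg.isometryGroup F (⇑Q))).index = 4 :=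
      Cfsg.Agent.Helper44.index_Omega_eq_four Q h2 hQ (by rw [Module.finrank_fin_fun]; exact hn)
    rw [hidx, h4] at hmul
    omega

/-- **The special orthogonal group has a unique subgroup of index two.** -/
theorem existsUnique_index_two_special [Fintype F] (hn : 2 ≤ n)
    (Q : QuadraticForm F (Fin n → F)) (hQ : (QuadraticMap.polarBilin Q).Nondegenerate)
    (h : Fintype.card F ≠ 2 ∨ n ≠ 4) :
    ∃! H : Subgroup ↥(detO Q).ker, H.index = 2 := by
  have hidx := index_commutator_subgroupOf_special hn Q hQ h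
  refine ⟨(commutator ↥(Cfsg.isometryGroup F (⇑Q))).subgroupOf (detO Q).ker, hidx, ?_⟩
  intro H hH
  have hle : (commutator ↥(Cfsg.isometryGroup F (⇑Q))).subgroupOf (detO Q).ker ≤ H := by
    intro x hx
    rw [Subgroup.mem_subgroupOf] at hx
    have h1 := commutator_le_closure_sqSet Q hQ h hx
    have h2 : Subgroup.closure (sqSet Q) ≤ H.map (detO Q).ker.subtype := by
      rw [Subgroup.closure_le]
      intro z hz
      obtain ⟨y, hy, rfl⟩ := hz
      exact Subgroup.mem_map.mpr ⟨⟨y, hy⟩ * ⟨y, hy⟩, Subgroup.mul_self_mem_of_index_two hH _, rfl⟩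
    obtain ⟨x', hx', hxx'⟩ := Subgroup.mem_map.mp (h2 h1)
    have e : x' = x := Subtype.ext hxx'
    rw [← e]
    exact hx'
  have h1 := Subgroup.relIndex_mul_index hle
  rw [hH, hidx] at h1
  have h2 : ((commutator ↥(Cfsg.isometryGroup F (⇑Q))).subgroupOf (detO Q).ker).relIndex H = 1 := by
    omega
  exact le_antisymm (Subgroup.relIndex_eq_one.mp h2) hle

end SOIndexTwo

end Cfsg.Agent.Helper14
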