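import Mathlib
import Cfsg.Prelude.Def_SolvableStructure
import Cfsg.Agent.Helper71.SchDefs
import Cfsg.Agent.S0536

/-!
# S4394, piece (A1): a Schmidt group induces a `SchAut` on its normal Sylow subgroup.
-/

set_option autoImplicit false

namespace Cfsg.Agent.Helper14.Sch

open scoped commutatorElement
open Cfsg.Agent.Helper71.Sch

section

variable {X : Type*} [Group X] [Finite X]

/-- the data: a cyclic non-normal Sylow `q`-subgroup `C` with `C ⊔ P = ⊤`. -/
theorem exists_cyclic_sylow (p : ℕ) [Fact p.Prime]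
    (hX : Cfsg.IsMinimalNonNilpotent X) (P : Sylow p X) (hPn : (P : Subgroup X).Normal)
    (hP1 : (P : Subgroup X) ≠ ⊥) :
    ∃ (q : ℕ) (_ : Fact q.Prime) (C : Sylow q X), q ≠ p ∧ IsCyclic ↥(C : Subgroup X) ∧
      ¬ (C : Subgroup X).Normal ∧ (C : Subgroup X) ⊔ (P : Subgroup X) = ⊤ := by
  have hp := (Fact.out : p.Prime)
  obtain ⟨p', q', hp', hq', hpq', P', Q', hP'n, hQ'n, htop⟩ := Cfsg.Agent.S0536.exists_sup_eq_top hX
  have hcyc := Cfsg.Agent.S0536.isCyclic_of hX hp' hq' hpq' P' Q' hP'n hQ'n htop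
  have := Fact.mk hp'
  have := Fact.mk hq'
  -- `p` divides `|X|`
  have hpX : p ∣ Nat.card X := by
    have h1 : p ∣ Nat.card (P : Subgroup X) := by
      obtain ⟨n, hn⟩ := IsPGroup.iff_card.1 P.2
      rcases Nat.eq_zero_or_pos n with h0 | h0
      · exfalso
        apply hP1
        rw [h0, pow_zero] at hn
        exact Subgroup.card_eq_one.1 hn
      · rw [hn]
        exact dvd_pow_self p h0.ne'
    exact h1.trans (Subgroup.card_subgroup_dvd_card _)
  -- prime divisors of `|X|` are `p'`, `q'`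
  have hidx : (Q' : Subgroup X).index ∣ Nat.card (P' : Subgroup X) := by
    have h1 : (Q' : Subgroup X).relIndex ((P' : Subgroup X) ⊔ (Q' : Subgroup X)) =
        (Q' : Subgroup X).relIndex (P' : Subgroup X) := Subgroup.relIndex_sup_right _ _
    rw [htop, Subgroup.relIndex_top_right] at h1
    rw [h1]
    exact Subgroup.relIndex_dvd_card _ _
  have hcases : p = p' ∨ p = q' := by
    rw [← Subgroup.card_mul_index (Q' : Subgroup X)] at hpX
    rcases (Nat.Prime.dvd_mul hp).1 hpX with h | h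
    · right
      obtain ⟨n, hn⟩ := IsPGroup.iff_card.1 Q'.2
      rw [hn] at h
      exact (Nat.prime_dvd_prime_iff_eq hp hq').1 (hp.dvd_of_dvd_pow h)
    · left
      have h2 := h.trans hidx
      obtain ⟨n, hn⟩ := IsPGroup.iff_card.1 P'.2
      rw [hn] at h2
      exact (Nat.prime_dvd_prime_iff_eq hp hp').1 (hp.dvd_of_dvd_pow h2)
  rcases hcases with h | h
  · exfalso
    subst h
    have : Subsingleton (Sylow _ X) := (Sylow.unique_of_normal P hPn).instSubsingleton
    have : P' = P := Subsingleton.elim _ _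
    rw [this] at hP'n
    exact hP'n hPn
  · subst h
    have : Subsingleton (Sylow _ X) := (Sylow.unique_of_normal P hPn).instSubsingleton
    have hQP : Q' = P := Subsingleton.elim _ _
    rw [hQP] at htop
    exact ⟨p', ⟨hp'⟩, P', hpq', hcyc, hP'n, htop⟩

/-- in a proper subgroup, `p`-elements and `q`-elements commute -/
theorem commute_of_proper {p q : ℕ} [Fact p.Prime] [Fact q.Prime] (hqp : q ≠ p)
    (hX : Cfsg.IsMinimalNonNilpotent X) (P : Sylow p X) (C : Sylow q X)
    (H : Subgroup X) (hH : H ≠ ⊤) {a b : X} (ha : a ∈ (P : Subgroup X)) (haH : a ∈ H)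
    (hb : b ∈ (C : Subgroup X)) (hbH : b ∈ H) : a * b = b * a := by
  have : Group.IsNilpotent ↥H := hX.2 H hH
  have hc : Commute (⟨a, haH⟩ : ↥H) ⟨b, hbH⟩ := by
    apply Cfsg.Agent.S0536.commute_of_nilpotent (Fact.out : p.Prime) (Fact.out : q.Prime)
      (Ne.symm hqp)
    · obtain ⟨k, hk⟩ := P.2 ⟨a, ha⟩
      refine ⟨k, Subtype.ext ?_⟩
      have := congrArg Subtype.val hk
      simpa using this
    · obtain ⟨k, hk⟩ := C.2 ⟨b, hb⟩
      refine ⟨k, Subtype.ext ?_⟩
      have := congrArg Subtype.val hk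
      simpa using this
  exact congrArg Subtype.val hc.eq

theorem pow_invariant {Y : Type*} [Group Y] (P₁ : Subgroup Y) (ψ : MulAut Y)
    (h : ∀ a ∈ P₁, ψ a ∈ P₁) : ∀ n : ℕ, ∀ a ∈ P₁, (ψ ^ n) a ∈ P₁ := by
  intro n
  induction n with
  | zero =>
    intro a ha
    simpa using ha
  | succ n ih =>
    intro a ha
    rw [pow_succ, MulAut.mul_apply]
    exact ih _ (h a ha)

end

/-- (A1) a Schmidt group induces a `SchAut` on its normal Sylow subgroup. -/
theorem exists_aut_of_minimalNonNilpotent {X : Type*} [Group X] [Finite X] (p : ℕ) [Fact p.Prime]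
    (hX : Cfsg.IsMinimalNonNilpotent X) (P : Sylow p X) (hPn : (P : Subgroup X).Normal)
    (hP1 : (P : Subgroup X) ≠ ⊥) :
    ∃ (q : ℕ) (φ : MulAut ↥(P : Subgroup X)), SchAut p q φ := by
  obtain ⟨q, hqF, C, hqp, hcyc, hCn, htop⟩ := exists_cyclic_sylow p hX P hPn hP1
  have := hqF
  have := hPn
  have hq := (Fact.out : q.Prime)
  obtain ⟨g, hg⟩ := hcyc.exists_generator
  obtain ⟨y, hyC⟩ := g
  have hgen : ∀ c ∈ (C : Subgroup X), ∃ k : ℤ, y ^ k = c := by
    intro c hc
    obtain ⟨k, hk⟩ := Subgroup.mem_zpowers_iff.1 (hg ⟨c, hc⟩)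
    refine ⟨k, ?_⟩
    have := congrArg Subtype.val hk
    simpa using this
  have hdisj : ∀ x, x ∈ (P : Subgroup X) → x ∈ (C : Subgroup X) → x = 1 := by
    intro x hxP hxC
    exact Subgroup.disjoint_def.1 (IsPGroup.disjoint_of_ne p q (Ne.symm hqp) _ _ P.2 C.2) hxP hxC
  -- `y ≠ 1` and `q ∣ orderOf y`
  have hy1 : y ≠ 1 := by
    intro h1
    apply hCn
    have : (C : Subgroup X) = ⊥ := by
      rw [eq_bot_iff]
      intro c hc
      obtain ⟨k, hk⟩ := hgen c hc
      rw [Subgroup.mem_bot, ← hk, h1, one_zpow]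
    rw [this]
    infer_instance
  have hqd : q ∣ orderOf y := by
    obtain ⟨k, hk⟩ := C.2 ⟨y, hyC⟩
    have hk' : y ^ q ^ k = 1 := by
      have := congrArg Subtype.val hk
      simpa using this
    obtain ⟨j, -, hj⟩ := (Nat.dvd_prime_pow hq).1 (orderOf_dvd_of_pow_eq_one hk')
    rcases Nat.eq_zero_or_pos j with h0 | h0
    · exfalso
      rw [h0, pow_zero, orderOf_eq_one_iff] at hj
      exact hy1 hj
    · rw [hj]
      exact dvd_pow_self q h0.ne'
  -- `φ ^ q = 1`
  have hpowq : (MulAut.conjNormal y : MulAut ↥(P : Subgroup X)) ^ q = 1 := by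
    rw [← map_pow]
    ext a
    rw [MulAut.conjNormal_apply, MulAut.one_apply]
    have hne : (P : Subgroup X) ⊔ Subgroup.zpowers (y ^ q) ≠ ⊤ := by
      intro htop2
      have hy_mem : y ∈ ((P : Subgroup X) ⊔ Subgroup.zpowers (y ^ q) : Subgroup X) :=
        htop2 ▸ Subgroup.mem_top y
      rw [← SetLike.mem_coe, Subgroup.normal_mul, Set.mem_mul] at hy_mem
      obtain ⟨a, ha, b, hb, hab⟩ := hy_mem
      obtain ⟨k, hk⟩ := Subgroup.mem_zpowers_iff.1 hb
      have ha' : a = y ^ (1 - (q : ℤ) * k) := by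
        rw [zpow_sub, zpow_one, zpow_mul, zpow_natCast, hk, ← hab, mul_inv_cancel_right]
      have haC : a ∈ (C : Subgroup X) := ha' ▸ (C : Subgroup X).zpow_mem hyC _
      have ha1 : a = 1 := hdisj a ha haC
      rw [ha1] at ha'
      have hdvd : (orderOf y : ℤ) ∣ 1 - (q : ℤ) * k := orderOf_dvd_iff_zpow_eq_one.2 ha'.symm
      have h1 : (q : ℤ) ∣ 1 - (q : ℤ) * k := (Int.natCast_dvd_natCast.2 hqd).trans hdvd
      have h2 : (q : ℤ) ∣ 1 := by
        have h3 : (q : ℤ) ∣ (q : ℤ) * k := dvd_mul_right _ _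
        have := dvd_add h1 h3
        simpa using this
      have h4 : q ∣ 1 := by exact_mod_cast h2
      exact hq.one_lt.ne' (Nat.dvd_one.1 h4)
    have hc := commute_of_proper hqp hX P C _ hne a.2 (Subgroup.mem_sup_left a.2)
      ((C : Subgroup X).pow_mem hyC q) (Subgroup.mem_sup_right (Subgroup.mem_zpowers _))
    rw [← hc, mul_inv_cancel_right]
  refine ⟨q, MulAut.conjNormal y, ⟨hq, hqp, hpowq, ?_, ?_⟩⟩
  · -- `φ ≠ 1`
    intro h1
    apply hCn
    have hcomm : ∀ a ∈ (P : Subgroup X), Commute y a := by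
      intro a ha
      have := congrArg (fun f : MulAut ↥(P : Subgroup X) => ((f ⟨a, ha⟩ : ↥(P : Subgroup X)) : X)) h1
      simp only [MulAut.conjNormal_apply, MulAut.one_apply] at this
      show y * a = a * y
      calc y * a = (y * a * y⁻¹) * y := by group
        _ = a * y := by rw [this]
    rw [← Subgroup.normalizer_eq_top_iff, eq_top_iff, ← htop]
    refine sup_le Subgroup.le_normalizer (le_trans ?_ (Subgroup.centralizer_le_normalizer _))
    intro a ha
    rw [Subgroup.mem_centralizer_iff]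
    intro c hc
    obtain ⟨k, rfl⟩ := hgen c hc
    exact ((hcomm a ha).zpow_left k).eq
  · -- minimality
    intro P₁ hP₁ hinv a₀ ha₀
    have hinvinv : ∀ a ∈ P₁, (MulAut.conjNormal y : MulAut ↥(P : Subgroup X))⁻¹ a ∈ P₁ := by
      have hi : (MulAut.conjNormal y : MulAut ↥(P : Subgroup X))⁻¹ =
          (MulAut.conjNormal y : MulAut ↥(P : Subgroup X)) ^ (q - 1) := by
        rw [eq_comm, ← mul_eq_one_iff_eq_inv, ← pow_succ, Nat.sub_add_cancel hq.one_lt.le, hpowq]
      intro a ha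
      rw [hi]
      exact pow_invariant P₁ _ hinv _ a ha
    have hzinv : ∀ k : ℤ, ∀ a ∈ P₁,
        ((MulAut.conjNormal y : MulAut ↥(P : Subgroup X)) ^ k) a ∈ P₁ := by
      intro k a ha
      obtain ⟨n, rfl | rfl⟩ := Int.eq_nat_or_neg k
      · rw [zpow_natCast]
        exact pow_invariant P₁ _ hinv _ a ha
      · rw [zpow_neg, zpow_natCast, ← inv_pow]
        exact pow_invariant P₁ _ hinvinv _ a ha
    -- the image of `P₁` in `X`
    have hconj : ∀ c ∈ (C : Subgroup X), ∀ a ∈ P₁.map (P : Subgroup X).subtype,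
        c * a * c⁻¹ ∈ P₁.map (P : Subgroup X).subtype := by
      intro c hc a ha
      obtain ⟨k, rfl⟩ := hgen c hc
      obtain ⟨a', ha', rfl⟩ := Subgroup.mem_map.1 ha
      refine Subgroup.mem_map.2 ⟨_, hzinv k a' ha', ?_⟩
      rw [← map_zpow, Subgroup.coe_subtype, MulAut.conjNormal_apply]
    have hAP : P₁.map (P : Subgroup X).subtype ≤ (P : Subgroup X) := by
      intro x hx
      obtain ⟨a', -, rfl⟩ := Subgroup.mem_map.1 hx
      exact a'.2
    let D : Subgroup X :=
      { carrier := {g | ∃ a ∈ P₁.map (P : Subgroup X).subtype, ∃ c ∈ (C : Subgroup X), g = a * c}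
        mul_mem' := by
          rintro _ _ ⟨a, ha, c, hc, rfl⟩ ⟨a', ha', c', hc', rfl⟩
          refine ⟨a * (c * a' * c⁻¹), mul_mem ha (hconj c hc a' ha'), c * c', mul_mem hc hc', ?_⟩
          group
        one_mem' := ⟨1, one_mem _, 1, one_mem _, (mul_one 1).symm⟩
        inv_mem' := by
          rintro _ ⟨a, ha, c, hc, rfl⟩
          refine ⟨c⁻¹ * a⁻¹ * c⁻¹⁻¹, hconj c⁻¹ (inv_mem hc) a⁻¹ (inv_mem ha), c⁻¹, inv_mem hc, ?_⟩
          group }
    have hle : P₁.map (P : Subgroup X).subtype ⊔ (C : Subgroup X) ≤ D := by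
      refine sup_le ?_ ?_
      · intro a ha
        exact ⟨a, ha, 1, one_mem _, (mul_one a).symm⟩
      · intro c hc
        exact ⟨1, one_mem _, c, hc, (one_mul c).symm⟩
    have hne : P₁.map (P : Subgroup X).subtype ⊔ (C : Subgroup X) ≠ ⊤ := by
      intro htop2
      apply hP₁
      rw [eq_top_iff]
      intro z _
      have hz : (z : X) ∈ D := hle (htop2 ▸ Subgroup.mem_top _)
      obtain ⟨a, ha, c, hc, hzac⟩ := hz
      have hcP : c ∈ (P : Subgroup X) := by
        have : c = a⁻¹ * z := by rw [hzac]; group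
        rw [this]
        exact mul_mem (inv_mem (hAP ha)) z.2
      have hc1 : c = 1 := hdisj c hcP hc
      rw [hc1, mul_one] at hzac
      obtain ⟨a', ha', ha'eq⟩ := Subgroup.mem_map.1 ha
      have : a' = z := Subtype.ext (by rw [hzac]; exact ha'eq)
      rw [← this]
      exact ha'
    have hc := commute_of_proper hqp hX P C _ hne a₀.2
      (Subgroup.mem_sup_left (Subgroup.mem_map.2 ⟨a₀, ha₀, rfl⟩)) hyC (Subgroup.mem_sup_right hyC)
    apply Subtype.ext
    rw [MulAut.conjNormal_apply, ← hc, mul_inv_cancel_right]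

end Cfsg.Agent.Helper14.Sch
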