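import Mathlib
import Cfsg.Agent.Helper71.SchDefs

/-!
# S4394, piece (B0): transport of `SchType` along an isomorphism `↥S ≃* P₀` to `SchIn p S`.
-/

set_option autoImplicit false

namespace Cfsg.Agent.Helper14.Sch

open scoped commutatorElement
open Cfsg.Agent.Helper71.Sch

/-- (B0) transport along an isomorphism. -/
theorem schIn_of_equiv {p : ℕ} {P₀ : Type*} [Group P₀] (h : SchType p P₀) {Γ : Type*} [Group Γ]
    (S : Subgroup Γ) (e : ↥S ≃* P₀) : SchIn p S := by
  have key : ∀ x : ↥S, (x : Γ) ∈ Subgroup.centralizer (S : Set Γ) ↔ e x ∈ Subgroup.center P₀ := by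
    intro x
    rw [Subgroup.mem_centralizer_iff, Subgroup.mem_center_iff]
    constructor
    · intro hx g
      obtain ⟨s, rfl⟩ := e.surjective g
      rw [← map_mul, ← map_mul]
      congr 1
      exact Subtype.ext (hx s s.2)
    · intro hx s hs
      have h1 := hx (e ⟨s, hs⟩)
      rw [← map_mul, ← map_mul] at h1
      have h2 := e.injective h1
      exact congrArg Subtype.val h2
  have hcoe : ∀ x y : ↥S, ((⁅x, y⁆ : ↥S) : Γ) = ⁅(x : Γ), (y : Γ)⁆ := fun x y =>
    map_commutatorElement S.subtype x y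
  refine ⟨?_, ?_, ?_, ?_⟩
  · intro x hx y hy
    have h1 := (key ⁅(⟨x, hx⟩ : ↥S), ⟨y, hy⟩⁆).2 (by
      rw [map_commutatorElement]
      exact h.comm_mem _ _)
    rwa [hcoe] at h1
  · intro x hx
    have h1 := (key ((⟨x, hx⟩ : ↥S) ^ p)).2 (by
      rw [map_pow]
      exact h.pow_mem _)
    rwa [Subgroup.coe_pow] at h1
  · intro u hu hunc z hz hzc
    have h1 : e ⟨u, hu⟩ ∉ Subgroup.center P₀ := fun hc => hunc ((key ⟨u, hu⟩).2 hc)
    have h2 : e ⟨z, hz⟩ ∈ Subgroup.center P₀ := (key ⟨z, hz⟩).1 hzc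
    obtain ⟨v, hv⟩ := h.surj _ h1 _ h2
    obtain ⟨v', rfl⟩ := e.surjective v
    rw [← map_commutatorElement] at hv
    have h3 := e.injective hv
    refine ⟨v', v'.2, ?_⟩
    have h4 := congrArg Subtype.val h3
    rw [hcoe] at h4
    exact h4
  · intro hcard
    have hc1 : Nat.card ↥S = Nat.card P₀ := Nat.card_congr e.toEquiv
    have hc2 : Nat.card ↥(S ⊓ Subgroup.centralizer (S : Set Γ)) =
        Nat.card ↥(Subgroup.center P₀) := by
      refine Nat.card_congr
        { toFun := fun x => ⟨e ⟨x, x.2.1⟩, (key ⟨x, x.2.1⟩).1 x.2.2⟩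
          invFun := fun z => ⟨(e.symm z : Γ), ⟨(e.symm (z : P₀)).2, (key (e.symm z)).2 (by
            rw [MulEquiv.apply_symm_apply]
            exact z.2)⟩⟩
          left_inv := ?_
          right_inv := ?_ }
      · intro x
        apply Subtype.ext
        simp
      · intro z
        apply Subtype.ext
        simp
    rw [hc1, hc2] at hcard
    obtain ⟨h3, h2⟩ := h.small hcard
    refine ⟨h3, fun hp2 u hu hunc hu2 => ?_⟩
    have h1 : e ⟨u, hu⟩ ∉ Subgroup.center P₀ := fun hc => hunc ((key ⟨u, hu⟩).2 hc)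
    apply h2 hp2 _ h1
    rw [← map_pow]
    have : (⟨u, hu⟩ : ↥S) ^ 2 = 1 := Subtype.ext (by rw [Subgroup.coe_pow]; exact hu2)
    rw [this, map_one]

end Cfsg.Agent.Helper14.Sch
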