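import Mathlib
import Cfsg.Agent.Helper14.OrthoFam

/-!
# Singular vectors span hyperplanes `d^⊥`, and transitivity of Eichler transformations
(odd characteristic, finite field, dimension at least five)
-/

set_option autoImplicit false

namespace Cfsg.Agent.Helper14

open Module

section SingularSpan

variable {F V : Type*} [Field F] [AddCommGroup V] [Module F V]

theorem orthoFam_cons (Q : QuadraticForm F V) {k : ℕ} (v : Fin k → V)
    (hv0 : ∀ i, Q (v i) ≠ 0)
    (hv : ∀ i j, i ≠ j → QuadraticMap.polarBilin Q (v i) (v j) = 0)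
    (e : V) (he0 : Q e ≠ 0) (he : ∀ i, QuadraticMap.polarBilin Q (v i) e = 0) :
    (∀ i, Q ((Fin.cons e v : Fin (k + 1) → V) i) ≠ 0) ∧
    (∀ i j, i ≠ j → QuadraticMap.polarBilin Q ((Fin.cons e v : Fin (k + 1) → V) i)
      ((Fin.cons e v : Fin (k + 1) → V) j) = 0) := by
  constructor
  · intro i
    refine Fin.cases ?_ ?_ i
    · rw [Fin.cons_zero]
      exact he0
    · intro j
      rw [Fin.cons_succ]
      exact hv0 j
  · intro i
    refine Fin.cases ?_ ?_ i
    · intro j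
      refine Fin.cases ?_ ?_ j
      · intro h
        exact absurd rfl h
      · intro j' _
        rw [Fin.cons_zero, Fin.cons_succ, qr_polar_comm]
        exact he j'
    · intro i' j
      refine Fin.cases ?_ ?_ j
      · intro _
        rw [Fin.cons_zero, Fin.cons_succ]
        exact he i'
      · intro j' h
        rw [Fin.cons_succ, Fin.cons_succ]
        apply hv
        intro h'
        exact h (congrArg Fin.succ h')

/-- Every vector orthogonal to an orthogonal family of codimension at least three is a sum of two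
singular vectors orthogonal to the family. -/
theorem exists_singular_add_singular [Fintype F] [FiniteDimensional F V] (h2 : (2 : F) ≠ 0)
    (Q : QuadraticForm F V) (hQ : (QuadraticMap.polarBilin Q).Nondegenerate) {k : ℕ}
    (v : Fin k → V) (hv0 : ∀ i, Q (v i) ≠ 0)
    (hv : ∀ i j, i ≠ j → QuadraticMap.polarBilin Q (v i) (v j) = 0)
    (hk : k + 3 ≤ finrank F V) (x : V) (hx : ∀ i, QuadraticMap.polarBilin Q (v i) x = 0) :
    ∃ s₁ s₂, Q s₁ = 0 ∧ Q s₂ = 0 ∧ (∀ i, QuadraticMap.polarBilin Q (v i) s₁ = 0) ∧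
      (∀ i, QuadraticMap.polarBilin Q (v i) s₂ = 0) ∧ x = s₁ + s₂ := by
  by_cases hQx : Q x = 0
  · exact ⟨x, 0, hQx, map_zero _, hx, fun i => by simp, by simp⟩
  · obtain ⟨hv0', hv'⟩ := orthoFam_cons Q v hv0 hv x hQx hx
    obtain ⟨y, hy, hyv⟩ := exists_ortho_value h2 Q hQ (Fin.cons x v : Fin (k + 1) → V) hv0' hv'
      (by omega) (-(Q x))
    have hxy : QuadraticMap.polarBilin Q x y = 0 := by
      have := hyv 0
      rwa [Fin.cons_zero] at this
    have hvy : ∀ i, QuadraticMap.polarBilin Q (v i) y = 0 := by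
      intro i
      have := hyv i.succ
      rwa [Fin.cons_succ] at this
    have h4 : (2 : F)⁻¹ * 2 = 1 := inv_mul_cancel₀ h2
    refine ⟨(2 : F)⁻¹ • (x + y), (2 : F)⁻¹ • (x - y), ?_, ?_, ?_, ?_, ?_⟩
    · rw [QuadraticMap.map_smul, qr_quad_add, hy, hxy]
      simp
    · rw [QuadraticMap.map_smul, qr_quad_sub, hy, hxy]
      simp
    · intro i
      rw [map_smul, map_add, hx i, hvy i]
      simp
    · intro i
      rw [map_smul, map_sub, hx i, hvy i]
      simp
    · linear_combination (norm := module) (-h4) • x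

theorem exists_hyperbolic_partner (Q : QuadraticForm F V)
    (hQ : (QuadraticMap.polarBilin Q).Nondegenerate) (u : V) (hu : Q u = 0) (hu0 : u ≠ 0) :
    ∃ u', Q u' = 0 ∧ QuadraticMap.polarBilin Q u u' = 1 := by
  have hy : ∃ y, QuadraticMap.polarBilin Q u y ≠ 0 := by
    by_contra hcon
    push Not at hcon
    exact hu0 (hQ.1 u hcon)
  obtain ⟨y, hy⟩ := hy
  have huu : QuadraticMap.polarBilin Q u u = 0 := by rw [qr_polar_self, hu, mul_zero]
  obtain ⟨y₁, hy₁⟩ : ∃ y₁ : V, y₁ = (QuadraticMap.polarBilin Q u y)⁻¹ • y := ⟨_, rfl⟩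
  have huy₁ : QuadraticMap.polarBilin Q u y₁ = 1 := by
    rw [hy₁, map_smul, smul_eq_mul, inv_mul_cancel₀ hy]
  refine ⟨y₁ + (-(Q y₁)) • u, ?_, ?_⟩
  · rw [qr_quad_add_smul, hu, qr_polar_comm Q y₁ u, huy₁]
    ring
  · rw [map_add, map_smul, huy₁, huu]
    simp

/-- For singular `u ≠ 0` in dimension at least five, every vector of `u^⊥` is a multiple of `u`
plus two singular vectors of `u^⊥`. -/
theorem exists_singular_decomp [Fintype F] [FiniteDimensional F V] (h2 : (2 : F) ≠ 0)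
    (Q : QuadraticForm F V) (hQ : (QuadraticMap.polarBilin Q).Nondegenerate)
    (hn : 5 ≤ finrank F V) (u : V) (hu : Q u = 0) (hu0 : u ≠ 0) (x : V)
    (hx : QuadraticMap.polarBilin Q u x = 0) :
    ∃ (l : F) (s₁ s₂ : V), Q s₁ = 0 ∧ Q s₂ = 0 ∧ QuadraticMap.polarBilin Q u s₁ = 0 ∧
      QuadraticMap.polarBilin Q u s₂ = 0 ∧ x = l • u + s₁ + s₂ := by
  obtain ⟨u', hu', huu'⟩ := exists_hyperbolic_partner Q hQ u hu hu0
  have huu : QuadraticMap.polarBilin Q u u = 0 := by rw [qr_polar_self, hu, mul_zero]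
  have hu'u' : QuadraticMap.polarBilin Q u' u' = 0 := by rw [qr_polar_self, hu', mul_zero]
  have hu'u : QuadraticMap.polarBilin Q u' u = 1 := by rw [qr_polar_comm, huu']
  obtain ⟨e₁, he₁⟩ : ∃ e₁ : V, e₁ = u + u' := ⟨_, rfl⟩
  obtain ⟨e₂, he₂⟩ : ∃ e₂ : V, e₂ = u - u' := ⟨_, rfl⟩
  have hQe₁ : Q e₁ = 1 := by
    rw [he₁, qr_quad_add, hu, hu', huu']
    ring
  have hQe₂ : Q e₂ = -1 := by
    rw [he₂, qr_quad_sub, hu, hu', huu']
    ring
  have he₁e₂ : QuadraticMap.polarBilin Q e₁ e₂ = 0 := by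
    rw [he₁, he₂]
    simp only [map_add, map_sub, LinearMap.add_apply, huu, huu', hu'u, hu'u']
    ring
  have hv0 : ∀ i, Q ((![e₁, e₂] : Fin 2 → V) i) ≠ 0 := by
    intro i
    fin_cases i
    · change Q e₁ ≠ 0
      rw [hQe₁]
      exact one_ne_zero
    · change Q e₂ ≠ 0
      rw [hQe₂]
      exact neg_ne_zero.mpr one_ne_zero
  have hv : ∀ i j, i ≠ j → QuadraticMap.polarBilin Q ((![e₁, e₂] : Fin 2 → V) i)
      ((![e₁, e₂] : Fin 2 → V) j) = 0 := by
    intro i j hij
    fin_cases i <;> fin_cases j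
    · exact absurd rfl hij
    · exact he₁e₂
    · change QuadraticMap.polarBilin Q e₂ e₁ = 0
      rw [qr_polar_comm, he₁e₂]
    · exact absurd rfl hij
  obtain ⟨x₀, hx₀⟩ : ∃ x₀ : V, x₀ = x - (QuadraticMap.polarBilin Q u' x) • u := ⟨_, rfl⟩
  have hux₀ : QuadraticMap.polarBilin Q u x₀ = 0 := by
    rw [hx₀, map_sub, map_smul, hx, huu]
    simp
  have hu'x₀ : QuadraticMap.polarBilin Q u' x₀ = 0 := by
    rw [hx₀, map_sub, map_smul, hu'u]
    simp
  have hx₀v : ∀ i, QuadraticMap.polarBilin Q ((![e₁, e₂] : Fin 2 → V) i) x₀ = 0 := by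
    intro i
    fin_cases i
    · change QuadraticMap.polarBilin Q e₁ x₀ = 0
      rw [he₁, map_add, LinearMap.add_apply, hux₀, hu'x₀, add_zero]
    · change QuadraticMap.polarBilin Q e₂ x₀ = 0
      rw [he₂, map_sub, LinearMap.sub_apply, hux₀, hu'x₀, sub_zero]
  obtain ⟨s₁, s₂, hs₁, hs₂, hs₁v, hs₂v, hsum⟩ :=
    exists_singular_add_singular h2 Q hQ (![e₁, e₂] : Fin 2 → V) hv0 hv (by omega) x₀ hx₀v
  have hus : ∀ s : V, QuadraticMap.polarBilin Q e₁ s = 0 → QuadraticMap.polarBilin Q e₂ s = 0 →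
      QuadraticMap.polarBilin Q u s = 0 := by
    intro s h1 h2'
    rw [he₁, map_add, LinearMap.add_apply] at h1
    rw [he₂, map_sub, LinearMap.sub_apply] at h2'
    have e : (2 : F) * QuadraticMap.polarBilin Q u s = 0 := by linear_combination h1 + h2'
    exact (mul_eq_zero.mp e).resolve_left h2
  refine ⟨QuadraticMap.polarBilin Q u' x, s₁, s₂, hs₁, hs₂, hus s₁ (hs₁v 0) (hs₁v 1),
    hus s₂ (hs₂v 0) (hs₂v 1), ?_⟩
  rw [add_assoc, ← hsum, hx₀]
  abel

/-- If every vector orthogonal to `d` is orthogonal to `a`, then `a` is a multiple of `d`. -/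
theorem eq_smul_of_ortho_imp (Q : QuadraticForm F V)
    (hQ : (QuadraticMap.polarBilin Q).Nondegenerate) (a d : V)
    (h : ∀ x, QuadraticMap.polarBilin Q d x = 0 → QuadraticMap.polarBilin Q a x = 0) :
    ∃ μ : F, a = μ • d := by
  by_cases hd : ∀ x, QuadraticMap.polarBilin Q d x = 0
  · refine ⟨0, ?_⟩
    rw [zero_smul]
    exact hQ.1 a (fun x => h x (hd x))
  · push Not at hd
    obtain ⟨x₀, hx₀⟩ := hd
    refine ⟨QuadraticMap.polarBilin Q a x₀ * (QuadraticMap.polarBilin Q d x₀)⁻¹, ?_⟩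
    have h3 : a - (QuadraticMap.polarBilin Q a x₀ * (QuadraticMap.polarBilin Q d x₀)⁻¹) • d = 0 := by
      apply hQ.1
      intro x
      have h1 : QuadraticMap.polarBilin Q d
          (x - (QuadraticMap.polarBilin Q d x * (QuadraticMap.polarBilin Q d x₀)⁻¹) • x₀) = 0 := by
        rw [map_sub, map_smul, smul_eq_mul, mul_assoc, inv_mul_cancel₀ hx₀, mul_one, sub_self]
      have h4 := h _ h1
      rw [map_sub, map_smul, smul_eq_mul] at h4
      rw [map_sub, LinearMap.sub_apply, map_smul, LinearMap.smul_apply, smul_eq_mul]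
      linear_combination h4
    exact sub_eq_zero.mp h3

/-- For two distinct, non-opposite vectors `a, b` of the same non-zero norm, there is a singular
vector orthogonal to `b - a` but not to `a`. -/
theorem exists_singular_ortho_sub [Fintype F] [FiniteDimensional F V] (h2 : (2 : F) ≠ 0)
    (Q : QuadraticForm F V) (hQ : (QuadraticMap.polarBilin Q).Nondegenerate)
    (hn : 5 ≤ finrank F V) (a b : V) (ha : Q a ≠ 0) (hab : Q a = Q b) (hne : b ≠ a)
    (hneg : b ≠ -a) :
    ∃ u, Q u = 0 ∧ QuadraticMap.polarBilin Q u (b - a) = 0 ∧ QuadraticMap.polarBilin Q u a ≠ 0 := by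
  by_contra hcon
  push Not at hcon
  obtain ⟨d, hd⟩ : ∃ d : V, d = b - a := ⟨_, rfl⟩
  rw [← hd] at hcon
  have hd0 : d ≠ 0 := by
    rw [hd]
    exact sub_ne_zero.mpr hne
  have hsing : ∀ s, Q s = 0 → QuadraticMap.polarBilin Q d s = 0 →
      QuadraticMap.polarBilin Q a s = 0 := by
    intro s hs hds
    rw [qr_polar_comm Q a s]
    apply hcon s hs
    rw [qr_polar_comm, hds]
  have hall : ∀ x, QuadraticMap.polarBilin Q d x = 0 → QuadraticMap.polarBilin Q a x = 0 := by
    intro x hx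
    by_cases hQd : Q d = 0
    · obtain ⟨l, s₁, s₂, hs₁, hs₂, hds₁, hds₂, hsum⟩ :=
        exists_singular_decomp h2 Q hQ hn d hQd hd0 x hx
      have hdd : QuadraticMap.polarBilin Q d d = 0 := by rw [qr_polar_self, hQd, mul_zero]
      rw [hsum, map_add, map_add, map_smul, hsing d hQd hdd, hsing s₁ hs₁ hds₁, hsing s₂ hs₂ hds₂]
      simp
    · have hv0 : ∀ i, Q ((![d] : Fin 1 → V) i) ≠ 0 := by
        intro i
        fin_cases i
        exact hQd
      have hv : ∀ i j, i ≠ j → QuadraticMap.polarBilin Q ((![d] : Fin 1 → V) i)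
          ((![d] : Fin 1 → V) j) = 0 := by
        intro i j hij
        exact absurd (Subsingleton.elim i j) hij
      have hxv : ∀ i, QuadraticMap.polarBilin Q ((![d] : Fin 1 → V) i) x = 0 := by
        intro i
        fin_cases i
        exact hx
      obtain ⟨s₁, s₂, hs₁, hs₂, hs₁v, hs₂v, hsum⟩ :=
        exists_singular_add_singular h2 Q hQ (![d] : Fin 1 → V) hv0 hv (by omega) x hxv
      rw [hsum, map_add, hsing s₁ hs₁ (hs₁v 0), hsing s₂ hs₂ (hs₂v 0), add_zero]
  obtain ⟨μ, hμ⟩ := eq_smul_of_ortho_imp Q hQ a d hall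
  have hQa : Q a = μ * μ * Q d := by
    rw [hμ, QuadraticMap.map_smul, smul_eq_mul]
  have hb : b = (μ + 1) • d := by
    rw [add_smul, one_smul, ← hμ, hd]
    abel
  have hQb : Q b = (μ + 1) * (μ + 1) * Q d := by
    rw [hb, QuadraticMap.map_smul, smul_eq_mul]
  have h5 : (2 * μ + 1) * Q d = 0 := by
    rw [hQa, hQb] at hab
    linear_combination -hab
  rcases mul_eq_zero.mp h5 with h6 | h6
  · apply hneg
    rw [hb, hμ, ← neg_smul]
    congr 1
    linear_combination h6
  · apply ha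
    rw [hQa, h6, mul_zero]

/-- The Eichler transformation mapping `a` to `b`. -/
theorem eichler_map_eq (Q : QuadraticForm F V) (u a b : V)
    (hab : Q a = Q b) (hφ : QuadraticMap.polarBilin Q u a ≠ 0) :
    eichler Q u ((-(QuadraticMap.polarBilin Q u a)⁻¹) • (b - a)) a = b := by
  obtain ⟨d, hd⟩ : ∃ d : V, d = b - a := ⟨_, rfl⟩
  rw [← hd]
  have hb : b = d + a := by rw [hd]; abel
  have h1 : Q d + QuadraticMap.polarBilin Q d a = 0 := by
    have := qr_quad_add Q d a
    rw [← hb, ← hab] at this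
    linear_combination -this
  obtain ⟨φ, hφdef⟩ : ∃ φ : F, φ = QuadraticMap.polarBilin Q u a := ⟨_, rfl⟩
  rw [← hφdef] at hφ ⊢
  have h3 : φ⁻¹ * φ = 1 := inv_mul_cancel₀ hφ
  rw [eichler_apply, QuadraticMap.map_smul, map_smul, LinearMap.smul_apply, ← hφdef, hb]
  simp only [smul_eq_mul]
  have e1 : (φ * -φ⁻¹ : F) = -1 := by linear_combination -h3
  have e2 : (-φ⁻¹ * QuadraticMap.polarBilin Q d a - (-φ⁻¹ * -φ⁻¹ * Q d * φ) : F) = 0 := by
    linear_combination (-φ⁻¹) * h1 - (φ⁻¹ * Q d) * h3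
  have e3 : a + (-φ⁻¹ * QuadraticMap.polarBilin Q d a) • u - φ • ((-φ⁻¹) • d)
      - (-φ⁻¹ * -φ⁻¹ * Q d * φ) • u
      = a + (-φ⁻¹ * QuadraticMap.polarBilin Q d a - (-φ⁻¹ * -φ⁻¹ * Q d * φ)) • u
        - (φ * -φ⁻¹) • d := by
    module
  rw [e3, e1, e2]
  module

theorem eichler_zero_left (Q : QuadraticForm F V) (z x : V) : eichler Q 0 z x = x := by
  rw [eichler_apply]
  simp

theorem eichler_add_smul_self (Q : QuadraticForm F V) (u z : V) (l : F) (hu : Q u = 0)
    (huz : QuadraticMap.polarBilin Q u z = 0) (x : V) :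
    eichler Q u (l • u + z) x = eichler Q u z x := by
  have huu : QuadraticMap.polarBilin Q u u = 0 := by rw [qr_polar_self, hu, mul_zero]
  rw [eichler_apply, eichler_apply, add_comm (l • u) z, qr_quad_add_smul, hu,
    qr_polar_comm Q z u, huz]
  simp only [map_add, map_smul, LinearMap.add_apply, LinearMap.smul_apply, smul_eq_mul]
  module

end SingularSpan

end Cfsg.Agent.Helper14
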