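import Mathlib
import Cfsg.Prelude.Def_ClassicalGeometry
import Cfsg.Agent.Helper14.SingularSpan
import Cfsg.Agent.Helper14.ReflConj
import Cfsg.Agent.S0794

/-!
# `Ω` is generated by Siegel transformations (odd characteristic, dimension at least five)
-/

set_option autoImplicit false

namespace Cfsg.Agent.Helper14

open Module Matrix
open scoped commutatorElement

section SiegelGen

variable {F : Type*} [Field F] {n : ℕ}

/-- The Siegel elements of the isometry group. -/
def siegelSet (Q : QuadraticForm F (Fin n → F)) : Set ↥(Cfsg.isometryGroup F ⇑Q) :=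
  {g : ↥(Cfsg.isometryGroup F ⇑Q) | ∃ (u v : Fin n → F) (c : F), Q u = 0 ∧ Q v = 0 ∧
    QuadraticMap.polar ⇑Q u v = 0 ∧
    ((g : Matrix.GeneralLinearGroup (Fin n) F) : Matrix (Fin n) (Fin n) F)
      = Cfsg.siegelMatrix ⇑Q u v c}

/-- A Siegel transformation as an element of the isometry group. -/
noncomputable def siegelIso (Q : QuadraticForm F (Fin n → F)) (u v : Fin n → F) (hu : Q u = 0)
    (hv : Q v = 0) (huv : QuadraticMap.polar ⇑Q u v = 0) (c : F) :
    ↥(Cfsg.isometryGroup F ⇑Q) :=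
  ⟨Cfsg.Agent.S0794.siegelGL Q u v hu hv huv c, Cfsg.Agent.S0794.siegelGL_mem Q u v hu hv huv c⟩

theorem siegelIso_mem (Q : QuadraticForm F (Fin n → F)) (u v : Fin n → F) (hu : Q u = 0)
    (hv : Q v = 0) (huv : QuadraticMap.polar ⇑Q u v = 0) (c : F) :
    siegelIso Q u v hu hv huv c ∈ siegelSet Q :=
  ⟨u, v, c, hu, hv, huv, rfl⟩

theorem isoLin_siegelIso (Q : QuadraticForm F (Fin n → F)) (u s : Fin n → F) (hu : Q u = 0)
    (hs : Q s = 0) (hus : QuadraticMap.polar ⇑Q u s = 0) :
    isoLin Q (siegelIso Q u s hu hs hus (-1)) = eichler Q u s := by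
  apply LinearMap.ext
  intro x
  rw [isoLin_apply]
  change Cfsg.siegelMatrix ⇑Q u s (-1) *ᵥ x = _
  rw [Cfsg.Agent.S0793.siegel_mulVec, eichler_apply, hs, QuadraticMap.polarBilin_apply_apply,
    QuadraticMap.polarBilin_apply_apply]
  module

theorem isoLin_inv_apply (Q : QuadraticForm F (Fin n → F)) (g : ↥(Cfsg.isometryGroup F ⇑Q))
    (x : Fin n → F) : isoLin Q g (isoLin Q g⁻¹ x) = x := by
  rw [← Module.End.mul_apply, ← isoLin_mul, mul_inv_cancel, isoLin_one]
  rfl

theorem siegelSet_conj (Q : QuadraticForm F (Fin n → F)) (g s : ↥(Cfsg.isometryGroup F ⇑Q))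
    (hs : s ∈ siegelSet Q) : g * s * g⁻¹ ∈ siegelSet Q := by
  obtain ⟨u, v, c, hu, hv, huv, hsm⟩ := hs
  refine ⟨isoLin Q g u, isoLin Q g v, c, by rw [isoLin_isometry, hu], by rw [isoLin_isometry, hv],
    ?_, ?_⟩
  · have := qr_polar_isometry Q (isoLin Q g) (isoLin_isometry Q g) u v
    rw [QuadraticMap.polarBilin_apply_apply, QuadraticMap.polarBilin_apply_apply] at this
    rw [this, huv]
  · apply Cfsg.Agent.S0794.matrix_ext_mulVec
    intro x
    have e1 : ((g * s * g⁻¹ : ↥(Cfsg.isometryGroup F ⇑Q)) : Matrix.GeneralLinearGroup (Fin n) F).val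
        *ᵥ x = isoLin Q g (isoLin Q s (isoLin Q g⁻¹ x)) := by
      rw [← isoLin_apply, isoLin_mul, isoLin_mul, Module.End.mul_apply, Module.End.mul_apply]
    rw [e1]
    have e2 : isoLin Q s (isoLin Q g⁻¹ x) = Cfsg.siegelMatrix ⇑Q u v c *ᵥ (isoLin Q g⁻¹ x) := by
      rw [isoLin_apply, hsm]
    rw [e2, Cfsg.Agent.S0793.siegel_mulVec, Cfsg.Agent.S0793.siegel_mulVec, map_add, map_add,
      map_smul, map_smul, isoLin_inv_apply]
    have p : ∀ w : Fin n → F, QuadraticMap.polar ⇑Q w (isoLin Q g⁻¹ x)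
        = QuadraticMap.polar ⇑Q (isoLin Q g w) x := by
      intro w
      have := qr_polar_isometry Q (isoLin Q g) (isoLin_isometry Q g) w (isoLin Q g⁻¹ x)
      rw [QuadraticMap.polarBilin_apply_apply, QuadraticMap.polarBilin_apply_apply,
        isoLin_inv_apply] at this
      exact this.symm
    rw [p u, p v]

theorem closure_siegelSet_normal (Q : QuadraticForm F (Fin n → F)) :
    (Subgroup.closure (siegelSet Q)).Normal := by
  constructor
  intro x hx g
  induction hx using Subgroup.closure_induction with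
  | mem x hx => exact Subgroup.subset_closure (siegelSet_conj Q g x hx)
  | one => simp
  | mul a b _ _ iha ihb =>
    have e : g * (a * b) * g⁻¹ = (g * a * g⁻¹) * (g * b * g⁻¹) := by group
    rw [e]
    exact Subgroup.mul_mem _ iha ihb
  | inv a _ iha =>
    have e : g * a⁻¹ * g⁻¹ = (g * a * g⁻¹)⁻¹ := by group
    rw [e]
    exact Subgroup.inv_mem _ iha

/-- Every Eichler transformation lies in the group generated by Siegel transformations. -/
theorem exists_eichler_mem [Fintype F] (h2 : (2 : F) ≠ 0) (hn : 5 ≤ n)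
    (Q : QuadraticForm F (Fin n → F)) (hQ : (QuadraticMap.polarBilin Q).Nondegenerate)
    (u w : Fin n → F) (hu : Q u = 0) (huw : QuadraticMap.polarBilin Q u w = 0) :
    ∃ h ∈ Subgroup.closure (siegelSet Q), isoLin Q h = eichler Q u w := by
  by_cases hu0 : u = 0
  · refine ⟨1, Subgroup.one_mem _, ?_⟩
    rw [isoLin_one, hu0]
    apply LinearMap.ext
    intro x
    rw [eichler_zero_left]
    rfl
  · obtain ⟨l, s₁, s₂, hs₁, hs₂, hus₁, hus₂, hsum⟩ :=
      exists_singular_decomp h2 Q hQ (by rw [Module.finrank_fin_fun]; exact hn) u hu hu0 w huw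
    have hus₁' : QuadraticMap.polar ⇑Q u s₁ = 0 := by
      rw [← QuadraticMap.polarBilin_apply_apply]
      exact hus₁
    have hus₂' : QuadraticMap.polar ⇑Q u s₂ = 0 := by
      rw [← QuadraticMap.polarBilin_apply_apply]
      exact hus₂
    refine ⟨siegelIso Q u s₁ hu hs₁ hus₁' (-1) * siegelIso Q u s₂ hu hs₂ hus₂' (-1),
      Subgroup.mul_mem _ (Subgroup.subset_closure (siegelIso_mem Q u s₁ hu hs₁ hus₁' (-1)))
        (Subgroup.subset_closure (siegelIso_mem Q u s₂ hu hs₂ hus₂' (-1))), ?_⟩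
    rw [isoLin_mul, isoLin_siegelIso, isoLin_siegelIso]
    apply LinearMap.ext
    intro x
    rw [Module.End.mul_apply, eichler_eichler Q u s₁ s₂ hu hus₁ hus₂, hsum, add_assoc,
      eichler_add_smul_self Q u (s₁ + s₂) l hu (by rw [map_add, hus₁, hus₂, add_zero])]

/-- Two reflections in vectors of the same norm have product in the group generated by Siegel
transformations. -/
theorem refl_mul_refl_mem_siegel [Fintype F] (h2 : (2 : F) ≠ 0) (hn : 5 ≤ n)
    (Q : QuadraticForm F (Fin n → F)) (hQ : (QuadraticMap.polarBilin Q).Nondegenerate)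
    (a b : {w : Fin n → F // Q w ≠ 0}) (hab : Q a.1 = Q b.1) :
    reflIso Q a * reflIso Q b ∈ Subgroup.closure (siegelSet Q) := by
  have hnormal := closure_siegelSet_normal Q
  by_cases hne : b.1 = a.1
  · have e : b = a := Subtype.ext hne
    rw [e, reflIso_mul_self]
    exact Subgroup.one_mem _
  by_cases hneg : b.1 = -a.1
  · have hsa : Q ((-1 : F) • a.1) ≠ 0 := by
      rw [neg_one_smul, ← hneg]
      exact b.2
    have e : b = ⟨(-1 : F) • a.1, hsa⟩ := by
      apply Subtype.ext
      change b.1 = (-1 : F) • a.1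
      rw [hneg, neg_one_smul]
    rw [e, reflIso_smul Q (-1) (neg_ne_zero.mpr one_ne_zero) a hsa, reflIso_mul_self]
    exact Subgroup.one_mem _
  obtain ⟨u, hu, hud, hua⟩ := exists_singular_ortho_sub h2 Q hQ
    (by rw [Module.finrank_fin_fun]; exact hn) a.1 b.1 a.2 hab hne hneg
  obtain ⟨h, hh, hlin⟩ := exists_eichler_mem h2 hn Q hQ u
    ((-(QuadraticMap.polarBilin Q u a.1)⁻¹) • (b.1 - a.1)) hu (by rw [map_smul, hud, smul_zero])
  have hmap : isoLin Q h a.1 = b.1 := by
    rw [hlin]
    exact eichler_map_eq Q u a.1 b.1 hab hua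
  have hconj : h * reflIso Q a = reflIso Q b * h := by
    rw [mul_reflIso]
    congr 2
    exact Subtype.ext hmap
  have e : reflIso Q a * reflIso Q b = (reflIso Q a * h * (reflIso Q a)⁻¹) * h⁻¹ := by
    have hb : reflIso Q b = h * reflIso Q a * h⁻¹ := by
      rw [hconj]
      group
    rw [hb, reflIso_inv]
    group
  rw [e]
  exact Subgroup.mul_mem _ (hnormal.conj_mem h hh (reflIso Q a)) (Subgroup.inv_mem _ hh)

/-- A normal subgroup containing the squares of all products of two reflections contains the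
commutator subgroup (odd characteristic). -/
theorem commutator_le_of_refl_sq_mem (h2 : (2 : F) ≠ 0) (Q : QuadraticForm F (Fin n → F))
    (hQ : (QuadraticMap.polarBilin Q).Nondegenerate)
    (T : Subgroup ↥(Cfsg.isometryGroup F ⇑Q)) [T.Normal]
    (hsq : ∀ u v : {w : Fin n → F // Q w ≠ 0},
      (reflIso Q u * reflIso Q v) * (reflIso Q u * reflIso Q v) ∈ T) :
    commutator ↥(Cfsg.isometryGroup F ⇑Q) ≤ T := by
  have hcomm : ∀ u v : {w : Fin n → F // Q w ≠ 0},
      Commute (QuotientGroup.mk (s := T) (reflIso Q u))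
        (QuotientGroup.mk (s := T) (reflIso Q v)) := by
    intro u v
    have h2' := (QuotientGroup.eq_one_iff _).mpr (hsq u v)
    rw [QuotientGroup.mk_mul, QuotientGroup.mk_mul] at h2'
    have h3 : ∀ w : {w : Fin n → F // Q w ≠ 0},
        (QuotientGroup.mk (s := T) (reflIso Q w)) * (QuotientGroup.mk (s := T) (reflIso Q w)) = 1 := by
      intro w
      rw [← QuotientGroup.mk_mul, reflIso_mul_self]
      rfl
    unfold Commute SemiconjBy
    obtain ⟨a, ha⟩ : ∃ a, a = (QuotientGroup.mk (s := T) (reflIso Q u)) := ⟨_, rfl⟩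
    obtain ⟨b, hb⟩ : ∃ b, b = (QuotientGroup.mk (s := T) (reflIso Q v)) := ⟨_, rfl⟩
    rw [← ha, ← hb] at h2' ⊢
    have ha2 : a * a = 1 := by rw [ha]; exact h3 u
    have hb2 : b * b = 1 := by rw [hb]; exact h3 v
    have hai : a⁻¹ = a := inv_eq_of_mul_eq_one_right ha2
    have hbi : b⁻¹ = b := inv_eq_of_mul_eq_one_right hb2
    have hab : a * b = (a * b)⁻¹ := eq_inv_of_mul_eq_one_left h2'
    rw [hab, _root_.mul_inv_rev, hai, hbi]
  rw [commutator_def, Subgroup.commutator_le]
  intro x _ y _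
  obtain ⟨lx, rfl⟩ := exists_reflIso_list h2 Q hQ x
  obtain ⟨ly, rfl⟩ := exists_reflIso_list h2 Q hQ y
  have e : ∀ a b : ↥(Cfsg.isometryGroup F (⇑Q)),
      (QuotientGroup.mk (s := T) ⁅a, b⁆)
        = ⁅QuotientGroup.mk (s := T) a, QuotientGroup.mk (s := T) b⁆ :=
    fun a b => map_commutatorElement (QuotientGroup.mk' T) a b
  rw [← QuotientGroup.eq_one_iff, e, commutatorElement_eq_one_iff_commute]
  have hmk : ∀ l : List {w : Fin n → F // Q w ≠ 0},
      (QuotientGroup.mk (s := T) ((l.map (reflIso Q)).prod))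
        = (l.map (fun w => QuotientGroup.mk (s := T) (reflIso Q w))).prod := by
    intro l
    induction l with
    | nil => rfl
    | cons a l ih =>
      rw [List.map_cons, List.prod_cons, QuotientGroup.mk_mul, ih, List.map_cons, List.prod_cons]
  rw [hmk lx, hmk ly]
  apply Commute.list_prod_left
  intro a ha
  rw [List.mem_map] at ha
  obtain ⟨u, _, rfl⟩ := ha
  apply Commute.list_prod_right
  intro b hb
  rw [List.mem_map] at hb
  obtain ⟨v, _, rfl⟩ := hb
  exact hcomm u v

/-- **`Ω` is generated by Siegel transformations.** -/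
theorem omega_eq_closure_siegelSet [Fintype F] (h2 : (2 : F) ≠ 0) (hn : 5 ≤ n)
    (Q : QuadraticForm F (Fin n → F)) (hQ : (QuadraticMap.polarBilin Q).Nondegenerate) :
    Cfsg.Omega F ⇑Q = Subgroup.closure (siegelSet Q) := by
  apply le_antisymm
  · have := closure_siegelSet_normal Q
    apply commutator_le_of_refl_sq_mem h2 Q hQ
    intro u v
    have hconj := mul_reflIso Q (reflIso Q v) u
    have e : (reflIso Q u * reflIso Q v) * (reflIso Q u * reflIso Q v)
        = reflIso Q u * reflIso Q ⟨isoLin Q (reflIso Q v) u.1, by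
            rw [isoLin_isometry]; exact u.2⟩ := by
      rw [mul_assoc, ← mul_assoc (reflIso Q v), hconj, mul_assoc, reflIso_mul_self, mul_one]
    rw [e]
    apply refl_mul_refl_mem_siegel h2 hn Q hQ
    change Q u.1 = Q (isoLin Q (reflIso Q v) u.1)
    rw [isoLin_isometry]
  · rw [Subgroup.closure_le]
    intro g hg
    obtain ⟨u, v, c, hu, hv, huv, hgm⟩ := hg
    exact (Cfsg.Agent.S0794.result h2 hn Q hQ u v hu hv huv c g hgm).2

end SiegelGen

end Cfsg.Agent.Helper14
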