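import Mathlib
import Cfsg.Agent.Helper14.SpF5
import Cfsg.Agent.Helper14.SplitAbs

/-!
Helper14: field automorphisms of prime order of `PSp_{2m}(q)`: centraliser in the inner-diagonal
group and class splitting.
-/

set_option autoImplicit false
set_option linter.unusedSectionVars false

namespace Cfsg.Agent.Helper14.AutPSp

open Matrix Cfsg.Agent.Helper13 Cfsg.Agent.Helper94.SpRoot Cfsg.Agent.Helper14.AutPSL
  Cfsg.Agent.Helper5.AutSp Cfsg.Agent.Helper14.SplitAbs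

theorem gcd_two_arith {p f r : ℕ} (hp : p.Prime) (hr : r ∣ f) (hf : 1 ≤ f) :
    Nat.gcd 2 ((p ^ f - 1) / (p ^ (f / r) - 1)) = Nat.gcd (Nat.gcd 2 (p ^ f - 1)) r := by
  obtain ⟨k, rfl⟩ := hr
  have hr1 : 1 ≤ r := by
    rcases Nat.eq_zero_or_pos r with h | h
    · subst h; omega
    · exact h
  have hk1 : 1 ≤ k := by
    rcases Nat.eq_zero_or_pos k with h | h
    · subst h; omega
    · exact h
  rw [Nat.mul_div_cancel_left k hr1]
  have hq₀ : 2 ≤ p ^ k := by
    calc 2 ≤ p := hp.two_le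
      _ = p ^ 1 := (pow_one p).symm
      _ ≤ p ^ k := Nat.pow_le_pow_right hp.pos hk1
  have hpow : p ^ (r * k) = (p ^ k) ^ r := by rw [mul_comm, pow_mul]
  rw [hpow, ← Nat.geomSum_eq hq₀ r]
  rcases hp.eq_two_or_odd' with h2 | hodd
  · subst h2
    have hS : (∑ j ∈ Finset.range r, ((2 : ℕ) ^ k) ^ j) % 2 = 1 := by
      obtain ⟨r', rfl⟩ : ∃ r', r = r' + 1 := ⟨r - 1, by omega⟩
      rw [Finset.sum_range_succ', pow_zero, Nat.add_mod, Finset.sum_nat_mod]
      have : ∀ j ∈ Finset.range r', ((2 : ℕ) ^ k) ^ (j + 1) % 2 = 0 := by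
        intro j _
        obtain ⟨k', rfl⟩ : ∃ k', k = k' + 1 := ⟨k - 1, by omega⟩
        rw [pow_succ ((2:ℕ) ^ (k' + 1)), pow_succ 2 k', ← mul_assoc]
        exact Nat.mul_mod_left _ _
      rw [Finset.sum_eq_zero this]
      rfl
    have h1 : Nat.gcd 2 (∑ j ∈ Finset.range r, ((2 : ℕ) ^ k) ^ j) = 1 := by
      rw [Nat.gcd_rec, hS]
      rfl
    have h3 : ((2 ^ k) ^ r - 1) % 2 = 1 := by
      have : 2 ∣ ((2 : ℕ) ^ k) ^ r := by
        rw [← pow_mul]
        exact dvd_pow_self 2 (by positivity)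
      have h4 : 1 ≤ ((2 : ℕ) ^ k) ^ r := Nat.one_le_pow _ _ (by positivity)
      omega
    have h2 : Nat.gcd 2 ((2 ^ k) ^ r - 1) = 1 := by
      rw [Nat.gcd_rec, h3]
      rfl
    rw [h1, h2, Nat.gcd_one_left]
  · have hq₀odd : ∀ j, ((p ^ k) ^ j) % 2 = 1 := by
      intro j
      exact Nat.odd_iff.mp ((hodd.pow).pow)
    have hS : (∑ j ∈ Finset.range r, (p ^ k) ^ j) % 2 = r % 2 := by
      rw [Finset.sum_nat_mod]
      simp only [hq₀odd, Finset.sum_const, Finset.card_range, smul_eq_mul, mul_one]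
    have h3 : ((p ^ k) ^ r - 1) % 2 = 0 := by
      have := hq₀odd r
      omega
    have h2 : Nat.gcd 2 ((p ^ k) ^ r - 1) = 2 := by
      rw [Nat.gcd_rec, h3]
      rfl
    rw [h2, Nat.gcd_rec 2 (∑ j ∈ Finset.range r, (p ^ k) ^ j), hS, ← Nat.gcd_rec]

variable {F : Type*} [Field F] {m : ℕ}

/-- field automorphisms of prime order -/
theorem sp_field_aut_main [Fintype F] {p f : ℕ} [hp : Fact p.Prime]
    (hF : Fintype.card F = p ^ f) (hf : 1 ≤ f) (hm : 2 ≤ m)
    (x α : MulAut (Cfsg.PSp m F)) (σ : F ≃+* F)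
    (hx₀ : α * x * α⁻¹ = spField σ) {r : ℕ} (hxr : orderOf x = r)
    (F₀ : Type*) [Field F₀] [Fintype F₀] (hF₀ : Fintype.card F₀ = p ^ (f / r)) :
    r ∣ f ∧ Nonempty (↥(Cfsg.inndiagPSp m F ⊓ Subgroup.centralizer {x}) ≃* Cfsg.PGSp m F₀) ∧
    Cfsg.splitClassCount (Cfsg.inndiagPSp m F) (Cfsg.Inn (Cfsg.PSp m F)) x =
      Nat.gcd (Nat.gcd 2 (p ^ f - 1)) r := by
  classical
  have hft : Fintype (fixF σ) := Fintype.ofFinite _
  have hord : orderOf σ = r := by
    rw [← orderOf_spField (m := m) hm σ, ← hx₀, ← hxr]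
    exact orderOf_injective (MulAut.conj α).toMonoidHom (MulAut.conj α).injective x
  obtain ⟨hdvd, hcard⟩ := card_fixF σ hF
  rw [hord] at hdvd hcard
  have hHn : (Cfsg.inndiagPSp m F).Normal := inndiagPSp_normal hm
  have hKn : (Cfsg.Inn (Cfsg.PSp m F)).Normal := Inn_normal _
  obtain ⟨e⟩ : Nonempty (F₀ ≃+* fixF σ) := ⟨FiniteField.ringEquivOfCardEq (by rw [hcard, hF₀])⟩
  obtain ⟨i, hidef⟩ : ∃ i : F₀ →+* F, i = (fixF σ).subtype.comp (e : F₀ →+* fixF σ) := ⟨_, rfl⟩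
  have hi : ∀ a : F, σ a = a ↔ a ∈ i.range := by
    intro a
    rw [← mem_fixF, hidef]
    constructor
    · intro ha
      exact ⟨e.symm ⟨a, ha⟩, by simp⟩
    · rintro ⟨b, rfl⟩
      exact (e b).2
  refine ⟨hdvd, ?_, ?_⟩
  · have e1 := centralizerConjEquiv (Cfsg.inndiagPSp m F) α x
    rw [hx₀] at e1
    exact ⟨e1.trans (centralizerSpFieldEquiv i σ hi hm)⟩
  · have hm1 : 1 ≤ m := by omega
    rw [← splitClassCount_conj _ _ α x, hx₀, inndiagPSp_eq_range, ← map_gspN_gspHom hm1,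
      splitClassCount_abs (gspHom m F) (gspN hm1) (gspIncl i).range (ker_gspHom_le hm) _
        (map_range_gspIncl i σ hi hm),
      index_sup_map (gspMult hm1) (gspMult_surjective hm1) _ _ (ker_gspMult_le hm1), map_gspN,
      map_range_gspMult, index_pow_sup, Nat.card_units, Nat.card_eq_fintype_card, hF]
    have hinj : Function.Injective (Units.map (i : F₀ →* F)) := by
      apply Units.map_injective
      exact i.injective
    have h1 : Nat.card ((Units.map (i : F₀ →* F)).range) = Nat.card F₀ˣ :=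
      Nat.card_congr (MonoidHom.ofInjective hinj).symm.toEquiv
    rw [h1, Nat.card_units, Nat.card_eq_fintype_card, hF₀]
    exact gcd_two_arith hp.out hdvd hf

end Cfsg.Agent.Helper14.AutPSp
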