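import Mathlib
import Cfsg.Prelude.Def_Classical
import Cfsg.Agent.S0246
import Cfsg.Agent.Helper14.Spec4Grp
import Cfsg.Agent.Helper68.Spec4SABS
import Cfsg.Agent.Helper10.Spec4PEX
import Cfsg.Agent.Helper38.Spec4PC
import Cfsg.Agent.Helper38.Spec4PD
import Cfsg.Agent.Helper49.Spec4GPOW
import Cfsg.Agent.Helper49.Spec4GNF
import Cfsg.Agent.Helper11.Spec4GC
import Cfsg.Agent.Helper11.Spec4GFIX
import Cfsg.Agent.Helper93.Spec4GEX

/-!
# S3439: assembly
-/

set_option autoImplicit false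

namespace Cfsg.Agent.Helper14.Spec4

open SemidirectProduct

/-- the common spectrum -/
def spec : Set ℕ := {1, 2, 3, 4, 5, 6, 9, 12}

theorem exists_orderOf_of_dvd {H : Type*} [Group H] {g : H} {n d : ℕ} (hn : 0 < n)
    (h : orderOf g = n) (hd : d ∣ n) : ∃ g' : H, orderOf g' = d := by
  obtain ⟨e, rfl⟩ := hd
  have hd0 : 0 < d := Nat.pos_of_ne_zero (by rintro rfl; simp at hn)
  have he0 : 0 < e := Nat.pos_of_ne_zero (by rintro rfl; simp at hn)
  refine ⟨g ^ e, ?_⟩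
  rw [orderOf_pow_of_dvd he0.ne' (by rw [h]; exact Dvd.intro_left d rfl), h,
    Nat.mul_div_cancel _ he0]

/-- a group whose element orders lie in `spec` and which has elements of orders 5, 9, 12 has
spectrum `spec` -/
theorem range_orderOf_eq_spec {H : Type*} [Group H] (h1 : ∀ g : H, orderOf g ∈ spec)
    (h5 : ∃ g : H, orderOf g = 5) (h9 : ∃ g : H, orderOf g = 9) (h12 : ∃ g : H, orderOf g = 12) :
    Set.range (orderOf : H → ℕ) = spec := by
  apply Set.Subset.antisymm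
  · rintro _ ⟨g, rfl⟩
    exact h1 g
  · intro k hk
    obtain ⟨g5, hg5⟩ := h5
    obtain ⟨g9, hg9⟩ := h9
    obtain ⟨g12, hg12⟩ := h12
    simp only [spec, Set.mem_insert_iff, Set.mem_singleton_iff] at hk
    rcases hk with rfl | rfl | rfl | rfl | rfl | rfl | rfl | rfl
    · exact ⟨1, orderOf_one⟩
    · exact exists_orderOf_of_dvd (by norm_num) hg12 (by norm_num)
    · exact exists_orderOf_of_dvd (by norm_num) hg12 (by norm_num)
    · exact exists_orderOf_of_dvd (by norm_num) hg12 (by norm_num)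
    · exact ⟨g5, hg5⟩
    · exact exists_orderOf_of_dvd (by norm_num) hg12 (by norm_num)
    · exact ⟨g9, hg9⟩
    · exact ⟨g12, hg12⟩

theorem mem_spec_of_dvd {k n : ℕ} (hn : n = 4 ∨ n = 5 ∨ n = 6 ∨ n = 9 ∨ n = 12) (hk : k ∣ n) :
    k ∈ spec := by
  have hpos : 0 < n := by omega
  have hle : k ≤ n := Nat.le_of_dvd hpos hk
  simp only [spec, Set.mem_insert_iff, Set.mem_singleton_iff]
  rcases hn with rfl | rfl | rfl | rfl | rfl <;> interval_cases k <;> simp_all

/-! ### The symplectic side -/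

theorem psp_orderOf_mem {F : Type*} [Field F] [Fintype F] (hF : Fintype.card F = 3)
    (g : Cfsg.PSp 2 F) : orderOf g ∈ spec := by
  obtain ⟨M, rfl⟩ := QuotientGroup.mk_surjective g
  obtain ⟨a, b, hp⟩ := Cfsg.Agent.Helper38.Spec4.charpoly_symplectic M.1 M.2
  obtain ⟨n, hn, hpow⟩ := Cfsg.Agent.Helper38.Spec4.pow_eq_of_charpoly hF M.1 a b hp
  apply mem_spec_of_dvd hn
  apply orderOf_dvd_of_pow_eq_one
  rw [← QuotientGroup.mk_pow, QuotientGroup.eq_one_iff]
  rcases hpow with h | h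
  · have : M ^ n = 1 := by
      apply Subtype.ext
      rw [SubmonoidClass.coe_pow]
      exact h
    rw [this]
    exact Subgroup.one_mem _
  · have : M ^ n = Cfsg.Agent.S0246.negOne 2 F := by
      apply Subtype.ext
      rw [SubmonoidClass.coe_pow]
      exact h
    rw [this]
    exact Cfsg.Agent.S0246.negOne_mem_center

theorem range_orderOf_psp {F : Type*} [Field F] [Fintype F] (hF : Fintype.card F = 3) :
    Set.range (orderOf : Cfsg.PSp 2 F → ℕ) = spec := by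
  obtain ⟨h5, h9, h12⟩ := Cfsg.Agent.Helper10.Spec4.exists_orderOf_psp hF
  exact range_orderOf_eq_spec (psp_orderOf_mem hF) h5 h9 h12

/-! ### The solvable side -/

/-- the normal subgroup `A` of `G` -/
noncomputable def AG : Subgroup G := (inl : A →* G).range

instance : AG.Normal := by
  have : AG = (rightHom : G →* F20).ker := range_inl_eq_ker_rightHom
  rw [this]
  exact MonoidHom.normal_ker _

instance instIsSolvableF20 : Group.IsSolvable F20 := Cfsg.Agent.Helper49.Spec4.isSolvable_F20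

instance instIsSolvableG : Group.IsSolvable G :=
  Group.isSolvable_of_ker_le_range (inl : A →* G) rightHom
    (le_of_eq range_inl_eq_ker_rightHom.symm)

instance instFiniteG : Finite G := Finite.of_equiv _ SemidirectProduct.equivProd.symm

instance : Finite AG := inferInstance

theorem hG_pow (n : ℕ) : hG ^ n = inr ⟨eta ^ n, Subgroup.pow_mem _ eta_mem n⟩ := by
  rw [hG, ← map_pow]
  rfl

theorem cG_pow (n : ℕ) : cG ^ n = inr ⟨phi ^ n, Subgroup.pow_mem _ phi_mem n⟩ := by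
  rw [cG, ← map_pow]
  rfl

theorem G_gen (g : G) : ∃ a ∈ AG, ∃ i j : ℕ, g = a * hG ^ i * cG ^ j := by
  obtain ⟨i, j, hij⟩ := Cfsg.Agent.Helper49.Spec4.mem_F20 g.right.1 g.right.2
  refine ⟨inl g.left, ⟨g.left, rfl⟩, i, j, ?_⟩
  rw [hG_pow, cG_pow, mul_assoc, ← map_mul]
  have : (⟨eta ^ i, Subgroup.pow_mem _ eta_mem i⟩ * ⟨phi ^ j, Subgroup.pow_mem _ phi_mem j⟩ : F20)
      = g.right := Subtype.ext hij.symm
  rw [this, inl_left_mul_inr_right]

theorem hG_pow_five : hG ^ 5 = 1 := by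
  rw [hG_pow]
  have : (⟨eta ^ 5, Subgroup.pow_mem _ eta_mem 5⟩ : F20) = 1 := Subtype.ext eta_pow_five
  rw [this, map_one]

theorem hG_ne_one : hG ≠ 1 := by
  intro h
  have h1 : (⟨eta, eta_mem⟩ : F20) = 1 := inr_injective (by rw [map_one]; exact h)
  exact Cfsg.Agent.Helper11.Spec4.eta_ne_one (congrArg Subtype.val h1)

theorem cG_pow_four : cG ^ 4 = 1 := by
  rw [cG_pow]
  have : (⟨phi ^ 4, Subgroup.pow_mem _ phi_mem 4⟩ : F20) = 1 := Subtype.ext phi_pow_four
  rw [this, map_one]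

theorem cG_conj_hG : cG * hG * cG⁻¹ = hG ^ 3 := by
  rw [mul_inv_eq_iff_eq_mul, hG_pow, hG, cG, ← map_mul, ← map_mul]
  congr 1
  exact Subtype.ext phi_mul_eta

theorem AG_pow_nine (a : G) (ha : a ∈ AG) : a ^ 9 = 1 := by
  obtain ⟨a', rfl⟩ := ha
  rw [← map_pow, A8.pow_nine three_eq_zero, map_one]

theorem AG_fix (a : G) (ha : a ∈ AG) (h : hG * a * hG⁻¹ = a) : a = 1 := by
  obtain ⟨a', rfl⟩ := ha
  have h1 : hG * inl a' * hG⁻¹ = inl (eta a') := by
    rw [hG, ← map_inv, ← inl_aut]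
    rfl
  rw [h1] at h
  have h2 : eta a' = a' := inl_injective h
  rw [Cfsg.Agent.Helper11.Spec4.eq_one_of_eta_fix a' h2, map_one]

theorem AG_c2 (a : G) (ha : a ∈ AG) : (a * cG ^ 2) ^ 6 = 1 := by
  obtain ⟨a', rfl⟩ := ha
  have e : (6 : ℕ) = 2 * 3 := by norm_num
  rw [e, pow_mul, cG_pow, Cfsg.Agent.Helper49.Spec4.inl_mul_inr_pow_two]
  have h4 : (⟨phi ^ 2, Subgroup.pow_mem _ phi_mem 2⟩ : F20) ^ 2 = 1 := by
    apply Subtype.ext
    change (phi ^ 2) ^ 2 = 1
    rw [← pow_mul]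
    exact phi_pow_four
  rw [h4, map_one, mul_one, ← map_pow]
  have : (a' * (F20.subtype ⟨phi ^ 2, Subgroup.pow_mem _ phi_mem 2⟩) a') ^ 3 = 1 :=
    Cfsg.Agent.Helper11.Spec4.norm_two_pow_three a'
  rw [this, map_one]

theorem AG_c1 (a : G) (ha : a ∈ AG) : (a * cG) ^ 12 = 1 := by
  obtain ⟨a', rfl⟩ := ha
  have e : (12 : ℕ) = 4 * 3 := by norm_num
  rw [e, pow_mul, cG, Cfsg.Agent.Helper49.Spec4.inl_mul_inr_pow_four]
  have h4 : (⟨phi, phi_mem⟩ : F20) ^ 4 = 1 := Subtype.ext phi_pow_four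
  rw [h4, map_one, mul_one, ← map_pow]
  have : (a' * (F20.subtype ⟨phi, phi_mem⟩) a' * (F20.subtype (⟨phi, phi_mem⟩ ^ 2)) a' *
      (F20.subtype (⟨phi, phi_mem⟩ ^ 3)) a') ^ 3 = 1 :=
    Cfsg.Agent.Helper11.Spec4.norm_four_pow_three a'
  rw [this, map_one]

theorem G_orderOf_mem (g : G) : orderOf g ∈ spec :=
  Cfsg.Agent.Helper68.Spec4.orderOf_mem_of_twoFrobenius AG hG cG G_gen hG_pow_five hG_ne_one cG_pow_four cG_conj_hG
    AG_pow_nine AG_fix AG_c2 AG_c1 g

theorem range_orderOf_G : Set.range (orderOf : G → ℕ) = spec := by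
  obtain ⟨h5, h9, h12⟩ := Cfsg.Agent.Helper93.Spec4.exists_orderOf_G
  exact range_orderOf_eq_spec G_orderOf_mem h5 h9 h12

end Cfsg.Agent.Helper14.Spec4
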