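import Mathlib
import Cfsg.Agent.Helper40.StCLiftDefs

/-!
# Piece (SH3) of #7552 (helper40/helper96, S2092 part II): the symbols are the short root lifts

The primed statements take Milnor's identities (SH1) `milnor_A`, (SH2) `milnor_B` as explicit
hypotheses `HypA`, `HypB`.
-/

set_option autoImplicit false
set_option linter.unusedSectionVars false
set_option linter.unusedVariables false

namespace Cfsg.Agent.Helper14.StCSH3

open scoped commutatorElement
open Cfsg.Agent.Helper96.StN Cfsg.Agent.Helper96.StC Cfsg.Agent.Helper96.StLift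
  Cfsg.Agent.Helper40.StCLift

universe u v v' w

variable {K : Type u} [Field K] {D : Type v} [Group D] {E : Type v'} [Group E] {π : E →* D}
  {ι : Type w} [DecidableEq ι] {X : ι ⊕ ι → ι ⊕ ι → K → D}

/-- the statement of (SH1) -/
def HypA (hπ : Function.Surjective π) (X : ι ⊕ ι → ι ⊕ ι → K → D) : Prop :=
  ∀ (i h k j : ι ⊕ ι), AbsNe i h → AbsNe i k → AbsNe i j → AbsNe h k → AbsNe h j → AbsNe k j →
    ∀ a b c : K, lc hπ (X i h a) (X h j (b * c)) = lc hπ (X i k (a * b)) (X k j c)

/-- the statement of (SH2) -/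
def HypB (hπ : Function.Surjective π) (X : ι ⊕ ι → ι ⊕ ι → K → D) : Prop :=
  ∀ (i h j : ι ⊕ ι), AbsNe i h → AbsNe i j → AbsNe h j →
    ∀ a b c : K, lc hπ (X i h a) (X h j (b * c)) = lc hπ (X i (bar h) (a * b)) (X (bar h) j c)

/-- the commutator relation of type `A` inside the family of type `C` -/
theorem root_eq_commutator (hX : SpRel X) {p k s : ι ⊕ ι} (hpk : AbsNe p k) (hps : AbsNe p s)
    (hks : AbsNe k s) (a b : K) : ⁅X p k a, X k s b⁆ = X p s (a * b) := by
  rw [commutatorElement_def]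
  exact hX.mul p k s hpk.1 hks.1 hps.1 hpk.2 hks.2 hps.2 a b

theorem map_lc_root (hπ : Function.Surjective π) (hX : SpRel X) {p k s : ι ⊕ ι} (hpk : AbsNe p k)
    (hps : AbsNe p s) (hks : AbsNe k s) (a b : K) :
    π (lc hπ (X p k a) (X k s b)) = X p s (a * b) := by
  rw [map_lc, root_eq_commutator hX hpk hps hks]

/-- (SH3a) additivity of the symbol in the first variable -/
theorem symbol_add_left (hπ : Function.Surjective π) (hc : π.ker ≤ Subgroup.center E)
    (hX : SpRel X) (hCL : CLC hπ X) {p k s : ι ⊕ ι} (hpk : AbsNe p k) (hps : AbsNe p s)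
    (hks : AbsNe k s) (a a' b : K) :
    lc hπ (X p k (a + a')) (X k s b) = lc hπ (X p k a) (X k s b) * lc hπ (X p k a') (X k s b) := by
  obtain ⟨x, hx⟩ := hπ (X p k a')
  rw [add_comm, hX.add p k hpk.1, ← hx, lc_mul_left hπ hc, hx]
  -- `x` commutes with the lift `lc (X p k a) (X k s b)` of `X p s (a b)`
  have hcomm : Commute x (lc hπ (X p k a) (X k s b)) :=
    commute_of_lc_eq_one hπ hc
      (hCL p k p s hpk.1 hps.1 hpk.1.symm hks.2 (bar_ne p).symm hps.1 a' (a * b)) hx
      (map_lc_root hπ hX hpk hps hks a b)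
  rw [hcomm.eq, mul_inv_cancel_right]

section

variable (hπ : Function.Surjective π) (hc : π.ker ≤ Subgroup.center E) (hX : SpRel X)
  (hCL : CLC hπ X) (hA : HypA hπ X) (hB : HypB hπ X)

include hA hB in
/-- independence of the middle index -/
theorem mid_indep {p k k' s : ι ⊕ ι} (hpk : AbsNe p k) (hks : AbsNe k s) (hpk' : AbsNe p k')
    (hk's : AbsNe k' s) (hps : AbsNe p s) (a c : K) :
    lc hπ (X p k a) (X k s c) = lc hπ (X p k' a) (X k' s c) := by
  by_cases h1 : k = k'
  · subst h1; rfl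
  by_cases h2 : k' = bar k
  · subst h2
    have h := hB p k s hpk hps hks a 1 c
    rwa [one_mul, mul_one] at h
  · have hkk' : AbsNe k k' := ⟨h1, fun e => h2 (by rw [e, bar_bar])⟩
    have h := hA p k k' s hpk hpk' hps hkk' hks hk's a 1 c
    rwa [one_mul, mul_one] at h

include hA hB in
/-- moving a scalar across the symbol -/
theorem symbol_assoc {p k s : ι ⊕ ι} (hpk : AbsNe p k) (hps : AbsNe p s) (hks : AbsNe k s)
    (a b c : K) :
    lc hπ (X p k a) (X k s (b * c)) = lc hπ (X p k (a * b)) (X k s c) := by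
  rw [hB p k s hpk hps hks a b c]
  exact mid_indep hπ hA hB hpk.bar_right hks.bar_left hpk hks hps (a * b) c

include hA hB in
/-- (SH3b) every symbol is a short root lift, with (SH1), (SH2) as hypotheses -/
theorem symbol_eq_Zs' (h3 : ∀ p q : ι ⊕ ι, ∃ k, AbsNe k p ∧ AbsNe k q)
    {p k s : ι ⊕ ι} (hpk : AbsNe p k) (hps : AbsNe p s) (hks : AbsNe k s) (a b : K) :
    lc hπ (X p k a) (X k s b) = Zs hπ X h3 p s (a * b) := by
  obtain ⟨h1, h2⟩ := Classical.choose_spec (h3 p s)
  have e := symbol_assoc hπ hA hB hpk hps hks a b 1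
  rw [mul_one] at e
  rw [e]
  unfold Zs
  exact mid_indep hπ hA hB hpk hks h1.symm h2 hps (a * b) 1

end

/-- (SH4) the short root lifts are lifts -/
theorem map_Zs (hπ : Function.Surjective π) (hX : SpRel X)
    (h3 : ∀ p q : ι ⊕ ι, ∃ k, AbsNe k p ∧ AbsNe k q) {p s : ι ⊕ ι} (hps : AbsNe p s) (t : K) :
    π (Zs hπ X h3 p s t) = X p s t := by
  obtain ⟨h1, h2⟩ := Classical.choose_spec (h3 p s)
  unfold Zs
  rw [map_lc_root hπ hX h1.symm hps h2, mul_one]

end Cfsg.Agent.Helper14.StCSH3
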