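import Mathlib
import Cfsg.Agent.Helper40.StCLiftDefs
import Cfsg.Agent.Helper14.StCSH3

/-!
# Piece (SH5) of #7552 (helper40/helper96, S2092 part II): equivariance of the short root lifts
under monomial elements

`Zs_conj'` takes Milnor's identities (SH1), (SH2) as explicit hypotheses.
-/

set_option autoImplicit false
set_option linter.unusedSectionVars false
set_option linter.unusedVariables false

namespace Cfsg.Agent.Helper14.StCSH5

open scoped commutatorElement
open Cfsg.Agent.Helper96.StN Cfsg.Agent.Helper96.StC Cfsg.Agent.Helper96.StLift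
  Cfsg.Agent.Helper40.StCLift Cfsg.Agent.Helper14.StCSH3

universe u v v' w

variable {K : Type u} [Field K] {D : Type v} [Group D] {E : Type v'} [Group E] {π : E →* D}
  {ι : Type w} [DecidableEq ι] {X : ι ⊕ ι → ι ⊕ ι → K → D}

/-- a permutation commuting with `bar` preserves `AbsNe` -/
theorem absNe_map {σ : Equiv.Perm (ι ⊕ ι)} (hσ : ∀ k, σ (bar k) = bar (σ k)) {a b : ι ⊕ ι}
    (h : AbsNe a b) : AbsNe (σ a) (σ b) := by
  refine ⟨fun e => h.1 (σ.injective e), fun e => h.2 (σ.injective ?_)⟩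
  rw [e, hσ]

/-- (SH5) equivariance, with (SH1), (SH2) as hypotheses -/
theorem Zs_conj' (hπ : Function.Surjective π) (hc : π.ker ≤ Subgroup.center E)
    (hX : SpRel X) (hCL : CLC hπ X) (hA : HypA hπ X) (hB : HypB hπ X)
    (h3 : ∀ p q : ι ⊕ ι, ∃ k, AbsNe k p ∧ AbsNe k q)
    {g : D} {σ : Equiv.Perm (ι ⊕ ι)} {pp : ι ⊕ ι → K} (hg : IsMono X g σ pp)
    (hσ : ∀ k, σ (bar k) = bar (σ k)) {p s : ι ⊕ ι} (hps : AbsNe p s) (t : K) (x : E)
    (hx : π x = g) :
    x * Zs hπ X h3 p s t * x⁻¹ = Zs hπ X h3 (σ p) (σ s) (pp p * (pp s)⁻¹ * t) := by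
  obtain ⟨h1, h2⟩ := Classical.choose_spec (h3 p s)
  set k := Classical.choose (h3 p s) with hk
  have e1 : Zs hπ X h3 p s t = lc hπ (X p k t) (X k s 1) := rfl
  rw [e1, lc_conj hπ hc, hx, hg.2 p k h1.1.symm, hg.2 k s h2.1,
    symbol_eq_Zs' hπ hA hB h3 (absNe_map hσ h1.symm) (absNe_map hσ hps) (absNe_map hσ h2)]
  congr 1
  have hk0 : pp k ≠ 0 := hg.1 k
  field_simp

end Cfsg.Agent.Helper14.StCSH5
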