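import Mathlib
import Cfsg.Agent.Helper40.StCLiftDefs
import Cfsg.Agent.Helper14.StCSH3
import Cfsg.Agent.Helper14.StCSH5
import Cfsg.Agent.Helper41.StCSH1
import Cfsg.Agent.Helper29.StCSH2

/-!
# Pieces (SH3), (SH5) of #7552 (helper40/helper96, S2092 part II): the exact skeleton statements
`symbol_eq_Zs`, `Zs_conj`, from the primed versions and Milnor's identities (SH1) of helper41 and
(SH2) of helper29.
-/

set_option autoImplicit false
set_option linter.unusedSectionVars false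
set_option linter.unusedVariables false

namespace Cfsg.Agent.Helper14.StCSH35

open scoped commutatorElement
open Cfsg.Agent.Helper96.StN Cfsg.Agent.Helper96.StC Cfsg.Agent.Helper96.StLift
  Cfsg.Agent.Helper40.StCLift Cfsg.Agent.Helper14.StCSH3

universe u v v' w

variable {K : Type u} [Field K] {D : Type v} [Group D] {E : Type v'} [Group E] {π : E →* D}
  {ι : Type w} [DecidableEq ι] {X : ι ⊕ ι → ι ⊕ ι → K → D}

theorem hypA (hπ : Function.Surjective π) (hc : π.ker ≤ Subgroup.center E) (hX : SpRel X)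
    (hCL : CLC hπ X) : HypA hπ X := fun _ _ _ _ h1 h2 h3 h4 h5 h6 a b c =>
  Cfsg.Agent.Helper41.StCSH1.milnor_A hπ hc hX hCL h1 h2 h3 h4 h5 h6 a b c

theorem hypB (hπ : Function.Surjective π) (hc : π.ker ≤ Subgroup.center E) (hX : SpRel X)
    (hCL : CLC hπ X) : HypB hπ X := fun _ _ _ h1 h2 h3 a b c =>
  Cfsg.Agent.Helper29.StCSH2.milnor_B hπ hc hX hCL h1 h2 h3 a b c

/-- (SH3b) every symbol is a short root lift -/
theorem symbol_eq_Zs (hπ : Function.Surjective π) (hc : π.ker ≤ Subgroup.center E)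
    (hX : SpRel X) (hCL : CLC hπ X) (h3 : ∀ p q : ι ⊕ ι, ∃ k, AbsNe k p ∧ AbsNe k q)
    {p k s : ι ⊕ ι} (hpk : AbsNe p k) (hps : AbsNe p s) (hks : AbsNe k s) (a b : K) :
    lc hπ (X p k a) (X k s b) = Zs hπ X h3 p s (a * b) :=
  symbol_eq_Zs' hπ (hypA hπ hc hX hCL) (hypB hπ hc hX hCL) h3 hpk hps hks a b

/-- (SH5) equivariance of the short root lifts under monomial elements -/
theorem Zs_conj (hπ : Function.Surjective π) (hc : π.ker ≤ Subgroup.center E)
    (hX : SpRel X) (hCL : CLC hπ X) (h3 : ∀ p q : ι ⊕ ι, ∃ k, AbsNe k p ∧ AbsNe k q)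
    {g : D} {σ : Equiv.Perm (ι ⊕ ι)} {pp : ι ⊕ ι → K} (hg : IsMono X g σ pp)
    (hσ : ∀ k, σ (bar k) = bar (σ k)) {p s : ι ⊕ ι} (hps : AbsNe p s) (t : K) (x : E)
    (hx : π x = g) :
    x * Zs hπ X h3 p s t * x⁻¹ = Zs hπ X h3 (σ p) (σ s) (pp p * (pp s)⁻¹ * t) :=
  Cfsg.Agent.Helper14.StCSH5.Zs_conj' hπ hc hX hCL (hypA hπ hc hX hCL) (hypB hπ hc hX hCL) h3 hg hσ
    hps t x hx

/-- (SH3a), restated here for convenience -/
theorem symbol_add_left (hπ : Function.Surjective π) (hc : π.ker ≤ Subgroup.center E)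
    (hX : SpRel X) (hCL : CLC hπ X) {p k s : ι ⊕ ι} (hpk : AbsNe p k) (hps : AbsNe p s)
    (hks : AbsNe k s) (a a' b : K) :
    lc hπ (X p k (a + a')) (X k s b) = lc hπ (X p k a) (X k s b) * lc hπ (X p k a') (X k s b) :=
  Cfsg.Agent.Helper14.StCSH3.symbol_add_left hπ hc hX hCL hpk hps hks a a' b

/-- (SH4 of the skeleton), restated here for convenience -/
theorem map_Zs (hπ : Function.Surjective π) (hX : SpRel X)
    (h3 : ∀ p q : ι ⊕ ι, ∃ k, AbsNe k p ∧ AbsNe k q) {p s : ι ⊕ ι} (hps : AbsNe p s) (t : K) :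
    π (Zs hπ X h3 p s t) = X p s t := Cfsg.Agent.Helper14.StCSH3.map_Zs hπ hX h3 hps t

end Cfsg.Agent.Helper14.StCSH35
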