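import Mathlib
import Cfsg.Agent.Helper14.TwoFamilies

set_option autoImplicit false

namespace Cfsg.Agent.Helper14

open Module

section Card

variable {F V : Type*} [Field F] [Finite F] [AddCommGroup V] [Module F V] [FiniteDimensional F V]

omit [Finite F] in
theorem card_submodule (A : Submodule F V) : Nat.card A = Nat.card F ^ finrank F A :=
  Module.natCard_eq_pow_finrank

/-- The number of vectors in a subspace `A` outside a smaller subspace `B`. -/
theorem card_diff_submodule (A B : Submodule F V) (hBA : B ≤ A) :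
    Nat.card {w : V // w ∈ A ∧ w ∉ B} = Nat.card F ^ finrank F A - Nat.card F ^ finrank F B := by
  have : Finite V := Module.finite_of_finite F
  have h1 : Nat.card {w : V // w ∈ A ∧ w ∉ B} = ((A : Set V) \ (B : Set V)).ncard := by
    rw [← Nat.card_coe_set_eq]
    rfl
  rw [h1, Set.ncard_sdiff (fun x hx => hBA hx) (Set.toFinite _), ← Nat.card_coe_set_eq,
    ← Nat.card_coe_set_eq]
  have h2 : Nat.card (A : Set V) = Nat.card F ^ finrank F A := card_submodule A
  have h3 : Nat.card (B : Set V) = Nat.card F ^ finrank F B := card_submodule B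
  rw [h2, h3]

end Card

section Quadrangle

variable {F V : Type*} [Field F] [AddCommGroup V] [Module F V] [FiniteDimensional F V]
  (f : LinearMap.BilinForm F V) (halt : f.IsAlt) (hnd : ∀ v, v ≠ 0 → ∃ w, f v w ≠ 0)
  (hV : finrank F V = 4)

include hnd hV in
theorem finrank_ker_form (v : V) (hv : v ≠ 0) : finrank F (LinearMap.ker (f v)) = 3 := by
  obtain ⟨w, hw⟩ := hnd v hv
  have hsurj : Function.Surjective (f v) := by
    intro t
    refine ⟨(t / f v w) • w, ?_⟩
    rw [map_smul, smul_eq_mul]
    field_simp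
  have hrange : LinearMap.range (f v) = ⊤ := LinearMap.range_eq_top.mpr hsurj
  have h := LinearMap.finrank_range_add_finrank_ker (f v)
  rw [hrange, finrank_top, Module.finrank_self, hV] at h
  omega

include halt in
theorem span_le_ker_form (v : V) : (F ∙ v) ≤ LinearMap.ker (f v) := by
  rw [Submodule.span_singleton_le_iff_mem, LinearMap.mem_ker]
  exact halt v

/-- the line spanned by `v` and `w` -/
theorem finrank_span_pair (v w : V) (hv : v ≠ 0) (hw : w ∉ (F ∙ v)) :
    finrank F ((F ∙ v) ⊔ (F ∙ w) : Submodule F V) = 2 := by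
  have h1 := finrank_sup_span_singleton_ge (F ∙ v) w hw
  have h2 := Submodule.finrank_add_le_finrank_add_finrank (F ∙ v) (F ∙ w)
  have h3 : finrank F (F ∙ v) = 1 := finrank_span_singleton hv
  have h4 : finrank F (F ∙ w) ≤ 1 := by
    have := finrank_span_le_card ({w} : Set V) (R := F)
    simpa using this
  omega

include halt in
theorem span_pair_isotropic (v w : V) (hvw : f v w = 0) :
    ∀ x ∈ ((F ∙ v) ⊔ (F ∙ w) : Submodule F V), ∀ y ∈ ((F ∙ v) ⊔ (F ∙ w) : Submodule F V),
      f x y = 0 := by
  have hwv : f w v = 0 := by rw [← halt.neg_eq, hvw, neg_zero]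
  intro x hx y hy
  obtain ⟨a, ha, b, hb, rfl⟩ := Submodule.mem_sup.mp hx
  obtain ⟨a', ha', b', hb', rfl⟩ := Submodule.mem_sup.mp hy
  obtain ⟨s, rfl⟩ := Submodule.mem_span_singleton.mp ha
  obtain ⟨t, rfl⟩ := Submodule.mem_span_singleton.mp hb
  obtain ⟨s', rfl⟩ := Submodule.mem_span_singleton.mp ha'
  obtain ⟨t', rfl⟩ := Submodule.mem_span_singleton.mp hb'
  simp only [map_add, map_smul, LinearMap.add_apply, LinearMap.smul_apply, hvw, hwv, halt v,
    halt w, smul_zero, add_zero]

theorem span_pair_eq (W : Submodule F V) (hW : finrank F W = 2) (v w : V) (hv : v ≠ 0)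
    (hvW : v ∈ W) (hwW : w ∈ W) (hw : w ∉ (F ∙ v)) : (F ∙ v) ⊔ (F ∙ w) = W := by
  apply Submodule.eq_of_le_of_finrank_eq
  · apply sup_le
    · rw [Submodule.span_singleton_le_iff_mem]; exact hvW
    · rw [Submodule.span_singleton_le_iff_mem]; exact hwW
  · rw [finrank_span_pair v w hv hw, hW]

include halt hnd hV in
/-- In a 4-dimensional symplectic space over a field with `q` elements, every non-zero vector lies
on exactly `q + 1` totally isotropic lines. -/
theorem card_lines_through [Finite F] (v : V) (hv : v ≠ 0) :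
    Nat.card {W : Submodule F V // finrank F W = 2 ∧ v ∈ W ∧ ∀ u ∈ W, ∀ w ∈ W, f u w = 0}
      = Nat.card F + 1 := by
  classical
  have hfinV : Finite V := Module.finite_of_finite F
  have hfinS : Finite (Submodule F V) :=
    Finite.of_injective (fun W : Submodule F V => (W : Set V)) SetLike.coe_injective
  obtain ⟨q, hqdef⟩ : ∃ q : ℕ, q = Nat.card F := ⟨_, rfl⟩
  have hq : 2 ≤ q := by
    rw [hqdef]
    exact Finite.one_lt_card
  rw [← hqdef]
  let T := {W : Submodule F V // finrank F W = 2 ∧ v ∈ W ∧ ∀ u ∈ W, ∀ w ∈ W, f u w = 0}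
  let P : T → V → Prop := fun W w => w ∈ W.1 ∧ w ∉ (F ∙ v)
  let e : {w : V // w ∈ LinearMap.ker (f v) ∧ w ∉ (F ∙ v)} ≃ {p : T × V // P p.1 p.2} :=
    { toFun := fun w =>
        ⟨(⟨(F ∙ v) ⊔ (F ∙ w.1), finrank_span_pair v w.1 hv w.2.2,
            Submodule.mem_sup_left (Submodule.mem_span_singleton_self v),
            span_pair_isotropic f halt v w.1 (LinearMap.mem_ker.mp w.2.1)⟩, w.1),
          ⟨Submodule.mem_sup_right (Submodule.mem_span_singleton_self w.1), w.2.2⟩⟩
      invFun := fun p =>
        ⟨p.1.2, ⟨LinearMap.mem_ker.mpr (p.1.1.2.2.2 v p.1.1.2.2.1 p.1.2 p.2.1), p.2.2⟩⟩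
      left_inv := fun w => rfl
      right_inv := fun p => by
        apply Subtype.ext
        apply Prod.ext
        · apply Subtype.ext
          exact span_pair_eq p.1.1.1 p.1.1.2.1 v p.1.2 hv p.1.1.2.2.1 p.2.1 p.2.2
        · rfl }
  have h1 : Nat.card {w : V // w ∈ LinearMap.ker (f v) ∧ w ∉ (F ∙ v)} = q ^ 3 - q := by
    rw [card_diff_submodule _ _ (span_le_ker_form f halt v), finrank_ker_form f hnd hV v hv,
      finrank_span_singleton hv, pow_one, ← hqdef]
  have h2 : Nat.card {p : T × V // P p.1 p.2} = Nat.card T * (q ^ 2 - q) := by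
    rw [Nat.card_congr (Equiv.subtypeProdEquivSigmaSubtype P)]
    have : Fintype T := Fintype.ofFinite T
    rw [Nat.card_sigma]
    have hfib : ∀ W : T, Nat.card {w // P W w} = q ^ 2 - q := by
      intro W
      have hle : (F ∙ v) ≤ W.1 := by
        rw [Submodule.span_singleton_le_iff_mem]
        exact W.2.2.1
      have h := card_diff_submodule W.1 (F ∙ v) hle
      rw [W.2.1, finrank_span_singleton hv, pow_one, ← hqdef] at h
      exact h
    simp only [hfib, Finset.sum_const, Finset.card_univ, smul_eq_mul, Nat.card_eq_fintype_card]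
  have h3 := Nat.card_congr e
  rw [h1, h2] at h3
  have hq2 : q ≤ q ^ 2 := by nlinarith
  have hq3 : q ≤ q ^ 3 := by nlinarith [pow_pos (by omega : 0 < q) 2]
  have key : (q + 1) * (q ^ 2 - q) = q ^ 3 - q := by
    zify [hq2, hq3]
    ring
  have hpos : 0 < q ^ 2 - q := by
    have : q < q ^ 2 := by nlinarith
    omega
  exact Nat.eq_of_mul_eq_mul_right hpos (by rw [← h3, key])

include halt hnd hV in
/-- A 4-dimensional symplectic space over a field with `q` elements has `(q + 1)(q² + 1)` totally
isotropic lines. -/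
theorem card_lines [Finite F] :
    Nat.card {W : Submodule F V // finrank F W = 2 ∧ ∀ u ∈ W, ∀ w ∈ W, f u w = 0}
      = (Nat.card F + 1) * (Nat.card F ^ 2 + 1) := by
  classical
  have hfinV : Finite V := Module.finite_of_finite F
  have hfinS : Finite (Submodule F V) :=
    Finite.of_injective (fun W : Submodule F V => (W : Set V)) SetLike.coe_injective
  have hthrough := card_lines_through f halt hnd hV
  obtain ⟨q, hqdef⟩ : ∃ q : ℕ, q = Nat.card F := ⟨_, rfl⟩
  have hq : 2 ≤ q := by
    rw [hqdef]
    exact Finite.one_lt_card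
  rw [← hqdef] at hthrough ⊢
  let T := {W : Submodule F V // finrank F W = 2 ∧ ∀ u ∈ W, ∀ w ∈ W, f u w = 0}
  let N := {v : V // v ≠ 0}
  let P : N → T → Prop := fun v W => v.1 ∈ W.1
  have hN : Nat.card N = q ^ 4 - 1 := by
    have h := card_diff_submodule (⊤ : Submodule F V) ⊥ bot_le
    rw [finrank_top, hV, finrank_bot, pow_zero, ← hqdef] at h
    rw [← h]
    apply Nat.card_congr
    exact Equiv.subtypeEquivRight (fun w => by simp)
  have c1 : Nat.card {p : N × T // P p.1 p.2} = (q ^ 4 - 1) * (q + 1) := by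
    rw [Nat.card_congr (Equiv.subtypeProdEquivSigmaSubtype P)]
    have : Fintype N := Fintype.ofFinite N
    rw [Nat.card_sigma]
    have hfib : ∀ v : N, Nat.card {W : T // P v W} = q + 1 := by
      intro v
      rw [← hthrough v.1 v.2]
      apply Nat.card_congr
      exact
        { toFun := fun W => ⟨W.1.1, W.1.2.1, W.2, W.1.2.2⟩
          invFun := fun W => ⟨⟨W.1, W.2.1, W.2.2.2⟩, W.2.2.1⟩
          left_inv := fun _ => rfl
          right_inv := fun _ => rfl }
    simp only [hfib, Finset.sum_const, Finset.card_univ, smul_eq_mul]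
    rw [← Nat.card_eq_fintype_card, hN]
  have c2 : Nat.card {p : N × T // P p.1 p.2} = Nat.card T * (q ^ 2 - 1) := by
    have e : {p : N × T // P p.1 p.2} ≃ {p : T × N // P p.2 p.1} :=
      { toFun := fun p => ⟨(p.1.2, p.1.1), p.2⟩
        invFun := fun p => ⟨(p.1.2, p.1.1), p.2⟩
        left_inv := fun _ => rfl
        right_inv := fun _ => rfl }
    rw [Nat.card_congr e, Nat.card_congr (Equiv.subtypeProdEquivSigmaSubtype (fun W v => P v W))]
    have : Fintype T := Fintype.ofFinite T
    rw [Nat.card_sigma]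
    have hfib : ∀ W : T, Nat.card {v : N // P v W} = q ^ 2 - 1 := by
      intro W
      have h := card_diff_submodule W.1 ⊥ bot_le
      rw [W.2.1, finrank_bot, pow_zero, ← hqdef] at h
      rw [← h]
      apply Nat.card_congr
      exact
        { toFun := fun v => ⟨v.1.1, v.2, by
            rw [Submodule.mem_bot]
            exact v.1.2⟩
          invFun := fun w => ⟨⟨w.1, by
            have := w.2.2
            rw [Submodule.mem_bot] at this
            exact this⟩, w.2.1⟩
          left_inv := fun _ => rfl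
          right_inv := fun _ => rfl }
    simp only [hfib, Finset.sum_const, Finset.card_univ, smul_eq_mul, Nat.card_eq_fintype_card]
  rw [c1] at c2
  have hq2 : 1 ≤ q ^ 2 := Nat.one_le_pow _ _ (by omega)
  have hq4 : 1 ≤ q ^ 4 := Nat.one_le_pow _ _ (by omega)
  have key : (q + 1) * (q ^ 2 + 1) * (q ^ 2 - 1) = (q ^ 4 - 1) * (q + 1) := by
    zify [hq2, hq4]
    ring
  have hpos : 0 < q ^ 2 - 1 := by
    have : 1 < q ^ 2 := by nlinarith
    omega
  exact Nat.eq_of_mul_eq_mul_right hpos (by rw [← c2, key])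

end Quadrangle

end Cfsg.Agent.Helper14
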