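import Mathlib
import Cfsg.Agent.Helper14.EvenSim

set_option autoImplicit false

namespace Cfsg.Agent.Helper14

open Module TensorProduct

/-- Over a finite field of odd order, the tensor product of two non-degenerate symmetric bilinear
forms on even-dimensional spaces has a totally isotropic subspace of half the dimension. -/
theorem exists_ti_tensor {F U W : Type*} [Field F] [Fintype F] [AddCommGroup U] [Module F U]
    [FiniteDimensional F U] [AddCommGroup W] [Module F W] [FiniteDimensional F W]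
    (h2 : (2 : F) ≠ 0) (B₁ : LinearMap.BilinForm F U) (B₂ : LinearMap.BilinForm F W)
    (h₁ : B₁.Nondegenerate) (h₂ : B₂.Nondegenerate) (hS₁ : B₁.IsSymm) (hS₂ : B₂.IsSymm)
    (k l : ℕ) (hU : finrank F U = 2 * k) (hW : finrank F W = 2 * l) :
    ∃ X : Submodule F (TensorProduct F U W), finrank F X = 2 * k * l ∧
      ∀ x ∈ X, ∀ y ∈ X, (B₁.tmul B₂) x y = 0 := by
  classical
  obtain ⟨u, a, ha, hG⟩ := exists_orthogonal_pair_basis h2 B₁ hS₁ h₁ k hU
  have hT : ∀ s : Fin k, ∃ T : W →ₗ[F] W,
      ∀ x y, B₂ (T x) (T y) = (-(a (s, 1) / a (s, 0))) * B₂ x y :=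
    fun s => exists_similitude_even h2 B₂ hS₂ h₂ l hW _
      (neg_ne_zero.mpr (div_ne_zero (ha _) (ha _)))
  choose T hT using hT
  let ψ : Fin k → (W →ₗ[F] TensorProduct F U W) := fun s =>
    (TensorProduct.mk F U W (u (s, 0))) ∘ₗ (T s) + TensorProduct.mk F U W (u (s, 1))
  have hψ : ∀ s w, ψ s w = u (s, 0) ⊗ₜ[F] T s w + u (s, 1) ⊗ₜ[F] w := fun s w => rfl
  let Ψ : (Fin k → W) →ₗ[F] TensorProduct F U W := ∑ s, (ψ s) ∘ₗ (LinearMap.proj s)
  have hΨ : ∀ f, Ψ f = ∑ s, ψ s (f s) := by
    intro f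
    simp [Ψ, LinearMap.sum_apply]
  have hkey : ∀ s s' w w', (B₁.tmul B₂) (ψ s w) (ψ s' w') = 0 := by
    intro s s' w w'
    rw [hψ, hψ]
    simp only [map_add, LinearMap.add_apply, LinearMap.BilinForm.tensorDistrib_tmul, hG,
      Prod.mk.injEq, smul_eq_mul]
    by_cases h : s = s'
    · subst h
      have h0 := ha (s, 0)
      simp only [true_and, if_true]
      rw [hT]
      simp
      field_simp
      ring
    · simp [h]
  have hti : ∀ f g, (B₁.tmul B₂) (Ψ f) (Ψ g) = 0 := by
    intro f g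
    rw [hΨ, hΨ]
    simp only [map_sum, LinearMap.sum_apply]
    apply Finset.sum_eq_zero
    intro s _
    apply Finset.sum_eq_zero
    intro s' _
    exact hkey _ _ _ _
  -- injectivity
  let π : Fin k → (TensorProduct F U W →ₗ[F] W) := fun s =>
    (TensorProduct.lid F W).toLinearMap ∘ₗ TensorProduct.map (B₁ (u (s, 1))) LinearMap.id
  have hπ : ∀ s s' w, π s (ψ s' w) = if s = s' then a (s, 1) • w else 0 := by
    intro s s' w
    rw [hψ]
    simp only [π, map_add, LinearMap.comp_apply, TensorProduct.map_tmul, LinearMap.id_apply,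
      LinearEquiv.coe_coe, TensorProduct.lid_tmul, hG, Prod.mk.injEq]
    by_cases h : s = s'
    · subst h
      simp
    · simp [h]
  have hinj : Function.Injective Ψ := by
    rw [← LinearMap.ker_eq_bot, LinearMap.ker_eq_bot']
    intro f hf
    funext s
    have h1 : π s (Ψ f) = 0 := by rw [hf, map_zero]
    rw [hΨ, map_sum] at h1
    simp only [hπ] at h1
    rw [Finset.sum_ite_eq Finset.univ s (fun s' => a (s, 1) • f s')] at h1
    simp only [Finset.mem_univ, if_true] at h1
    exact (smul_eq_zero.mp h1).resolve_left (ha _)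
  refine ⟨LinearMap.range Ψ, ?_, ?_⟩
  · rw [LinearMap.finrank_range_of_inj hinj, Module.finrank_pi_fintype]
    simp only [hW, Finset.sum_const, Finset.card_univ, Fintype.card_fin, smul_eq_mul]
    ring
  · rintro x ⟨f, rfl⟩ y ⟨g, rfl⟩
    exact hti f g

end Cfsg.Agent.Helper14
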