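import Mathlib
import Cfsg.Prelude.Def_ClassicalGeometry

set_option autoImplicit false

namespace Cfsg.Agent.Helper14

open Matrix

/-- The isomorphism `GL ι F ≃* GL ι K` induced by a ring isomorphism `F ≃+* K`. -/
noncomputable def glCongr {ι : Type} [Fintype ι] [DecidableEq ι] {F K : Type*} [CommRing F] [CommRing K]
    (e : F ≃+* K) : Matrix.GeneralLinearGroup ι F ≃* Matrix.GeneralLinearGroup ι K :=
  Units.mapEquiv (RingEquiv.mapMatrix e : Matrix ι ι F ≃+* Matrix ι ι K).toMulEquiv

theorem glCongr_coe {ι : Type} [Fintype ι] [DecidableEq ι] {F K : Type*} [CommRing F] [CommRing K]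
    (e : F ≃+* K) (g : Matrix.GeneralLinearGroup ι F) :
    ((glCongr e g : Matrix.GeneralLinearGroup ι K) : Matrix ι ι K) =
      (g : Matrix ι ι F).map e := rfl

theorem map_mulVec_comp {ι : Type} [Fintype ι] {F K : Type*} [CommRing F] [CommRing K]
    (e : F ≃+* K) (M : Matrix ι ι F) (v : ι → F) :
    (M.map e) *ᵥ (fun i => e (v i)) = fun i => e ((M *ᵥ v) i) := by
  ext i
  exact (RingHom.map_mulVec (e : F →+* K) M v i).symm

/-- A ring isomorphism `e : F ≃+* K` compatible with two "forms" `Q`, `Q'` (functions on vectors)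
induces an isomorphism of the isometry groups. -/
noncomputable def isometryGroupCongr {ι : Type} [Fintype ι] [DecidableEq ι] {F K : Type*} [Field F] [Field K]
    (e : F ≃+* K) (Q : (ι → F) → F) (Q' : (ι → K) → K)
    (h : ∀ v : ι → F, Q' (fun i => e (v i)) = e (Q v)) :
    ↥(Cfsg.isometryGroup F Q) ≃* ↥(Cfsg.isometryGroup K Q') :=
  ((glCongr e).subgroupMap (Cfsg.isometryGroup F Q)).trans
    (MulEquiv.subgroupCongr (by
      ext g'
      constructor
      · rintro ⟨g, hg, rfl⟩
        intro u' _
        -- write u' = e ∘ u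
        have hu' : u' = fun i => e (e.symm (u' i)) := by ext i; simp
        show Q' (((glCongr e g : Matrix.GeneralLinearGroup ι K) : Matrix ι ι K) *ᵥ u') = Q' u'
        rw [glCongr_coe, hu', map_mulVec_comp, h, h]
        congr 1
        exact hg _ 0
      · intro hg'
        refine ⟨(glCongr e).symm g', ?_, by simp⟩
        intro u _
        show Q ((((glCongr e).symm g' : Matrix.GeneralLinearGroup ι F) : Matrix ι ι F) *ᵥ u) = Q u
        apply e.injective
        rw [← h, ← h, ← map_mulVec_comp, ← glCongr_coe]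
        simp only [MulEquiv.apply_symm_apply]
        exact hg' _ 0))

end Cfsg.Agent.Helper14
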