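import Mathlib
import Cfsg.Agent.Helper61.W2pDefs
import Cfsg.Agent.Helper82.GaloisConj
import Cfsg.Agent.Helper79.Linear
import Cfsg.Agent.Helper23.W2pPW

/-!
# Piece (C-FOURIER) of #7029 (helper61, S0720): the Gauss sum `|χ₁(x) - χ₂(x)|² = p`

`gauss'` takes the invariance of the multiplicities in the permutation character under coprime
power maps (piece (PW) of #7019) as an explicit hypothesis `hPW`; `gauss` is the skeleton statement,
obtained from `gauss'` with helper23's `classInner_pc_pow`.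
-/

set_option autoImplicit false
set_option linter.unusedSectionVars false
set_option linter.unusedVariables false

namespace Cfsg.Agent.Helper14.W2p

open Cfsg Cfsg.Agent.Helper61.W2p
open scoped ComplexConjugate

/-! ## Fourier analysis on the `p`-th roots of unity -/

/-- orthogonality of roots of unity -/
theorem sum_pow_mul_conj_pow (p : ℕ) (hp : 0 < p) (μ ν : ℂ) (hμ : μ ^ p = 1) (hν : ν ^ p = 1) :
    ∑ k ∈ Finset.range p, μ ^ k * conj (ν ^ k) = if μ = ν then (p : ℂ) else 0 := by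
  have hν1 : ‖ν‖ = 1 := Complex.norm_eq_one_of_pow_eq_one hν hp.ne'
  have hν0 : ν ≠ 0 := by
    intro h
    rw [h, norm_zero] at hν1
    exact zero_ne_one hν1
  have hc : conj ν = ν⁻¹ := (Complex.inv_eq_conj hν1).symm
  have hterm : ∀ k : ℕ, μ ^ k * conj (ν ^ k) = (μ * ν⁻¹) ^ k := by
    intro k
    rw [map_pow, hc, mul_pow]
  simp only [hterm]
  split_ifs with h
  · rw [h, mul_inv_cancel₀ hν0]
    simp
  · have hw : μ * ν⁻¹ ≠ 1 := by
      intro h1
      apply h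
      have := congrArg (· * ν) h1
      simpa [mul_assoc, inv_mul_cancel₀ hν0] using this
    have hwp : (μ * ν⁻¹) ^ p = 1 := by
      rw [mul_pow, inv_pow, hμ, hν, inv_one, mul_one]
    rw [geom_sum_eq hw, hwp, sub_self, zero_div]

/-- Fourier count -/
theorem sum_powsum_mul_conj {ι : Type*} [Fintype ι] (p : ℕ) (hp : 0 < p)
    (lam : ι → ℂ) (hlam : ∀ l, lam l ^ p = 1) (ω : ℂ) (hω : ω ^ p = 1) :
    ∑ k ∈ Finset.range p, (∑ l, lam l ^ k) * conj (ω ^ k) =
      (p : ℂ) * ((Finset.univ.filter fun l => lam l = ω).card : ℂ) := by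
  simp only [Finset.sum_mul]
  rw [Finset.sum_comm]
  simp only [sum_pow_mul_conj_pow p hp _ ω (hlam _) hω]
  rw [Finset.sum_ite, Finset.sum_const_zero, add_zero, Finset.sum_const, nsmul_eq_mul, mul_comm]

/-- signed Parseval for an injective family of roots of unity -/
theorem sum_signed_parseval {ι : Type*} [Fintype ι] (p : ℕ) (hp : 0 < p)
    (lam : ι → ℂ) (hlam : ∀ l, lam l ^ p = 1) (hinj : Function.Injective lam)
    (ε : ι → ℂ) (hε : ∀ l, ε l * conj (ε l) = 1) :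
    ∑ k ∈ Finset.range p, (∑ l, ε l * lam l ^ k) * conj (∑ l, ε l * lam l ^ k) =
      (p : ℂ) * (Fintype.card ι : ℂ) := by
  classical
  have h1 : ∀ k : ℕ, (∑ l, ε l * lam l ^ k) * conj (∑ l, ε l * lam l ^ k) =
      ∑ l, ∑ l', (ε l * conj (ε l')) * (lam l ^ k * conj (lam l' ^ k)) := by
    intro k
    rw [map_sum, Finset.sum_mul_sum]
    refine Finset.sum_congr rfl (fun l _ => Finset.sum_congr rfl (fun l' _ => ?_))
    rw [map_mul]
    ring
  simp only [h1]
  rw [Finset.sum_comm]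
  have h2 : ∀ l : ι, ∑ k ∈ Finset.range p, ∑ l', (ε l * conj (ε l')) *
      (lam l ^ k * conj (lam l' ^ k)) = (p : ℂ) := by
    intro l
    rw [Finset.sum_comm]
    simp only [← Finset.mul_sum, sum_pow_mul_conj_pow p hp _ _ (hlam _) (hlam _)]
    rw [Finset.sum_eq_single l]
    · rw [if_pos rfl, hε, one_mul]
    · intro l' _ hne
      rw [if_neg (fun h => hne (hinj h).symm), mul_zero]
    · intro h; exact absurd (Finset.mem_univ l) h
  rw [Finset.sum_congr rfl (fun l _ => h2 l), Finset.sum_const, nsmul_eq_mul, Finset.card_univ,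
    mul_comm]

/-- two power sums of `p`-th roots of unity whose sum is `p - 1` at `0` and `-1` elsewhere:
the difference has square norm sum `p (p - 1)` -/
theorem sum_diff_sq {n₁ n₂ : ℕ} (p : ℕ) (hp : 0 < p) (μ : Fin n₁ → ℂ) (ν : Fin n₂ → ℂ)
    (hμ : ∀ i, μ i ^ p = 1) (hν : ∀ i, ν i ^ p = 1)
    (hS : ∀ k, k < p → (∑ i, μ i ^ k) + (∑ i, ν i ^ k) = if k = 0 then (p : ℂ) - 1 else -1) :
    ∑ k ∈ Finset.range p, ((∑ i, μ i ^ k) - (∑ i, ν i ^ k)) *
      conj ((∑ i, μ i ^ k) - (∑ i, ν i ^ k)) = (p : ℂ) * ((p : ℂ) - 1) := by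
  classical
  have hpC : (p : ℂ) ≠ 0 := by exact_mod_cast hp.ne'
  let lam : Fin n₁ ⊕ Fin n₂ → ℂ := Sum.elim μ ν
  let ε : Fin n₁ ⊕ Fin n₂ → ℂ := Sum.elim (fun _ => 1) (fun _ => -1)
  have hlam : ∀ l, lam l ^ p = 1 := by
    rintro (i | i)
    · exact hμ i
    · exact hν i
  have hε : ∀ l, ε l * conj (ε l) = 1 := by
    rintro (i | i) <;> simp [ε]
  have hsum : ∀ k, ∑ l, lam l ^ k = (∑ i, μ i ^ k) + (∑ i, ν i ^ k) := by
    intro k
    rw [Fintype.sum_sum_type]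
    rfl
  have hdiff : ∀ k, ∑ l, ε l * lam l ^ k = (∑ i, μ i ^ k) - (∑ i, ν i ^ k) := by
    intro k
    rw [Fintype.sum_sum_type]
    simp only [ε, lam, Sum.elim_inl, Sum.elim_inr, one_mul, neg_mul, Finset.sum_neg_distrib]
    ring
  -- every root of unity occurs at most once
  have hcount : ∀ ω : ℂ, ω ^ p = 1 → (Finset.univ.filter fun l => lam l = ω).card ≤ 1 := by
    intro ω hω
    have h1 := sum_powsum_mul_conj p hp lam hlam ω hω
    have h2 : ∑ k ∈ Finset.range p, (∑ l, lam l ^ k) * conj (ω ^ k) =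
        (p : ℂ) - (if (1 : ℂ) = ω then (p : ℂ) else 0) := by
      have h3 : ∀ k ∈ Finset.range p, (∑ l, lam l ^ k) * conj (ω ^ k) =
          (if k = 0 then (p : ℂ) else 0) * conj (ω ^ k) - (1 : ℂ) ^ k * conj (ω ^ k) := by
        intro k hk
        rw [hsum, hS k (Finset.mem_range.mp hk)]
        split_ifs <;> ring
      rw [Finset.sum_congr rfl h3, Finset.sum_sub_distrib,
        sum_pow_mul_conj_pow p hp 1 ω (one_pow p) hω]
      congr 1
      rw [Finset.sum_eq_single 0]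
      · simp
      · intro k _ hk
        rw [if_neg hk, zero_mul]
      · intro h
        exact absurd (Finset.mem_range.mpr hp) h
    rw [h2] at h1
    by_contra hc
    have hc2 : 2 ≤ (Finset.univ.filter fun l => lam l = ω).card := by omega
    split_ifs at h1 with hω1
    · rw [sub_self] at h1
      have : ((Finset.univ.filter fun l => lam l = ω).card : ℂ) = 0 := by
        rcases mul_eq_zero.mp h1.symm with h | h
        · exact absurd h hpC
        · exact h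
      have : (Finset.univ.filter fun l => lam l = ω).card = 0 := by exact_mod_cast this
      omega
    · rw [sub_zero] at h1
      have : ((Finset.univ.filter fun l => lam l = ω).card : ℂ) = 1 := by
        have h4 : (p : ℂ) * 1 = (p : ℂ) * ((Finset.univ.filter fun l => lam l = ω).card : ℂ) := by
          rw [mul_one]; exact h1
        exact (mul_left_cancel₀ hpC h4).symm
      have : (Finset.univ.filter fun l => lam l = ω).card = 1 := by exact_mod_cast this
      omega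
  have hinj : Function.Injective lam := by
    intro l l' hll
    by_contra hne
    have h1 := hcount (lam l) (hlam l)
    have h2 : ({l, l'} : Finset (Fin n₁ ⊕ Fin n₂)) ⊆ Finset.univ.filter fun m => lam m = lam l := by
      intro m hm
      rw [Finset.mem_insert, Finset.mem_singleton] at hm
      rw [Finset.mem_filter]
      rcases hm with rfl | rfl
      · exact ⟨Finset.mem_univ _, rfl⟩
      · exact ⟨Finset.mem_univ _, hll.symm⟩
    have h3 := Finset.card_le_card h2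
    rw [Finset.card_pair hne] at h3
    omega
  have hpar := sum_signed_parseval p hp lam hlam hinj ε hε
  simp only [hdiff] at hpar
  rw [hpar]
  -- the number of eigenvalues is `p - 1`
  have h0 := hS 0 hp
  simp only [pow_zero, Finset.sum_const, Finset.card_univ, Fintype.card_fin, nsmul_eq_mul, mul_one,
    if_true] at h0
  rw [Fintype.card_sum, Fintype.card_fin, Fintype.card_fin]
  push_cast
  rw [h0]

/-! ## The configuration -/

section
variable {G : Type*} [Group G] [Fintype G] {Ω : Type*} [Fintype Ω] [DecidableEq Ω]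
  [MulAction G Ω] {p : ℕ} {x : G} {θ χ₁ χ₂ : G → ℂ} {κ : ℕ}

/-- eigenvalue data of an irreducible character on the powers of an element of order `p` -/
theorem exists_powsum {χ : G → ℂ} (hχ : IsIrrCharacter G χ) (hx : orderOf x = p) :
    ∃ (n : ℕ) (μ : Fin n → ℂ), (∀ i, μ i ^ p = 1) ∧ ∀ k : ℕ, χ (x ^ k) = ∑ i, μ i ^ k := by
  obtain ⟨n, ρ, -, rfl⟩ := hχ
  obtain ⟨b, μ, -, h2, -, h4⟩ :=
    Cfsg.Agent.Helper80.exists_eigen_data_rep ρ x (isOfFinOrder_of_finite x)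
  rw [hx] at h2
  exact ⟨_, μ, h2, h4⟩

theorem pc_one (S : Setup G Ω p) : pc G Ω (1 : G) = 2 * (p : ℂ) := by
  show (Nat.card (MulAction.fixedBy Ω (1 : G)) : ℂ) = 2 * (p : ℂ)
  rw [MulAction.fixedBy_one_eq_univ, Nat.card_coe_set_eq, Set.ncard_univ, Nat.card_eq_fintype_card,
    S.hcard]
  push_cast
  ring

theorem pc_pow_of_pos (S : Setup G Ω p) (hx : orderOf x = p) (k : ℕ) (hk : 0 < k) (hkp : k < p) :
    pc G Ω (x ^ k) = 0 := by
  show (Nat.card (MulAction.fixedBy Ω (x ^ k)) : ℂ) = 0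
  have hcop : (orderOf x).Coprime k := by
    rw [hx]
    exact (Nat.Prime.coprime_iff_not_dvd S.hp).mpr (Nat.not_dvd_of_pos_of_lt hk hkp)
  have hord : orderOf (x ^ k) = p := by rw [hcop.orderOf_pow, hx]
  have hempty : IsEmpty (MulAction.fixedBy Ω (x ^ k)) := by
    constructor
    rintro ⟨a, ha⟩
    exact S.hfix (x ^ k) (by rw [hord]) a ha
  rw [Nat.card_of_isEmpty]
  simp

/-- the values of `χ₁ + χ₂` on `⟨x⟩` -/
theorem sum_values (h : Gam G Ω p x θ χ₁ χ₂ κ) (k : ℕ) (hkp : k < p) :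
    χ₁ (x ^ k) + χ₂ (x ^ k) = if k = 0 then (p : ℂ) - 1 else -1 := by
  have h1 := congrFun h.hπ (x ^ k)
  beta_reduce at h1
  split_ifs with hk
  · subst hk
    rw [pow_zero] at h1 ⊢
    rw [pc_one h.S, h.dθ] at h1
    linear_combination -h1
  · have hk0 : 0 < k := Nat.pos_of_ne_zero hk
    rw [pc_pow_of_pos h.S h.hx k hk0 hkp,
      h.vθ k (Nat.not_dvd_of_pos_of_lt hk0 hkp)] at h1
    linear_combination -h1

/-- the sum of `|χ₁ - χ₂|²` over `⟨x⟩` -/
theorem sum_sq_diff (h : Gam G Ω p x θ χ₁ χ₂ κ) :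
    ∑ k ∈ Finset.range p, (χ₁ (x ^ k) - χ₂ (x ^ k)) * conj (χ₁ (x ^ k) - χ₂ (x ^ k)) =
      (p : ℂ) * ((p : ℂ) - 1) := by
  obtain ⟨n₁, μ, hμ, hμs⟩ := exists_powsum h.h₁ h.hx
  obtain ⟨n₂, ν, hν, hνs⟩ := exists_powsum h.h₂ h.hx
  have hS : ∀ k, k < p → (∑ i, μ i ^ k) + (∑ i, ν i ^ k) = if k = 0 then (p : ℂ) - 1 else -1 := by
    intro k hk
    rw [← hμs, ← hνs]
    exact sum_values h k hk
  have := sum_diff_sq p h.S.hp.pos μ ν hμ hν hS
  simp only [← hμs, ← hνs] at this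
  exact this

/-- the multiplicity of a character in the permutation character -/
theorem inner_pc (h : Gam G Ω p x θ χ₁ χ₂ κ) (ψ : G → ℂ) :
    classInner (pc G Ω) ψ = classInner (fun _ => (1 : ℂ)) ψ + classInner θ ψ + classInner χ₁ ψ +
      classInner χ₂ ψ := by
  rw [h.hπ]
  have : (fun g => 1 + θ g + χ₁ g + χ₂ g) = (fun _ : G => (1 : ℂ)) + θ + χ₁ + χ₂ := by
    funext g
    simp
  rw [this, Cfsg.Agent.Helper74.classInner_add_left, Cfsg.Agent.Helper74.classInner_add_left,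
    Cfsg.Agent.Helper74.classInner_add_left]

theorem inner_irr_eq_zero {φ ψ : G → ℂ} (hφ : IsIrrCharacter G φ) (hψ : IsIrrCharacter G ψ)
    (hne : φ ≠ ψ) : classInner φ ψ = 0 := by
  have h : (⟨φ, hφ⟩ : IrrCharacter G) ≠ ⟨ψ, hψ⟩ := by
    intro h
    exact hne (congrArg Subtype.val h)
  exact Cfsg.Agent.Helper74.irr_inner_ne h

theorem inner_irr_self {φ : G → ℂ} (hφ : IsIrrCharacter G φ) : classInner φ φ = 1 :=
  Cfsg.Agent.Helper74.irr_inner_self (⟨φ, hφ⟩ : IrrCharacter G)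

/-- an irreducible constituent of the permutation character is one of the four -/
theorem constituent_cases (h : Gam G Ω p x θ χ₁ χ₂ κ) {ψ : G → ℂ} (hψ : IsIrrCharacter G ψ)
    (hne : classInner (pc G Ω) ψ ≠ 0) :
    ψ = (fun _ => 1) ∨ ψ = θ ∨ ψ = χ₁ ∨ ψ = χ₂ := by
  by_contra hcon
  push Not at hcon
  obtain ⟨c1, c2, c3, c4⟩ := hcon
  apply hne
  rw [inner_pc h ψ,
    inner_irr_eq_zero Cfsg.Agent.Helper79.isIrrCharacter_one hψ (Ne.symm c1),
    inner_irr_eq_zero h.hθ hψ (Ne.symm c2), inner_irr_eq_zero h.h₁ hψ (Ne.symm c3),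
    inner_irr_eq_zero h.h₂ hψ (Ne.symm c4)]
  simp

theorem inner_pc_chi1 (h : Gam G Ω p x θ χ₁ χ₂ κ) : classInner (pc G Ω) χ₁ = 1 := by
  rw [inner_pc h χ₁,
    inner_irr_eq_zero Cfsg.Agent.Helper79.isIrrCharacter_one h.h₁ (Ne.symm h.h11),
    inner_irr_eq_zero h.hθ h.h₁ h.hθ₁, inner_irr_self h.h₁,
    inner_irr_eq_zero h.h₂ h.h₁ (Ne.symm h.h₁₂)]
  simp

theorem inner_pc_chi2 (h : Gam G Ω p x θ χ₁ χ₂ κ) : classInner (pc G Ω) χ₂ = 1 := by
  rw [inner_pc h χ₂,
    inner_irr_eq_zero Cfsg.Agent.Helper79.isIrrCharacter_one h.h₂ (Ne.symm h.h21),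
    inner_irr_eq_zero h.hθ h.h₂ h.hθ₂, inner_irr_eq_zero h.h₁ h.h₂ h.h₁₂, inner_irr_self h.h₂]
  simp

/-- a coprime power map permutes `{χ₁, χ₂}` -/
theorem twist_cases (h : Gam G Ω p x θ χ₁ χ₂ κ)
    (hPW : ∀ κ' : ℕ, κ'.Coprime (Nat.card G) → ∀ χ : G → ℂ,
      classInner (pc G Ω) (fun g => χ (g ^ κ')) = classInner (pc G Ω) χ)
    (κ' : ℕ) (hκ' : κ'.Coprime (Nat.card G)) :
    ((∀ g, χ₁ (g ^ κ') = χ₁ g) ∧ (∀ g, χ₂ (g ^ κ') = χ₂ g)) ∨
      ((∀ g, χ₁ (g ^ κ') = χ₂ g) ∧ (∀ g, χ₂ (g ^ κ') = χ₁ g)) := by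
  have hpC : ((p : ℕ) : ℂ) + 1 ≠ 0 := by
    have : ((p + 1 : ℕ) : ℂ) ≠ 0 := by exact_mod_cast Nat.succ_ne_zero p
    simpa using this
  have hbij : Function.Bijective (fun g : G => g ^ κ') :=
    (powCoprime hκ'.symm).bijective
  -- a function is determined by its twist
  have hdet : ∀ φ φ' : G → ℂ, (fun g => φ (g ^ κ')) = (fun g => φ' (g ^ κ')) → φ = φ' := by
    intro φ φ' hφ
    funext g
    obtain ⟨g', rfl⟩ := hbij.2 g
    exact congrFun hφ g'
  have key : ∀ χ : G → ℂ, IsIrrCharacter G χ → χ ≠ (fun _ => 1) → 2 * χ 1 + 1 = p →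
      classInner (pc G Ω) χ = 1 →
      (fun g => χ (g ^ κ')) = χ₁ ∨ (fun g => χ (g ^ κ')) = χ₂ := by
    intro χ hχ hχ1 hdeg hin
    have hirr : IsIrrCharacter G (fun g => χ (g ^ κ')) :=
      Cfsg.Agent.Helper82.galoisConj_isIrrCharacter hχ κ' hκ'
    have hne : classInner (pc G Ω) (fun g => χ (g ^ κ')) ≠ 0 := by
      rw [hPW κ' hκ' χ, hin]
      exact one_ne_zero
    rcases constituent_cases h hirr hne with h1 | h1 | h1 | h1
    · exfalso
      apply hχ1
      apply hdet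
      rw [h1]
    · exfalso
      have h2 := congrFun h1 1
      simp only [one_pow] at h2
      rw [h.dθ] at h2
      rw [h2] at hdeg
      apply hpC
      linear_combination hdeg
    · exact Or.inl h1
    · exact Or.inr h1
  have k1 := key χ₁ h.h₁ h.h11 h.d₁ (inner_pc_chi1 h)
  have k2 := key χ₂ h.h₂ h.h21 h.d₂ (inner_pc_chi2 h)
  rcases k1 with k1 | k1 <;> rcases k2 with k2 | k2
  · exfalso
    exact h.h₁₂ (hdet _ _ (k1.trans k2.symm))
  · exact Or.inl ⟨fun g => congrFun k1 g, fun g => congrFun k2 g⟩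
  · exact Or.inr ⟨fun g => congrFun k1 g, fun g => congrFun k2 g⟩
  · exfalso
    exact h.h₁₂ (hdet _ _ (k1.trans k2.symm))

/-- `|χ₁ - χ₂|²` is constant on the nonidentity elements of `⟨x⟩` -/
theorem sq_diff_const (h : Gam G Ω p x θ χ₁ χ₂ κ)
    (hPW : ∀ κ' : ℕ, κ'.Coprime (Nat.card G) → ∀ χ : G → ℂ,
      classInner (pc G Ω) (fun g => χ (g ^ κ')) = classInner (pc G Ω) χ)
    (j : ℕ) (hj : 0 < j) (hjp : j < p) :
    (χ₁ (x ^ j) - χ₂ (x ^ j)) * conj (χ₁ (x ^ j) - χ₂ (x ^ j)) =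
      (χ₁ x - χ₂ x) * conj (χ₁ x - χ₂ x) := by
  have hp := h.S.hp
  -- `|G| = p m` with `p ∤ m`
  have hpG : p ∣ Nat.card G := by rw [← h.hx]; exact orderOf_dvd_natCard x
  obtain ⟨m, hm⟩ := hpG
  have hpm : ¬ p ∣ m := by
    intro hd
    apply h.S.hsq
    rw [hm, pow_two]
    exact Nat.mul_dvd_mul_left p hd
  have hcop : Nat.Coprime p m := (Nat.Prime.coprime_iff_not_dvd hp).mpr hpm
  obtain ⟨κ', hκ1, hκ2⟩ := Nat.chineseRemainder hcop j 1
  have hκp : Nat.Coprime κ' p := by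
    have h1 : Nat.gcd κ' p = Nat.gcd j p := hκ1.gcd_eq
    have h2 : Nat.Coprime j p :=
      ((Nat.Prime.coprime_iff_not_dvd hp).mpr (Nat.not_dvd_of_pos_of_lt hj hjp)).symm
    unfold Nat.Coprime at h2 ⊢
    rw [h1, h2]
  have hκm : Nat.Coprime κ' m := by
    have h1 : Nat.gcd κ' m = Nat.gcd 1 m := hκ2.gcd_eq
    unfold Nat.Coprime
    rw [h1, Nat.gcd_one_left]
  have hκ' : κ'.Coprime (Nat.card G) := by
    rw [hm]
    exact Nat.Coprime.mul_right hκp hκm
  have hxj : x ^ κ' = x ^ j := by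
    rw [pow_eq_pow_iff_modEq, h.hx]
    exact hκ1
  rcases twist_cases h hPW κ' hκ' with ⟨t1, t2⟩ | ⟨t1, t2⟩
  · rw [← hxj, t1 x, t2 x]
  · rw [← hxj, t1 x, t2 x]
    have : χ₂ x - χ₁ x = -(χ₁ x - χ₂ x) := by ring
    rw [this, map_neg]
    ring

/-- (C-FOURIER) the Gauss sum, with (PW) as a hypothesis -/
theorem gauss' (h : Gam G Ω p x θ χ₁ χ₂ κ)
    (hPW : ∀ κ' : ℕ, κ'.Coprime (Nat.card G) → ∀ χ : G → ℂ,
      classInner (pc G Ω) (fun g => χ (g ^ κ')) = classInner (pc G Ω) χ) :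
    (χ₁ x - χ₂ x) * conj (χ₁ x - χ₂ x) = p := by
  have hp := h.S.hp
  have hp2 : 2 ≤ p := hp.two_le
  have hsum := sum_sq_diff h
  obtain ⟨q, rfl⟩ : ∃ q, p = q + 1 := ⟨p - 1, by omega⟩
  rw [Finset.sum_range_succ'] at hsum
  -- the term at `0` vanishes
  have h0 : χ₁ (x ^ 0) - χ₂ (x ^ 0) = 0 := by
    rw [pow_zero]
    have d1 := h.d₁
    have d2 := h.d₂
    have : (2 : ℂ) * (χ₁ 1 - χ₂ 1) = 0 := by linear_combination d1 - d2
    rcases mul_eq_zero.mp this with h2 | h2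
    · norm_num at h2
    · exact h2
  rw [h0, zero_mul, add_zero] at hsum
  have hconst : ∀ k ∈ Finset.range q, (χ₁ (x ^ (k + 1)) - χ₂ (x ^ (k + 1))) *
      conj (χ₁ (x ^ (k + 1)) - χ₂ (x ^ (k + 1))) = (χ₁ x - χ₂ x) * conj (χ₁ x - χ₂ x) := by
    intro k hk
    exact sq_diff_const h hPW (k + 1) (Nat.succ_pos k) (by have := Finset.mem_range.mp hk; omega)
  rw [Finset.sum_congr rfl hconst, Finset.sum_const, Finset.card_range, nsmul_eq_mul] at hsum
  have hq : (q : ℂ) ≠ 0 := by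
    have : q ≠ 0 := by omega
    exact_mod_cast this
  have h3 : (q : ℂ) * ((χ₁ x - χ₂ x) * conj (χ₁ x - χ₂ x)) = (q : ℂ) * ((q + 1 : ℕ) : ℂ) := by
    rw [hsum]
    push_cast
    ring
  exact mul_left_cancel₀ hq h3

/-- (C-FOURIER) the Gauss sum: `|χ₁(x) - χ₂(x)|² = p` -/
theorem gauss (h : Gam G Ω p x θ χ₁ χ₂ κ) :
    (χ₁ x - χ₂ x) * conj (χ₁ x - χ₂ x) = p :=
  gauss' h (fun κ' hκ' χ => Cfsg.Agent.Helper23.W2p.classInner_pc_pow κ' hκ' χ)

end

end Cfsg.Agent.Helper14.W2p
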